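import Mathlib.AlgebraicGeometry.Morphisms.FinitePresentation

set_option autoImplicit false
open CategoryTheory AlgebraicGeometry Topology
universe u

namespace Groth.Agent.Lib.Helper8

theorem isLocallyConstructible_preimage {X Y : Scheme.{u}} (f : X ⟶ Y) {s : Set Y}
    (hs : IsLocallyConstructible s) : IsLocallyConstructible (f.base ⁻¹' s) := by
  intro x
  obtain ⟨U, hxU, hU, H⟩ := hs (f.base x)
  let U' : Y.Opens := ⟨U, hU⟩
  refine ⟨(f ⁻¹ᵁ U' : Set X), ?_, (f ⁻¹ᵁ U').2, ?_⟩
  · exact f.continuous.continuousAt.preimage_mem_nhds hxU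
  · have := (f ∣_ U').isConstructible_preimage H
    have e : ((f ∣_ U').base ⁻¹' (Subtype.val ⁻¹' s) : Set ((f ⁻¹ᵁ U').toScheme)) =
        (Subtype.val ⁻¹' (f.base ⁻¹' s) : Set ((f ⁻¹ᵁ U') : Set X)) := by
      ext y
      simp only [Set.mem_preimage]
      rw [morphismRestrict_base_coe]
      exact Iff.rfl
    exact e ▸ this

end Groth.Agent.Lib.Helper8
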