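import Groth.Prelude.Def_GrSyz
import Mathlib.Tactic

set_option autoImplicit false
universe u v

namespace Groth.Agent.Lib.Helper8.GrSyzBasic

open GrSyz MvPolynomial

section Std

variable {k : Type u} [Field k] {σ : Type v}

theorem weight_one_nonneg (m : σ →₀ ℕ) : 0 ≤ Finsupp.weight (fun _ : σ => (1 : ℤ)) m := by
  rw [Finsupp.weight_apply, Finsupp.sum]
  exact Finset.sum_nonneg fun i _ => by positivity

theorem weight_one_pos {m : σ →₀ ℕ} (hm : m ≠ 0) :
    0 < Finsupp.weight (fun _ : σ => (1 : ℤ)) m := by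
  rw [Finsupp.weight_apply, Finsupp.sum]
  obtain ⟨i, hi⟩ : ∃ i, m i ≠ 0 := by
    by_contra h
    exact hm (Finsupp.ext fun i => by
      by_contra hi
      exact h ⟨i, hi⟩)
  have hi' : i ∈ m.support := Finsupp.mem_support_iff.mpr hi
  refine Finset.sum_pos' (fun j _ => by positivity) ⟨i, hi', ?_⟩
  have : 0 < m i := Nat.pos_of_ne_zero hi
  rw [nsmul_eq_mul, mul_one]
  exact_mod_cast this

theorem constantCoeff_eq_zero_of_mem_stdGr {n : ℤ} (hn : n ≠ 0) {p : MvPolynomial σ k}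
    (hp : p ∈ stdGr k σ n) : constantCoeff p = 0 := by
  rw [mem_stdGr_iff] at hp
  rw [constantCoeff_eq]
  apply hp.coeff_eq_zero
  rw [map_zero]
  exact fun h => hn h.symm

theorem eq_zero_of_mem_stdGr_nonpos {n : ℤ} (hn : n ≤ 0) {p : MvPolynomial σ k}
    (hp : p ∈ stdGr k σ n) (h0 : constantCoeff p = 0) : p = 0 := by
  rw [mem_stdGr_iff] at hp
  ext d
  rw [coeff_zero]
  by_cases hd : d = 0
  · subst hd
    rw [← constantCoeff_eq]; exact h0
  · apply hp.coeff_eq_zero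
    have := weight_one_pos hd
    omega

theorem eq_C_of_mem_stdGr_zero {p : MvPolynomial σ k}
    (hp : p ∈ stdGr k σ 0) : p = C (constantCoeff p) := by
  have h1 : p - C (constantCoeff p) ∈ stdGr k σ 0 :=
    Submodule.sub_mem _ hp ((mem_stdGr_iff k σ 0 _).2 (isWeightedHomogeneous_C _ _))
  have h2 : constantCoeff (p - C (constantCoeff p)) = 0 := by simp
  have := eq_zero_of_mem_stdGr_nonpos le_rfl h1 h2
  exact sub_eq_zero.mp this

theorem irrel_le_ker_constantCoeff :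
    (irrel (stdGr k σ)).toIdeal ≤ RingHom.ker (constantCoeff : MvPolynomial σ k →+* k) := by
  change Ideal.span _ ≤ _
  rw [Ideal.span_le]
  rintro p ⟨n, hn, hp⟩
  exact constantCoeff_eq_zero_of_mem_stdGr hn.ne' hp

theorem constantCoeff_eq_zero_of_mem_irrel {p : MvPolynomial σ k}
    (hp : p ∈ (irrel (stdGr k σ)).toIdeal) : constantCoeff p = 0 :=
  irrel_le_ker_constantCoeff hp

theorem one_not_mem_irrel : (1 : MvPolynomial σ k) ∉ (irrel (stdGr k σ)).toIdeal := fun h => by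
  have := constantCoeff_eq_zero_of_mem_irrel h
  simp at this

theorem irrel_ne_top : (irrel (stdGr k σ)).toIdeal ≠ ⊤ := fun h =>
  one_not_mem_irrel (h ▸ Submodule.mem_top)

theorem mem_irrel_of_mem_stdGr_pos {n : ℤ} (hn : 0 < n) {p : MvPolynomial σ k}
    (hp : p ∈ stdGr k σ n) : p ∈ (irrel (stdGr k σ)).toIdeal :=
  Ideal.subset_span ⟨n, hn, hp⟩

theorem eq_zero_of_mem_irrel_of_mem_stdGr_nonpos {n : ℤ} (hn : n ≤ 0) {p : MvPolynomial σ k}
    (hp : p ∈ stdGr k σ n) (hp' : p ∈ (irrel (stdGr k σ)).toIdeal) : p = 0 :=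
  eq_zero_of_mem_stdGr_nonpos hn hp (constantCoeff_eq_zero_of_mem_irrel hp')

theorem isUnit_of_mem_stdGr_of_not_mem_irrel {n : ℤ} {p : MvPolynomial σ k}
    (hp : p ∈ stdGr k σ n) (hp' : p ∉ (irrel (stdGr k σ)).toIdeal) : n = 0 ∧ IsUnit p := by
  have hn0 : n = 0 := by
    rcases lt_trichotomy n 0 with h | h | h
    · exfalso
      apply hp'
      have : p = 0 := eq_zero_of_mem_stdGr_nonpos h.le hp
        (constantCoeff_eq_zero_of_mem_stdGr h.ne hp)
      rw [this]; exact Ideal.zero_mem _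
    · exact h
    · exact absurd (mem_irrel_of_mem_stdGr_pos h hp) hp'
  refine ⟨hn0, ?_⟩
  subst hn0
  have hC := eq_C_of_mem_stdGr_zero hp
  have hne : constantCoeff p ≠ 0 := by
    intro h
    apply hp'
    rw [hC, h, map_zero]; exact Ideal.zero_mem _
  rw [hC]
  exact (IsUnit.mk0 _ hne).map C

end Std

section Res

variable {R : Type u} [CommRing R] {σ' : Type u} [SetLike σ' R]
variable {𝒜 : ℤ → σ'}
variable {M : Type u} [AddCommGroup M] [Module R M] {τ : Type u} [SetLike τ M] [AddSubgroupClass τ M]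
  {ℳ : ℤ → τ} [DirectSum.Decomposition ℳ] [SetLike.GradedSMul 𝒜 ℳ]

theorem mulVec_mem {F : FreeRes 𝒜 ℳ} {𝔪 : Ideal R} (hF : F.IsMinimal 𝔪) (i : ℕ)
    (v : Fin (F.rk (i + 1)) → R) (a : Fin (F.rk i)) : (F.d i).mulVec v a ∈ 𝔪 := by
  rw [Matrix.mulVec, dotProduct]
  exact Ideal.sum_mem _ fun b _ => Ideal.mul_mem_right _ _ (hF i a b)

theorem d_mulVec_d (F : FreeRes 𝒜 ℳ) (i : ℕ) (w : Fin (F.rk (i + 1 + 1)) → R) :
    (F.d i).mulVec ((F.d (i + 1)).mulVec w) = 0 := by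
  have h : (F.d (i + 1)).mulVec w ∈ LinearMap.range (Matrix.mulVecLin (F.d (i + 1))) :=
    ⟨w, rfl⟩
  rw [← F.exact_succ i] at h
  exact h

theorem aug_d (F : FreeRes 𝒜 ℳ) (w : Fin (F.rk (0 + 1)) → R) :
    Fintype.linearCombination R F.aug ((F.d 0).mulVec w) = 0 := by
  have h : (F.d 0).mulVec w ∈ LinearMap.range (Matrix.mulVecLin (F.d 0)) := ⟨w, rfl⟩
  rw [← F.exact_zero] at h
  exact h

theorem coord_mem_of_mem_ker_d {F : FreeRes 𝒜 ℳ} {𝔪 : Ideal R} (hF : F.IsMinimal 𝔪) (i : ℕ)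
    {v : Fin (F.rk (i + 1)) → R} (hv : (F.d i).mulVec v = 0) (b : Fin (F.rk (i + 1))) :
    v b ∈ 𝔪 := by
  have h : v ∈ LinearMap.ker (Matrix.mulVecLin (F.d i)) := hv
  rw [F.exact_succ i] at h
  obtain ⟨w, rfl⟩ := h
  exact mulVec_mem hF (i + 1) w b

theorem coord_mem_of_mem_ker_aug {F : FreeRes 𝒜 ℳ} {𝔪 : Ideal R} (hF : F.IsMinimal 𝔪)
    {v : Fin (F.rk 0) → R} (hv : Fintype.linearCombination R F.aug v = 0) (b : Fin (F.rk 0)) :
    v b ∈ 𝔪 := by
  have h : v ∈ LinearMap.ker (Fintype.linearCombination R F.aug) := hv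
  rw [F.exact_zero] at h
  obtain ⟨w, rfl⟩ := h
  exact mulVec_mem hF 0 w b

end Res

section Span

variable {R : Type*} [CommRing R] {N : Type*} [AddCommGroup N] [Module R N] {n : ℕ}

theorem exists_fun_of_mem_span_image_ne {v : Fin n → N} {b : Fin n} {x : N}
    (hx : x ∈ Submodule.span R (v '' {b' | b' ≠ b})) :
    ∃ c : Fin n → R, c b = 0 ∧ ∑ i, c i • v i = x := by
  rw [Finsupp.mem_span_image_iff_linearCombination] at hx
  obtain ⟨l, hl, rfl⟩ := hx
  refine ⟨⇑l, ?_, ?_⟩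
  · by_contra h
    have : b ∈ l.support := Finsupp.mem_support_iff.mpr h
    exact (hl this) rfl
  · rw [Finsupp.linearCombination_apply, Finsupp.sum_fintype]
    intro i; exact zero_smul _ _

theorem mem_span_image_ne_of_sum_eq_zero {v : Fin n → N} {c : Fin n → R} {a : Fin n}
    (hu : IsUnit (c a)) (hs : ∑ i, c i • v i = 0) :
    v a ∈ Submodule.span R (v '' {a' | a' ≠ a}) := by
  have h1 : c a • v a = - ∑ i ∈ Finset.univ.erase a, c i • v i := by
    rw [← Finset.add_sum_erase _ _ (Finset.mem_univ a)] at hs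
    exact eq_neg_of_add_eq_zero_left hs
  have h2 : c a • v a ∈ Submodule.span R (v '' {a' | a' ≠ a}) := by
    rw [h1]
    refine Submodule.neg_mem _ (Submodule.sum_mem _ fun i hi => Submodule.smul_mem _ _ ?_)
    exact Submodule.subset_span ⟨i, Finset.ne_of_mem_erase hi, rfl⟩
  obtain ⟨u, hu'⟩ := hu
  have h3 : v a = (↑u⁻¹ : R) • (c a • v a) := by
    rw [smul_smul, ← hu', Units.inv_mul, one_smul]
  rw [h3]
  exact Submodule.smul_mem _ _ h2

end Span

end Groth.Agent.Lib.Helper8.GrSyzBasic
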