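import Groth.Agent.Lib.Helper8.GrLCShift
import Groth.Agent.Lib.Helper30.GradedSub
import Groth.Agent.Lib.Helper30.GradedPrime

/-!
# Homogeneous components of linear maps, and extension of maps from homogeneous ideals into
*injective modules
-/

set_option autoImplicit false
set_option linter.unusedSectionVars false
universe u

open DirectSum GrLC
open Groth.Agent.Lib.Helper30
open Groth.Agent.Lib.Helper8.GrLCShift

namespace Groth.Agent.Lib.Helper8.GrInjComp

variable {ι : Type} [AddCommGroup ι] [DecidableEq ι]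
variable {R : Type u} [CommRing R] {𝒜 : ι → AddSubgroup R} [GradedRing 𝒜]

section Comp

variable (𝒜)
variable {M : Type u} [AddCommGroup M] [Module R M] (ℳ : ι → AddSubgroup M)
  [DirectSum.Decomposition ℳ] [SetLike.GradedSMul 𝒜 ℳ]
variable {N : Type u} [AddCommGroup N] [Module R N] (𝒩 : ι → AddSubgroup N)
  [DirectSum.Decomposition 𝒩] [SetLike.GradedSMul 𝒜 𝒩]
variable (h : M →ₗ[R] N) (j : ι)

/-- The degree `j` component of a linear map, on a homogeneous piece. -/
noncomputable def cPiece (g : ι) : ℳ g →+ N where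
  toFun x := (decompose 𝒩 (h (x : M)) (g + j) : N)
  map_zero' := by simp
  map_add' x y := by
    rw [AddMemClass.coe_add, map_add, decompose_add, DirectSum.add_apply, AddSubgroup.coe_add]

/-- The degree `j` component of a linear map, as an additive map. -/
noncomputable def cAdd : M →+ N :=
  (DirectSum.toAddMonoid (fun g => cPiece ℳ 𝒩 h j g)).comp
    (DirectSum.decomposeAddEquiv ℳ).toAddMonoidHom

theorem cAdd_of_mem {g : ι} {x : M} (hx : x ∈ ℳ g) :
    cAdd ℳ 𝒩 h j x = (decompose 𝒩 (h x) (g + j) : N) := by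
  change (DirectSum.toAddMonoid (fun g => cPiece ℳ 𝒩 h j g)) (DirectSum.decompose ℳ x) = _
  rw [DirectSum.decompose_of_mem ℳ hx, DirectSum.toAddMonoid_of]
  rfl

include 𝒜 in
theorem cAdd_smul (r : R) (x : M) : cAdd ℳ 𝒩 h j (r • x) = r • cAdd ℳ 𝒩 h j x := by
  classical
  induction r using DirectSum.Decomposition.inductionOn 𝒜 with
  | zero => simp
  | add r r' h1 h2 => rw [add_smul, map_add, h1, h2, add_smul]
  | homogeneous r =>
    rename_i i
    induction x using DirectSum.Decomposition.inductionOn ℳ with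
    | zero => simp
    | add x y h1 h2 => rw [smul_add, map_add, h1, h2, map_add, smul_add]
    | homogeneous x =>
      rename_i g
      have hrx : (r : R) • (x : M) ∈ ℳ (i + g) := smul_mem_piece 𝒜 ℳ r.2 x.2
      rw [cAdd_of_mem ℳ 𝒩 h j hrx, cAdd_of_mem ℳ 𝒩 h j x.2, map_smul, add_assoc,
        decompose_smul_of_mem 𝒜 𝒩 r.2]

/-- The degree `j` component of a linear map between graded modules. -/
noncomputable def comp : M →ₗ[R] N where
  toFun := cAdd ℳ 𝒩 h j
  map_add' := map_add _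
  map_smul' := cAdd_smul 𝒜 ℳ 𝒩 h j

theorem comp_of_mem {g : ι} {x : M} (hx : x ∈ ℳ g) :
    comp 𝒜 ℳ 𝒩 h j x = (decompose 𝒩 (h x) (g + j) : N) := cAdd_of_mem ℳ 𝒩 h j hx

theorem comp_isGrHomDeg : IsGrHomDeg ℳ 𝒩 (comp 𝒜 ℳ 𝒩 h j) j := by
  intro g x hx
  rw [comp_of_mem 𝒜 ℳ 𝒩 h j hx]
  exact (decompose 𝒩 (h x) (g + j)).2

/-- A finite graded module is generated by finitely many homogeneous elements. -/
theorem exists_homogeneous_gens [Module.Finite R M] :
    ∃ T : Finset M, (∀ t ∈ T, ∃ g, t ∈ ℳ g) ∧ Submodule.span R (T : Set M) = ⊤ := by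
  classical
  obtain ⟨T, hT⟩ := (Module.Finite.fg_top : (⊤ : Submodule R M).FG)
  refine ⟨T.biUnion (fun t => (DFinsupp.support (decompose ℳ t)).image
    (fun g => (decompose ℳ t g : M))), ?_, ?_⟩
  · intro t ht
    rw [Finset.mem_biUnion] at ht
    obtain ⟨t', -, ht'⟩ := ht
    rw [Finset.mem_image] at ht'
    obtain ⟨g, -, rfl⟩ := ht'
    exact ⟨g, (decompose ℳ t' g).2⟩
  · rw [eq_top_iff, ← hT, Submodule.span_le]
    intro t ht
    rw [← DirectSum.sum_support_decompose ℳ t]
    refine Submodule.sum_mem _ (fun g hg => Submodule.subset_span ?_)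
    rw [Finset.coe_biUnion]
    refine Set.mem_iUnion₂.mpr ⟨t, ht, ?_⟩
    rw [Finset.coe_image]
    exact ⟨g, hg, rfl⟩

/-- A linear map out of a finite graded module is the sum of finitely many of its homogeneous
components. -/
theorem exists_finset_sum_comp [Module.Finite R M] :
    ∃ S : Finset ι, ∀ x : M, h x = ∑ j ∈ S, comp 𝒜 ℳ 𝒩 h j x := by
  classical
  obtain ⟨T, hThom, hT⟩ := exists_homogeneous_gens (R := R) ℳ
  let S : Finset ι := T.biUnion (fun t => (DFinsupp.support (decompose 𝒩 (h t))).biUnion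
    (fun k => (DFinsupp.support (decompose ℳ t)).image (fun g => k - g)))
  have hS : ∀ j, j ∉ S → comp 𝒜 ℳ 𝒩 h j = 0 := by
    intro j hj
    apply LinearMap.ext_on hT
    intro t ht
    rw [LinearMap.zero_apply]
    by_contra hne
    apply hj
    obtain ⟨g, hg⟩ := hThom t ht
    rw [comp_of_mem 𝒜 ℳ 𝒩 h j hg] at hne
    have ht0 : t ≠ 0 := by
      rintro rfl
      apply hne
      simp
    refine Finset.mem_biUnion.mpr ⟨t, ht, Finset.mem_biUnion.mpr ⟨g + j, ?_, ?_⟩⟩
    · rw [DFinsupp.mem_support_iff]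
      intro h0
      apply hne
      rw [h0]
      rfl
    · refine Finset.mem_image.mpr ⟨g, ?_, by abel⟩
      rw [DFinsupp.mem_support_iff]
      intro h0
      apply ht0
      have := DirectSum.decompose_of_mem_same ℳ hg
      rw [h0] at this
      exact this.symm
  refine ⟨S, fun x => ?_⟩
  induction x using DirectSum.Decomposition.inductionOn ℳ with
  | zero => simp
  | add x y h1 h2 =>
    rw [map_add, h1, h2, ← Finset.sum_add_distrib]
    exact Finset.sum_congr rfl (fun j _ => (map_add _ _ _).symm)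
  | homogeneous x =>
    rename_i g
    have hx := x.2
    have h1 : ∀ j, comp 𝒜 ℳ 𝒩 h j (x : M) = (decompose 𝒩 (h x) (g + j) : N) :=
      fun j => comp_of_mem 𝒜 ℳ 𝒩 h j hx
    rw [Finset.sum_congr rfl (fun j _ => h1 j)]
    conv_lhs => rw [← DirectSum.sum_support_decompose 𝒩 (h (x : M))]
    have h2 : ∑ j ∈ S, (decompose 𝒩 (h (x : M)) (g + j) : N) =
        ∑ k ∈ S.image (fun j => g + j), (decompose 𝒩 (h (x : M)) k : N) := by
      rw [Finset.sum_image]
      intro a _ b _ hab
      exact add_left_cancel hab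
    rw [h2]
    apply Finset.sum_subset
    · intro k hk
      rw [DFinsupp.mem_support_iff] at hk
      refine Finset.mem_image.mpr ⟨k - g, ?_, by abel⟩
      by_contra hnS
      apply hk
      have h3 := h1 (k - g)
      rw [hS _ hnS, LinearMap.zero_apply] at h3
      have h4 : g + (k - g) = k := by abel
      rw [h4] at h3
      exact Subtype.ext h3.symm
    · intro k _ hk
      rw [DFinsupp.mem_support_iff, not_not] at hk
      rw [hk]
      rfl

end Comp

section Ext

variable {E : Type u} [AddCommGroup E] [Module R E] (𝓔 : ι → AddSubgroup E)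
  [DirectSum.Decomposition 𝓔] [SetLike.GradedSMul 𝒜 𝓔]

/-- A homogeneous map of degree `j` from a homogeneous ideal to a *injective module is
multiplication by an element. -/
theorem exists_smul_of_deg (hE : IsStarInj 𝒜 𝓔) (a : HomogeneousIdeal 𝒜)
    (hj : ↥a.toIdeal →ₗ[R] E) (j : ι)
    (hdeg : ∀ (g : ι) (x : ↥a.toIdeal), (x : R) ∈ 𝒜 g → hj x ∈ 𝓔 (g + j)) :
    ∃ z : E, ∀ x : ↥a.toIdeal, hj x = (x : R) • z := by
  let A : GMod.{u} 𝒜 := gmodSub 𝒜 𝒜 a.toIdeal a.isHomogeneous
  let B : GMod.{u} 𝒜 := GMod.of 𝒜 R 𝒜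
  have hf : IsGrHom A.gr B.gr a.toIdeal.subtype := isGrHom_subtype 𝒜 a.toIdeal
  have hg : IsGrHom A.gr (shiftGr 𝓔 j) hj := by
    intro g x hx
    exact hdeg g x hx
  obtain ⟨H, -, hH⟩ := isStarInj_shift 𝓔 hE j A B a.toIdeal.subtype hf
    (Submodule.subtype_injective _) hj hg
  refine ⟨H (1 : R), fun x => ?_⟩
  have h1 : hj x = H (x : R) := by
    rw [← hH]
    rfl
  rw [h1]
  have h2 : H ((x : R) • (1 : R)) = (x : R) • H (1 : R) := map_smul H (x : R) (1 : R)
  rw [← h2, smul_eq_mul, mul_one]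

/-- Any linear map from a homogeneous ideal of a Noetherian graded ring to a *injective module
is multiplication by an element, i.e. extends to the ring. -/
theorem exists_smul_eq [IsNoetherianRing R] (hE : IsStarInj 𝒜 𝓔) (a : HomogeneousIdeal 𝒜)
    (h : ↥a.toIdeal →ₗ[R] E) : ∃ z : E, ∀ x : ↥a.toIdeal, h x = (x : R) • z := by
  classical
  letI : DirectSum.Decomposition (subGr 𝒜 a.toIdeal) :=
    (isInternal_subGr 𝒜 a.toIdeal a.isHomogeneous).chooseDecomposition
  haveI : SetLike.GradedSMul 𝒜 (subGr 𝒜 a.toIdeal) := gradedSMul_subGr 𝒜 𝒜 a.toIdeal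
  -- degree `j` components
  let hc : ι → (↥a.toIdeal →ₗ[R] E) := fun j => comp 𝒜 (subGr 𝒜 a.toIdeal) 𝓔 h j
  have hc_mem : ∀ (j g : ι) (x : ↥a.toIdeal), (x : R) ∈ 𝒜 g →
      hc j x = (decompose 𝓔 (h x) (g + j) : E) := by
    intro j g x hx
    exact comp_of_mem 𝒜 (subGr 𝒜 a.toIdeal) 𝓔 h j (show x ∈ subGr 𝒜 a.toIdeal g from hx)
  have hz : ∀ j, ∃ z : E, ∀ x : ↥a.toIdeal, hc j x = (x : R) • z := by
    intro j
    apply exists_smul_of_deg 𝓔 hE a (hc j) j
    intro g x hx
    rw [hc_mem j g x hx]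
    exact (decompose 𝓔 (h x) (g + j)).2
  choose z hz using hz
  have : Module.Finite R ↥a.toIdeal := Module.IsNoetherian.finite R ↥a.toIdeal
  obtain ⟨S, hS⟩ := exists_finset_sum_comp 𝒜 (subGr 𝒜 a.toIdeal) 𝓔 h
  refine ⟨∑ j ∈ S, z j, fun x => ?_⟩
  rw [hS x, Finset.smul_sum]
  exact Finset.sum_congr rfl (fun j _ => hz j x)

end Ext

end Groth.Agent.Lib.Helper8.GrInjComp
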