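import Groth.Agent.Lib.Helper8.GrHeight
import Groth.Agent.Lib.Helper8.GrInjComp
import Groth.Agent.Lib.Helper30.GradedShift
import Groth.Agent.Lib.Helper30.GradedEss

/-!
# Descent from a localization of a *local graded ring
-/

set_option autoImplicit false
set_option linter.unusedSectionVars false
universe u

open DirectSum GrLC
open Groth.Agent.Lib.Helper30

namespace Groth.Agent.Lib.Helper8.GrStarLocal

variable {ι : Type} [AddCommGroup ι] [DecidableEq ι]
variable {R : Type u} [CommRing R] (𝒜 : ι → AddSubgroup R) [GradedRing 𝒜]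
variable {Y : Type u} [AddCommGroup Y] [Module R Y] (𝒴 : ι → AddSubgroup Y)
  [DirectSum.Decomposition 𝒴] [SetLike.GradedSMul 𝒜 𝒴]
variable {Z : Type u} [AddCommGroup Z] [Module R Z] (𝒵 : ι → AddSubgroup Z)
  [DirectSum.Decomposition 𝒵] [SetLike.GradedSMul 𝒜 𝒵]

/-- The colon ideal `(P : y)`. -/
def colon (P : Submodule R Y) (y : Y) : Ideal R := P.comap (LinearMap.toSpanSingleton R Y y)

omit [DecidableEq ι] in
theorem mem_colon {P : Submodule R Y} {y : Y} {r : R} : r ∈ colon P y ↔ r • y ∈ P := by
  unfold colon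
  rw [Submodule.mem_comap, LinearMap.toSpanSingleton_apply]

theorem colon_isHomogeneous {P : Submodule R Y} (hP : P.IsHomogeneous 𝒴) {g : ι} {y : Y}
    (hy : y ∈ 𝒴 g) : (colon P y).IsHomogeneous 𝒜 := by
  intro i r hr
  rw [mem_colon] at hr ⊢
  rw [← decompose_smul_of_mem_right 𝒜 𝒴 hy r i]
  exact hP (i + g) hr

variable [IsNoetherianRing R]

/-- In a Noetherian *local ring every proper homogeneous ideal lies in the *maximal ideal. -/
theorem le_of_isStarLocal (m : HomogeneousIdeal 𝒜) (hm : GrLC.IsStarLocal 𝒜 m)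
    (J : HomogeneousIdeal 𝒜) (hJ : J.toIdeal ≠ ⊤) : J ≤ m := by
  let S : Set (Ideal R) := {I | I.IsHomogeneous 𝒜 ∧ J.toIdeal ≤ I ∧ I ≠ ⊤}
  have hS : S.Nonempty := ⟨J.toIdeal, J.isHomogeneous, le_rfl, hJ⟩
  obtain ⟨M', ⟨hM'h, hJM', hM'top⟩, hmax⟩ :=
    (set_has_maximal_iff_noetherian (R := R) (M := R)).mpr inferInstance S hS
  let K : HomogeneousIdeal 𝒜 := ⟨M', hM'h⟩
  have hK : IsCoatom K := by
    constructor
    · intro h
      apply hM'top
      have := congrArg HomogeneousIdeal.toIdeal h
      rwa [HomogeneousIdeal.toIdeal_top] at this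
    · intro L hL
      by_contra hne
      have hLtop : L.toIdeal ≠ ⊤ := by
        intro h
        apply hne
        apply HomogeneousIdeal.toIdeal_injective
        rw [h, HomogeneousIdeal.toIdeal_top]
      have hlt : M' < L.toIdeal := by
        have h1 : K.toIdeal ≤ L.toIdeal := _root_.toIdeal_le_toIdeal_iff.mpr hL.le
        refine lt_of_le_of_ne h1 (fun h => ?_)
        exact hL.ne (HomogeneousIdeal.toIdeal_injective h)
      exact hmax L.toIdeal ⟨L.isHomogeneous, le_trans hJM' hlt.le, hLtop⟩ hlt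
  have := hm.2 K hK
  rw [← this]
  exact _root_.toIdeal_le_toIdeal_iff.mp hJM'

/-- In a *local ring, a homogeneous element with a multiple by an element outside the *maximal
ideal in a homogeneous submodule lies in that submodule. -/
theorem mem_of_smul_mem (m : HomogeneousIdeal 𝒜) (hm : IsStarLocal 𝒜 m) {P : Submodule R Y}
    (hP : P.IsHomogeneous 𝒴) {g : ι} {y : Y} (hy : y ∈ 𝒴 g) {s : R} (hs : s • y ∈ P)
    (hsm : s ∉ m.toIdeal) : y ∈ P := by
  let J : HomogeneousIdeal 𝒜 := ⟨colon P y, colon_isHomogeneous 𝒜 𝒴 hP hy⟩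
  by_cases hJ : J.toIdeal = ⊤
  · have h1 : (1 : R) ∈ colon P y := by
      have : (1 : R) ∈ J.toIdeal := by
        rw [hJ]
        exact Submodule.mem_top
      exact this
    rw [mem_colon, one_smul] at h1
    exact h1
  · exfalso
    have hle := le_of_isStarLocal 𝒜 m hm J hJ
    apply hsm
    apply hle
    exact mem_colon.mpr hs

theorem isHomogeneous_range {φ : Y →ₗ[R] Z} {j : ι} (hφ : IsGrHomDeg 𝒴 𝒵 φ j) :
    (LinearMap.range φ).IsHomogeneous 𝒵 := by
  rintro i _ ⟨x, rfl⟩
  refine ⟨(decompose 𝒴 x (i - j) : Y), ?_⟩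
  rw [decompose_map_of_isGrHomDeg 𝒴 𝒵 φ j hφ, sub_add_cancel]

/-- A homogeneous map of graded modules over a *local ring which becomes bijective after
localizing at a prime containing the *maximal ideal is bijective. -/
theorem bijective_of_localized (m : HomogeneousIdeal 𝒜) (hm : IsStarLocal 𝒜 m) (𝔫 : Ideal R)
    [𝔫.IsPrime] (hmn : m.toIdeal ≤ 𝔫) (φ : Y →ₗ[R] Z) (j : ι) (hφ : IsGrHomDeg 𝒴 𝒵 φ j)
    (hloc : Function.Bijective (LocalizedModule.map 𝔫.primeCompl φ)) : Function.Bijective φ := by
  classical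
  constructor
  · rw [injective_iff_map_eq_zero]
    have hhom : ∀ (g : ι) (x : Y), x ∈ 𝒴 g → φ x = 0 → x = 0 := by
      intro g x hx hφx
      have h1 : LocalizedModule.map 𝔫.primeCompl φ (LocalizedModule.mk x 1) = 0 := by
        rw [LocalizedModule.map_mk, hφx, LocalizedModule.zero_mk]
      have h2 : (LocalizedModule.mk x 1 : LocalizedModule 𝔫.primeCompl Y) = 0 := by
        apply hloc.1
        rw [h1, map_zero]
      rw [← LocalizedModule.zero_mk (1 : 𝔫.primeCompl), LocalizedModule.mk_eq] at h2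
      obtain ⟨u, hu⟩ := h2
      rw [one_smul, one_smul, smul_zero] at hu
      have hu' : (u : R) • x ∈ (⊥ : Submodule R Y) := by
        rw [Submodule.mem_bot]
        exact hu
      have hbot : (⊥ : Submodule R Y).IsHomogeneous 𝒴 := by
        intro i x hx
        rw [Submodule.mem_bot] at hx
        rw [hx, decompose_zero]
        exact Submodule.zero_mem _
      have := mem_of_smul_mem 𝒜 𝒴 m hm hbot hx hu' (fun h => u.2 (hmn h))
      exact (Submodule.mem_bot R).mp this
    intro x hx
    apply (decompose 𝒴).injective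
    apply DFinsupp.ext
    intro g
    apply Subtype.ext
    rw [decompose_zero, DirectSum.zero_apply, ZeroMemClass.coe_zero]
    apply hhom g _ (decompose 𝒴 x g).2
    rw [decompose_map_of_isGrHomDeg 𝒴 𝒵 φ j hφ, hx, decompose_zero, DirectSum.zero_apply,
      ZeroMemClass.coe_zero]
  · intro y
    have hP := isHomogeneous_range 𝒴 𝒵 hφ
    have hhom : ∀ (g : ι) (y : Z), y ∈ 𝒵 g → y ∈ LinearMap.range φ := by
      intro g y hy
      obtain ⟨w, hw⟩ := hloc.2 (LocalizedModule.mk y 1)
      induction w using LocalizedModule.induction_on with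
      | h x t =>
        rw [LocalizedModule.map_mk, LocalizedModule.mk_eq] at hw
        obtain ⟨u, hu⟩ := hw
        rw [one_smul] at hu
        have hmem : ((u : R) * (t : R)) • y ∈ LinearMap.range φ := by
          refine ⟨(u : R) • x, ?_⟩
          rw [map_smul, mul_smul]
          exact hu
        refine mem_of_smul_mem 𝒜 𝒵 m hm hP hy hmem (fun h => ?_)
        exact (u * t).2 (hmn h)
    have : y ∈ LinearMap.range φ := by
      rw [← sum_support_decompose 𝒵 y]
      exact Submodule.sum_mem _ (fun g _ => hhom g _ (decompose 𝒵 y g).2)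
    exact this

end Groth.Agent.Lib.Helper8.GrStarLocal
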