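import Groth.Agent.Lib.Helper8.GrLCSerreCone
import Mathlib.RingTheory.Artinian.Module
import Mathlib.Algebra.Module.Torsion.Basic

set_option autoImplicit false
set_option linter.unusedSectionVars false
universe u

open DirectSum GrLC
open Groth.Agent.Lib.Helper30
open Groth.Agent.Lib.Helper8.GrLCFin

namespace Groth.Agent.Lib.Helper8.GrLCPieces

section Pieces

variable {R : Type u} [CommRing R] {𝒜 : ℤ → AddSubgroup R} [GradedRing 𝒜]
variable {M : Type u} [AddCommGroup M] [Module R M] {ℳ : ℤ → AddSubgroup M}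
  [DirectSum.Decomposition ℳ] [SetLike.GradedSMul 𝒜 ℳ]

/-- The submodule of `M` generated by a submodule of a homogeneous piece. -/
def spanUp (g : ℤ) (L : Submodule (deg0 𝒜) ↥(comp 𝒜 ℳ g)) : Submodule R M :=
  Submodule.span R ((L.map (comp 𝒜 ℳ g).subtype : Submodule (deg0 𝒜) M) : Set M)

theorem mem_of_mem_spanUp (g : ℤ) (L : Submodule (deg0 𝒜) ↥(comp 𝒜 ℳ g)) (m : M)
    (hm : m ∈ spanUp g L) (hmg : m ∈ ℳ g) : m ∈ L.map (comp 𝒜 ℳ g).subtype := by
  classical
  obtain ⟨n, c, y, rfl⟩ := Submodule.mem_span_set'.mp hm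
  have h1 := decompose_of_mem_same ℳ hmg
  rw [← h1, decompose_sum, DFinsupp.finsetSum_apply, AddSubmonoidClass.coe_finsetSum]
  apply Submodule.sum_mem
  intro i _
  have hyi : ((y i : M)) ∈ L.map (comp 𝒜 ℳ g).subtype := (y i).2
  have hyg : ((y i : M)) ∈ ℳ g := by
    obtain ⟨w, _, hw⟩ := hyi
    rw [← hw]
    exact w.2
  have h2 := decompose_smul_of_mem_right 𝒜 ℳ hyg (c i) 0
  rw [zero_add] at h2
  rw [h2]
  let r₀ : ↥(deg0 𝒜) := ⟨(decompose 𝒜 (c i) 0 : R), (decompose 𝒜 (c i) 0).2⟩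
  exact Submodule.smul_mem _ r₀ hyi

theorem spanUp_strictMono (g : ℤ) :
    StrictMono (spanUp (𝒜 := 𝒜) (ℳ := ℳ) g) := by
  intro L₁ L₂ h
  refine lt_of_le_of_ne (Submodule.span_mono (Submodule.map_mono h.le)) (fun heq => ?_)
  apply h.not_ge
  intro y hy
  have h1 : (y : M) ∈ spanUp g L₂ :=
    Submodule.subset_span ⟨y, hy, rfl⟩
  rw [← heq] at h1
  obtain ⟨w, hw, hwy⟩ := mem_of_mem_spanUp g L₁ (y : M) h1 y.2
  have : w = y := Subtype.ext hwy
  rwa [← this]

theorem isNoetherian_comp [IsNoetherian R M] (g : ℤ) : IsNoetherian (deg0 𝒜) ↥(comp 𝒜 ℳ g) :=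
  isNoetherian_mk (spanUp_strictMono (𝒜 := 𝒜) (ℳ := ℳ) g).wellFoundedGT

theorem isArtinian_comp [IsArtinian R M] (g : ℤ) : IsArtinian (deg0 𝒜) ↥(comp 𝒜 ℳ g) :=
  (spanUp_strictMono (𝒜 := 𝒜) (ℳ := ℳ) g).wellFoundedLT

theorem mem_of_forall_decompose_mem (I : Submodule R M) (m : M)
    (h : ∀ i, (decompose ℳ m i : M) ∈ I) : m ∈ I := by
  classical
  rw [← DirectSum.sum_support_decompose ℳ m]
  exact Submodule.sum_mem _ (fun i _ => h i)

/-- Homogeneous elements of non-positive degree in the irrelevant ideal vanish. -/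
theorem eq_zero_of_mem_irrelevant (hpos : ∀ n : ℤ, n < 0 → 𝒜 n = ⊥) {x : R} {k : ℤ}
    (hx : x ∈ 𝒜 k) (hk : k ≤ 0)
    (hxa : x ∈ Ideal.span (⋃ n ∈ Set.Ioi (0 : ℤ), (𝒜 n : Set R))) : x = 0 := by
  classical
  have hz : ∀ (n : ℤ), n < 0 → ∀ y : R, y ∈ 𝒜 n → y = 0 := by
    intro n hn y hy
    rw [hpos n hn, AddSubgroup.mem_bot] at hy
    exact hy
  obtain ⟨n, c, y, hsum⟩ := Submodule.mem_span_set'.mp hxa
  have h1 := decompose_of_mem_same 𝒜 hx
  rw [← h1, ← hsum, decompose_sum, DFinsupp.finsetSum_apply, AddSubmonoidClass.coe_finsetSum]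
  apply Finset.sum_eq_zero
  intro i _
  have hyi := (y i).2
  simp only [Set.mem_iUnion, Set.mem_Ioi, SetLike.mem_coe, exists_prop] at hyi
  obtain ⟨d, hd, hyd⟩ := hyi
  have h2 := decompose_smul_of_mem_right 𝒜 𝒜 hyd (c i) (k - d)
  rw [sub_add_cancel] at h2
  rw [h2, hz (k - d) (by omega) _ (decompose 𝒜 (c i) (k - d)).2, zero_smul]

/-- The unique homogeneous maximal ideal of a positively graded ring is a maximal ideal. -/
theorem isMaximal_of_isStarLocal (hpos : ∀ n : ℤ, n < 0 → 𝒜 n = ⊥) (m : HomogeneousIdeal 𝒜)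
    (hm : IsStarLocal 𝒜 m) : m.toIdeal.IsMaximal := by
  classical
  have hRp := irrelevant_le_of_isStarLocal hpos m hm
  have h1 : (1 : R) ∉ m.toIdeal := by
    intro h
    apply hm.1.1
    apply HomogeneousIdeal.toIdeal_injective
    rw [(Ideal.eq_top_iff_one _).mpr h]
    rfl
  rw [Ideal.isMaximal_iff]
  refine ⟨h1, fun J r hmJ hrm hrJ => ?_⟩
  set r₀ : R := (decompose 𝒜 r 0 : R) with hr₀
  have hr₀0 : r₀ ∈ 𝒜 0 := (decompose 𝒜 r 0).2
  have hdiff : r - r₀ ∈ m.toIdeal := by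
    apply mem_of_forall_decompose_mem (ℳ := 𝒜) m.toIdeal
    intro i
    rw [decompose_sub, DirectSum.sub_apply, AddSubgroup.coe_sub]
    by_cases hi : i = 0
    · subst hi
      rw [decompose_of_mem_same 𝒜 hr₀0, sub_self]
      exact Submodule.zero_mem _
    · rw [decompose_of_mem_ne 𝒜 hr₀0 (Ne.symm hi), sub_zero]
      rcases lt_or_gt_of_ne hi with hneg | hpos'
      · have hz : ∀ y : R, y ∈ 𝒜 i → y = 0 := by
          intro y hy
          rw [hpos i hneg, AddSubgroup.mem_bot] at hy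
          exact hy
        rw [hz _ (decompose 𝒜 r i).2]
        exact Submodule.zero_mem _
      · exact hRp i hpos' _ (decompose 𝒜 r i).2
  have hr₀m : r₀ ∉ m.toIdeal := by
    intro h
    apply hrm
    have : r = (r - r₀) + r₀ := by ring
    rw [this]
    exact Submodule.add_mem _ hdiff h
  have hr₀J : r₀ ∈ J := by
    have : r₀ = r - (r - r₀) := by ring
    rw [this]
    exact Submodule.sub_mem _ hrJ (hmJ hdiff)
  have hJh : (Ideal.span {r₀}).IsHomogeneous 𝒜 := by
    apply Ideal.homogeneous_span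
    intro y hy
    rw [Set.mem_singleton_iff] at hy
    subst hy
    exact ⟨0, hr₀0⟩
  let J' : HomogeneousIdeal 𝒜 := ⟨Ideal.span {r₀}, hJh⟩
  have hlt : m < m ⊔ J' := by
    refine lt_of_le_of_ne le_sup_left (fun h => hr₀m ?_)
    have h2 : r₀ ∈ (m ⊔ J').toIdeal := by
      rw [HomogeneousIdeal.toIdeal_sup]
      exact Submodule.mem_sup_right (Ideal.mem_span_singleton_self r₀)
    rwa [← h] at h2
  have htop : (m ⊔ J').toIdeal = ⊤ := by
    rw [hm.1.2 _ hlt]
    rfl
  rw [HomogeneousIdeal.toIdeal_sup] at htop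
  have h3 : (1 : R) ∈ m.toIdeal ⊔ J'.toIdeal := by
    rw [htop]
    trivial
  have hle : m.toIdeal ⊔ J'.toIdeal ≤ J :=
    sup_le hmJ ((Ideal.span_singleton_le_iff_mem J).mpr hr₀J)
  exact hle h3

end Pieces

section Art

/-- A finitely generated module over a Noetherian ring killed by a power of a maximal ideal is
Artinian. -/
theorem artinian_of_killed_pow {A : Type u} [CommRing A] [IsNoetherianRing A] (𝔪 : Ideal A)
    [h𝔪 : 𝔪.IsMaximal] : ∀ (t : ℕ) (Y : Type u) [AddCommGroup Y] [Module A Y] [Module.Finite A Y],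
    (∀ r ∈ 𝔪 ^ t, ∀ y : Y, r • y = 0) → IsArtinian A Y := by
  intro t
  induction t with
  | zero =>
    intro Y _ _ _ hkill
    have : Subsingleton Y := by
      refine ⟨fun y y' => ?_⟩
      have h1 := hkill 1 (by rw [pow_zero, Ideal.one_eq_top]; trivial) y
      have h2 := hkill 1 (by rw [pow_zero, Ideal.one_eq_top]; trivial) y'
      rw [one_smul] at h1 h2
      rw [h1, h2]
    exact isArtinian_of_finite
  | succ t ih =>
    intro Y _ _ _ hkill
    have hN : IsNoetherian A Y := isNoetherian_of_isNoetherianRing_of_finite A Y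
    let Y' : Submodule A Y := 𝔪 • (⊤ : Submodule A Y)
    have hY'fin : Module.Finite A ↥Y' := Module.Finite.iff_fg.mpr (IsNoetherian.noetherian Y')
    have hY' : IsArtinian A ↥Y' := by
      apply ih ↥Y'
      intro r hr y
      apply Subtype.ext
      have hy : (y : Y) ∈ 𝔪 • (⊤ : Submodule A Y) := y.2
      change r • (y : Y) = 0
      refine Submodule.smul_induction_on hy ?_ ?_
      · intro s hs z _
        rw [← mul_smul]
        apply hkill
        rw [pow_succ]
        exact Ideal.mul_mem_mul hr hs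
      · intro z z' hz hz'
        rw [smul_add, hz, hz', add_zero]
    let _ : Field (A ⧸ 𝔪) := Ideal.Quotient.field 𝔪
    have hV : IsArtinian (A ⧸ 𝔪) (Y ⧸ Y') := isArtinian_of_fg_of_artinian'
    have hV' : IsArtinian A (Y ⧸ Y') :=
      isArtinian_of_surjective_algebraMap (S := A) (R := A ⧸ 𝔪) (M := Y ⧸ Y')
        Ideal.Quotient.mk_surjective
    exact (isArtinian_iff_submodule_quotient Y').mpr ⟨hY', hV'⟩

/-- Melkersson's lemma for one element: a module all of whose elements are killed by a power of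
`x`, and in which the kernel of `x` is Artinian, is Artinian. -/
theorem artinian_of_torsion_of_ker {A : Type*} [CommRing A] {H : Type*} [AddCommGroup H]
    [Module A H] (x : A) (htors : ∀ h : H, ∃ n : ℕ, x ^ n • h = 0)
    (hker : IsArtinian A ↥(LinearMap.ker (LinearMap.lsmul A H x))) : IsArtinian A H := by
  classical
  rw [← monotone_stabilizes_iff_artinian]
  intro f
  let L : ℕ → Submodule A H := fun n => OrderDual.ofDual (f n)
  have hL : ∀ n m, n ≤ m → L m ≤ L n := fun n m h => f.monotone h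
  set K : Submodule A H := LinearMap.ker (LinearMap.lsmul A H x) with hK
  let S : ℕ → ℕ → Submodule A ↥K := fun n j =>
    ((L n ⊓ LinearMap.ker (LinearMap.lsmul A H (x ^ (j + 1)))).map
      (LinearMap.lsmul A H (x ^ j))).comap K.subtype
  have memS : ∀ n j (y : ↥K), y ∈ S n j ↔
      ∃ z ∈ L n, x ^ (j + 1) • z = 0 ∧ x ^ j • z = (y : H) := by
    intro n j y
    constructor
    · rintro ⟨z, ⟨hz1, hz2⟩, hz3⟩
      exact ⟨z, hz1, hz2, hz3⟩
    · rintro ⟨z, hz1, hz2, hz3⟩
      exact ⟨z, ⟨hz1, hz2⟩, hz3⟩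
  have hSn : ∀ n n' j, n ≤ n' → S n' j ≤ S n j := by
    intro n n' j h y hy
    rw [memS] at hy ⊢
    obtain ⟨z, hz1, hz2, hz3⟩ := hy
    exact ⟨z, hL n n' h hz1, hz2, hz3⟩
  have hSj1 : ∀ n j, S n (j + 1) ≤ S n j := by
    intro n j y hy
    rw [memS] at hy ⊢
    obtain ⟨z, hz1, hz2, hz3⟩ := hy
    refine ⟨x • z, Submodule.smul_mem _ x hz1, ?_, ?_⟩
    · rw [← mul_smul, ← pow_succ]
      exact hz2
    · rw [← mul_smul, ← pow_succ]
      exact hz3
  have hSj : ∀ n j j', j ≤ j' → S n j' ≤ S n j := by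
    intro n j j' h
    induction h with
    | refl => exact le_refl _
    | step _ ih => exact le_trans (hSj1 n _) ih
  obtain ⟨T₀, ⟨⟨n₀, j₀⟩, rfl⟩, hmin⟩ := IsArtinian.set_has_minimal
    (Set.range (fun p : ℕ × ℕ => S p.1 p.2)) ⟨_, ⟨(0, 0), rfl⟩⟩
  have hbig : ∀ n j, n₀ ≤ n → j₀ ≤ j → S n j = S n₀ j₀ := by
    intro n j hn hj
    have hle : S n j ≤ S n₀ j₀ := le_trans (hSn n₀ n j hn) (hSj n₀ j₀ j hj)
    by_contra hne
    exact hmin (S n j) ⟨(n, j), rfl⟩ (lt_of_le_of_ne hle hne)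
  have hstab : ∀ j, ∃ Nj, ∀ n, Nj ≤ n → S Nj j = S n j := by
    intro j
    let fj : ℕ →o (Submodule A ↥K)ᵒᵈ :=
      ⟨fun n => OrderDual.toDual (S n j), fun n n' h => hSn n n' j h⟩
    obtain ⟨Nj, hNj⟩ := IsArtinian.monotone_stabilizes fj
    exact ⟨Nj, fun n hn => congrArg OrderDual.ofDual (hNj n hn)⟩
  choose Nst hNst using hstab
  let n₁ : ℕ := max n₀ ((Finset.range j₀).sup Nst)
  have hn₁ : ∀ n j, n₁ ≤ n → S n j = S n₁ j := by
    intro n j hn
    by_cases hj : j < j₀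
    · have h1 : Nst j ≤ n₁ :=
        le_trans (Finset.le_sup (f := Nst) (Finset.mem_range.mpr hj)) (le_max_right _ _)
      rw [← hNst j n (le_trans h1 hn), ← hNst j n₁ h1]
    · push Not at hj
      rw [hbig n j (le_trans (le_max_left _ _) hn) hj, hbig n₁ j (le_max_left _ _) hj]
  refine ⟨n₁, fun n hn => ?_⟩
  have key : ∀ (t : ℕ) (y : H), y ∈ L n₁ → x ^ t • y = 0 → y ∈ L n := by
    intro t
    induction t with
    | zero =>
      intro y _ hy
      rw [pow_zero, one_smul] at hy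
      rw [hy]
      exact Submodule.zero_mem _
    | succ t ih =>
      intro y hy1 hy2
      have hyK : x ^ t • y ∈ K := by
        rw [hK, LinearMap.mem_ker]
        change x • x ^ t • y = 0
        rw [← mul_smul, ← pow_succ']
        exact hy2
      have h1 : (⟨x ^ t • y, hyK⟩ : ↥K) ∈ S n₁ t := (memS n₁ t _).mpr ⟨y, hy1, hy2, rfl⟩
      rw [← hn₁ n t hn, memS] at h1
      obtain ⟨z, hz1, _, hz3⟩ := h1
      have h2 : y - z ∈ L n := by
        apply ih (y - z) (Submodule.sub_mem _ hy1 (hL n₁ n hn hz1))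
        rw [smul_sub, hz3, sub_self]
      have : y = (y - z) + z := by abel
      rw [this]
      exact Submodule.add_mem _ h2 hz1
  apply le_antisymm
  · exact hL n₁ n hn
  · intro y hy
    obtain ⟨t, ht⟩ := htors y
    exact key t y hy ht

end Art

end Groth.Agent.Lib.Helper8.GrLCPieces
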