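import Groth.Agent.Lib.Helper8.GrInjTwCo

/-!
# A *injective module has injective dimension at most one
-/

set_option autoImplicit false
set_option linter.unusedSectionVars false
universe u

open DirectSum GrLC CategoryTheory

namespace Groth.Agent.Lib.Helper8.GrInjTwRes

open Groth.Agent.Lib.Helper8.GrInjTw Groth.Agent.Lib.Helper8.GrInjTwFin
open Groth.Agent.Lib.Helper8.GrInjTwCo

section Antidiff

/-- Discrete integration on `ℤ`. -/
theorem exists_antidiff {G : Type*} [AddCommGroup G] (w : ℤ → G) :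
    ∃ u : ℤ → G, ∀ k, u (k + 1) - u k = w k := by
  let a : ℕ → G := fun n => Nat.rec 0 (fun m am => am + w (m : ℤ)) n
  let b : ℕ → G := fun n => Nat.rec 0 (fun m bm => bm - w (-((m : ℤ) + 1))) n
  have ha : ∀ n, a (n + 1) = a n + w (n : ℤ) := fun n => rfl
  have hb : ∀ n, b (n + 1) = b n - w (-((n : ℤ) + 1)) := fun n => rfl
  have ha0 : a 0 = 0 := rfl
  have hb0 : b 0 = 0 := rfl
  refine ⟨fun k => if 0 ≤ k then a k.toNat else b (-k).toNat, fun k => ?_⟩
  by_cases hk : 0 ≤ k
  · obtain ⟨n, rfl⟩ := Int.eq_ofNat_of_zero_le hk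
    have h1 : (0 : ℤ) ≤ (n : ℤ) + 1 := by omega
    simp only [hk, h1, if_true]
    have e1 : ((n : ℤ) + 1).toNat = n + 1 := by omega
    have e2 : ((n : ℤ)).toNat = n := by omega
    rw [e1, e2, ha]
    abel
  · by_cases hk1 : k + 1 = 0
    · have hk' : k = -1 := by omega
      subst hk'
      simp only [show ¬ (0 : ℤ) ≤ -1 by omega, if_false]
      norm_num
      have e1 : b 1 = b 0 - w (-((0 : ℕ) + 1 : ℤ)) := hb 0
      rw [e1, hb0, ha0]
      simp
    · have hk2 : ¬ 0 ≤ k + 1 := by omega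
      simp only [hk, hk2, if_false]
      obtain ⟨n, hn⟩ : ∃ n : ℕ, (-(k + 1)).toNat = n := ⟨_, rfl⟩
      have e1 : (-k).toNat = n + 1 := by omega
      have e2 : -((n : ℤ) + 1) = k := by omega
      rw [hn, e1, hb, e2]
      abel

end Antidiff

section Res

variable {R : Type u} [CommRing R] (𝒜 : ℤ → AddSubgroup R) [GradedRing 𝒜]
variable (E : Type u) [AddCommGroup E] [Module R E]

set_option quotPrecheck false in
local notation "τE" => (shiftTw (R := R) E).τ

theorem tau_tau (i j : ℤ) (x : ℤ →₀ E) : τE i (τE j x) = τE (i + j) x := by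
  rw [(shiftTw (R := R) E).add]
  rfl

theorem tau_zero (x : ℤ →₀ E) : τE 0 x = x := by
  rw [(shiftTw (R := R) E).zero]
  rfl

/-- The embedding `F(E) → C(⨁ E)`, on underlying modules. -/
noncomputable def epsPlain : (ℤ →₀ E) →ₗ[R] (ℤ → (ℤ →₀ E)) where
  toFun x k := τE k x
  map_add' x y := by
    funext k
    exact map_add _ _ _
  map_smul' r x := by
    funext k
    exact map_smul _ _ _

/-- The embedding `F(E) → C(⨁ E)`. -/
noncomputable def eps : FE 𝒜 E →ₗ[R] Co 𝒜 (ℤ →₀ E) :=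
  Tw.map 𝒜 (shiftTw (R := R) E) (coTw (R := R) (ℤ →₀ E)) (epsPlain E) (by
    intro i x
    funext k
    change τE k (τE i x) = τE (k + i) x
    exact tau_tau E k i x)

/-- The second map of the resolution, on underlying modules. -/
noncomputable def betaPlain : (ℤ → (ℤ →₀ E)) →ₗ[R] (ℤ → (ℤ →₀ E)) where
  toFun v k := v (k + 1) - τE 1 (v k)
  map_add' v w := by
    funext k
    simp only [Pi.add_apply, map_add]
    abel
  map_smul' r v := by
    funext k
    simp only [Pi.smul_apply, map_smul, RingHom.id_apply, smul_sub]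

/-- The second map of the resolution. -/
noncomputable def beta : Co 𝒜 (ℤ →₀ E) →ₗ[R] Co 𝒜 (ℤ →₀ E) :=
  Tw.map 𝒜 (coTw (R := R) (ℤ →₀ E)) (coTw (R := R) (ℤ →₀ E)) (betaPlain E) (by
    intro i v
    funext k
    change v (k + 1 + i) - τE 1 (v (k + i)) = v (k + i + 1) - τE 1 (v (k + i))
    rw [add_right_comm])

theorem eps_injective : Function.Injective (eps 𝒜 E) := by
  intro x y hxy
  have h : epsPlain (R := R) E (ofTw 𝒜 (shiftTw (R := R) E) x) =
      epsPlain (R := R) E (ofTw 𝒜 (shiftTw (R := R) E) y) := hxy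
  have h0 := congrFun h 0
  change τE 0 (ofTw 𝒜 (shiftTw (R := R) E) x) = τE 0 (ofTw 𝒜 (shiftTw (R := R) E) y) at h0
  rw [tau_zero, tau_zero] at h0
  exact (ofTw 𝒜 (shiftTw (R := R) E)).injective h0

theorem exact_eps_beta : Function.Exact (eps 𝒜 E) (beta 𝒜 E) := by
  intro v
  constructor
  · intro hv
    have hv' : ∀ k, ofTw 𝒜 (coTw (R := R) (ℤ →₀ E)) v (k + 1) =
        τE 1 (ofTw 𝒜 (coTw (R := R) (ℤ →₀ E)) v k) := by
      intro k
      have h1 : betaPlain E (ofTw 𝒜 _ v) = 0 := hv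
      have h2 := congrFun h1 k
      change ofTw 𝒜 _ v (k + 1) - τE 1 (ofTw 𝒜 _ v k) = 0 at h2
      exact sub_eq_zero.mp h2
    set v' : ℤ → (ℤ →₀ E) := ofTw 𝒜 (coTw (R := R) (ℤ →₀ E)) v with hv'def
    have key : ∀ k : ℤ, v' k = τE k (v' 0) := by
      intro k
      induction k using Int.induction_on with
      | zero => rw [tau_zero]
      | succ n ih =>
        rw [hv' n, ih, tau_tau, add_comm]
      | pred n ih =>
        have h1 := hv' (-(n : ℤ) - 1)
        rw [sub_add_cancel, ih] at h1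
        have h2 : τE (-1) (τE 1 (v' (-(n : ℤ) - 1))) = v' (-(n : ℤ) - 1) := by
          rw [tau_tau]
          norm_num
          exact tau_zero E _
        rw [← h2, ← h1, tau_tau]
        congr 2
        ring
    refine ⟨toTw 𝒜 _ (v' 0), ?_⟩
    apply (ofTw 𝒜 (coTw (R := R) (ℤ →₀ E))).injective
    funext k
    change τE k (v' 0) = v' k
    exact (key k).symm
  · rintro ⟨x, rfl⟩
    apply (ofTw 𝒜 (coTw (R := R) (ℤ →₀ E))).injective
    funext k
    change τE (k + 1) (ofTw 𝒜 _ x) - τE 1 (τE k (ofTw 𝒜 _ x)) = 0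
    rw [tau_tau, add_comm, sub_self]

theorem beta_surjective : Function.Surjective (beta 𝒜 E) := by
  intro w
  set w' : ℤ → (ℤ →₀ E) := ofTw 𝒜 (coTw (R := R) (ℤ →₀ E)) w with hw'
  obtain ⟨u, hu⟩ := exists_antidiff (fun k => τE (-(k + 1)) (w' k))
  refine ⟨toTw 𝒜 _ (fun k => τE k (u k)), ?_⟩
  apply (ofTw 𝒜 (coTw (R := R) (ℤ →₀ E))).injective
  funext k
  change τE (k + 1) (u (k + 1)) - τE 1 (τE k (u k)) = w' k
  rw [tau_tau, add_comm 1 k, ← map_sub, hu k, tau_tau, add_neg_cancel, tau_zero]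

end Res

section Main

variable {R : Type u} [CommRing R] [IsNoetherianRing R] (𝒜 : ℤ → AddSubgroup R) [GradedRing 𝒜]
variable {M : Type u} [AddCommGroup M] [Module R M] (ℳ : ℤ → AddSubgroup M)
  [DirectSum.Decomposition ℳ] [SetLike.GradedSMul 𝒜 ℳ]

/-- `F(E)` has injective dimension at most one when `E` is injective. -/
theorem hasInjectiveDimensionLT_FE (E : Type u) [AddCommGroup E] [Module R E]
    (hE : Module.Injective R E) : HasInjectiveDimensionLT (ModuleCat.of R (FE 𝒜 E)) 2 := by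
  have hX : Module.Injective R (ℤ →₀ E) := finsupp_injective E hE
  have hC : Module.Injective R (Co 𝒜 (ℤ →₀ E)) := co_injective 𝒜 _ hX
  have hcomp : (beta 𝒜 E).comp (eps 𝒜 E) = 0 :=
    (exact_eps_beta 𝒜 E).linearMap_comp_eq_zero
  let S : ShortComplex (ModuleCat.{u} R) :=
    ModuleCat.shortComplexOfCompEqZero (eps 𝒜 E) (beta 𝒜 E) hcomp
  have hS : S.ShortExact :=
    ModuleCat.shortComplex_shortExact S (exact_eps_beta 𝒜 E) (eps_injective 𝒜 E)
      (beta_surjective 𝒜 E)
  have hI : Injective (ModuleCat.of R (Co 𝒜 (ℤ →₀ E))) :=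
    Module.injective_object_of_injective_module R _
  have h1 : HasInjectiveDimensionLT S.X₃ 1 := by
    change HasInjectiveDimensionLT (ModuleCat.of R (Co 𝒜 (ℤ →₀ E))) 1
    infer_instance
  have h2 : HasInjectiveDimensionLT S.X₂ 2 := by
    change HasInjectiveDimensionLT (ModuleCat.of R (Co 𝒜 (ℤ →₀ E))) 2
    exact hasInjectiveDimensionLT_of_ge _ 1 2 (by omega)
  exact hS.hasInjectiveDimensionLT_X₁ 1 h1 h2

/-- A *injective module over a Noetherian `ℤ`-graded ring has injective dimension at most one. -/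
theorem hasInjectiveDimensionLT_of_isStarInj (hM : IsStarInj 𝒜 ℳ) :
    HasInjectiveDimensionLT (ModuleCat.of R M) 2 := by
  let E₀ : ModuleCat.{u} R := Injective.under (ModuleCat.of R M)
  let ι : ModuleCat.of R M ⟶ E₀ := Injective.ι _
  have hι : Function.Injective ι.hom := (ModuleCat.mono_iff_injective ι).1 inferInstance
  have hE₀inj : Injective (ModuleCat.of R E₀) :=
    (inferInstance : Injective (Injective.under (ModuleCat.of R M)))
  have hE₀ : Module.Injective R E₀ := Module.injective_module_of_injective_object R E₀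
  obtain ⟨ρ, hρ⟩ := exists_retraction 𝒜 E₀ ℳ ι.hom hM hι
  have hT := hasInjectiveDimensionLT_FE 𝒜 E₀ hE₀
  let r : Retract (ModuleCat.of R M) (ModuleCat.of R (FE 𝒜 E₀)) :=
    { i := ModuleCat.ofHom (eta 𝒜 E₀ ℳ ι.hom)
      r := ModuleCat.ofHom ρ
      retract := by
        rw [← ModuleCat.ofHom_comp, hρ]
        rfl }
  exact r.hasInjectiveDimensionLT 2

end Main

end Groth.Agent.Lib.Helper8.GrInjTwRes
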