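import Mathlib.CategoryTheory.Abelian.Projective.Resolution
import Mathlib.Algebra.Homology.ShortComplex.ModuleCat
import Mathlib.Algebra.Category.ModuleCat.Projective
import Mathlib.Algebra.Homology.Single
import Mathlib.Algebra.Homology.QuasiIso
import Mathlib.Algebra.Homology.SingleHomology

set_option autoImplicit false

namespace Groth.Agent.Lib.Helper8.ResOfExact

open CategoryTheory CategoryTheory.Limits

universe u

variable {R : Type u} [Ring R]

lemma ofHom_comp_eq_zero {A B C : Type u} [AddCommGroup A] [Module R A] [AddCommGroup B]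
    [Module R B] [AddCommGroup C] [Module R C] (f : A →ₗ[R] B) (g : B →ₗ[R] C)
    (h : g.comp f = 0) : ModuleCat.ofHom f ≫ ModuleCat.ofHom g = 0 := by
  rw [← ModuleCat.ofHom_comp, h]
  rfl

variable (X : ℕ → Type u) [∀ n, AddCommGroup (X n)] [∀ n, Module R (X n)]
  (d : ∀ n, X (n + 1) →ₗ[R] X n)

noncomputable def cx (hd : ∀ n, (d n).comp (d (n + 1)) = 0) : ChainComplex (ModuleCat.{u} R) ℕ :=
  ChainComplex.of (fun n => ModuleCat.of R (X n)) (fun n => ModuleCat.ofHom (d n))
    (fun n => ofHom_comp_eq_zero _ _ (hd n))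

lemma cx_d (hd : ∀ n, (d n).comp (d (n + 1)) = 0) (n : ℕ) :
    (cx X d hd).d (n + 1) n = ModuleCat.ofHom (d n) := by
  change ChainComplex.of.d (fun n => ModuleCat.of R (X n)) (fun n => ModuleCat.ofHom (d n))
    (n + 1) n = _
  rw [ChainComplex.of_d]

variable {M : Type u} [AddCommGroup M] [Module R M] (ε : X 0 →ₗ[R] M)

noncomputable def aug (hd : ∀ n, (d n).comp (d (n + 1)) = 0) (hε : ε.comp (d 0) = 0) :
    cx X d hd ⟶ (ChainComplex.single₀ (ModuleCat.{u} R)).obj (ModuleCat.of R M) :=
  (ChainComplex.toSingle₀Equiv _ _).symm ⟨ModuleCat.ofHom ε, by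
    rw [cx_d]
    exact ofHom_comp_eq_zero _ _ hε⟩

lemma aug_f_zero (hd : ∀ n, (d n).comp (d (n + 1)) = 0) (hε : ε.comp (d 0) = 0) :
    (aug X d ε hd hε).f 0 = ModuleCat.ofHom ε := by
  unfold aug
  simp [ChainComplex.toSingle₀Equiv]

lemma exactAt_succ (hd : ∀ n, (d n).comp (d (n + 1)) = 0) (n : ℕ)
    (hex : LinearMap.ker (d n) = LinearMap.range (d (n + 1))) :
    (cx X d hd).ExactAt (n + 1) := by
  rw [HomologicalComplex.exactAt_iff' _ (n + 1 + 1) (n + 1) n (by simp) (by simp),
    ShortComplex.moduleCat_exact_iff_range_eq_ker]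
  dsimp [HomologicalComplex.sc', HomologicalComplex.shortComplexFunctor']
  rw [cx_d, cx_d]
  exact hex.symm

lemma quasiIso_aug (hd : ∀ n, (d n).comp (d (n + 1)) = 0) (hε : ε.comp (d 0) = 0)
    (hsurj : Function.Surjective ε)
    (h0 : LinearMap.ker ε = LinearMap.range (d 0))
    (hex : ∀ n, LinearMap.ker (d n) = LinearMap.range (d (n + 1))) :
    QuasiIso (aug X d ε hd hε) := ⟨fun n => by
  cases n with
  | zero =>
    rw [ChainComplex.quasiIsoAt₀_iff, ShortComplex.quasiIso_iff_of_zeros']
    · constructor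
      · rw [ShortComplex.moduleCat_exact_iff_range_eq_ker]
        change LinearMap.range ((cx X d hd).d (0 + 1) 0).hom =
          LinearMap.ker ((aug X d ε hd hε).f 0).hom
        rw [cx_d, aug_f_zero]
        exact h0.symm
      · change Epi ((aug X d ε hd hε).f 0)
        rw [aug_f_zero, ModuleCat.epi_iff_surjective]
        exact hsurj
    all_goals rfl
  | succ n =>
    rw [quasiIsoAt_iff_exactAt']
    · exact exactAt_succ X d hd n (hex n)
    · apply ChainComplex.exactAt_succ_single_obj⟩

noncomputable def res [∀ n, Module.Projective R (X n)]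
    (hd : ∀ n, (d n).comp (d (n + 1)) = 0) (hε : ε.comp (d 0) = 0)
    (hsurj : Function.Surjective ε)
    (h0 : LinearMap.ker ε = LinearMap.range (d 0))
    (hex : ∀ n, LinearMap.ker (d n) = LinearMap.range (d (n + 1))) :
    ProjectiveResolution (ModuleCat.of R M) where
  complex := cx X d hd
  projective n := by
    have : Module.Projective R (ModuleCat.of R (X n)) := inferInstanceAs (Module.Projective R (X n))
    change Projective (ModuleCat.of R (X n))
    exact ModuleCat.projective_of_categoryTheory_projective _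
  π := aug X d ε hd hε
  quasiIso := quasiIso_aug X d ε hd hε hsurj h0 hex

end Groth.Agent.Lib.Helper8.ResOfExact
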