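import Groth.Prelude.Def_GrSyz
import Mathlib.Tactic
import Mathlib.LinearAlgebra.Dimension.Constructions
import Mathlib.LinearAlgebra.FiniteDimensional.Lemmas

set_option autoImplicit false
set_option linter.unusedSectionVars false
universe u v

namespace Groth.Agent.Lib.Helper8.GrSyzStrand

open GrSyz DirectSum

section Decomp

variable {k R : Type u} [Field k] [CommRing R] [Algebra k R] (𝒜 : ℤ → Submodule k R)
  [GradedAlgebra 𝒜]
variable {M : Type u} [AddCommGroup M] [Module k M] [Module R M] (ℳ : ℤ → Submodule k M)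
  [DirectSum.Decomposition ℳ] [SetLike.GradedSMul 𝒜 ℳ]

theorem coe_decompose_mul_of_left_mem {a x : R} {i : ℤ} (n : ℤ) (ha : a ∈ 𝒜 i) :
    (decompose 𝒜 (a * x) n : R) = a * (decompose 𝒜 x (n - i) : R) := by
  obtain ⟨j, rfl⟩ : ∃ j, n = i + j := ⟨n - i, by ring⟩
  rw [coe_decompose_mul_add_of_left_mem 𝒜 ha, add_sub_cancel_left]

theorem coe_decompose_smul_of_right_mem {m : M} {l : ℤ} (n : ℤ) (hm : m ∈ ℳ l) (x : R) :
    (decompose ℳ (x • m) n : M) = (decompose 𝒜 x (n - l) : R) • m := by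
  induction x using DirectSum.Decomposition.inductionOn 𝒜 with
  | zero => simp
  | @homogeneous i a =>
    have h1 : (a : R) • m ∈ ℳ (i + l) := SetLike.GradedSMul.smul_mem a.2 hm
    by_cases h : i + l = n
    · subst h
      rw [decompose_of_mem_same ℳ h1, add_sub_cancel_right, decompose_of_mem_same 𝒜 a.2]
    · rw [decompose_of_mem_ne ℳ h1 h, decompose_of_mem_ne 𝒜 a.2 (by omega), zero_smul]
  | add x y hx hy =>
    rw [add_smul, decompose_add, DirectSum.add_apply, Submodule.coe_add, hx, hy, decompose_add,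
      DirectSum.add_apply, Submodule.coe_add, add_smul]

end Decomp

section Vec

variable {k R : Type u} [Field k] [CommRing R] [Algebra k R] (𝒜 : ℤ → Submodule k R)
  [GradedAlgebra 𝒜]

def homVec {n : ℕ} (degs : Fin n → ℤ) (d : ℤ) : Submodule k (Fin n → R) :=
  Submodule.pi Set.univ (fun b => 𝒜 (d - degs b))

theorem mem_homVec {n : ℕ} {degs : Fin n → ℤ} {d : ℤ} {v : Fin n → R} :
    v ∈ homVec 𝒜 degs d ↔ ∀ b, v b ∈ 𝒜 (d - degs b) := by
  simp [homVec, Submodule.mem_pi]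

def projVec {n : ℕ} (degs : Fin n → ℤ) (d : ℤ) (w : Fin n → R) : Fin n → R :=
  fun b => (decompose 𝒜 (w b) (d - degs b) : R)

theorem projVec_mem {n : ℕ} (degs : Fin n → ℤ) (d : ℤ) (w : Fin n → R) :
    projVec 𝒜 degs d w ∈ homVec 𝒜 degs d :=
  (mem_homVec 𝒜).2 fun _ => SetLike.coe_mem _

theorem projVec_of_mem {n : ℕ} {degs : Fin n → ℤ} {d : ℤ} {v : Fin n → R}
    (hv : v ∈ homVec 𝒜 degs d) : projVec 𝒜 degs d v = v :=
  funext fun b => decompose_of_mem_same 𝒜 ((mem_homVec 𝒜).1 hv b)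

theorem mulVec_projVec {n n' : ℕ} (degs : Fin n → ℤ) (degs' : Fin n' → ℤ) (d : ℤ)
    (D : Matrix (Fin n) (Fin n') R) (hD : ∀ a b, D a b ∈ 𝒜 (degs' b - degs a))
    (w : Fin n' → R) :
    D.mulVec (projVec 𝒜 degs' d w) = projVec 𝒜 degs d (D.mulVec w) := by
  funext a
  simp only [Matrix.mulVec, dotProduct, projVec]
  rw [decompose_sum, DFinsupp.finsetSum_apply, AddSubmonoidClass.coe_finsetSum]
  apply Finset.sum_congr rfl
  intro b _
  rw [coe_decompose_mul_of_left_mem 𝒜 _ (hD a b)]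
  have : d - degs a - (degs' b - degs a) = d - degs' b := by ring
  rw [this]

theorem mulVec_mem_homVec {n n' : ℕ} (degs : Fin n → ℤ) (degs' : Fin n' → ℤ) (d : ℤ)
    (D : Matrix (Fin n) (Fin n') R) (hD : ∀ a b, D a b ∈ 𝒜 (degs' b - degs a))
    {v : Fin n' → R} (hv : v ∈ homVec 𝒜 degs' d) : D.mulVec v ∈ homVec 𝒜 degs d := by
  rw [← projVec_of_mem 𝒜 hv, mulVec_projVec 𝒜 degs degs' d D hD]
  exact projVec_mem 𝒜 _ _ _

noncomputable def homVecEquiv {n : ℕ} (degs : Fin n → ℤ) (d : ℤ) :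
    homVec 𝒜 degs d ≃ₗ[k] ((b : Fin n) → 𝒜 (d - degs b)) where
  toFun v := fun b => ⟨v.1 b, (mem_homVec 𝒜).1 v.2 b⟩
  invFun w := ⟨fun b => (w b : R), (mem_homVec 𝒜).2 fun b => (w b).2⟩
  map_add' _ _ := rfl
  map_smul' _ _ := rfl
  left_inv _ := rfl
  right_inv _ := rfl

theorem finrank_homVec [∀ n, Module.Finite k (𝒜 n)] {n : ℕ} (degs : Fin n → ℤ) (d : ℤ) :
    Module.finrank k (homVec 𝒜 degs d) = ∑ b, Module.finrank k (𝒜 (d - degs b)) := by
  rw [LinearEquiv.finrank_eq (homVecEquiv 𝒜 degs d), Module.finrank_pi_fintype]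

instance [∀ n, Module.Finite k (𝒜 n)] {n : ℕ} (degs : Fin n → ℤ) (d : ℤ) :
    Module.Finite k (homVec 𝒜 degs d) :=
  Module.Finite.equiv (homVecEquiv 𝒜 degs d).symm

end Vec

section Strand

variable {k R : Type u} [Field k] [CommRing R] [Algebra k R] {𝒜 : ℤ → Submodule k R}
  [GradedAlgebra 𝒜]
variable {M : Type u} [AddCommGroup M] [Module k M] [Module R M] [IsScalarTower k R M]
  {ℳ : ℤ → Submodule k M} [DirectSum.Decomposition ℳ] [SetLike.GradedSMul 𝒜 ℳ]
variable (F : FreeRes 𝒜 ℳ) (d : ℤ)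

theorem aug_mem {v : Fin (F.rk 0) → R} (hv : v ∈ homVec 𝒜 (F.deg 0) d) :
    Fintype.linearCombination R F.aug v ∈ ℳ d := by
  rw [Fintype.linearCombination_apply]
  refine Submodule.sum_mem _ fun b _ => ?_
  have h := SetLike.GradedSMul.smul_mem ((mem_homVec 𝒜).1 hv b) (F.aug_mem b)
  have e : (d - F.deg 0 b) +ᵥ F.deg 0 b = d := by
    rw [vadd_eq_add]; ring
  rw [e] at h
  exact h

noncomputable def dStr (i : ℕ) :
    homVec 𝒜 (F.deg (i + 1)) d →ₗ[k] homVec 𝒜 (F.deg i) d :=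
  ((Matrix.mulVecLin (F.d i)).restrictScalars k).restrict
    (fun _ hv => mulVec_mem_homVec 𝒜 (F.deg i) (F.deg (i + 1)) d (F.d i) (F.d_mem i) hv)

noncomputable def augStr : homVec 𝒜 (F.deg 0) d →ₗ[k] ℳ d :=
  ((Fintype.linearCombination R F.aug).restrictScalars k).restrict (fun _ hv => aug_mem F d hv)

theorem dStr_coe (i : ℕ) (v : homVec 𝒜 (F.deg (i + 1)) d) :
    (dStr F d i v : Fin (F.rk i) → R) = (F.d i).mulVec v.1 := rfl

theorem augStr_coe (v : homVec 𝒜 (F.deg 0) d) :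
    (augStr F d v : M) = Fintype.linearCombination R F.aug v.1 := rfl

theorem augStr_surjective : Function.Surjective (augStr F d) := by
  rintro ⟨y, hy⟩
  obtain ⟨v, hv⟩ := F.aug_surjective y
  refine ⟨⟨projVec 𝒜 (F.deg 0) d v, projVec_mem 𝒜 _ _ _⟩, Subtype.ext ?_⟩
  rw [augStr_coe]
  change Fintype.linearCombination R F.aug (projVec 𝒜 (F.deg 0) d v) = y
  rw [Fintype.linearCombination_apply]
  have h1 : (decompose ℳ (Fintype.linearCombination R F.aug v) d : M) = y := by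
    rw [hv]; exact decompose_of_mem_same ℳ hy
  rw [← h1, Fintype.linearCombination_apply, decompose_sum, DFinsupp.finsetSum_apply,
    AddSubmonoidClass.coe_finsetSum]
  apply Finset.sum_congr rfl
  intro b _
  rw [coe_decompose_smul_of_right_mem 𝒜 ℳ d (F.aug_mem b)]
  rfl

theorem ker_augStr : LinearMap.ker (augStr F d) = LinearMap.range (dStr F d 0) := by
  ext v
  rw [LinearMap.mem_ker, LinearMap.mem_range]
  constructor
  · intro hv
    have h0 : Fintype.linearCombination R F.aug v.1 = 0 := by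
      rw [← augStr_coe, hv]; rfl
    have h1 : v.1 ∈ LinearMap.ker (Fintype.linearCombination R F.aug) := h0
    rw [F.exact_zero] at h1
    obtain ⟨w, hw⟩ := h1
    refine ⟨⟨projVec 𝒜 (F.deg (0 + 1)) d w, projVec_mem 𝒜 _ _ _⟩, Subtype.ext ?_⟩
    rw [dStr_coe]
    change (F.d 0).mulVec (projVec 𝒜 (F.deg (0 + 1)) d w) = v.1
    rw [mulVec_projVec 𝒜 (F.deg 0) (F.deg (0 + 1)) d (F.d 0) (F.d_mem 0)]
    have : (F.d 0).mulVec w = v.1 := hw
    rw [this, projVec_of_mem 𝒜 v.2]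
  · rintro ⟨w, rfl⟩
    apply Subtype.ext
    rw [augStr_coe, dStr_coe]
    have h : (F.d 0).mulVec w.1 ∈ LinearMap.range (Matrix.mulVecLin (F.d 0)) := ⟨w.1, rfl⟩
    rw [← F.exact_zero] at h
    exact h

theorem ker_dStr (i : ℕ) :
    LinearMap.ker (dStr F d i) = LinearMap.range (dStr F d (i + 1)) := by
  ext v
  rw [LinearMap.mem_ker, LinearMap.mem_range]
  constructor
  · intro hv
    have h0 : (F.d i).mulVec v.1 = 0 := by
      rw [← dStr_coe, hv]; rfl
    have h1 : v.1 ∈ LinearMap.ker (Matrix.mulVecLin (F.d i)) := h0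
    rw [F.exact_succ i] at h1
    obtain ⟨w, hw⟩ := h1
    refine ⟨⟨projVec 𝒜 (F.deg (i + 1 + 1)) d w, projVec_mem 𝒜 _ _ _⟩, Subtype.ext ?_⟩
    rw [dStr_coe]
    change (F.d (i + 1)).mulVec (projVec 𝒜 (F.deg (i + 1 + 1)) d w) = v.1
    rw [mulVec_projVec 𝒜 (F.deg (i + 1)) (F.deg (i + 1 + 1)) d (F.d (i + 1)) (F.d_mem (i + 1))]
    have : (F.d (i + 1)).mulVec w = v.1 := hw
    rw [this, projVec_of_mem 𝒜 v.2]
  · rintro ⟨w, rfl⟩
    apply Subtype.ext
    rw [dStr_coe, dStr_coe]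
    have h : (F.d (i + 1)).mulVec w.1 ∈ LinearMap.range (Matrix.mulVecLin (F.d (i + 1))) :=
      ⟨w.1, rfl⟩
    rw [← F.exact_succ i] at h
    exact h

end Strand

theorem alt_sum_aux (v κ : ℕ → ℤ) (μ : ℤ) (h0 : v 0 = κ 0 + μ)
    (hs : ∀ i, v (i + 1) = κ (i + 1) + κ i) (m : ℕ) :
    ∑ i ∈ Finset.range (m + 1), (-1 : ℤ) ^ i * v i = μ + (-1) ^ m * κ m := by
  induction m with
  | zero => simp [h0]; ring
  | succ m ih => rw [Finset.sum_range_succ, ih, hs m]; ring

section Euler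

variable {k R : Type u} [Field k] [CommRing R] [Algebra k R] {𝒜 : ℤ → Submodule k R}
  [GradedAlgebra 𝒜]
variable {M : Type u} [AddCommGroup M] [Module k M] [Module R M] [IsScalarTower k R M]
  {ℳ : ℤ → Submodule k M} [DirectSum.Decomposition ℳ] [SetLike.GradedSMul 𝒜 ℳ]
variable (F : FreeRes 𝒜 ℳ) (d : ℤ)

noncomputable def kap : ℕ → ℤ
  | 0 => (Module.finrank k (LinearMap.ker (augStr F d)) : ℤ)
  | i + 1 => (Module.finrank k (LinearMap.ker (dStr F d i)) : ℤ)

theorem kap_nonneg (i : ℕ) : 0 ≤ kap F d i := by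
  cases i <;> simp [kap]

theorem euler [∀ n, Module.Finite k (𝒜 n)] (m : ℕ) (hF : F.HasLengthLE m) :
    (Module.finrank k (ℳ d) : ℤ) = ∑ i ∈ Finset.range (m + 1), (-1 : ℤ) ^ i *
      ∑ b : Fin (F.rk i), (Module.finrank k (𝒜 (d - F.deg i b)) : ℤ) := by
  have h0 : (Module.finrank k (homVec 𝒜 (F.deg 0) d) : ℤ) =
      kap F d 0 + (Module.finrank k (ℳ d) : ℤ) := by
    have := LinearMap.finrank_range_add_finrank_ker (augStr F d)
    rw [LinearMap.range_eq_top.mpr (augStr_surjective F d), finrank_top] at this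
    simp only [kap]
    rw [← this]; push_cast; ring
  have hs : ∀ i, (Module.finrank k (homVec 𝒜 (F.deg (i + 1)) d) : ℤ) =
      kap F d (i + 1) + kap F d i := by
    intro i
    have := LinearMap.finrank_range_add_finrank_ker (dStr F d i)
    cases i with
    | zero =>
      simp only [kap]
      rw [ker_augStr, ← this]; push_cast; ring
    | succ i =>
      simp only [kap]
      rw [ker_dStr F d i, ← this]; push_cast; ring
  have hm : kap F d m = 0 := by
    have h1 := hs m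
    have h2 : (Module.finrank k (homVec 𝒜 (F.deg (m + 1)) d) : ℤ) = 0 := by
      rw [finrank_homVec]
      have : IsEmpty (Fin (F.rk (m + 1))) := by
        rw [hF (m + 1) (by omega)]; infer_instance
      simp
    have h3 := kap_nonneg F d (m + 1)
    have h4 := kap_nonneg F d m
    omega
  have key := alt_sum_aux (fun i => (Module.finrank k (homVec 𝒜 (F.deg i) d) : ℤ)) (kap F d)
    (Module.finrank k (ℳ d) : ℤ) h0 hs m
  rw [hm, mul_zero, add_zero] at key
  rw [← key]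
  apply Finset.sum_congr rfl
  intro i _
  rw [finrank_homVec]
  push_cast
  rfl

end Euler

end Groth.Agent.Lib.Helper8.GrSyzStrand
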