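import Groth.Agent.Lib.Helper8.GrSyzBasic
import Groth.Agent.Lib.Helper8.GrSyzStrand

set_option autoImplicit false
set_option linter.unusedSectionVars false
universe u

namespace Groth.Agent.Lib.Helper8.GrSyzCompare

open GrSyz DirectSum
open Groth.Agent.Lib.Helper8.GrSyzBasic Groth.Agent.Lib.Helper8.GrSyzStrand

variable {k R : Type u} [Field k] [CommRing R] [Algebra k R] {𝒜 : ℤ → Submodule k R}
  [GradedAlgebra 𝒜]
variable {M : Type u} [AddCommGroup M] [Module k M] [Module R M] [IsScalarTower k R M]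
  {ℳ : ℤ → Submodule k M} [DirectSum.Decomposition ℳ] [SetLike.GradedSMul 𝒜 ℳ]

def IsCycle (F : FreeRes 𝒜 ℳ) : (i : ℕ) → (Fin (F.rk i) → R) → Prop
  | 0, w => Fintype.linearCombination R F.aug w = 0
  | i + 1, w => (F.d i).mulVec w = 0

theorem isCycle_d (F : FreeRes 𝒜 ℳ) (i : ℕ) (v : Fin (F.rk (i + 1)) → R) :
    IsCycle F i ((F.d i).mulVec v) := by
  cases i with
  | zero => exact aug_d F v
  | succ i => exact d_mulVec_d F i v

theorem d_mul_d (F : FreeRes 𝒜 ℳ) (i : ℕ) : F.d i * F.d (i + 1) = 0 := by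
  ext a c
  have := congrFun (d_mulVec_d F i (Pi.single c 1)) a
  rw [Matrix.mulVec_mulVec, Matrix.mulVec_single_one] at this
  exact this

theorem exists_lift (F : FreeRes 𝒜 ℳ) (i : ℕ) (δ : ℤ) (w : Fin (F.rk i) → R)
    (hw : w ∈ homVec 𝒜 (F.deg i) δ) (hc : IsCycle F i w) :
    ∃ v ∈ homVec 𝒜 (F.deg (i + 1)) δ, (F.d i).mulVec v = w := by
  cases i with
  | zero =>
    have h1 : (⟨w, hw⟩ : homVec 𝒜 (F.deg 0) δ) ∈ LinearMap.ker (augStr F δ) := by
      rw [LinearMap.mem_ker]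
      exact Subtype.ext hc
    rw [ker_augStr] at h1
    obtain ⟨v, hv⟩ := h1
    exact ⟨v.1, v.2, congrArg Subtype.val hv⟩
  | succ i =>
    have h1 : (⟨w, hw⟩ : homVec 𝒜 (F.deg (i + 1)) δ) ∈ LinearMap.ker (dStr F δ i) := by
      rw [LinearMap.mem_ker]
      exact Subtype.ext hc
    rw [ker_dStr] at h1
    obtain ⟨v, hv⟩ := h1
    exact ⟨v.1, v.2, congrArg Subtype.val hv⟩

theorem exists_lift_ungraded (F : FreeRes 𝒜 ℳ) (i : ℕ) (w : Fin (F.rk i) → R)
    (hc : IsCycle F i w) : ∃ v, (F.d i).mulVec v = w := by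
  cases i with
  | zero =>
    have h1 : w ∈ LinearMap.ker (Fintype.linearCombination R F.aug) := hc
    rw [F.exact_zero] at h1
    exact h1
  | succ i =>
    have h1 : w ∈ LinearMap.ker (Matrix.mulVecLin (F.d i)) := hc
    rw [F.exact_succ i] at h1
    exact h1

theorem mul_col {a b c : ℕ} (A : Matrix (Fin a) (Fin b) R) (V : Fin c → Fin b → R) :
    A * (Matrix.of fun x y => V y x) = Matrix.of fun x y => A.mulVec (V y) x := by
  ext x y
  simp [Matrix.mul_apply, Matrix.mulVec, dotProduct]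

theorem exists_matrix_lift (F : FreeRes 𝒜 ℳ) (i : ℕ) {n : ℕ} (δ : Fin n → ℤ)
    (W : Matrix (Fin (F.rk i)) (Fin n) R) (hW : ∀ a c, W a c ∈ 𝒜 (δ c - F.deg i a))
    (hc : ∀ c, IsCycle F i (W.col c)) :
    ∃ V : Matrix (Fin (F.rk (i + 1))) (Fin n) R,
      (∀ b c, V b c ∈ 𝒜 (δ c - F.deg (i + 1) b)) ∧ F.d i * V = W := by
  have h : ∀ c, ∃ v ∈ homVec 𝒜 (F.deg (i + 1)) (δ c), (F.d i).mulVec v = W.col c :=
    fun c => exists_lift F i (δ c) (W.col c) ((mem_homVec 𝒜).2 fun a => hW a c) (hc c)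
  choose v hv1 hv2 using h
  refine ⟨Matrix.of fun b c => v c b, fun b c => (mem_homVec 𝒜).1 (hv1 c) b, ?_⟩
  rw [mul_col]
  ext a c
  exact congrFun (hv2 c) a

theorem exists_matrix_lift_ungraded (F : FreeRes 𝒜 ℳ) (i : ℕ) {n : ℕ}
    (W : Matrix (Fin (F.rk i)) (Fin n) R) (hc : ∀ c, IsCycle F i (W.col c)) :
    ∃ V : Matrix (Fin (F.rk (i + 1))) (Fin n) R, F.d i * V = W := by
  have h : ∀ c, ∃ v, (F.d i).mulVec v = W.col c :=
    fun c => exists_lift_ungraded F i (W.col c) (hc c)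
  choose v hv using h
  refine ⟨Matrix.of fun b c => v c b, ?_⟩
  rw [mul_col]
  ext a c
  exact congrFun (hv c) a

section ChainMap

variable (F F' : FreeRes 𝒜 ℳ)

structure CM (i : ℕ) : Type u where
  f : Matrix (Fin (F'.rk i)) (Fin (F.rk i)) R
  homog : ∀ b' b, f b' b ∈ 𝒜 (F.deg i b - F'.deg i b')
  cyc : ∀ x, IsCycle F i x → IsCycle F' i (f.mulVec x)

theorem exists_cm0 : ∃ s : CM F F' 0,
    ∀ x, Fintype.linearCombination R F'.aug (s.f.mulVec x) = Fintype.linearCombination R F.aug x := by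
  have h : ∀ b : Fin (F.rk 0), ∃ v ∈ homVec 𝒜 (F'.deg 0) (F.deg 0 b),
      Fintype.linearCombination R F'.aug v = F.aug b := by
    intro b
    obtain ⟨v, hv⟩ := augStr_surjective F' (F.deg 0 b) ⟨F.aug b, F.aug_mem b⟩
    exact ⟨v.1, v.2, congrArg Subtype.val hv⟩
  choose v hv1 hv2 using h
  have hcompat : ∀ x, Fintype.linearCombination R F'.aug
      ((Matrix.of fun b' b => v b b').mulVec x) = Fintype.linearCombination R F.aug x := by
    intro x
    have e : (Matrix.of fun b' b => v b b').mulVec x = ∑ b, x b • v b := by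
      funext a
      simp [Matrix.mulVec, dotProduct, Finset.sum_apply, mul_comm]
    rw [e, map_sum, Fintype.linearCombination_apply]
    apply Finset.sum_congr rfl
    intro b _
    rw [map_smul, hv2]
  refine ⟨⟨Matrix.of fun b' b => v b b', fun b' b => (mem_homVec 𝒜).1 (hv1 b) b', ?_⟩, hcompat⟩
  intro x hx
  change Fintype.linearCombination R F'.aug _ = 0
  rw [hcompat]
  exact hx

theorem exists_cm_succ (i : ℕ) (s : CM F F' i) :
    ∃ s' : CM F F' (i + 1), F'.d i * s'.f = s.f * F.d i := by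
  have hW : ∀ a c, (s.f * F.d i) a c ∈ 𝒜 (F.deg (i + 1) c - F'.deg i a) := by
    intro a c
    rw [Matrix.mul_apply]
    refine Submodule.sum_mem _ fun b _ => ?_
    have h := SetLike.mul_mem_graded (s.homog a b) (F.d_mem i b c)
    have e : F.deg i b - F'.deg i a + (F.deg (i + 1) c - F.deg i b) =
        F.deg (i + 1) c - F'.deg i a := by ring
    rw [e] at h
    exact h
  have hc : ∀ c, IsCycle F' i ((s.f * F.d i).col c) := by
    intro c
    have e : (s.f * F.d i).col c = s.f.mulVec ((F.d i).mulVec (Pi.single c 1)) := by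
      rw [Matrix.mulVec_mulVec, Matrix.mulVec_single_one]
    rw [e]
    exact s.cyc _ (isCycle_d F i _)
  obtain ⟨V, hV1, hV2⟩ := exists_matrix_lift F' i (F.deg (i + 1)) (s.f * F.d i) hW hc
  refine ⟨⟨V, hV1, ?_⟩, hV2⟩
  intro x hx
  change (F'.d i).mulVec (V.mulVec x) = 0
  rw [Matrix.mulVec_mulVec, hV2, ← Matrix.mulVec_mulVec]
  have hx' : (F.d i).mulVec x = 0 := hx
  rw [hx', Matrix.mulVec_zero]

structure CMNext (i : ℕ) (s : CM F F' i) : Type u where
  s' : CM F F' (i + 1)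
  comm : F'.d i * s'.f = s.f * F.d i

noncomputable def cmNext (i : ℕ) (s : CM F F' i) : CMNext F F' i s :=
  Classical.choice (by
    obtain ⟨s', h⟩ := exists_cm_succ F F' i s
    exact ⟨⟨s', h⟩⟩)

noncomputable def cmSeq (s0 : CM F F' 0) : (i : ℕ) → CM F F' i
  | 0 => s0
  | i + 1 => (cmNext F F' i (cmSeq s0 i)).s'

theorem exists_chainMap : ∃ f : (i : ℕ) → Matrix (Fin (F'.rk i)) (Fin (F.rk i)) R,
    (∀ i b' b, f i b' b ∈ 𝒜 (F.deg i b - F'.deg i b')) ∧
    (∀ x, Fintype.linearCombination R F'.aug ((f 0).mulVec x) =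
      Fintype.linearCombination R F.aug x) ∧
    ∀ i, F'.d i * f (i + 1) = f i * F.d i := by
  obtain ⟨s0, h0⟩ := exists_cm0 F F'
  refine ⟨fun i => (cmSeq F F' s0 i).f, fun i => (cmSeq F F' s0 i).homog, h0, fun i => ?_⟩
  exact (cmNext F F' i (cmSeq F F' s0 i)).comm

end ChainMap

section NullHomotopy

variable (F : FreeRes 𝒜 ℳ)

theorem mul_entries_mem_left {𝔪 : Ideal R} {a b c : ℕ} (A : Matrix (Fin a) (Fin b) R)
    (B : Matrix (Fin b) (Fin c) R) (hA : ∀ x y, A x y ∈ 𝔪) (x : Fin a) (z : Fin c) :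
    (A * B) x z ∈ 𝔪 := by
  rw [Matrix.mul_apply]
  exact Ideal.sum_mem _ fun y _ => Ideal.mul_mem_right _ _ (hA x y)

theorem mul_entries_mem_right {𝔪 : Ideal R} {a b c : ℕ} (A : Matrix (Fin a) (Fin b) R)
    (B : Matrix (Fin b) (Fin c) R) (hB : ∀ x y, B x y ∈ 𝔪) (x : Fin a) (z : Fin c) :
    (A * B) x z ∈ 𝔪 := by
  rw [Matrix.mul_apply]
  exact Ideal.sum_mem _ fun y _ => Ideal.mul_mem_left _ _ (hB y z)

theorem entries_mem_of_lifts_zero {𝔪 : Ideal R} (hF : F.IsMinimal 𝔪)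
    (ψ : (i : ℕ) → Matrix (Fin (F.rk i)) (Fin (F.rk i)) R)
    (h0 : ∀ x, Fintype.linearCombination R F.aug ((ψ 0).mulVec x) = 0)
    (hc : ∀ i, F.d i * ψ (i + 1) = ψ i * F.d i) (i : ℕ) :
    ∀ a b, ψ i a b ∈ 𝔪 := by
  suffices h : ∃ h : Matrix (Fin (F.rk (i + 1))) (Fin (F.rk i)) R,
      (F.d i * h - ψ i) * F.d i = 0 ∧ ∀ a b, ψ i a b ∈ 𝔪 from h.choose_spec.2
  induction i with
  | zero =>
    have hcyc : ∀ c, IsCycle F 0 ((ψ 0).col c) := by
      intro c
      have e : (ψ 0).col c = (ψ 0).mulVec (Pi.single c 1) := by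
        rw [Matrix.mulVec_single_one]
      rw [e]
      exact h0 _
    obtain ⟨h, hh⟩ := exists_matrix_lift_ungraded F 0 (ψ 0) hcyc
    refine ⟨h, by rw [hh, sub_self, Matrix.zero_mul], fun a b => ?_⟩
    rw [← hh]
    exact mul_entries_mem_left _ _ (hF 0) a b
  | succ i ih =>
    obtain ⟨h, hh1, -⟩ := ih
    have hcyc : ∀ c, IsCycle F (i + 1) ((ψ (i + 1) - h * F.d i).col c) := by
      intro c
      have e : (ψ (i + 1) - h * F.d i).col c =
          (ψ (i + 1) - h * F.d i).mulVec (Pi.single c 1) := by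
        rw [Matrix.mulVec_single_one]
      rw [e]
      change (F.d i).mulVec _ = 0
      rw [Matrix.mulVec_mulVec, Matrix.mul_sub, hc i, ← Matrix.mul_assoc]
      have : ψ i * F.d i - F.d i * h * F.d i = -((F.d i * h - ψ i) * F.d i) := by
        rw [Matrix.sub_mul]; abel
      rw [this, hh1, neg_zero, Matrix.zero_mulVec]
    obtain ⟨h', hh'⟩ := exists_matrix_lift_ungraded F (i + 1) (ψ (i + 1) - h * F.d i) hcyc
    have hψ : ψ (i + 1) = F.d (i + 1) * h' + h * F.d i := by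
      rw [hh']; abel
    refine ⟨h', ?_, fun a b => ?_⟩
    · have : F.d (i + 1) * h' - ψ (i + 1) = -(h * F.d i) := by
        rw [hψ]; abel
      rw [this, Matrix.neg_mul, Matrix.mul_assoc, d_mul_d, Matrix.mul_zero, neg_zero]
    · rw [hψ, Matrix.add_apply]
      exact Ideal.add_mem _ (mul_entries_mem_left _ _ (hF (i + 1)) a b)
        (mul_entries_mem_right _ _ (hF i) a b)

end NullHomotopy

section Compare

theorem exists_deg_eq (hneg : ∀ n : ℤ, n < 0 → 𝒜 n = ⊥) {𝔪 : Ideal R} (h1 : (1 : R) ∉ 𝔪)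
    (F F' : FreeRes 𝒜 ℳ) (hF : F.IsMinimal 𝔪) (i : ℕ) (b : Fin (F.rk i)) :
    ∃ b' : Fin (F'.rk i), F'.deg i b' = F.deg i b := by
  obtain ⟨f, hf1, hf2, hf3⟩ := exists_chainMap F F'
  obtain ⟨g, hg1, hg2, hg3⟩ := exists_chainMap F' F
  have hψ := entries_mem_of_lifts_zero F hF (fun i => g i * f i - 1)
    (by
      intro x
      rw [Matrix.sub_mulVec, Matrix.one_mulVec, map_sub, ← Matrix.mulVec_mulVec, hg2, hf2,
        sub_self])
    (by
      intro i
      rw [Matrix.mul_sub, Matrix.sub_mul, Matrix.mul_one, Matrix.one_mul, ← Matrix.mul_assoc,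
        hg3 i, Matrix.mul_assoc, hf3 i, Matrix.mul_assoc])
    i b b
  by_contra hne
  rw [not_exists] at hne
  apply h1
  have hzero : (g i * f i) b b = 0 := by
    rw [Matrix.mul_apply]
    apply Finset.sum_eq_zero
    intro b' _
    rcases lt_or_gt_of_ne (hne b') with h | h
    · have : g i b b' = 0 := by
        have hm := hg1 i b b'
        rw [hneg _ (by omega)] at hm
        exact hm
      rw [this, zero_mul]
    · have : f i b' b = 0 := by
        have hm := hf1 i b' b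
        rw [hneg _ (by omega)] at hm
        exact hm
      rw [this, mul_zero]
  rw [Matrix.sub_apply, hzero, Matrix.one_apply_eq, zero_sub] at hψ
  simpa using 𝔪.neg_mem hψ

end Compare

end Groth.Agent.Lib.Helper8.GrSyzCompare
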