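import Groth.Agent.Lib.Helper8.GrSyzStrand
import Mathlib.Algebra.Order.Antidiag.FinsuppEquiv

set_option autoImplicit false
set_option linter.unusedSectionVars false
universe u v

namespace Groth.Agent.Lib.Helper8.GrSyzHilb

open GrSyz MvPolynomial

variable (k : Type u) [Field k]

theorem weight_one_eq_degree {σ : Type v} (m : σ →₀ ℕ) :
    Finsupp.weight (fun _ : σ => (1 : ℤ)) m = (m.degree : ℤ) := by
  rw [Finsupp.weight_apply, Finsupp.sum, Finsupp.degree_apply]
  push_cast
  apply Finset.sum_congr rfl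
  intro i _
  simp

theorem finrank_stdGr_natCast (r t : ℕ) :
    Module.finrank k (stdGr k (Fin (r + 1)) (t : ℤ)) = Nat.choose (r + t) r := by
  classical
  unfold stdGr
  rw [MvPolynomial.weightedHomogeneousSubmodule_eq_finsupp_supported]
  have hset : {d : Fin (r + 1) →₀ ℕ | Finsupp.weight (fun _ : Fin (r + 1) => (1 : ℤ)) d = (t : ℤ)} =
      ↑((Finset.univ : Finset (Fin (r + 1))).finsuppAntidiag t) := by
    ext d
    simp only [Set.mem_ofPred_eq, weight_one_eq_degree, Nat.cast_inj]
    simp [Finset.mem_finsuppAntidiag, Finsupp.degree_eq_sum]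
  rw [LinearEquiv.finrank_eq (AddMonoidAlgebra.supportedEquivFinsupp _),
    LinearEquiv.finrank_eq (Finsupp.domLCongr (Equiv.setCongr hset)),
    Module.finrank_finsupp_self, ← Nat.card_eq_fintype_card, Nat.card_coe_set_eq,
    Set.ncard_coe_finset, Finset.card_finsuppAntidiag_nat_eq_choose]
  simp only [Finset.card_univ, Fintype.card_fin]
  have : r + 1 + t - 1 = t + r := by omega
  rw [this, Nat.choose_symm_add, add_comm]

theorem stdGr_neg_eq_bot {σ : Type v} {n : ℤ} (hn : n < 0) : stdGr k σ n = ⊥ := by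
  rw [eq_bot_iff]
  intro p hp
  rw [Submodule.mem_bot]
  rw [mem_stdGr_iff] at hp
  ext d
  rw [coeff_zero]
  apply hp.coeff_eq_zero
  rw [weight_one_eq_degree]
  omega

theorem finrank_stdGr (r : ℕ) (n : ℤ) :
    Module.finrank k (stdGr k (Fin (r + 1)) n) =
      if 0 ≤ n then Nat.choose (r + n.toNat) r else 0 := by
  split_ifs with h
  · obtain ⟨t, rfl⟩ := Int.eq_ofNat_of_zero_le h
    rw [finrank_stdGr_natCast, Int.toNat_natCast]
  · rw [stdGr_neg_eq_bot k (not_le.mp h)]
    exact finrank_bot k _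

instance finite_stdGr (r : ℕ) (n : ℤ) : Module.Finite k (stdGr k (Fin (r + 1)) n) := by
  classical
  by_cases h : 0 ≤ n
  · obtain ⟨t, rfl⟩ := Int.eq_ofNat_of_zero_le h
    unfold stdGr
    rw [MvPolynomial.weightedHomogeneousSubmodule_eq_finsupp_supported]
    have hset : {d : Fin (r + 1) →₀ ℕ |
        Finsupp.weight (fun _ : Fin (r + 1) => (1 : ℤ)) d = (t : ℤ)} =
        ↑((Finset.univ : Finset (Fin (r + 1))).finsuppAntidiag t) := by
      ext d
      simp only [Set.mem_ofPred_eq, weight_one_eq_degree, Nat.cast_inj]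
      simp [Finset.mem_finsuppAntidiag, Finsupp.degree_eq_sum]
    rw [hset]
    exact Module.Finite.equiv (AddMonoidAlgebra.supportedEquivFinsupp _).symm
  · rw [stdGr_neg_eq_bot k (not_le.mp h)]
    infer_instance

end Groth.Agent.Lib.Helper8.GrSyzHilb
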