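import Groth.Agent.Lib.Helper8.GrSyzBasic
import Mathlib.Algebra.Category.ModuleCat.Abelian
import Mathlib.Algebra.Category.ModuleCat.Projective
import Mathlib.Algebra.Homology.ShortComplex.ModuleCat
import Mathlib.CategoryTheory.Abelian.Projective.Dimension
import Mathlib.RingTheory.Finiteness.Nakayama

set_option autoImplicit false
set_option linter.unusedSectionVars false
universe u

namespace Groth.Agent.Lib.Helper8.GrSyzPD

open GrSyz CategoryTheory

section General

variable {R : Type u} [CommRing R]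

theorem shift_pd {P N : Type u} [AddCommGroup P] [Module R P] [AddCommGroup N] [Module R N]
    [Module.Projective R P] (φ : P →ₗ[R] N) (hφ : Function.Surjective φ) (j : ℕ) :
    HasProjectiveDimensionLT (ModuleCat.of R N) (j + 2) ↔
      HasProjectiveDimensionLT (ModuleCat.of R (LinearMap.ker φ)) (j + 1) := by
  have hP : Projective (ModuleCat.of R P) := (IsProjective.iff_projective P).mp inferInstance
  exact (LinearMap.shortExact_shortComplexKer hφ).hasProjectiveDimensionLT_X₃_iff j hP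

end General

section Syz

variable {R : Type u} [CommRing R] {σ' : Type u} [SetLike σ' R] {𝒜 : ℤ → σ'}
variable {M : Type u} [AddCommGroup M] [Module R M] {τ : Type u} [SetLike τ M]
  [AddSubgroupClass τ M] {ℳ : ℤ → τ} [DirectSum.Decomposition ℳ] [SetLike.GradedSMul 𝒜 ℳ]
variable (F : FreeRes 𝒜 ℳ)

def IsSyz (n : ℕ) (N : Type u) [AddCommGroup N] [Module R N] : Prop :=
  ∃ φ : (Fin (F.rk n) → R) →ₗ[R] N, Function.Surjective φ ∧
    LinearMap.ker φ = LinearMap.range (F.dLin n)

theorem exists_syz (n : ℕ) : ∃ N : ModuleCat.{u} R, IsSyz F n N ∧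
    ∀ j, HasProjectiveDimensionLT (ModuleCat.of R M) (n + j + 1) ↔
      HasProjectiveDimensionLT N (j + 1) := by
  induction n with
  | zero =>
    refine ⟨ModuleCat.of R M, ⟨F.augLin, F.aug_surjective, F.exact_zero⟩, fun j => ?_⟩
    rw [zero_add]
  | succ n ih =>
    obtain ⟨N, ⟨φ, hφ, hker⟩, hpd⟩ := ih
    have hmem : ∀ v, F.dLin n v ∈ LinearMap.ker φ := fun v => by
      rw [hker]; exact LinearMap.mem_range_self _ v
    refine ⟨ModuleCat.of R (LinearMap.ker φ),
      ⟨(F.dLin n).codRestrict (LinearMap.ker φ) hmem, ?_, ?_⟩, fun j => ?_⟩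
    · rintro ⟨x, hx⟩
      have hx' := hx
      rw [hker] at hx'
      obtain ⟨w, hw⟩ := hx'
      exact ⟨w, Subtype.ext hw⟩
    · rw [LinearMap.ker_codRestrict]
      exact F.exact_succ n
    · have h1 := hpd (j + 1)
      have h2 := shift_pd φ hφ j
      have e : n + 1 + j + 1 = n + (j + 1) + 1 := by omega
      rw [e, h1]
      exact h2

end Syz

section Proj

variable {R : Type u} [CommRing R]

theorem mem_smul_top_of_coords {𝔪 : Ideal R} {a : ℕ} {x : Fin a → R} (hx : ∀ i, x i ∈ 𝔪) :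
    x ∈ 𝔪 • (⊤ : Submodule R (Fin a → R)) := by
  rw [pi_eq_sum_univ x]
  refine Submodule.sum_mem _ fun i _ => ?_
  exact Submodule.smul_mem_smul (hx i) Submodule.mem_top

theorem range_eq_bot_of_projective [IsDomain R] {𝔪 : Ideal R} (h𝔪 : 𝔪 ≠ ⊤) {a b : ℕ}
    (D : Matrix (Fin a) (Fin b) R) (hD : ∀ i j, D i j ∈ 𝔪)
    {N : Type u} [AddCommGroup N] [Module R N] [Module.Projective R N]
    (φ : (Fin a → R) →ₗ[R] N) (hφ : Function.Surjective φ)
    (hker : LinearMap.ker φ = LinearMap.range (Matrix.mulVecLin D)) :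
    LinearMap.range (Matrix.mulVecLin D) = ⊥ := by
  obtain ⟨s, hs⟩ := Module.projective_lifting_property φ LinearMap.id hφ
  set π : (Fin a → R) →ₗ[R] (Fin a → R) := LinearMap.id - s ∘ₗ φ with hπ
  have hπK : ∀ x, π x ∈ LinearMap.ker φ := by
    intro x
    rw [LinearMap.mem_ker, hπ, LinearMap.sub_apply, map_sub, LinearMap.id_apply,
      LinearMap.comp_apply]
    have := LinearMap.congr_fun hs (φ x)
    rw [LinearMap.comp_apply, LinearMap.id_apply] at this
    rw [this, sub_self]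
  have hπid : ∀ x ∈ LinearMap.ker φ, π x = x := by
    intro x hx
    rw [LinearMap.mem_ker] at hx
    rw [hπ, LinearMap.sub_apply, LinearMap.id_apply, LinearMap.comp_apply, hx, map_zero, sub_zero]
  set K := LinearMap.range (Matrix.mulVecLin D) with hK
  have hle : K ≤ 𝔪 • K := by
    intro x hx
    have hx1 : x ∈ 𝔪 • (⊤ : Submodule R (Fin a → R)) := by
      obtain ⟨w, rfl⟩ := hx
      apply mem_smul_top_of_coords
      intro i
      rw [Matrix.mulVecLin_apply, Matrix.mulVec, dotProduct]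
      exact Ideal.sum_mem _ fun j _ => Ideal.mul_mem_right _ _ (hD i j)
    have hx2 : π x = x := hπid x (hker ▸ hx)
    rw [← hx2]
    have : π x ∈ Submodule.map π (𝔪 • (⊤ : Submodule R (Fin a → R))) :=
      Submodule.mem_map_of_mem hx1
    rw [Submodule.map_smul''] at this
    refine Submodule.smul_mono le_rfl ?_ this
    rintro _ ⟨y, -, rfl⟩
    rw [← hker]
    exact hπK y
  have hfg : K.FG := by
    rw [hK, LinearMap.range_eq_map]
    exact Submodule.FG.map _ Module.Finite.fg_top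
  obtain ⟨r, hr1, hr2⟩ := Submodule.exists_sub_one_mem_and_smul_eq_zero_of_fg_of_le_smul 𝔪 K hfg hle
  have hr0 : r ≠ 0 := by
    rintro rfl
    apply h𝔪
    rw [Ideal.eq_top_iff_one]
    have : (0 : R) - 1 ∈ 𝔪 := hr1
    rw [zero_sub] at this
    simpa using 𝔪.neg_mem this
  rw [eq_bot_iff]
  intro x hx
  rw [Submodule.mem_bot]
  funext i
  have := congrFun (hr2 x hx) i
  rw [Pi.smul_apply, smul_eq_mul, Pi.zero_apply] at this
  rcases mul_eq_zero.mp this with h | h
  · exact absurd h hr0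
  · exact h

end Proj

section Min

variable {R : Type u} [CommRing R] {σ' : Type u} [SetLike σ' R] {𝒜 : ℤ → σ'}
variable {M : Type u} [AddCommGroup M] [Module R M] {τ : Type u} [SetLike τ M]
  [AddSubgroupClass τ M] {ℳ : ℤ → τ} [DirectSum.Decomposition ℳ] [SetLike.GradedSMul 𝒜 ℳ]
variable (F : FreeRes 𝒜 ℳ)

theorem rk_succ_eq_zero {𝔪 : Ideal R} (hF : F.IsMinimal 𝔪) (h𝔪 : 𝔪 ≠ ⊤) (n : ℕ)
    (h : LinearMap.range (F.dLin n) = ⊥) : F.rk (n + 1) = 0 := by
  by_contra hne
  let b : Fin (F.rk (n + 1)) := ⟨0, Nat.pos_of_ne_zero hne⟩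
  have h1 : (F.d n).mulVec (Pi.single b 1) = 0 := by
    have : F.dLin n (Pi.single b 1) ∈ LinearMap.range (F.dLin n) := LinearMap.mem_range_self _ _
    rw [h, Submodule.mem_bot] at this
    exact this
  have h2 := Groth.Agent.Lib.Helper8.GrSyzBasic.coord_mem_of_mem_ker_d hF n h1 b
  rw [Pi.single_eq_same] at h2
  exact h𝔪 ((Ideal.eq_top_iff_one _).mpr h2)

theorem range_eq_bot_of_rk_eq_zero (n : ℕ) (h : F.rk n = 0) :
    LinearMap.range (F.dLin n) = ⊥ := by
  have : IsEmpty (Fin (F.rk n)) := by rw [h]; infer_instance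
  rw [eq_bot_iff]
  intro x _
  rw [Submodule.mem_bot]
  exact Subsingleton.elim _ _

theorem range_eq_bot_of_rk_succ_eq_zero (n : ℕ) (h : F.rk (n + 1) = 0) :
    LinearMap.range (F.dLin n) = ⊥ := by
  have : IsEmpty (Fin (F.rk (n + 1))) := by rw [h]; infer_instance
  rw [eq_bot_iff]
  rintro x ⟨w, rfl⟩
  rw [Submodule.mem_bot]
  have : w = 0 := Subsingleton.elim _ _
  rw [this, map_zero]

theorem hasLengthLE_of_rk_succ_eq_zero {𝔪 : Ideal R} (hF : F.IsMinimal 𝔪) (h𝔪 : 𝔪 ≠ ⊤) (n : ℕ)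
    (h : F.rk (n + 1) = 0) : F.HasLengthLE n := by
  intro i hi
  obtain ⟨j, rfl⟩ : ∃ j, i = n + 1 + j := ⟨i - (n + 1), by omega⟩
  clear hi
  induction j with
  | zero => exact h
  | succ j ih =>
    exact rk_succ_eq_zero F hF h𝔪 (n + 1 + j) (range_eq_bot_of_rk_eq_zero F _ ih)

theorem projective_of_rk_succ_eq_zero (n : ℕ) (h : F.rk (n + 1) = 0)
    {N : Type u} [AddCommGroup N] [Module R N] (hN : IsSyz F n N) : Module.Projective R N := by
  obtain ⟨φ, hφ, hker⟩ := hN
  rw [range_eq_bot_of_rk_succ_eq_zero F n h] at hker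
  have hinj : Function.Injective φ := LinearMap.ker_eq_bot.mp hker
  exact Module.Projective.of_equiv (LinearEquiv.ofBijective φ ⟨hinj, hφ⟩)

end Min

end Groth.Agent.Lib.Helper8.GrSyzPD
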