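import Groth.Agent.Lib.Helper8.GrSyzBasic
import Groth.Agent.Lib.Helper8.GrSyzPD
import Groth.Agent.Lib.Helper8.GrSyzCompare
import Mathlib.LinearAlgebra.Matrix.ToLinearEquiv
import Mathlib.RingTheory.MvPolynomial.Homogeneous
import Groth.Agent.Lib.Helper8.GrSyzHilb
import Groth.Prelude.Def_GrLC

set_option autoImplicit false
set_option linter.unusedSectionVars false
universe u

namespace Groth.Agent.Lib.Helper8.GrSyzHB

open GrSyz DirectSum
open Groth.Agent.Lib.Helper8.GrSyzBasic

variable {R : Type u} [CommRing R] [IsDomain R] {σ' : Type u} [SetLike σ' R] {𝒜 : ℤ → σ'}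
variable {M : Type u} [AddCommGroup M] [Module R M] {τ : Type u} [SetLike τ M]
  [AddSubgroupClass τ M] {ℳ : ℤ → τ} [DirectSum.Decomposition ℳ] [SetLike.GradedSMul 𝒜 ℳ]

theorem zero_pattern_false (F : FreeRes 𝒜 ℳ) {𝔪 : Ideal R} (h𝔪 : 𝔪 ≠ ⊤) (hF : F.IsMinimal 𝔪)
    (h3 : F.rk 3 = 0) (h12 : F.rk 1 = F.rk 2 + 1) (i : ℕ) (hi : i < F.rk 2)
    (hz : ∀ (p : Fin (F.rk 1)) (q : Fin (F.rk 2)), p.val ≤ i → i ≤ q.val → F.d 1 p q = 0) :
    False := by
  classical
  let e : {q : Fin (F.rk 2) // i ≤ q.val} ≃ {p : Fin (F.rk 1) // i < p.val} :=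
    { toFun := fun q => ⟨⟨q.1.val + 1, by have := q.1.2; omega⟩, by
        have := q.2
        change i < q.1.val + 1
        omega⟩
      invFun := fun p => ⟨⟨p.1.val - 1, by have := p.1.2; have := p.2; omega⟩, by
        have := p.2
        change i ≤ p.1.val - 1
        omega⟩
      left_inv := fun q => Subtype.ext (Fin.ext (by simp))
      right_inv := fun p => Subtype.ext (Fin.ext (by
        have := p.2
        change p.1.val - 1 + 1 = p.1.val
        omega)) }
  let N' : Matrix {p : Fin (F.rk 1) // i < p.val} {p : Fin (F.rk 1) // i < p.val} R :=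
    fun p p' => F.d 1 p.1 (e.symm p').1
  have hker : ∀ v : Fin (F.rk 2) → R, (F.d 1).mulVec v = 0 → v = 0 := by
    intro v hv
    have h1 : v ∈ LinearMap.ker (Matrix.mulVecLin (F.d 1)) := hv
    rw [F.exact_succ 1,
      Groth.Agent.Lib.Helper8.GrSyzPD.range_eq_bot_of_rk_succ_eq_zero F 2 h3] at h1
    exact h1
  have hsumQ : ∀ (g : Fin (F.rk 2) → R), (∀ q, ¬ i ≤ q.val → g q = 0) →
      ∑ q, g q = ∑ p' : {p : Fin (F.rk 1) // i < p.val}, g (e.symm p').1 := by
    intro g hg
    rw [← Equiv.sum_comp e (fun p' => g (e.symm p').1)]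
    simp only [Equiv.symm_apply_apply]
    rw [← Finset.sum_subtype (Finset.univ.filter fun q : Fin (F.rk 2) => i ≤ q.val) (by simp) g,
      Finset.sum_filter]
    apply Finset.sum_congr rfl
    intro q _
    split_ifs with h
    · rfl
    · exact hg q h
  have hdet : N'.det ≠ 0 := by
    intro hdet
    obtain ⟨v, hv0, hv⟩ := Matrix.exists_mulVec_eq_zero_iff.mpr hdet
    let v' : Fin (F.rk 2) → R := fun q => if h : i ≤ q.val then v (e ⟨q, h⟩) else 0
    have hv'0 : ∀ q : Fin (F.rk 2), ¬ i ≤ q.val → v' q = 0 := fun q h => by simp [v', h]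
    have hv'1 : ∀ p' : {p : Fin (F.rk 1) // i < p.val}, v' (e.symm p').1 = v p' := by
      intro p'
      have h : i ≤ (e.symm p').1.val := (e.symm p').2
      simp only [v', h, dite_true]
      congr 1
      exact e.apply_symm_apply p'
    have hzero : (F.d 1).mulVec v' = 0 := by
      funext p
      rw [Matrix.mulVec, dotProduct, Pi.zero_apply]
      by_cases hp : p.val ≤ i
      · apply Finset.sum_eq_zero
        intro q _
        by_cases hq : i ≤ q.val
        · rw [hz p q hp hq, zero_mul]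
        · rw [hv'0 q hq, mul_zero]
      · rw [hsumQ (fun q => F.d 1 p q * v' q) (fun q hq => by rw [hv'0 q hq, mul_zero])]
        have := congrFun hv ⟨p, not_le.mp hp⟩
        rw [Matrix.mulVec, dotProduct, Pi.zero_apply] at this
        rw [← this]
        apply Finset.sum_congr rfl
        intro p' _
        rw [hv'1]
    have hv' := hker v' hzero
    apply hv0
    funext p'
    rw [← hv'1, hv']
    rfl
  have hd0 : ∀ (a : Fin (F.rk 0)) (p : Fin (F.rk 1)), i < p.val → F.d 0 a p = 0 := by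
    intro a p hp
    by_contra hne
    apply hdet
    rw [← Matrix.exists_vecMul_eq_zero_iff]
    refine ⟨fun p => F.d 0 a p.1, fun h => hne (congrFun h ⟨p, hp⟩), ?_⟩
    funext p'
    rw [Matrix.vecMul, dotProduct, Pi.zero_apply]
    have hq : i ≤ (e.symm p').1.val := (e.symm p').2
    have h1 := congrFun (Groth.Agent.Lib.Helper8.GrSyzBasic.d_mulVec_d F 0
      (Pi.single (e.symm p').1 1)) a
    rw [Matrix.mulVec_single_one, Matrix.mulVec, dotProduct, Pi.zero_apply] at h1
    rw [← h1]
    have h2 : ∑ p : Fin (F.rk 1), F.d 0 a p * (F.d (0 + 1)).col (e.symm p').1 p =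
        ∑ p ∈ Finset.univ.filter (fun p : Fin (F.rk 1) => i < p.val),
          F.d 0 a p * (F.d (0 + 1)).col (e.symm p').1 p := by
      rw [Finset.sum_filter]
      apply Finset.sum_congr rfl
      intro p _
      split_ifs with h
      · rfl
      · have : (F.d (0 + 1)).col (e.symm p').1 p = 0 := hz p _ (not_lt.mp h) hq
        rw [this, mul_zero]
    rw [h2, Finset.sum_subtype (p := fun p : Fin (F.rk 1) => i < p.val)
      (Finset.univ.filter fun p : Fin (F.rk 1) => i < p.val) (by simp)]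
    rfl
  have hp0 : i + 1 < F.rk 1 := by omega
  have hcol : (F.d 0).mulVec (Pi.single (⟨i + 1, hp0⟩ : Fin (F.rk 1)) 1) = 0 := by
    rw [Matrix.mulVec_single_one]
    funext a
    exact hd0 a ⟨i + 1, hp0⟩ (Nat.lt_succ_self i)
  have h1 := Groth.Agent.Lib.Helper8.GrSyzBasic.coord_mem_of_mem_ker_d hF 0 hcol ⟨i + 1, hp0⟩
  rw [Pi.single_eq_same] at h1
  exact h𝔪 ((Ideal.eq_top_iff_one _).mpr h1)

section Points

open Groth.Agent.Lib.Helper8.GrSyzStrand Groth.Agent.Lib.Helper8.GrSyzHilb

variable {k : Type u} [Field k] {r : ℕ}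
variable {N : Type u} [AddCommGroup N] [Module k N] [Module (MvPolynomial (Fin (r + 1)) k) N]
  [IsScalarTower k (MvPolynomial (Fin (r + 1)) k) N]
  {𝒩 : ℤ → Submodule k N} [DirectSum.Decomposition 𝒩]
  [SetLike.GradedSMul (stdGr k (Fin (r + 1))) 𝒩]
variable (π : MvPolynomial (Fin (r + 1)) k →ₗ[MvPolynomial (Fin (r + 1)) k] N)
  (hπg : GrLC.IsGrHom (stdGr k (Fin (r + 1))) 𝒩 π)

include hπg in
theorem decompose_pi (s : MvPolynomial (Fin (r + 1)) k) (d : ℤ) :
    (decompose 𝒩 (π s) d : N) =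
      π (decompose (stdGr k (Fin (r + 1))) s d : MvPolynomial (Fin (r + 1)) k) := by
  induction s using DirectSum.Decomposition.inductionOn (stdGr k (Fin (r + 1))) with
  | zero => simp
  | @homogeneous j a =>
    have h1 : π a ∈ 𝒩 j := hπg j a a.2
    by_cases h : j = d
    · subst h
      rw [decompose_of_mem_same 𝒩 h1, decompose_of_mem_same _ a.2]
    · rw [decompose_of_mem_ne 𝒩 h1 h, decompose_of_mem_ne _ a.2 h, map_zero]
  | add x y hx hy =>
    rw [map_add, decompose_add, DirectSum.add_apply, Submodule.coe_add, hx, hy, decompose_add,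
      DirectSum.add_apply, Submodule.coe_add, map_add]

include hπg in
theorem exists_preimage_mem (hπ : Function.Surjective π) (d : ℤ) (x : N) (hx : x ∈ 𝒩 d) :
    ∃ s ∈ stdGr k (Fin (r + 1)) d, π s = x := by
  obtain ⟨s, rfl⟩ := hπ x
  refine ⟨(decompose (stdGr k (Fin (r + 1))) s d : MvPolynomial (Fin (r + 1)) k),
    SetLike.coe_mem _, ?_⟩
  rw [← decompose_pi π hπg, decompose_of_mem_same 𝒩 hx]

include hπg in
theorem eq_zero_of_mem_neg (hπ : Function.Surjective π) (d : ℤ) (hd : d < 0) (x : N)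
    (hx : x ∈ 𝒩 d) : x = 0 := by
  obtain ⟨s, hs, rfl⟩ := exists_preimage_mem π hπg hπ d x hx
  rw [stdGr_neg_eq_bot k hd, Submodule.mem_bot] at hs
  rw [hs, map_zero]

end Points

section Bound

open Groth.Agent.Lib.Helper8.GrSyzStrand Groth.Agent.Lib.Helper8.GrSyzHilb

variable {k : Type u} [Field k] {r : ℕ}

theorem mem_stdGr_natCast_iff (n : ℕ) (s : MvPolynomial (Fin (r + 1)) k) :
    s ∈ stdGr k (Fin (r + 1)) (n : ℤ) ↔ s ∈ MvPolynomial.homogeneousSubmodule (Fin (r + 1)) k n := by
  rw [mem_stdGr_iff, MvPolynomial.mem_homogeneousSubmodule]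
  unfold MvPolynomial.IsHomogeneous MvPolynomial.IsWeightedHomogeneous
  refine forall_congr' fun m => ?_
  refine imp_congr_right fun _ => ?_
  rw [weight_one_eq_degree, Nat.cast_inj, Finsupp.degree_eq_weight_one]
  rfl

variable {N : Type u} [AddCommGroup N] [Module k N] [Module (MvPolynomial (Fin (r + 1)) k) N]
  [IsScalarTower k (MvPolynomial (Fin (r + 1)) k) N]
  {𝒩 : ℤ → Submodule k N} [DirectSum.Decomposition 𝒩]
  [SetLike.GradedSMul (stdGr k (Fin (r + 1))) 𝒩]
variable (π : MvPolynomial (Fin (r + 1)) k →ₗ[MvPolynomial (Fin (r + 1)) k] N)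
  (hπg : GrLC.IsGrHom (stdGr k (Fin (r + 1))) 𝒩 π)

include hπg in
theorem finrank_le_card (hπ : Function.Surjective π) (Z : Finset (Fin (r + 1) → k))
    (I : Ideal (MvPolynomial (Fin (r + 1)) k))
    (hI : ∀ f : MvPolynomial (Fin (r + 1)) k, f ∈ I ↔
      ∀ p ∈ Z, ∀ j : ℕ, MvPolynomial.eval p (MvPolynomial.homogeneousComponent j f) = 0)
    (hker : LinearMap.ker π = I) (d : ℤ) :
    Module.finrank k (𝒩 d) ≤ Z.card := by
  classical
  let φ : stdGr k (Fin (r + 1)) d →ₗ[k] 𝒩 d :=
    (π.restrictScalars k).restrict (fun s hs => hπg d s hs)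
  let ψ : stdGr k (Fin (r + 1)) d →ₗ[k] (Z → k) :=
    LinearMap.pi (fun p : Z => ((MvPolynomial.aeval p.1 :
      MvPolynomial (Fin (r + 1)) k →ₐ[k] k).toLinearMap).comp (stdGr k (Fin (r + 1)) d).subtype)
  have hφsurj : Function.Surjective φ := by
    rintro ⟨x, hx⟩
    obtain ⟨s, hs, rfl⟩ := exists_preimage_mem π hπg hπ d x hx
    exact ⟨⟨s, hs⟩, rfl⟩
  have hkk : LinearMap.ker φ = LinearMap.ker ψ := by
    ext ⟨s, hs⟩
    rw [LinearMap.mem_ker, LinearMap.mem_ker]
    have e1 : φ ⟨s, hs⟩ = 0 ↔ s ∈ I := by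
      rw [← hker, LinearMap.mem_ker]
      constructor
      · intro h
        exact congrArg Subtype.val h
      · intro h
        exact Subtype.ext h
    have e2 : ψ ⟨s, hs⟩ = 0 ↔ ∀ p ∈ Z, MvPolynomial.eval p s = 0 := by
      constructor
      · intro h p hp
        have := congrFun h ⟨p, hp⟩
        exact this
      · intro h
        funext p
        exact h p.1 p.2
    rw [e1, e2, hI]
    by_cases hd : 0 ≤ d
    · obtain ⟨n, rfl⟩ := Int.eq_ofNat_of_zero_le hd
      have hs' : s ∈ MvPolynomial.homogeneousSubmodule (Fin (r + 1)) k n :=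
        (mem_stdGr_natCast_iff n s).1 hs
      simp only [MvPolynomial.homogeneousComponent_of_mem hs']
      constructor
      · intro h p hp
        simpa using h p hp n
      · intro h p hp j
        split_ifs
        · exact h p hp
        · simp
    · have hs0 : s = 0 := by
        rw [stdGr_neg_eq_bot k (not_le.mp hd), Submodule.mem_bot] at hs
        exact hs
      subst hs0
      simp
  have h1 := LinearMap.finrank_range_add_finrank_ker φ
  have h2 := LinearMap.finrank_range_add_finrank_ker ψ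
  rw [LinearMap.range_eq_top.mpr hφsurj, finrank_top, hkk] at h1
  have h3 : Module.finrank k (LinearMap.range ψ) ≤ Module.finrank k (Z → k) :=
    Submodule.finrank_le _
  rw [Module.finrank_fintype_fun_eq_card, Fintype.card_coe] at h3
  omega

end Bound

section Quad

theorem lin_bounded (B C K D0 : ℤ)
    (h : ∀ d : ℤ, D0 ≤ d → 0 ≤ B * d + C ∧ B * d + C ≤ K) : B = 0 := by
  set d : ℤ := |D0| + |C| + |K| + 1 with hd
  have hd0 : D0 ≤ d := by
    have := le_abs_self D0
    have := abs_nonneg C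
    have := abs_nonneg K
    omega
  have hdC : |C| + |K| + 1 ≤ d := by
    have := abs_nonneg D0
    omega
  obtain ⟨h1, h2⟩ := h d hd0
  have hC1 := le_abs_self C
  have hC2 := neg_abs_le C
  have hK1 := le_abs_self K
  have hK0 := abs_nonneg K
  by_contra hB
  rcases lt_or_gt_of_ne hB with hneg | hpos
  · have : B * d ≤ -d := by nlinarith
    omega
  · have : d ≤ B * d := by nlinarith
    omega

theorem quad_bounded (A B C K D0 : ℤ)
    (h : ∀ d : ℤ, D0 ≤ d → 0 ≤ A * d ^ 2 + B * d + C ∧ A * d ^ 2 + B * d + C ≤ K) :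
    A = 0 ∧ B = 0 := by
  have hA : A = 0 := by
    set d : ℤ := |D0| + |B| + |C| + |K| + 1 with hd
    have hd0 : D0 ≤ d := by
      have := le_abs_self D0
      have := abs_nonneg B
      have := abs_nonneg C
      have := abs_nonneg K
      omega
    have hdB : |B| + |C| + |K| + 1 ≤ d := by
      have := abs_nonneg D0
      omega
    obtain ⟨h1, h2⟩ := h d hd0
    have hB1 := le_abs_self B
    have hB2 := neg_abs_le B
    have hB0 := abs_nonneg B
    have hC1 := le_abs_self C
    have hC2 := neg_abs_le C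
    have hC0 := abs_nonneg C
    have hK1 := le_abs_self K
    have hK0 := abs_nonneg K
    have hd1 : 1 ≤ d := by omega
    have hprod : (|C| + |K| + 1) ≤ d * (d - |B|) := by nlinarith
    have hBd1 : -(|B| * d) ≤ B * d := by nlinarith
    have hBd2 : B * d ≤ |B| * d := by nlinarith
    by_contra hA
    rcases lt_or_gt_of_ne hA with hneg | hpos
    · have : A * d ^ 2 ≤ -d ^ 2 := by nlinarith [sq_nonneg d]
      nlinarith
    · have : d ^ 2 ≤ A * d ^ 2 := by nlinarith [sq_nonneg d]
      nlinarith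
  refine ⟨hA, ?_⟩
  subst hA
  exact lin_bounded B C K D0 (fun d hd => by simpa using h d hd)

theorem two_mul_choose (n : ℕ) : 2 * ((Nat.choose (2 + n) 2 : ℕ) : ℤ) = ((n : ℤ) + 2) * ((n : ℤ) + 1) := by
  induction n with
  | zero => simp
  | succ n ih =>
    have e : 2 + (n + 1) = (2 + n) + 1 := by ring
    rw [e, Nat.choose_succ_succ' (2 + n) 1, Nat.choose_one_right]
    push_cast
    linarith

end Quad

end Groth.Agent.Lib.Helper8.GrSyzHB
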