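import Groth.Agent.Lib.Helper8.GrLCFin
import Mathlib.RingTheory.Artinian.Module

set_option autoImplicit false
set_option linter.unusedSectionVars false
universe u

open DirectSum GrLC
open Groth.Agent.Lib.Helper30
open Groth.Agent.Lib.Helper8.GrLCBase Groth.Agent.Lib.Helper8.GrLCLES
open Groth.Agent.Lib.Helper8.GrLCProd

namespace Groth.Agent.Lib.Helper8.GrLCSerre

/-- A class of modules closed under middle terms of exact sequences and containing zero modules. -/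
structure SerreClass (R₀ : Type u) [CommRing R₀] where
  P : ∀ (N : Type u) [AddCommGroup N] [Module R₀ N], Prop
  of_exact : ∀ {A B C : Type u} [AddCommGroup A] [AddCommGroup B] [AddCommGroup C]
    [Module R₀ A] [Module R₀ B] [Module R₀ C] (f : A →ₗ[R₀] B) (g : B →ₗ[R₀] C),
    LinearMap.range f = LinearMap.ker g → P A → P C → P B
  of_subsingleton : ∀ (N : Type u) [AddCommGroup N] [Module R₀ N] [Subsingleton N], P N

namespace SerreClass

variable {R₀ : Type u} [CommRing R₀] (𝒮 : SerreClass R₀)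

theorem of_injective {B C : Type u} [AddCommGroup B] [AddCommGroup C] [Module R₀ B] [Module R₀ C]
    (f : B →ₗ[R₀] C) (hf : Function.Injective f) (hC : 𝒮.P C) : 𝒮.P B := by
  refine 𝒮.of_exact (0 : PUnit.{u + 1} →ₗ[R₀] B) f ?_ (𝒮.of_subsingleton _) hC
  rw [LinearMap.range_zero, LinearMap.ker_eq_bot.mpr hf]

theorem of_surjective {A B : Type u} [AddCommGroup A] [AddCommGroup B] [Module R₀ A] [Module R₀ B]
    (f : A →ₗ[R₀] B) (hf : Function.Surjective f) (hA : 𝒮.P A) : 𝒮.P B := by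
  refine 𝒮.of_exact f (0 : B →ₗ[R₀] PUnit.{u + 1}) ?_ hA (𝒮.of_subsingleton _)
  rw [LinearMap.range_eq_top.mpr hf, LinearMap.ker_zero]

/-- Noetherian modules. -/
def noeth (R₀ : Type u) [CommRing R₀] : SerreClass R₀ where
  P N _ _ := IsNoetherian R₀ N
  of_exact f g h hA hC := by
    have := hA
    have := hC
    exact isNoetherian_of_range_eq_ker f g h
  of_subsingleton N _ _ _ := isNoetherian_of_finite R₀ N

/-- Artinian modules. -/
def art (R₀ : Type u) [CommRing R₀] : SerreClass R₀ where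
  P N _ _ := IsArtinian R₀ N
  of_exact f g h hA hC := by
    have := hA
    have := hC
    exact isArtinian_of_range_eq_ker f g h
  of_subsingleton N _ _ _ := isArtinian_of_finite

end SerreClass

section Abstract

variable {A : Type*} [CommRing A]

theorem exists_lift {Z H H' : Type*} [AddCommGroup Z] [AddCommGroup H] [AddCommGroup H']
    [Module A Z] [Module A H] [Module A H'] (p : Z →ₗ[A] H) (hp : Function.Surjective p)
    (ψ : Z →ₗ[A] H') (h : ∀ z, p z = 0 → ψ z = 0) : ∃ φ : H →ₗ[A] H', ∀ z, φ (p z) = ψ z := by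
  let e := p.quotKerEquivOfSurjective hp
  have hle : LinearMap.ker p ≤ LinearMap.ker ψ := fun z hz =>
    LinearMap.mem_ker.mpr (h z (LinearMap.mem_ker.mp hz))
  refine ⟨((LinearMap.ker p).liftQ ψ hle).comp e.symm.toLinearMap, fun z => ?_⟩
  have h1 : e.symm (p z) = Submodule.Quotient.mk z := by
    rw [LinearEquiv.symm_apply_eq]
    rfl
  rw [LinearMap.comp_apply, LinearEquiv.coe_coe, h1, Submodule.liftQ_apply]

theorem exists_exact {ZA ZB ZC HA HB HC : Type*} [AddCommGroup ZA] [AddCommGroup ZB]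
    [AddCommGroup ZC] [AddCommGroup HA] [AddCommGroup HB] [AddCommGroup HC]
    [Module A ZA] [Module A ZB] [Module A ZC] [Module A HA] [Module A HB] [Module A HC]
    (pA : ZA →ₗ[A] HA) (pB : ZB →ₗ[A] HB) (pC : ZC →ₗ[A] HC)
    (hA : Function.Surjective pA) (hB : Function.Surjective pB)
    (f : ZA →ₗ[A] ZB) (g : ZB →ₗ[A] ZC)
    (hf : ∀ z, pA z = 0 → pB (f z) = 0) (hg : ∀ z, pB z = 0 → pC (g z) = 0)
    (hgf : ∀ z, pC (g (f z)) = 0) (hex : ∀ z, pC (g z) = 0 → ∃ w, pB z = pB (f w)) :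
    ∃ (f' : HA →ₗ[A] HB) (g' : HB →ₗ[A] HC), (∀ z, f' (pA z) = pB (f z)) ∧
      (∀ z, g' (pB z) = pC (g z)) ∧ LinearMap.range f' = LinearMap.ker g' := by
  obtain ⟨f', hf'⟩ := exists_lift pA hA (pB.comp f) hf
  obtain ⟨g', hg'⟩ := exists_lift pB hB (pC.comp g) hg
  refine ⟨f', g', hf', hg', ?_⟩
  apply le_antisymm
  · rintro _ ⟨y, rfl⟩
    obtain ⟨z, rfl⟩ := hA y
    rw [LinearMap.mem_ker, hf', LinearMap.comp_apply, hg', LinearMap.comp_apply]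
    exact hgf z
  · intro b hb
    obtain ⟨z, rfl⟩ := hB b
    rw [LinearMap.mem_ker, hg', LinearMap.comp_apply] at hb
    obtain ⟨w, hw⟩ := hex z hb
    exact ⟨pA w, by rw [hf', LinearMap.comp_apply, hw]⟩

end Abstract

section Serre

variable {R₀ : Type u} [CommRing R₀] (𝒮 : SerreClass R₀)

theorem serre_mid {ZA ZB ZC HA HB HC : Type u} [AddCommGroup ZA] [AddCommGroup ZB]
    [AddCommGroup ZC] [AddCommGroup HA] [AddCommGroup HB] [AddCommGroup HC]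
    [Module R₀ ZA] [Module R₀ ZB] [Module R₀ ZC] [Module R₀ HA] [Module R₀ HB] [Module R₀ HC]
    (pA : ZA →ₗ[R₀] HA) (pB : ZB →ₗ[R₀] HB) (pC : ZC →ₗ[R₀] HC)
    (hA : Function.Surjective pA) (hB : Function.Surjective pB)
    (f : ZA →ₗ[R₀] ZB) (g : ZB →ₗ[R₀] ZC)
    (hf : ∀ z, pA z = 0 → pB (f z) = 0) (hg : ∀ z, pB z = 0 → pC (g z) = 0)
    (hgf : ∀ z, pC (g (f z)) = 0) (hex : ∀ z, pC (g z) = 0 → ∃ w, pB z = pB (f w))
    (hPA : 𝒮.P HA) (hPC : 𝒮.P HC) : 𝒮.P HB := by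
  obtain ⟨f', g', _, _, hfg⟩ := exists_exact pA pB pC hA hB f g hf hg hgf hex
  exact 𝒮.of_exact f' g' hfg hPA hPC

theorem serre_inj {ZA ZB HA HB : Type u} [AddCommGroup ZA] [AddCommGroup ZB]
    [AddCommGroup HA] [AddCommGroup HB]
    [Module R₀ ZA] [Module R₀ ZB] [Module R₀ HA] [Module R₀ HB]
    (pA : ZA →ₗ[R₀] HA) (pB : ZB →ₗ[R₀] HB) (hA : Function.Surjective pA)
    (f : ZA →ₗ[R₀] ZB) (hf : ∀ z, pA z = 0 → pB (f z) = 0) (hinj : ∀ z, pB (f z) = 0 → pA z = 0)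
    (hPB : 𝒮.P HB) : 𝒮.P HA := by
  obtain ⟨f', hf'⟩ := exists_lift pA hA (pB.comp f) hf
  refine 𝒮.of_injective f' ?_ hPB
  rw [← LinearMap.ker_eq_bot, eq_bot_iff]
  intro y hy
  obtain ⟨z, rfl⟩ := hA y
  rw [LinearMap.mem_ker, hf', LinearMap.comp_apply] at hy
  rw [Submodule.mem_bot]
  exact hinj z hy

end Serre

section Zc

variable {ι : Type} [AddCommGroup ι] [DecidableEq ι]
variable {R : Type u} [CommRing R] {𝒜 : ι → AddSubgroup R} [GradedRing 𝒜]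
variable {M : Type u} [AddCommGroup M] [Module R M] {ℳ : ι → AddSubgroup M}
  [DirectSum.Decomposition ℳ] [SetLike.GradedSMul 𝒜 ℳ]
variable (E : StarInjRes 𝒜 ℳ) (a : HomogeneousIdeal 𝒜)

/-- The homogeneous cocycles of degree `g` of the complex `Γ_a(E)`, as a module over the degree
zero subring. -/
def Zc (n : ℕ) (g : ι) : Submodule (deg0 𝒜) (E.X n).carrier where
  carrier := {z | z ∈ gam a.toIdeal (E.X n).carrier ∧ E.d n z = 0 ∧ z ∈ (E.X n).gr g}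
  zero_mem' := ⟨Submodule.zero_mem _, map_zero _, zero_mem _⟩
  add_mem' := by
    rintro z w ⟨h1, h2, h3⟩ ⟨h1', h2', h3'⟩
    exact ⟨Submodule.add_mem _ h1 h1', by rw [map_add, h2, h2', add_zero], add_mem h3 h3'⟩
  smul_mem' := by
    rintro r z ⟨h1, h2, h3⟩
    refine ⟨(gam a.toIdeal (E.X n).carrier).smul_mem (r : R) h1, ?_, ?_⟩
    · change E.d n ((r : R) • z) = 0
      rw [map_smul, h2, smul_zero]
    · have h := SetLike.GradedSMul.smul_mem (A := 𝒜) (B := (E.X n).gr)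
        (show (r : R) ∈ 𝒜 0 from r.2) h3
      rw [vadd_eq_add, zero_add] at h
      exact h

theorem mem_Zc (n : ℕ) (g : ι) (z : (E.X n).carrier) :
    z ∈ Zc E a n g ↔ z ∈ gam a.toIdeal (E.X n).carrier ∧ E.d n z = 0 ∧ z ∈ (E.X n).gr g :=
  Iff.rfl

theorem Zc_cocyc {n : ℕ} {g : ι} (z : ↥(Zc E a n g)) : (z : (E.X n).carrier) ∈ E.cocyc a n :=
  ⟨z.2.1, z.2.2.1⟩

/-- The class map from homogeneous cocycles to the homogeneous piece of cohomology. -/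
def pH (n : ℕ) (g : ι) : ↥(Zc E a n g) →ₗ[deg0 𝒜] ↥(E.Hcomp a n g) where
  toFun z := ⟨E.toH a n ⟨z.1, Zc_cocyc E a z⟩, ⟨⟨z.1, Zc_cocyc E a z⟩, z.2.2.2, rfl⟩⟩
  map_add' z w := by
    apply Subtype.ext
    exact map_add (E.toH a n) ⟨z.1, Zc_cocyc E a z⟩ ⟨w.1, Zc_cocyc E a w⟩
  map_smul' r z := by
    apply Subtype.ext
    exact LinearMap.map_smul_of_tower (E.toH a n) r ⟨z.1, Zc_cocyc E a z⟩

theorem pH_surjective (n : ℕ) (g : ι) : Function.Surjective (pH E a n g) := by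
  rintro ⟨x, z, hz, rfl⟩
  exact ⟨⟨z.1, z.2.1, z.2.2, hz⟩, rfl⟩

theorem pH_eq_zero_iff {n : ℕ} {g : ι} (z : ↥(Zc E a n g)) :
    pH E a n g z = 0 ↔ (z : (E.X n).carrier) ∈ E.cobdy a n := by
  constructor
  · intro h
    have h1 : E.toH a n ⟨z.1, Zc_cocyc E a z⟩ = 0 := congrArg Subtype.val h
    have h2 : (⟨z.1, Zc_cocyc E a z⟩ : ↥(E.cocyc a n)) ∈
        (E.cobdy a n).comap (E.cocyc a n).subtype := (Submodule.Quotient.mk_eq_zero _).mp h1
    exact h2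
  · intro h
    apply Subtype.ext
    have h2 : (⟨z.1, Zc_cocyc E a z⟩ : ↥(E.cocyc a n)) ∈
        (E.cobdy a n).comap (E.cocyc a n).subtype := h
    exact (Submodule.Quotient.mk_eq_zero _).mpr h2

end Zc

section Maps

variable {ι : Type} [AddCommGroup ι] [DecidableEq ι]
variable {R : Type u} [CommRing R] {𝒜 : ι → AddSubgroup R} [GradedRing 𝒜]
variable {M : Type u} [AddCommGroup M] [Module R M] {ℳ : ι → AddSubgroup M}
  [DirectSum.Decomposition ℳ] [SetLike.GradedSMul 𝒜 ℳ]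
variable {N : Type u} [AddCommGroup N] [Module R N] {𝒩 : ι → AddSubgroup N}
  [DirectSum.Decomposition 𝒩] [SetLike.GradedSMul 𝒜 𝒩]
variable (E : StarInjRes 𝒜 ℳ) (E' : StarInjRes 𝒜 𝒩) (a : HomogeneousIdeal 𝒜)

/-- Restriction of a linear map to homogeneous cocycles. -/
def zmap {n n' : ℕ} {g g' : ι} (φ : (E.X n).carrier →ₗ[R] (E'.X n').carrier)
    (h : ∀ z ∈ Zc E a n g, φ z ∈ Zc E' a n' g') : ↥(Zc E a n g) →ₗ[deg0 𝒜] ↥(Zc E' a n' g') :=
  (φ.restrictScalars (deg0 𝒜)).restrict h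

theorem zmap_coe {n n' : ℕ} {g g' : ι} (φ : (E.X n).carrier →ₗ[R] (E'.X n').carrier)
    (h : ∀ z ∈ Zc E a n g, φ z ∈ Zc E' a n' g') (z : ↥(Zc E a n g)) :
    ((zmap E E' a φ h z : ↥(Zc E' a n' g')) : (E'.X n').carrier) = φ z := rfl

theorem cobdy_of_retract (f : M →ₗ[R] N) (f' : N →ₗ[R] M) (hff' : ∀ y, f (f' y) = y)
    (Φ : CMap E E' f) (Ψ : CMap E' E f') (n : ℕ) (z : (E'.X n).carrier)
    (hz : z ∈ gam a.toIdeal (E'.X n).carrier) (hdz : E'.d n z = 0)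
    (h1 : Ψ.φ n z ∈ E.cobdy a n) : z ∈ E'.cobdy a n := by
  let χ : ∀ n, (E'.X n).carrier →ₗ[R] (E'.X n).carrier := fun n => Φ.φ n ∘ₗ Ψ.φ n - LinearMap.id
  have hχ_gr : ∀ n, IsGrHom (E'.X n).gr (E'.X n).gr (χ n) := by
    intro n k x hx
    exact sub_mem (Φ.gr n k _ (Ψ.gr n k x hx)) hx
  have hχ_comm : ∀ n x, χ (n + 1) (E'.d n x) = E'.d n (χ n x) := by
    intro n x
    simp only [χ, LinearMap.sub_apply, LinearMap.comp_apply, LinearMap.id_apply, map_sub]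
    rw [Ψ.comm, Φ.comm]
  have hχ0 : ∀ m, χ 0 (E'.ε m) = 0 := by
    intro m
    simp only [χ, LinearMap.sub_apply, LinearMap.comp_apply, LinearMap.id_apply]
    rw [Ψ.aug, Φ.aug, hff', sub_self]
  obtain ⟨h, h0, hS⟩ := exists_homotopy hχ_gr hχ_comm hχ0
  cases n with
  | zero =>
    rw [mem_cobdy_zero] at h1 ⊢
    have h2 := h0 z
    rw [hdz, map_zero] at h2
    simp only [χ, LinearMap.sub_apply, LinearMap.comp_apply, LinearMap.id_apply] at h2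
    rw [h1, map_zero, zero_sub, neg_eq_zero] at h2
    exact h2
  | succ n =>
    rw [mem_cobdy_succ] at h1 ⊢
    obtain ⟨y, hy, hyz⟩ := h1
    have h2 := hS n z
    rw [hdz, map_zero, add_zero] at h2
    simp only [χ, LinearMap.sub_apply, LinearMap.comp_apply, LinearMap.id_apply] at h2
    refine ⟨Φ.φ n y - h n z, ?_, ?_⟩
    · exact Submodule.sub_mem _ (gam_map _ _ hy) (gam_map _ _ hz)
    · rw [map_sub, ← Φ.comm, hyz, ← h2]
      abel

variable (𝒮 : SerreClass ↥(deg0 𝒜))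

theorem pH_of_retract (f : M →ₗ[R] N) (hf : IsGrHom ℳ 𝒩 f) (f' : N →ₗ[R] M)
    (hf' : IsGrHom 𝒩 ℳ f') (hff' : ∀ y, f (f' y) = y) (n : ℕ) (g : ι)
    (hE : 𝒮.P ↥(E.Hcomp a n g)) : 𝒮.P ↥(E'.Hcomp a n g) := by
  obtain ⟨Φ⟩ := exists_cmap (E := E) (E' := E') f hf
  obtain ⟨Ψ⟩ := exists_cmap (E := E') (E' := E) f' hf'
  have hmem : ∀ z ∈ Zc E' a n g, Ψ.φ n z ∈ Zc E a n g := by
    rintro z ⟨h1, h2, h3⟩
    exact ⟨gam_map _ _ h1, by rw [← Ψ.comm, h2, map_zero], Ψ.gr n g z h3⟩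
  refine serre_inj 𝒮 (pH E' a n g) (pH E a n g) (pH_surjective E' a n g)
    (zmap E' E a (Ψ.φ n) hmem) ?_ ?_ hE
  · intro z hz
    rw [pH_eq_zero_iff] at hz ⊢
    rw [zmap_coe]
    cases n with
    | zero =>
      rw [mem_cobdy_zero] at hz ⊢
      rw [hz, map_zero]
    | succ n =>
      rw [mem_cobdy_succ] at hz ⊢
      obtain ⟨y, hy, hyz⟩ := hz
      exact ⟨Ψ.φ n y, gam_map _ _ hy, by rw [← Ψ.comm, hyz]⟩
  · intro z hz
    rw [pH_eq_zero_iff] at hz ⊢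
    rw [zmap_coe] at hz
    exact cobdy_of_retract E E' a f f' hff' Φ Ψ n z.1 z.2.1 z.2.2.1 hz

end Maps

section PM

variable {ι : Type} [AddCommGroup ι] [DecidableEq ι]
variable {R : Type u} [CommRing R] {𝒜 : ι → AddSubgroup R} [GradedRing 𝒜]
variable {M' : Type u} [AddCommGroup M'] [Module R M'] {ℳ' : ι → AddSubgroup M'}
  [DirectSum.Decomposition ℳ'] [SetLike.GradedSMul 𝒜 ℳ']
variable {M : Type u} [AddCommGroup M] [Module R M] {ℳ : ι → AddSubgroup M}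
  [DirectSum.Decomposition ℳ] [SetLike.GradedSMul 𝒜 ℳ]
variable {M'' : Type u} [AddCommGroup M''] [Module R M''] {ℳ'' : ι → AddSubgroup M''}
  [DirectSum.Decomposition ℳ''] [SetLike.GradedSMul 𝒜 ℳ'']
variable (𝒮 : SerreClass ↥(deg0 𝒜)) (a : HomogeneousIdeal 𝒜)

/-- The degree `g` piece of the `n`-th graded local cohomology lies in the class `𝒮`, for every
graded-injective resolution. -/
def PM (ℳ : ι → AddSubgroup M) [DirectSum.Decomposition ℳ] [SetLike.GradedSMul 𝒜 ℳ]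
    (n : ℕ) (g : ι) : Prop :=
  ∀ E : StarInjRes 𝒜 ℳ, 𝒮.P ↥(E.Hcomp a n g)

theorem pM_iff (E : StarInjRes 𝒜 ℳ) (n : ℕ) (g : ι) : PM 𝒮 a ℳ n g ↔ 𝒮.P ↥(E.Hcomp a n g) :=
  ⟨fun h => h E, fun h E₁ => pH_of_retract E E₁ a 𝒮 LinearMap.id (fun _ _ h => h) LinearMap.id
    (fun _ _ h => h) (fun _ => rfl) n g h⟩

theorem pM_of_vanM (n : ℕ) (g : ι) (h : VanM a ℳ n g) : PM 𝒮 a ℳ n g := by
  intro E
  have hb : E.Hcomp a n g = ⊥ := (vanM_iff_hcomp a E n g).mp h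
  have : Subsingleton ↥(E.Hcomp a n g) := by
    rw [hb]
    infer_instance
  exact 𝒮.of_subsingleton _

variable {i : M' →ₗ[R] M} {p : M →ₗ[R] M''}
variable {E' : StarInjRes 𝒜 ℳ'} {E'' : StarInjRes 𝒜 ℳ''}

theorem hs_P_mid (S : SES ℳ' ℳ ℳ'' i p) (D : HSData E' E'' i p ℳ) (n : ℕ) (g : ι)
    (h' : 𝒮.P ↥(E'.Hcomp a n g)) (h'' : 𝒮.P ↥(E''.Hcomp a n g)) :
    𝒮.P ↥((hs S D).Hcomp a n g) := by
  let φ₁ : (E'.X n).carrier →ₗ[R] ((hs S D).X n).carrier :=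
    LinearMap.inl R (E'.X n).carrier (E''.X n).carrier
  let φ₂ : ((hs S D).X n).carrier →ₗ[R] (E''.X n).carrier :=
    LinearMap.snd R (E'.X n).carrier (E''.X n).carrier
  have hφ₁ : ∀ z ∈ Zc E' a n g, φ₁ z ∈ Zc (hs S D) a n g := by
    rintro z ⟨h1, h2, h3⟩
    refine ⟨(gam_prod_iff a.toIdeal z 0).mpr ⟨h1, Submodule.zero_mem _⟩, ?_, ⟨h3, zero_mem _⟩⟩
    change (E'.d n z + D.θ n 0, E''.d n 0) = 0
    rw [h2, map_zero, map_zero, add_zero]
    rfl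
  have hφ₂ : ∀ z ∈ Zc (hs S D) a n g, φ₂ z ∈ Zc E'' a n g := by
    rintro ⟨x', x''⟩ ⟨h1, h2, h3⟩
    have h2' : (E'.d n x' + D.θ n x'', E''.d n x'') = 0 := h2
    exact ⟨((gam_prod_iff a.toIdeal x' x'').mp h1).2, (Prod.mk_eq_zero.mp h2').2, h3.2⟩
  refine serre_mid 𝒮 (pH E' a n g) (pH (hs S D) a n g) (pH E'' a n g) (pH_surjective E' a n g)
    (pH_surjective (hs S D) a n g) (zmap E' (hs S D) a φ₁ hφ₁) (zmap (hs S D) E'' a φ₂ hφ₂)
    ?_ ?_ ?_ ?_ h' h''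
  · intro z hz
    rw [pH_eq_zero_iff] at hz ⊢
    rw [zmap_coe]
    cases n with
    | zero =>
      rw [mem_cobdy_zero] at hz ⊢
      rw [hz, map_zero]
    | succ n =>
      rw [mem_cobdy_succ] at hz ⊢
      obtain ⟨y, hy, hyz⟩ := hz
      refine ⟨(y, 0), (gam_prod_iff a.toIdeal y 0).mpr ⟨hy, Submodule.zero_mem _⟩, ?_⟩
      change (E'.d n y + D.θ n 0, E''.d n 0) = (z.1, 0)
      rw [hyz, map_zero, map_zero, add_zero]
  · rintro ⟨⟨x', x''⟩, hx⟩ hz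
    rw [pH_eq_zero_iff] at hz ⊢
    rw [zmap_coe]
    change x'' ∈ E''.cobdy a n
    cases n with
    | zero =>
      have hz' := (mem_cobdy_zero (hs S D) a _).mp hz
      rw [mem_cobdy_zero]
      exact (Prod.mk_eq_zero.mp hz').2
    | succ n =>
      have hz' := (mem_cobdy_succ (hs S D) a n _).mp hz
      rw [mem_cobdy_succ]
      obtain ⟨⟨u', u''⟩, hu, hud⟩ := hz'
      have hud' : (E'.d n u' + D.θ n u'', E''.d n u'') = (x', x'') := hud
      exact ⟨u'', ((gam_prod_iff a.toIdeal u' u'').mp hu).2, (Prod.mk.inj hud').2⟩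
  · intro z
    rw [pH_eq_zero_iff, zmap_coe, zmap_coe]
    change (0 : (E''.X n).carrier) ∈ E''.cobdy a n
    exact Submodule.zero_mem _
  · rintro ⟨⟨x', x''⟩, hx⟩ hz
    rw [pH_eq_zero_iff, zmap_coe] at hz
    change x'' ∈ E''.cobdy a n at hz
    obtain ⟨h1, h2, h3⟩ := hx
    have hz' := (gam_prod_iff a.toIdeal x' x'').mp h1
    have hdz' : (E'.d n x' + D.θ n x'', E''.d n x'') = 0 := h2
    rw [Prod.mk_eq_zero] at hdz'
    have hzg' : x' ∈ (E'.X n).gr g ∧ x'' ∈ (E''.X n).gr g := h3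
    cases n with
    | zero =>
      rw [mem_cobdy_zero] at hz
      subst hz
      have hd1 := hdz'.1
      rw [map_zero, add_zero] at hd1
      refine ⟨⟨x', hz'.1, hd1, hzg'.1⟩, ?_⟩
      rfl
    | succ n =>
      obtain ⟨y'', hy'', hy''g, rfl⟩ := cobdy_homog E'' a hz hzg'.2
      have hd1 := hdz'.1
      rw [D.h3, ← sub_eq_add_neg, ← map_sub] at hd1
      refine ⟨⟨x' - D.θ n y'', Submodule.sub_mem _ hz'.1 (gam_map _ _ hy''), hd1,
        sub_mem hzg'.1 (D.θ_gr n g y'' hy''g)⟩, ?_⟩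
      rw [← sub_eq_zero, ← map_sub, pH_eq_zero_iff]
      refine (mem_cobdy_succ (hs S D) a n _).mpr
        ⟨(0, y''), (gam_prod_iff a.toIdeal 0 y'').mpr ⟨Submodule.zero_mem _, hy''⟩, ?_⟩
      change (E'.d n 0 + D.θ n y'', E''.d n y'') = (x' - (x' - D.θ n y''), E''.d n y'' - 0)
      rw [map_zero, zero_add, sub_sub_cancel, sub_zero]

theorem les_mid_P (S : SES ℳ' ℳ ℳ'' i p) (n : ℕ) (g : ι) (h' : PM 𝒮 a ℳ' n g)
    (h'' : PM 𝒮 a ℳ'' n g) : PM 𝒮 a ℳ n g := by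
  obtain ⟨D⟩ := exists_hsdata (E' := starInjRes 𝒜 ℳ') (E'' := starInjRes 𝒜 ℳ'') S
  exact (pM_iff 𝒮 a (hs S D) n g).mpr (hs_P_mid 𝒮 a S D n g (h' _) (h'' _))

theorem pH_zero (E : StarInjRes 𝒜 ℳ) (g : ι) (h : 𝒮.P ↥(comp 𝒜 ℳ g)) :
    𝒮.P ↥(E.Hcomp a 0 g) := by
  let W : Submodule (deg0 𝒜) M :=
    comp 𝒜 ℳ g ⊓ (gam a.toIdeal M).restrictScalars (deg0 𝒜)
  have hW : 𝒮.P ↥W :=
    𝒮.of_injective (Submodule.inclusion (inf_le_left : W ≤ comp 𝒜 ℳ g))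
      (Submodule.inclusion_injective _) h
  have hmem : ∀ m ∈ W, (E.ε.restrictScalars (deg0 𝒜)) m ∈ Zc E a 0 g := by
    rintro m ⟨h1, h2⟩
    exact ⟨gam_map _ _ h2, d_comp_ε E m, E.ε_grHom g m h1⟩
  let ψ : ↥W →ₗ[deg0 𝒜] ↥(Zc E a 0 g) := (E.ε.restrictScalars (deg0 𝒜)).restrict hmem
  refine 𝒮.of_surjective ((pH E a 0 g).comp ψ) ?_ hW
  intro x
  obtain ⟨⟨z, hz1, hz2, hz3⟩, rfl⟩ := pH_surjective E a 0 g x
  have hk : z ∈ LinearMap.ker (E.d 0) := hz2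
  rw [E.exact_zero] at hk
  obtain ⟨m, rfl⟩ := hk
  have hmg : m ∈ ℳ g :=
    mem_piece_of_map_mem_piece ℳ (E.X 0).gr E.ε E.ε_grHom E.ε_injective hz3
  have hmt : m ∈ gam a.toIdeal M := by
    obtain ⟨k, hk⟩ := hz1
    refine ⟨k, fun r hr => E.ε_injective ?_⟩
    rw [map_smul, hk r hr, map_zero]
  exact ⟨⟨m, hmg, hmt⟩, rfl⟩

end PM

end Groth.Agent.Lib.Helper8.GrLCSerre
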