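import Groth.Agent.Lib.Helper8.GrAcycMain
import Groth.Agent.Lib.Helper8.GrLCStrand

/-!
# Veronese submodules of graded modules
-/

set_option autoImplicit false
set_option linter.unusedSectionVars false
universe u

open DirectSum GrLC CategoryTheory
open Groth.Agent.Lib.Helper30
open Groth.Agent.Lib.Helper8.GrLCLES Groth.Agent.Lib.Helper8.GrAcyc

namespace Groth.Agent.Lib.Helper8.GrVer

section Add

variable {ι κ : Type} [DecidableEq ι] (e : κ → ι)
variable {Y : Type u} [AddCommGroup Y] (𝒴 : ι → AddSubgroup Y) [DirectSum.Decomposition 𝒴]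

theorem ext_decompose {x y : Y} (h : ∀ i, (decompose 𝒴 x i : Y) = decompose 𝒴 y i) : x = y := by
  apply (decompose 𝒴).injective
  apply DFinsupp.ext
  intro i
  exact Subtype.ext (h i)

open Classical in
/-- The projection onto the components whose degree lies in the range of `e`. -/
noncomputable def verProj : Y →+ Y :=
  (DirectSum.coeAddMonoidHom 𝒴).comp
    ((DFinsupp.filterAddMonoidHom (fun i => ↥(𝒴 i)) (fun i => i ∈ Set.range e)).comp
      (decomposeAddEquiv 𝒴).toAddMonoidHom)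

open Classical in
theorem decompose_verProj (y : Y) (i : ι) :
    (decompose 𝒴 (verProj e 𝒴 y) i : Y) =
      if i ∈ Set.range e then (decompose 𝒴 y i : Y) else 0 := by
  have h : decompose 𝒴 (verProj e 𝒴 y) =
      DFinsupp.filter (fun i => i ∈ Set.range e) (decompose 𝒴 y) := by
    unfold verProj
    exact Decomposition.right_inv _
  rw [h, DFinsupp.filter_apply]
  split_ifs <;> rfl

theorem verProj_idem (y : Y) : verProj e 𝒴 (verProj e 𝒴 y) = verProj e 𝒴 y := by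
  classical
  apply ext_decompose 𝒴
  intro i
  rw [decompose_verProj, decompose_verProj]
  split_ifs <;> rfl

/-- The Veronese subgroup: elements all of whose components have degree in the range of `e`. -/
def verSub : AddSubgroup Y where
  carrier := {y | verProj e 𝒴 y = y}
  zero_mem' := map_zero _
  add_mem' := by
    intro x y hx hy
    change verProj e 𝒴 (x + y) = x + y
    rw [map_add, hx, hy]
  neg_mem' := by
    intro x hx
    change verProj e 𝒴 (-x) = -x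
    rw [map_neg, hx]

theorem mem_verSub {y : Y} : y ∈ verSub e 𝒴 ↔ verProj e 𝒴 y = y := Iff.rfl

theorem verProj_mem (y : Y) : verProj e 𝒴 y ∈ verSub e 𝒴 := verProj_idem e 𝒴 y

theorem verProj_of_mem {k : κ} {y : Y} (hy : y ∈ 𝒴 (e k)) : verProj e 𝒴 y = y := by
  classical
  apply ext_decompose 𝒴
  intro i
  rw [decompose_verProj]
  split_ifs with h
  · rfl
  · have hne : e k ≠ i := fun h' => h ⟨k, h'⟩
    rw [decompose_of_mem_ne 𝒴 hy hne]

theorem mem_verSub_of_mem {k : κ} {y : Y} (hy : y ∈ 𝒴 (e k)) : y ∈ verSub e 𝒴 :=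
  verProj_of_mem e 𝒴 hy

theorem decompose_eq_zero_of_mem_verSub {y : Y} (hy : y ∈ verSub e 𝒴) {i : ι}
    (hi : i ∉ Set.range e) : (decompose 𝒴 y i : Y) = 0 := by
  classical
  have h := decompose_verProj e 𝒴 y i
  rw [if_neg hi] at h
  rw [mem_verSub] at hy
  rw [hy] at h
  exact h

/-- Elements of the Veronese subgroup are sums of homogeneous elements of degrees `e k`. -/
theorem verSub_induction {P : Y → Prop} (h0 : P 0) (hadd : ∀ x y, P x → P y → P (x + y))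
    (hmem : ∀ k, ∀ y ∈ 𝒴 (e k), P y) {y : Y} (hy : y ∈ verSub e 𝒴) : P y := by
  classical
  rw [← sum_support_decompose 𝒴 y]
  refine Finset.sum_induction _ P hadd h0 ?_
  intro i hi
  by_cases hir : i ∈ Set.range e
  · obtain ⟨k, rfl⟩ := hir
    exact hmem k _ (decompose 𝒴 y (e k)).2
  · rw [decompose_eq_zero_of_mem_verSub e 𝒴 hy hir]
    exact h0

variable {Z : Type u} [AddCommGroup Z] (𝒵 : ι → AddSubgroup Z) [DirectSum.Decomposition 𝒵]

/-- The projection commutes with homogeneous additive maps. -/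
theorem verProj_map (f : Y →+ Z) (hf : ∀ i, ∀ y ∈ 𝒴 i, f y ∈ 𝒵 i) (y : Y) :
    f (verProj e 𝒴 y) = verProj e 𝒵 (f y) := by
  classical
  have key : ∀ (y : Y) (i : ι), f (decompose 𝒴 y i : Y) = (decompose 𝒵 (f y) i : Z) := by
    intro y i
    induction y using DirectSum.Decomposition.inductionOn 𝒴 with
    | zero => simp
    | @homogeneous j m =>
      by_cases hij : j = i
      · subst hij
        rw [decompose_of_mem_same 𝒴 m.2, decompose_of_mem_same 𝒵 (hf _ _ m.2)]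
      · rw [decompose_of_mem_ne 𝒴 m.2 hij, decompose_of_mem_ne 𝒵 (hf _ _ m.2) hij, map_zero]
    | add x y hx hy =>
      rw [decompose_add, DirectSum.add_apply, AddSubgroup.coe_add, map_add, hx, hy, map_add,
        decompose_add, DirectSum.add_apply, AddSubgroup.coe_add]
  apply ext_decompose 𝒵
  intro i
  rw [← key, decompose_verProj, decompose_verProj]
  split_ifs
  · exact key y i
  · exact map_zero f

/-- The Veronese subgroup is contained in the range of any additive map hitting all pieces. -/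
theorem verSub_le_range {M' : Type*} [AddCommGroup M'] (g : M' →+ Y)
    (hg : ∀ k, ∀ y ∈ 𝒴 (e k), ∃ x, g x = y) {y : Y} (hy : y ∈ verSub e 𝒴) : ∃ x, g x = y := by
  refine verSub_induction e 𝒴 (P := fun y => ∃ x, g x = y) ⟨0, map_zero _⟩ ?_ hg hy
  rintro _ _ ⟨x, rfl⟩ ⟨x', rfl⟩
  exact ⟨x + x', map_add _ _ _⟩

end Add

section Ring

variable {ι κ : Type} [AddCommGroup ι] [DecidableEq ι] [AddCommGroup κ] [DecidableEq κ]
  (e : κ →+ ι)
variable {R : Type u} [CommRing R] (𝒜 : ι → AddSubgroup R) [GradedRing 𝒜]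
variable {Y : Type u} [AddCommGroup Y] [Module R Y] (𝒴 : ι → AddSubgroup Y)
  [DirectSum.Decomposition 𝒴] [SetLike.GradedSMul 𝒜 𝒴]

theorem verProj_smul_of_mem {k : κ} {r : R} (hr : r ∈ 𝒜 (e k)) (y : Y) :
    verProj e 𝒴 (r • y) = r • verProj e 𝒴 y := by
  classical
  apply ext_decompose 𝒴
  intro i
  obtain ⟨h, rfl⟩ : ∃ h, i = e k + h := ⟨i - e k, by abel⟩
  rw [decompose_verProj, decompose_smul_of_mem 𝒜 𝒴 hr, decompose_smul_of_mem 𝒜 𝒴 hr,
    decompose_verProj]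
  have hiff : e k + h ∈ Set.range e ↔ h ∈ Set.range e := by
    constructor
    · rintro ⟨k', hk'⟩
      exact ⟨k' - k, by rw [map_sub, hk']; abel⟩
    · rintro ⟨k', rfl⟩
      exact ⟨k + k', map_add _ _ _⟩
  by_cases hh : h ∈ Set.range e
  · rw [if_pos (hiff.mpr hh), if_pos hh]
  · rw [if_neg (fun h' => hh (hiff.mp h')), if_neg hh, smul_zero]

variable {R' : Type u} [CommRing R'] (𝒜' : κ → AddSubgroup R') [GradedRing 𝒜'] (φ : R' →+* R)
  (hdeg : ∀ j : κ, (𝒜' j).map (φ : R' →+ R) = 𝒜 (e j))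

include hdeg in
theorem φ_mem {j : κ} {r : R'} (hr : r ∈ 𝒜' j) : φ r ∈ 𝒜 (e j) := by
  rw [← hdeg j]
  exact AddSubgroup.mem_map_of_mem _ hr

include hdeg in
theorem verProj_smul_φ (r : R') (y : Y) : verProj e 𝒴 (φ r • y) = φ r • verProj e 𝒴 y := by
  induction r using DirectSum.Decomposition.inductionOn 𝒜' with
  | zero => simp
  | @homogeneous j m => exact verProj_smul_of_mem e 𝒜 𝒴 (φ_mem e 𝒜 𝒜' φ hdeg m.2) y
  | add x y' hx hy => rw [map_add, add_smul, map_add, hx, hy, add_smul]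

include hdeg in
theorem φ_mem_verSub (r : R') : φ r ∈ verSub e 𝒜 := by
  induction r using DirectSum.Decomposition.inductionOn 𝒜' with
  | zero => rw [map_zero]; exact zero_mem _
  | @homogeneous j m => exact mem_verSub_of_mem e 𝒜 (φ_mem e 𝒜 𝒜' φ hdeg m.2)
  | add x y' hx hy => rw [map_add]; exact add_mem hx hy

include hdeg in
theorem exists_φ_eq_verProj (r : R) : ∃ r' : R', φ r' = verProj e 𝒜 r := by
  refine verSub_le_range e 𝒜 (φ : R' →+ R) ?_ (verProj_mem e 𝒜 r)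
  intro k y hy
  rw [← hdeg k] at hy
  obtain ⟨x, _, hx⟩ := hy
  exact ⟨x, hx⟩

include hdeg in
theorem smul_mem_verSub (r : R') {y : Y} (hy : y ∈ verSub e 𝒴) : φ r • y ∈ verSub e 𝒴 := by
  rw [mem_verSub] at hy ⊢
  rw [verProj_smul_φ e 𝒜 𝒴 𝒜' φ hdeg, hy]

include hdeg in
/-- Ideals of the Veronese subring are contracted. -/
theorem mem_of_map_mem (hφ : Function.Injective φ) (I : Ideal R') (x : R')
    (hx : φ x ∈ I.map φ) : x ∈ I := by
  classical
  have hx' : φ x ∈ Submodule.span R (φ '' (I : Set R')) := hx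
  obtain ⟨n, c, y, hsum⟩ := Submodule.mem_span_set'.mp hx'
  have hy : ∀ i : Fin n, ∃ w : R', w ∈ I ∧ φ w = (y i : R) := fun i => (y i).2
  choose w hwI hwy using hy
  choose c' hc' using fun i => exists_φ_eq_verProj e 𝒜 𝒜' φ hdeg (c i)
  have h1 : verProj e 𝒜 (φ x) = φ x := φ_mem_verSub e 𝒜 𝒜' φ hdeg x
  have h2 : φ x = φ (∑ i, c' i * w i) := by
    rw [← h1, ← hsum, map_sum, map_sum]
    apply Finset.sum_congr rfl
    intro i _
    rw [← hwy i, smul_eq_mul, mul_comm, ← smul_eq_mul,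
      verProj_smul_φ e 𝒜 𝒜 𝒜' φ hdeg (w i) (c i), ← hc' i, smul_eq_mul, map_mul, mul_comm]
  rw [hφ h2]
  exact Ideal.sum_mem _ fun i _ => Ideal.mul_mem_left _ _ (hwI i)

include hdeg in
theorem isNoetherianRing_ver [IsNoetherianRing R] (hφ : Function.Injective φ) :
    IsNoetherianRing R' := by
  have hsm : StrictMono (fun I : Ideal R' => I.map φ) := by
    intro I J hIJ
    refine lt_of_le_of_ne (Ideal.map_mono hIJ.le) (fun heq => hIJ.not_ge (fun x hx => ?_))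
    apply mem_of_map_mem e 𝒜 𝒜' φ hdeg hφ I x
    have heq' : I.map φ = J.map φ := heq
    rw [heq']
    exact Ideal.mem_map_of_mem _ hx
  exact isNoetherian_mk hsm.wellFoundedGT

end Ring

section GMod

variable {ι κ : Type} [AddCommGroup ι] [DecidableEq ι] [AddCommGroup κ] [DecidableEq κ]
  {e : κ →+ ι}
variable {R : Type u} [CommRing R] {𝒜 : ι → AddSubgroup R} [GradedRing 𝒜]
variable {R' : Type u} [CommRing R'] {𝒜' : κ → AddSubgroup R'} [GradedRing 𝒜'] {φ : R' →+* R}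
  (hdeg : ∀ j : κ, (𝒜' j).map (φ : R' →+ R) = 𝒜 (e j))
variable {Y : Type u} [AddCommGroup Y] [Module R Y] (𝒴 : ι → AddSubgroup Y)
  [DirectSum.Decomposition 𝒴] [SetLike.GradedSMul 𝒜 𝒴]

/-- The carrier of the Veronese module. -/
@[nolint unusedArguments]
def Ver (_hdeg : ∀ j : κ, (𝒜' j).map (φ : R' →+ R) = 𝒜 (e j)) (𝒴 : ι → AddSubgroup Y)
    [DirectSum.Decomposition 𝒴] : Type u :=
  ↥(verSub e 𝒴)

instance : AddCommGroup (Ver hdeg 𝒴) := inferInstanceAs (AddCommGroup ↥(verSub e 𝒴))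

/-- The inclusion of the Veronese module. -/
def Ver.incl : Ver hdeg 𝒴 →+ Y := (verSub e 𝒴).subtype

theorem Ver.incl_injective : Function.Injective (Ver.incl hdeg 𝒴) := Subtype.val_injective

theorem Ver.incl_mem (w : Ver hdeg 𝒴) : Ver.incl hdeg 𝒴 w ∈ verSub e 𝒴 := w.2

/-- Elements of the Veronese subgroup as elements of the Veronese module. -/
def Ver.mk (y : Y) (hy : y ∈ verSub e 𝒴) : Ver hdeg 𝒴 := ⟨y, hy⟩

@[simp] theorem Ver.incl_mk (y : Y) (hy : y ∈ verSub e 𝒴) :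
    Ver.incl hdeg 𝒴 (Ver.mk hdeg 𝒴 y hy) = y := rfl

theorem Ver.ext {w w' : Ver hdeg 𝒴} (h : Ver.incl hdeg 𝒴 w = Ver.incl hdeg 𝒴 w') : w = w' :=
  Subtype.ext h

instance : Module R' (Ver hdeg 𝒴) where
  smul r w := ⟨φ r • Ver.incl hdeg 𝒴 w, smul_mem_verSub e 𝒜 𝒴 𝒜' φ hdeg r w.2⟩
  one_smul w := Subtype.ext (by
    change φ 1 • Ver.incl hdeg 𝒴 w = Ver.incl hdeg 𝒴 w
    rw [map_one, one_smul])
  mul_smul r s w := Subtype.ext (by
    change φ (r * s) • Ver.incl hdeg 𝒴 w = φ r • (φ s • Ver.incl hdeg 𝒴 w)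
    rw [map_mul, mul_smul])
  smul_zero r := Subtype.ext (by
    change φ r • (0 : Y) = 0
    exact smul_zero _)
  smul_add r w w' := Subtype.ext (by
    change φ r • (Ver.incl hdeg 𝒴 w + Ver.incl hdeg 𝒴 w') =
      φ r • Ver.incl hdeg 𝒴 w + φ r • Ver.incl hdeg 𝒴 w'
    exact smul_add _ _ _)
  add_smul r s w := Subtype.ext (by
    change φ (r + s) • Ver.incl hdeg 𝒴 w = φ r • Ver.incl hdeg 𝒴 w + φ s • Ver.incl hdeg 𝒴 w
    rw [map_add, add_smul])
  zero_smul w := Subtype.ext (by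
    change φ 0 • Ver.incl hdeg 𝒴 w = 0
    rw [map_zero, zero_smul])

theorem Ver.incl_smul (r : R') (w : Ver hdeg 𝒴) :
    Ver.incl hdeg 𝒴 (r • w) = φ r • Ver.incl hdeg 𝒴 w := rfl

/-- The pieces of the Veronese module. -/
def verGr (k : κ) : AddSubgroup (Ver hdeg 𝒴) := (𝒴 (e k)).comap (Ver.incl hdeg 𝒴)

theorem mem_verGr {k : κ} {w : Ver hdeg 𝒴} :
    w ∈ verGr hdeg 𝒴 k ↔ Ver.incl hdeg 𝒴 w ∈ 𝒴 (e k) := Iff.rfl

variable (he : Function.Injective e)

include he in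
theorem decompose_coe_verGr (z : ⨁ k, ↥(verGr hdeg 𝒴 k)) (k : κ) :
    (decompose 𝒴 (Ver.incl hdeg 𝒴 (DirectSum.coeAddMonoidHom (verGr hdeg 𝒴) z)) (e k) : Y) =
      Ver.incl hdeg 𝒴 (z k : Ver hdeg 𝒴) := by
  induction z using DirectSum.induction_on with
  | zero => simp
  | of k' x =>
    rw [DirectSum.coeAddMonoidHom_of]
    have hx : Ver.incl hdeg 𝒴 (x : Ver hdeg 𝒴) ∈ 𝒴 (e k') := x.2
    by_cases hk : k' = k
    · subst hk
      rw [decompose_of_mem_same 𝒴 hx, DirectSum.of_eq_same]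
    · have hne : e k' ≠ e k := fun h => hk (he h)
      rw [decompose_of_mem_ne 𝒴 hx hne, DirectSum.of_eq_of_ne _ _ _ (Ne.symm hk)]
      rfl
  | add x y hx hy =>
    rw [map_add, map_add, decompose_add, DirectSum.add_apply, AddSubgroup.coe_add, hx, hy,
      DirectSum.add_apply, AddSubgroup.coe_add, map_add]

include he in
theorem verGr_isInternal : DirectSum.IsInternal (verGr hdeg 𝒴) := by
  constructor
  · rw [injective_iff_map_eq_zero]
    intro z hz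
    apply DFinsupp.ext
    intro k
    apply Subtype.ext
    apply Ver.incl_injective hdeg 𝒴
    rw [← decompose_coe_verGr hdeg 𝒴 he z k, hz]
    simp
  · intro w
    have key : ∀ y : Y, y ∈ verSub e 𝒴 → ∃ z : ⨁ k, ↥(verGr hdeg 𝒴 k),
        Ver.incl hdeg 𝒴 (DirectSum.coeAddMonoidHom (verGr hdeg 𝒴) z) = y := by
      intro y hy
      refine verSub_induction e 𝒴 (P := fun y => ∃ z : ⨁ k, ↥(verGr hdeg 𝒴 k),
        Ver.incl hdeg 𝒴 (DirectSum.coeAddMonoidHom (verGr hdeg 𝒴) z) = y) ?_ ?_ ?_ hy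
      · exact ⟨0, by simp⟩
      · rintro _ _ ⟨z, rfl⟩ ⟨z', rfl⟩
        exact ⟨z + z', by rw [map_add, map_add]⟩
      · intro k y hy
        refine ⟨DirectSum.of (fun k => ↥(verGr hdeg 𝒴 k)) k
          ⟨Ver.mk hdeg 𝒴 y (mem_verSub_of_mem e 𝒴 hy), hy⟩, ?_⟩
        rw [DirectSum.coeAddMonoidHom_of]
        rfl
    obtain ⟨z, hz⟩ := key (Ver.incl hdeg 𝒴 w) w.2
    exact ⟨z, Ver.incl_injective hdeg 𝒴 hz⟩

theorem verGradedSMul : SetLike.GradedSMul 𝒜' (verGr hdeg 𝒴) :=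
  ⟨fun {i j r w} hr hw => by
    rw [vadd_eq_add, mem_verGr, Ver.incl_smul, map_add]
    exact smul_mem_piece 𝒜 𝒴 (φ_mem e 𝒜 𝒜' φ hdeg hr) hw⟩

/-- The Veronese module of a bundled graded module. -/
noncomputable def ver (Y : GMod.{u} 𝒜) : GMod.{u} 𝒜' :=
  { carrier := Ver hdeg Y.gr
    gr := verGr hdeg Y.gr
    dec := (verGr_isInternal hdeg Y.gr he).chooseDecomposition
    gsmul := verGradedSMul hdeg Y.gr }

end GMod

section Maps

variable {ι κ : Type} [AddCommGroup ι] [DecidableEq ι] [AddCommGroup κ] [DecidableEq κ]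
  {e : κ →+ ι}
variable {R : Type u} [CommRing R] {𝒜 : ι → AddSubgroup R} [GradedRing 𝒜]
variable {R' : Type u} [CommRing R'] {𝒜' : κ → AddSubgroup R'} [GradedRing 𝒜'] {φ : R' →+* R}
  (hdeg : ∀ j : κ, (𝒜' j).map (φ : R' →+ R) = 𝒜 (e j))
variable {Y : Type u} [AddCommGroup Y] [Module R Y] (𝒴 : ι → AddSubgroup Y)
  [DirectSum.Decomposition 𝒴] [SetLike.GradedSMul 𝒜 𝒴]
variable {Z : Type u} [AddCommGroup Z] [Module R Z] (𝒵 : ι → AddSubgroup Z)
  [DirectSum.Decomposition 𝒵] [SetLike.GradedSMul 𝒜 𝒵]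
variable {T : Type u} [AddCommGroup T] [Module R T] (𝒯 : ι → AddSubgroup T)
  [DirectSum.Decomposition 𝒯] [SetLike.GradedSMul 𝒜 𝒯]

theorem map_mem_verSub (f : Y →ₗ[R] Z) (hf : IsGrHom 𝒴 𝒵 f) {y : Y} (hy : y ∈ verSub e 𝒴) :
    f y ∈ verSub e 𝒵 := by
  rw [mem_verSub] at hy ⊢
  have := verProj_map e 𝒴 𝒵 f.toAddMonoidHom hf y
  rw [hy] at this
  exact this.symm

theorem verProj_map_lin (f : Y →ₗ[R] Z) (hf : IsGrHom 𝒴 𝒵 f) (y : Y) :
    f (verProj e 𝒴 y) = verProj e 𝒵 (f y) :=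
  verProj_map e 𝒴 𝒵 f.toAddMonoidHom hf y

/-- The restriction of a homogeneous map to the Veronese modules. -/
noncomputable def verMap (f : Y →ₗ[R] Z) (hf : IsGrHom 𝒴 𝒵 f) :
    Ver hdeg 𝒴 →ₗ[R'] Ver hdeg 𝒵 where
  toFun w := Ver.mk hdeg 𝒵 (f (Ver.incl hdeg 𝒴 w)) (map_mem_verSub 𝒴 𝒵 f hf w.2)
  map_add' w w' := Ver.ext hdeg 𝒵 (by
    change f (Ver.incl hdeg 𝒴 (w + w')) = f (Ver.incl hdeg 𝒴 w) + f (Ver.incl hdeg 𝒴 w')
    rw [map_add, map_add])
  map_smul' r w := Ver.ext hdeg 𝒵 (by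
    change f (Ver.incl hdeg 𝒴 (r • w)) = φ r • f (Ver.incl hdeg 𝒴 w)
    rw [Ver.incl_smul, map_smul])

theorem incl_verMap (f : Y →ₗ[R] Z) (hf : IsGrHom 𝒴 𝒵 f) (w : Ver hdeg 𝒴) :
    Ver.incl hdeg 𝒵 (verMap hdeg 𝒴 𝒵 f hf w) = f (Ver.incl hdeg 𝒴 w) := rfl

theorem verMap_grHom (f : Y →ₗ[R] Z) (hf : IsGrHom 𝒴 𝒵 f) :
    IsGrHom (verGr hdeg 𝒴) (verGr hdeg 𝒵) (verMap hdeg 𝒴 𝒵 f hf) := by
  intro k w hw
  rw [mem_verGr] at hw ⊢
  rw [incl_verMap]
  exact hf _ _ hw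

theorem verMap_exact (f : Y →ₗ[R] Z) (hf : IsGrHom 𝒴 𝒵 f) (f' : Z →ₗ[R] T)
    (hf' : IsGrHom 𝒵 𝒯 f') (hex : LinearMap.ker f' = LinearMap.range f) :
    LinearMap.ker (verMap hdeg 𝒵 𝒯 f' hf') = LinearMap.range (verMap hdeg 𝒴 𝒵 f hf) := by
  apply le_antisymm
  · intro w hw
    rw [LinearMap.mem_ker] at hw
    have h1 : f' (Ver.incl hdeg 𝒵 w) = 0 := by
      rw [← incl_verMap hdeg 𝒵 𝒯 f' hf', hw]
      rfl
    have h2 : Ver.incl hdeg 𝒵 w ∈ LinearMap.ker f' := h1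
    rw [hex] at h2
    obtain ⟨y, hy⟩ := h2
    refine ⟨Ver.mk hdeg 𝒴 (verProj e 𝒴 y) (verProj_mem e 𝒴 y), ?_⟩
    apply Ver.ext hdeg 𝒵
    rw [incl_verMap, Ver.incl_mk, verProj_map_lin 𝒴 𝒵 f hf, hy]
    exact w.2
  · rintro _ ⟨w, rfl⟩
    rw [LinearMap.mem_ker]
    apply Ver.ext hdeg 𝒯
    rw [incl_verMap, incl_verMap]
    have : f (Ver.incl hdeg 𝒴 w) ∈ LinearMap.ker f' := by
      rw [hex]
      exact ⟨_, rfl⟩
    rw [this]
    rfl

variable {M' : Type u} [AddCommGroup M'] [Module R' M'] (ℳ' : κ → AddSubgroup M')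
  [DirectSum.Decomposition ℳ'] [SetLike.GradedSMul 𝒜' ℳ']
  (g : M' →ₛₗ[φ] Y) (hgdeg : ∀ j : κ, (ℳ' j).map (g : M' →+ Y) = 𝒴 (e j))

include hgdeg in
theorem g_mem {j : κ} {x : M'} (hx : x ∈ ℳ' j) : g x ∈ 𝒴 (e j) := by
  rw [← hgdeg j]
  exact AddSubgroup.mem_map_of_mem _ hx

include hgdeg in
theorem g_mem_verSub (x : M') : g x ∈ verSub e 𝒴 := by
  induction x using DirectSum.Decomposition.inductionOn ℳ' with
  | zero => rw [map_zero]; exact zero_mem _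
  | @homogeneous j m => exact mem_verSub_of_mem e 𝒴 (g_mem 𝒴 ℳ' g hgdeg m.2)
  | add x y' hx hy => rw [map_add]; exact add_mem hx hy

include hgdeg in
theorem exists_g_eq {y : Y} (hy : y ∈ verSub e 𝒴) : ∃ x : M', g x = y := by
  refine verSub_le_range e 𝒴 (g : M' →+ Y) ?_ hy
  intro k y hy
  rw [← hgdeg k] at hy
  obtain ⟨x, _, hx⟩ := hy
  exact ⟨x, hx⟩

/-- The augmentation of the Veronese module: `f ∘ g`. -/
noncomputable def verAug (f : Y →ₗ[R] Z) (hf : IsGrHom 𝒴 𝒵 f) : M' →ₗ[R'] Ver hdeg 𝒵 where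
  toFun x := Ver.mk hdeg 𝒵 (f (g x)) (map_mem_verSub 𝒴 𝒵 f hf (g_mem_verSub 𝒴 ℳ' g hgdeg x))
  map_add' x x' := Ver.ext hdeg 𝒵 (by
    change f (g (x + x')) = f (g x) + f (g x')
    rw [map_add, map_add])
  map_smul' r x := Ver.ext hdeg 𝒵 (by
    change f (g (r • x)) = φ r • f (g x)
    rw [map_smulₛₗ, map_smul])

theorem incl_verAug (f : Y →ₗ[R] Z) (hf : IsGrHom 𝒴 𝒵 f) (x : M') :
    Ver.incl hdeg 𝒵 (verAug hdeg 𝒴 𝒵 ℳ' g hgdeg f hf x) = f (g x) := rfl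

theorem verAug_grHom (f : Y →ₗ[R] Z) (hf : IsGrHom 𝒴 𝒵 f) :
    IsGrHom ℳ' (verGr hdeg 𝒵) (verAug hdeg 𝒴 𝒵 ℳ' g hgdeg f hf) := by
  intro k x hx
  rw [mem_verGr, incl_verAug]
  exact hf _ _ (g_mem 𝒴 ℳ' g hgdeg hx)

theorem verAug_injective (f : Y →ₗ[R] Z) (hf : IsGrHom 𝒴 𝒵 f) (hinj : Function.Injective f)
    (hg : Function.Injective g) :
    Function.Injective (verAug hdeg 𝒴 𝒵 ℳ' g hgdeg f hf) := by
  intro x x' h
  have h' := congrArg (Ver.incl hdeg 𝒵) h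
  rw [incl_verAug, incl_verAug] at h'
  exact hg (hinj h')

theorem verAug_exact (f : Y →ₗ[R] Z) (hf : IsGrHom 𝒴 𝒵 f) (hinj : Function.Injective f)
    (f' : Z →ₗ[R] T) (hf' : IsGrHom 𝒵 𝒯 f') (hex : LinearMap.ker f' = LinearMap.range f) :
    LinearMap.ker (verMap hdeg 𝒵 𝒯 f' hf') =
      LinearMap.range (verAug hdeg 𝒴 𝒵 ℳ' g hgdeg f hf) := by
  apply le_antisymm
  · intro w hw
    rw [LinearMap.mem_ker] at hw
    have h1 : f' (Ver.incl hdeg 𝒵 w) = 0 := by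
      rw [← incl_verMap hdeg 𝒵 𝒯 f' hf', hw]
      rfl
    have h2 : Ver.incl hdeg 𝒵 w ∈ LinearMap.ker f' := h1
    rw [hex] at h2
    obtain ⟨y, hy⟩ := h2
    have hyV : y ∈ verSub e 𝒴 := by
      rw [mem_verSub]
      apply hinj
      rw [verProj_map_lin 𝒴 𝒵 f hf, hy]
      exact w.2
    obtain ⟨x, rfl⟩ := exists_g_eq 𝒴 ℳ' g hgdeg hyV
    exact ⟨x, Ver.ext hdeg 𝒵 hy⟩
  · rintro _ ⟨x, rfl⟩
    rw [LinearMap.mem_ker]
    apply Ver.ext hdeg 𝒯
    rw [incl_verMap, incl_verAug]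
    have : f (g x) ∈ LinearMap.ker f' := by
      rw [hex]
      exact ⟨_, rfl⟩
    rw [this]
    rfl

end Maps

section Res

variable {ι κ : Type} [AddCommGroup ι] [DecidableEq ι] [AddCommGroup κ] [DecidableEq κ]
  {e : κ →+ ι} (he : Function.Injective e)
variable {R : Type u} [CommRing R] {𝒜 : ι → AddSubgroup R} [GradedRing 𝒜]
variable {R' : Type u} [CommRing R'] {𝒜' : κ → AddSubgroup R'} [GradedRing 𝒜'] {φ : R' →+* R}
  (hdeg : ∀ j : κ, (𝒜' j).map (φ : R' →+ R) = 𝒜 (e j))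
variable {M : Type u} [AddCommGroup M] [Module R M] {ℳ : ι → AddSubgroup M}
  [DirectSum.Decomposition ℳ] [SetLike.GradedSMul 𝒜 ℳ]
variable {M' : Type u} [AddCommGroup M'] [Module R' M'] {ℳ' : κ → AddSubgroup M'}
  [DirectSum.Decomposition ℳ'] [SetLike.GradedSMul 𝒜' ℳ']
  (g : M' →ₛₗ[φ] M) (hg : Function.Injective g)
  (hgdeg : ∀ j : κ, (ℳ' j).map (g : M' →+ M) = ℳ (e j))

/-- The Veronese of a *injective resolution: a resolution of the Veronese module. -/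
noncomputable def verRes (E : StarInjRes 𝒜 ℳ) : GrRes 𝒜' ℳ' where
  X n := ver hdeg he (E.X n)
  d n := verMap hdeg (E.X n).gr (E.X (n + 1)).gr (E.d n) (E.d_grHom n)
  ε := verAug hdeg ℳ (E.X 0).gr ℳ' g hgdeg E.ε E.ε_grHom
  d_grHom n := verMap_grHom hdeg (E.X n).gr (E.X (n + 1)).gr (E.d n) (E.d_grHom n)
  ε_grHom := verAug_grHom hdeg ℳ (E.X 0).gr ℳ' g hgdeg E.ε E.ε_grHom
  ε_injective := verAug_injective hdeg ℳ (E.X 0).gr ℳ' g hgdeg E.ε E.ε_grHom E.ε_injective hg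
  exact_zero := verAug_exact hdeg ℳ (E.X 0).gr (E.X 1).gr ℳ' g hgdeg E.ε E.ε_grHom
    E.ε_injective (E.d 0) (E.d_grHom 0) E.exact_zero
  exact_succ n := verMap_exact hdeg (E.X n).gr (E.X (n + 1)).gr (E.X (n + 2)).gr (E.d n)
    (E.d_grHom n) (E.d (n + 1)) (E.d_grHom (n + 1)) (E.exact_succ n)

end Res

section Acyc

variable {ι κ : Type} [AddCommGroup ι] [DecidableEq ι] [AddCommGroup κ] [DecidableEq κ]
  [Module.Free ℤ ι] [Module.Finite ℤ ι] [Module.Free ℤ κ] [Module.Finite ℤ κ]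
  {e : κ →+ ι} (he : Function.Injective e)
variable {R : Type u} [CommRing R] [IsNoetherianRing R] {𝒜 : ι → AddSubgroup R} [GradedRing 𝒜]
variable {R' : Type u} [CommRing R'] {𝒜' : κ → AddSubgroup R'} [GradedRing 𝒜'] {φ : R' →+* R}
  (hdeg : ∀ j : κ, (𝒜' j).map (φ : R' →+ R) = 𝒜 (e j)) (hφ : Function.Injective φ)

include hφ in
theorem subsingleton_ver (Y : GMod.{u} 𝒜) (hY : IsStarInj 𝒜 Y.gr) (a' : Ideal R')
    (ha' : (a'.map φ).IsHomogeneous 𝒜) (j : ℕ) :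
    Subsingleton (LocCoh.H a' (j + 1) (Ver hdeg Y.gr)) := by
  haveI : IsNoetherianRing R' := isNoetherianRing_ver e 𝒜 𝒜' φ hdeg hφ
  letI : Algebra R' R := φ.toAlgebra
  letI : Module R' Y.carrier := Module.compHom Y.carrier φ
  haveI : IsScalarTower R' R Y.carrier := IsScalarTower.of_algebraMap_smul (fun r y => rfl)
  have s1 : Subsingleton (LocCoh.H (a'.map φ) (j + 1) Y.carrier) :=
    Groth.Agent.S13217.result R 𝒜 ⟨a'.map φ, ha'⟩ Y.carrier Y.gr hY (j + 1) (by omega)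
  obtain ⟨ψ, _⟩ := Helper98.CechRestrict.lc_restrict (R := R') (R' := R) a' Y.carrier (j + 1)
  have s2 : Subsingleton (LocCoh.H a' (j + 1) Y.carrier) := by
    have ψ' : LocCoh.H (a'.map φ) (j + 1) Y.carrier ≃+ LocCoh.H a' (j + 1) Y.carrier := ψ
    exact ψ'.symm.toEquiv.subsingleton
  let F := localCohomology a' (j + 1)
  let i₀ : ModuleCat.of R' (Ver hdeg Y.gr) ⟶ ModuleCat.of R' Y.carrier :=
    ModuleCat.ofHom
      { toFun := fun w => Ver.incl hdeg Y.gr w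
        map_add' := fun w w' => map_add _ _ _
        map_smul' := fun r w => rfl }
  let p₀ : ModuleCat.of R' Y.carrier ⟶ ModuleCat.of R' (Ver hdeg Y.gr) :=
    ModuleCat.ofHom
      { toFun := fun y => Ver.mk hdeg Y.gr (verProj e Y.gr y) (verProj_mem e Y.gr y)
        map_add' := fun y y' => Ver.ext hdeg Y.gr (by
          change verProj e Y.gr (y + y') = verProj e Y.gr y + verProj e Y.gr y'
          exact map_add _ _ _)
        map_smul' := fun r y => Ver.ext hdeg Y.gr (by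
          change verProj e Y.gr (φ r • y) = φ r • verProj e Y.gr y
          exact verProj_smul_φ e 𝒜 Y.gr 𝒜' φ hdeg r y) }
  have hip : i₀ ≫ p₀ = 𝟙 _ := by
    apply ModuleCat.hom_ext
    apply LinearMap.ext
    intro w
    apply Ver.ext hdeg Y.gr
    exact w.2
  have hF : F.map i₀ ≫ F.map p₀ = 𝟙 _ := by
    rw [← F.map_comp, hip, F.map_id]
  refine ⟨fun x y => ?_⟩
  have hx : (F.map p₀).hom ((F.map i₀).hom x) = x := by
    have := congrArg (fun f => f.hom x) hF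
    exact this
  have hy : (F.map p₀).hom ((F.map i₀).hom y) = y := by
    have := congrArg (fun f => f.hom y) hF
    exact this
  have hxy : (F.map i₀).hom x = (F.map i₀).hom y := s2.elim _ _
  rw [← hx, ← hy, hxy]

include hφ in
theorem vanM_ver (Y : GMod.{u} 𝒜) (hY : IsStarInj 𝒜 Y.gr) (a' : HomogeneousIdeal 𝒜')
    (ha' : (a'.toIdeal.map φ).IsHomogeneous 𝒜) (j : ℕ) (k : κ) :
    VanM a' (ver hdeg he Y).gr (j + 1) k := by
  haveI : IsNoetherianRing R' := isNoetherianRing_ver e 𝒜 𝒜' φ hdeg hφ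
  have s := subsingleton_ver hdeg hφ Y hY a'.toIdeal ha' j
  exact (Groth.Agent.Lib.Helper8.GrLCCompareRows.subsingleton_iff_vanM (𝒜 := 𝒜')
    (ℳ := (ver hdeg he Y).gr) a' (j + 1)).mp s k

end Acyc

end Groth.Agent.Lib.Helper8.GrVer
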