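import Groth.Agent.Lib.Helper8.GrVerMain

/-!
# Local cohomology of a Veronese module: the semilinear comparison map
-/

set_option autoImplicit false
set_option linter.unusedSectionVars false
universe u

open DirectSum GrLC CategoryTheory
open Groth.Agent.Lib.Helper30
open Groth.Agent.Lib.Helper8.GrLCBase
open Groth.Agent.Lib.Helper8.GrLCLES Groth.Agent.Lib.Helper8.GrAcyc
open Groth.Agent.Lib.Helper8.GrLCSerre Groth.Agent.Lib.Helper8.GrVer
open Groth.Agent.Lib.Helper8.GrVerMain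

namespace Groth.Agent.Lib.Helper8.GrVerIso

section Proj

variable {ι κ : Type} [DecidableEq ι] (e : κ → ι)
variable {R : Type u} [CommRing R]
variable {Y : Type u} [AddCommGroup Y] [Module R Y] (𝒴 : ι → AddSubgroup Y)
  [DirectSum.Decomposition 𝒴]

theorem verProj_mem_of_homogeneous (P : Submodule R Y) (hP : P.IsHomogeneous 𝒴) {y : Y}
    (hy : y ∈ P) : verProj e 𝒴 y ∈ P := by
  classical
  rw [← sum_support_decompose 𝒴 (verProj e 𝒴 y)]
  apply Submodule.sum_mem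
  intro i _
  rw [decompose_verProj]
  split_ifs
  · exact hP i hy
  · exact Submodule.zero_mem _

end Proj

section Main

variable {ι κ : Type} [AddCommGroup ι] [DecidableEq ι] [AddCommGroup κ] [DecidableEq κ]
  {e : κ →+ ι} (he : Function.Injective e)
variable {R : Type u} [CommRing R] {𝒜 : ι → AddSubgroup R} [GradedRing 𝒜]
variable {R' : Type u} [CommRing R'] {𝒜' : κ → AddSubgroup R'} [GradedRing 𝒜'] {φ : R' →+* R}
  (hdeg : ∀ j : κ, (𝒜' j).map (φ : R' →+ R) = 𝒜 (e j)) (hφ : Function.Injective φ)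
variable {M : Type u} [AddCommGroup M] [Module R M] {ℳ : ι → AddSubgroup M}
  [DirectSum.Decomposition ℳ] [SetLike.GradedSMul 𝒜 ℳ]
variable {M' : Type u} [AddCommGroup M'] [Module R' M'] {ℳ' : κ → AddSubgroup M'}
  [DirectSum.Decomposition ℳ'] [SetLike.GradedSMul 𝒜' ℳ']
  (g : M' →ₛₗ[φ] M) (hg : Function.Injective g)
  (hgdeg : ∀ j : κ, (ℳ' j).map (g : M' →+ M) = ℳ (e j))
variable (m : HomogeneousIdeal 𝒜) (m' : HomogeneousIdeal 𝒜')
  (h1 : m'.toIdeal.map φ ≤ m.toIdeal) (N : ℕ) (h2 : m.toIdeal ^ N ≤ m'.toIdeal.map φ)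
variable (E : StarInjRes 𝒜 ℳ)

include h1 h2 in
theorem incl_mem_cocyc (p : ℕ) (z : ↥((verRes he hdeg g hg hgdeg E).cocyc m'.toIdeal p)) :
    Xincl he hdeg g hg hgdeg E p z.1 ∈ E.cocyc m p := by
  refine ⟨(mem_gam_iff he hdeg g hg hgdeg m m' h1 N h2 E p _).mp z.2.1, ?_⟩
  change E.d p (Xincl he hdeg g hg hgdeg E p z.1) = 0
  rw [← Xincl_d]
  have : (verRes he hdeg g hg hgdeg E).d p z.1 = 0 := z.2.2
  rw [this, map_zero]

include h1 h2 in
theorem incl_mem_cobdy (p : ℕ) {z : ((verRes he hdeg g hg hgdeg E).X p).carrier}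
    (hz : z ∈ (verRes he hdeg g hg hgdeg E).cobdy m'.toIdeal p) :
    Xincl he hdeg g hg hgdeg E p z ∈ E.cobdy m p := by
  cases p with
  | zero =>
    rw [GrRes.mem_cobdy_zero] at hz
    rw [GrLCBase.mem_cobdy_zero, hz, map_zero]
  | succ n =>
    rw [GrRes.mem_cobdy_succ] at hz
    rw [GrLCBase.mem_cobdy_succ]
    obtain ⟨y, hy, rfl⟩ := hz
    exact ⟨Xincl he hdeg g hg hgdeg E n y,
      (mem_gam_iff he hdeg g hg hgdeg m m' h1 N h2 E n _).mp hy, (Xincl_d he hdeg g hg hgdeg E n y).symm⟩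

include h1 h2 in
theorem mem_cobdy_of_incl (p : ℕ) {z : ((verRes he hdeg g hg hgdeg E).X p).carrier}
    (hz : Xincl he hdeg g hg hgdeg E p z ∈ E.cobdy m p) :
    z ∈ (verRes he hdeg g hg hgdeg E).cobdy m'.toIdeal p := by
  cases p with
  | zero =>
    rw [GrLCBase.mem_cobdy_zero] at hz
    rw [GrRes.mem_cobdy_zero]
    apply Xincl_injective he hdeg g hg hgdeg E 0
    rw [hz, map_zero]
  | succ n =>
    rw [GrLCBase.mem_cobdy_succ] at hz
    rw [GrRes.mem_cobdy_succ]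
    obtain ⟨y, hy, hyz⟩ := hz
    have hy' : verProj e (E.X n).gr y ∈ gam m.toIdeal (E.X n).carrier :=
      verProj_mem_of_homogeneous e (E.X n).gr _ (gam_isHomogeneous 𝒜 (E.X n).gr m) hy
    refine ⟨Xmk he hdeg g hg hgdeg E n _ (verProj_mem e (E.X n).gr y),
      (mem_gam_iff he hdeg g hg hgdeg m m' h1 N h2 E n _).mpr hy', ?_⟩
    apply Xincl_injective he hdeg g hg hgdeg E (n + 1)
    rw [Xincl_d, Xincl_Xmk,
      verProj_map_lin (e := e) (E.X n).gr (E.X (n + 1)).gr (E.d n) (E.d_grHom n), hyz]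
    exact Ver.incl_mem hdeg (E.X (n + 1)).gr z

/-- The comparison map on cocycles. -/
noncomputable def Theta0 (p : ℕ) :
    ↥((verRes he hdeg g hg hgdeg E).cocyc m'.toIdeal p) →ₛₗ[φ] E.H m p where
  toFun z := E.toH m p ⟨Xincl he hdeg g hg hgdeg E p z.1,
    incl_mem_cocyc he hdeg g hg hgdeg m m' h1 N h2 E p z⟩
  map_add' z w := by
    rw [← map_add]
    rfl
  map_smul' r z := by
    rw [← map_smul]
    rfl

/-- The comparison map from the cohomology of the Veronese resolution to the local cohomology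
of the original module. -/
noncomputable def Theta (p : ℕ) : (verRes he hdeg g hg hgdeg E).H m'.toIdeal p →ₛₗ[φ] E.H m p :=
  Submodule.liftQ _ (Theta0 he hdeg g hg hgdeg m m' h1 N h2 E p) (by
    intro z hz
    rw [LinearMap.mem_ker]
    change E.toH m p _ = 0
    rw [Submodule.mkQ_apply, Submodule.Quotient.mk_eq_zero]
    exact incl_mem_cobdy he hdeg g hg hgdeg m m' h1 N h2 E p hz)

theorem Theta_toH (p : ℕ) (z : ↥((verRes he hdeg g hg hgdeg E).cocyc m'.toIdeal p)) :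
    Theta he hdeg g hg hgdeg m m' h1 N h2 E p ((verRes he hdeg g hg hgdeg E).toH m'.toIdeal p z) =
      E.toH m p ⟨Xincl he hdeg g hg hgdeg E p z.1,
        incl_mem_cocyc he hdeg g hg hgdeg m m' h1 N h2 E p z⟩ := rfl

theorem Theta_injective (p : ℕ) :
    Function.Injective (Theta he hdeg g hg hgdeg m m' h1 N h2 E p) := by
  rw [injective_iff_map_eq_zero]
  intro x hx
  obtain ⟨z, rfl⟩ := Submodule.mkQ_surjective _ x
  change Theta he hdeg g hg hgdeg m m' h1 N h2 E p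
    ((verRes he hdeg g hg hgdeg E).toH m'.toIdeal p z) = 0 at hx
  rw [Theta_toH, Submodule.mkQ_apply, Submodule.Quotient.mk_eq_zero] at hx
  change (verRes he hdeg g hg hgdeg E).toH m'.toIdeal p z = 0
  rw [GrRes.toH_eq_zero_iff]
  exact mem_cobdy_of_incl he hdeg g hg hgdeg m m' h1 N h2 E p hx

theorem Theta_mem (p : ℕ) (j : κ) {x : (verRes he hdeg g hg hgdeg E).H m'.toIdeal p}
    (hx : x ∈ (verRes he hdeg g hg hgdeg E).Hgr m'.toIdeal p j) :
    Theta he hdeg g hg hgdeg m m' h1 N h2 E p x ∈ E.Hgr m p (e j) := by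
  obtain ⟨z, hz, rfl⟩ := hx
  exact ⟨_, (mem_gr_iff he hdeg g hg hgdeg E p j z.1).mp hz,
    (Theta_toH he hdeg g hg hgdeg m m' h1 N h2 E p z).symm⟩

theorem exists_of_mem (p : ℕ) (j : κ) {y : E.H m p} (hy : y ∈ E.Hgr m p (e j)) :
    ∃ x ∈ (verRes he hdeg g hg hgdeg E).Hgr m'.toIdeal p j,
      Theta he hdeg g hg hgdeg m m' h1 N h2 E p x = y := by
  obtain ⟨z, hz, rfl⟩ := hy
  let zc : ↥(Zc E m p (e j)) := ⟨z.1, z.2.1, z.2.2, hz⟩
  refine ⟨(verRes he hdeg g hg hgdeg E).toH m'.toIdeal p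
    ⟨zmk he hdeg g hg hgdeg m E zc, zmk_mem_cocyc he hdeg g hg hgdeg m m' h1 N h2 E zc⟩,
    ⟨⟨zmk he hdeg g hg hgdeg m E zc, zmk_mem_cocyc he hdeg g hg hgdeg m m' h1 N h2 E zc⟩,
      (mem_gr_iff he hdeg g hg hgdeg E p j (zmk he hdeg g hg hgdeg m E zc)).mpr hz, rfl⟩, ?_⟩
  rw [Theta_toH]
  rfl

end Main

section Final

variable {ι κ : Type} [AddCommGroup ι] [DecidableEq ι] [AddCommGroup κ] [DecidableEq κ]
  [Module.Free ℤ ι] [Module.Finite ℤ ι] [Module.Free ℤ κ] [Module.Finite ℤ κ]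
  {e : κ →+ ι} (he : Function.Injective e)
variable {R : Type u} [CommRing R] [IsNoetherianRing R] {𝒜 : ι → AddSubgroup R} [GradedRing 𝒜]
variable {R' : Type u} [CommRing R'] {𝒜' : κ → AddSubgroup R'} [GradedRing 𝒜'] {φ : R' →+* R}
  (hdeg : ∀ j : κ, (𝒜' j).map (φ : R' →+ R) = 𝒜 (e j)) (hφ : Function.Injective φ)
variable {M : Type u} [AddCommGroup M] [Module R M] {ℳ : ι → AddSubgroup M}
  [DirectSum.Decomposition ℳ] [SetLike.GradedSMul 𝒜 ℳ]
variable {M' : Type u} [AddCommGroup M'] [Module R' M'] {ℳ' : κ → AddSubgroup M'}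
  [DirectSum.Decomposition ℳ'] [SetLike.GradedSMul 𝒜' ℳ']
  (g : M' →ₛₗ[φ] M) (hg : Function.Injective g)
  (hgdeg : ∀ j : κ, (ℳ' j).map (g : M' →+ M) = ℳ (e j))
variable (m : HomogeneousIdeal 𝒜) (m' : HomogeneousIdeal 𝒜')
  (h1 : m'.toIdeal.map φ ≤ m.toIdeal) (N : ℕ) (h2 : m.toIdeal ^ N ≤ m'.toIdeal.map φ)
  (hhom : (m'.toIdeal.map φ).IsHomogeneous 𝒜)
variable (E : StarInjRes 𝒜 ℳ) (F : StarInjRes 𝒜' ℳ')

include he hdeg hφ hg hgdeg h1 h2 hhom in
/-- **Local cohomology of a Veronese module**: a semilinear injection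
`H^p_{m'}(M^(e)) → H^p_m(M)` carrying the piece of degree `j` onto the piece of degree `e j`. -/
theorem exists_semilinear (p : ℕ) :
    ∃ J : F.H m' p →ₛₗ[φ] E.H m p, Function.Injective J ∧
      (∀ (j : κ) (x : F.H m' p), x ∈ F.Hgr m' p j → J x ∈ E.Hgr m p (e j)) ∧
      (∀ (j : κ) (y : E.H m p), y ∈ E.Hgr m p (e j) → ∃ x ∈ F.Hgr m' p j, J x = y) := by
  have hX : ∀ (n k : ℕ) (g' : κ), VanM m' ((verRes he hdeg g hg hgdeg E).X n).gr (k + 1) g' :=
    fun n k g' => vanM_ver he hdeg hφ (E.X n) (E.starInj n) m' hhom k g'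
  obtain ⟨Ψ, hΨ⟩ := GrAcycMain.main' (verRes he hdeg g hg hgdeg E) F m' hX p
  refine ⟨(Theta he hdeg g hg hgdeg m m' h1 N h2 E p).comp Ψ.symm.toLinearMap, ?_, ?_, ?_⟩
  · intro x y hxy
    have := Theta_injective he hdeg g hg hgdeg m m' h1 N h2 E p hxy
    exact Ψ.symm.injective this
  · intro j x hx
    apply Theta_mem he hdeg g hg hgdeg m m' h1 N h2 E p j
    rw [hΨ j]
    change Ψ (Ψ.symm x) ∈ F.Hgr m' p j
    rw [LinearEquiv.apply_symm_apply]
    exact hx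
  · intro j y hy
    obtain ⟨x, hx, hxy⟩ := exists_of_mem he hdeg g hg hgdeg m m' h1 N h2 E p j hy
    refine ⟨Ψ x, (hΨ j x).mp hx, ?_⟩
    change Theta he hdeg g hg hgdeg m m' h1 N h2 E p (Ψ.symm (Ψ x)) = y
    rw [LinearEquiv.symm_apply_apply]
    exact hxy

end Final

end Groth.Agent.Lib.Helper8.GrVerIso
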