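import Groth.Agent.Lib.Helper8.GrCanDual
import Groth.Agent.Lib.Helper8.GrVerIso

/-!
# The canonical module of a Veronese subring
-/

set_option autoImplicit false
set_option linter.unusedSectionVars false
universe u

open DirectSum GrLC
open Groth.Agent.Lib.Helper30
open Groth.Agent.Lib.Helper8.GrVer Groth.Agent.Lib.Helper8.GrCanDual

namespace Groth.Agent.Lib.Helper8.GrCanVer

section Setup

variable {R : Type u} [CommRing R] {𝒜 : ℤ → AddSubgroup R} [GradedRing 𝒜]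
variable {R' : Type u} [CommRing R'] {𝒜' : ℤ → AddSubgroup R'} [GradedRing 𝒜']
  (φ : R' →+* R) (hφ : Function.Injective φ) (q : ℤ) (hq : 0 < q)
  (hdeg : ∀ j : ℤ, (𝒜' j).map (φ : R' →+ R) = 𝒜 (j * q))

include hφ hq hdeg in
theorem hpos' (hpos : ∀ n : ℤ, n < 0 → 𝒜 n = ⊥) : ∀ j : ℤ, j < 0 → 𝒜' j = ⊥ := by
  intro j hj
  rw [eq_bot_iff]
  intro x hx
  have h1 : φ x ∈ 𝒜 (j * q) := by
    rw [← hdeg j]
    exact ⟨x, hx, rfl⟩
  rw [hpos (j * q) (mul_neg_of_neg_of_pos hj hq), AddSubgroup.mem_bot] at h1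
  rw [AddSubgroup.mem_bot]
  exact hφ (by rw [h1, map_zero])

include hdeg in
theorem φ_mem_zero (r : deg0 𝒜') : φ (r : R') ∈ deg0 𝒜 := by
  have h1 : φ (r : R') ∈ 𝒜 (0 * q) := by
    rw [← hdeg 0]
    exact ⟨r, r.2, rfl⟩
  rw [zero_mul] at h1
  exact h1

/-- The isomorphism of the degree-zero subrings. -/
noncomputable def phi0 : deg0 𝒜' ≃+* deg0 𝒜 :=
  RingEquiv.ofBijective
    ((φ.comp (deg0 𝒜').subtype).codRestrict (deg0 𝒜) (fun r => φ_mem_zero φ q hdeg r))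
    (by
      constructor
      · intro r s hrs
        apply Subtype.ext
        apply hφ
        exact congrArg Subtype.val hrs
      · rintro ⟨r, hr⟩
        have hr' : r ∈ 𝒜 (0 * q) := by
          rw [zero_mul]
          exact hr
        rw [← hdeg 0] at hr'
        obtain ⟨x, hx, hxr⟩ := hr'
        exact ⟨⟨x, hx⟩, Subtype.ext hxr⟩)

theorem phi0_coe (r : deg0 𝒜') : ((phi0 φ hφ q hdeg r : deg0 𝒜) : R) = φ (r : R') := rfl

include hφ hdeg in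
theorem h0' (h0 : IsField (deg0 𝒜)) : IsField (deg0 𝒜') :=
  (phi0 φ hφ q hdeg).toMulEquiv.isField h0

end Setup

section Main

variable {R : Type u} [CommRing R] [IsNoetherianRing R] {𝒜 : ℤ → AddSubgroup R} [GradedRing 𝒜]
variable (hpos : ∀ n : ℤ, n < 0 → 𝒜 n = ⊥) (h0 : IsField (deg0 𝒜)) (m : HomogeneousIdeal 𝒜)
  (hmsp : m.toIdeal = Ideal.span (⋃ n ∈ Set.Ioi (0 : ℤ), (𝒜 n : Set R)))
variable {E' : Type u} [AddCommGroup E'] [Module R E'] (𝓔 : ℤ → AddSubgroup E')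
  [DirectSum.Decomposition 𝓔] [SetLike.GradedSMul 𝒜 𝓔]
  (e : (R ⧸ m.toIdeal) →ₗ[R] E') (he : IsStarInjHull 𝒜 (quotGr 𝒜 m) 𝓔 e)
variable {C : Type u} [AddCommGroup C] [Module R C] (𝒞 : ℤ → AddSubgroup C)
  [DirectSum.Decomposition 𝒞] [SetLike.GradedSMul 𝒜 𝒞] [Module.Finite R C]
variable (n : ℕ) (I : StarInjRes 𝒜 𝒜) (φC : (C →ₗ[R] E') ≃ₗ[R] I.H m n)
  (hφC : IsGrHom (fun d => (homDeg 𝒜 𝒞 𝓔 d).toAddSubgroup) (I.Hgr m n) φC.toLinearMap)
variable {R' : Type u} [CommRing R'] [IsNoetherianRing R'] {𝒜' : ℤ → AddSubgroup R'}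
  [GradedRing 𝒜']
variable (hpos' : ∀ n : ℤ, n < 0 → 𝒜' n = ⊥) (h0' : IsField (deg0 𝒜')) (m' : HomogeneousIdeal 𝒜')
  (hm'sp : m'.toIdeal = Ideal.span (⋃ n ∈ Set.Ioi (0 : ℤ), (𝒜' n : Set R')))
variable {E'' : Type u} [AddCommGroup E''] [Module R' E''] (𝓔'' : ℤ → AddSubgroup E'')
  [DirectSum.Decomposition 𝓔''] [SetLike.GradedSMul 𝒜' 𝓔'']
  (e' : (R' ⧸ m'.toIdeal) →ₗ[R'] E'') (he' : IsStarInjHull 𝒜' (quotGr 𝒜' m') 𝓔'' e')
variable {C' : Type u} [AddCommGroup C'] [Module R' C'] (𝒞' : ℤ → AddSubgroup C')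
  [DirectSum.Decomposition 𝒞'] [SetLike.GradedSMul 𝒜' 𝒞'] [Module.Finite R' C']
variable (I' : StarInjRes 𝒜' 𝒜') (φC' : (C' →ₗ[R'] E'') ≃ₗ[R'] I'.H m' n)
  (hφC' : IsGrHom (fun d => (homDeg 𝒜' 𝒞' 𝓔'' d).toAddSubgroup) (I'.Hgr m' n) φC'.toLinearMap)
variable (φ : R' →+* R) (hφ : Function.Injective φ) (q : ℤ) (hq : 0 < q)
  (hdeg : ∀ j : ℤ, (𝒜' j).map (φ : R' →+ R) = 𝒜 (j * q))
variable (J : I'.H m' n →ₛₗ[φ] I.H m n) (hJinj : Function.Injective J)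
  (hJmem : ∀ (j : ℤ) (x : I'.H m' n), x ∈ I'.Hgr m' n j → J x ∈ I.Hgr m n (j * q))
  (hJsurj : ∀ (j : ℤ) (y : I.H m n), y ∈ I.Hgr m n (j * q) → ∃ x ∈ I'.Hgr m' n j, J x = y)

/-- The compatibility relation between an element of `C'` and an element of `C`. -/
def Rel (c' : C') (c : C) : Prop :=
  ∀ h' : I'.H m' n, coord hpos h0 m hmsp 𝓔 e he (φC.symm (J h') c) =
    phi0 φ hφ q hdeg (coord hpos' h0' m' hm'sp 𝓔'' e' he' (φC'.symm h' c'))

theorem rel_zero : Rel hpos h0 m hmsp 𝓔 e he n I φC hpos' h0' m' hm'sp 𝓔'' e' he' I' φC' φ hφ q hdeg J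
    (0 : C') (0 : C) := by
  intro h'
  rw [map_zero, map_zero, coord_zero, coord_zero, map_zero]

theorem rel_add {c₁' c₂' : C'} {c₁ c₂ : C}
    (h1 : Rel hpos h0 m hmsp 𝓔 e he n I φC hpos' h0' m' hm'sp 𝓔'' e' he' I' φC' φ hφ q hdeg J c₁' c₁)
    (h2 : Rel hpos h0 m hmsp 𝓔 e he n I φC hpos' h0' m' hm'sp 𝓔'' e' he' I' φC' φ hφ q hdeg J c₂' c₂) :
    Rel hpos h0 m hmsp 𝓔 e he n I φC hpos' h0' m' hm'sp 𝓔'' e' he' I' φC' φ hφ q hdeg J
      (c₁' + c₂') (c₁ + c₂) := by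
  intro h'
  rw [map_add, map_add, coord_add, coord_add, map_add, h1 h', h2 h']

theorem rel_sub {c₁' c₂' : C'} {c₁ c₂ : C}
    (h1 : Rel hpos h0 m hmsp 𝓔 e he n I φC hpos' h0' m' hm'sp 𝓔'' e' he' I' φC' φ hφ q hdeg J c₁' c₁)
    (h2 : Rel hpos h0 m hmsp 𝓔 e he n I φC hpos' h0' m' hm'sp 𝓔'' e' he' I' φC' φ hφ q hdeg J c₂' c₂) :
    Rel hpos h0 m hmsp 𝓔 e he n I φC hpos' h0' m' hm'sp 𝓔'' e' he' I' φC' φ hφ q hdeg J
      (c₁' - c₂') (c₁ - c₂) := by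
  intro h'
  have e1 := h1 h'
  have e2 := h2 h'
  have a1 : coord hpos h0 m hmsp 𝓔 e he (φC.symm (J h') (c₁ - c₂)) +
      coord hpos h0 m hmsp 𝓔 e he (φC.symm (J h') c₂) =
      coord hpos h0 m hmsp 𝓔 e he (φC.symm (J h') c₁) := by
    rw [← coord_add, ← map_add, sub_add_cancel]
  have a2 : coord hpos' h0' m' hm'sp 𝓔'' e' he' (φC'.symm h' (c₁' - c₂')) +
      coord hpos' h0' m' hm'sp 𝓔'' e' he' (φC'.symm h' c₂') =
      coord hpos' h0' m' hm'sp 𝓔'' e' he' (φC'.symm h' c₁') := by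
    rw [← coord_add, ← map_add, sub_add_cancel]
  have a3 := congrArg (phi0 φ hφ q hdeg) a2
  rw [map_add, ← e1, ← e2, ← a1] at a3
  exact (add_right_cancel a3).symm

theorem rel_smul (r' : R') {c' : C'} {c : C}
    (h1 : Rel hpos h0 m hmsp 𝓔 e he n I φC hpos' h0' m' hm'sp 𝓔'' e' he' I' φC' φ hφ q hdeg J c' c) :
    Rel hpos h0 m hmsp 𝓔 e he n I φC hpos' h0' m' hm'sp 𝓔'' e' he' I' φC' φ hφ q hdeg J
      (r' • c') (φ r' • c) := by
  intro h'
  have e1 := h1 (r' • h')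
  have a1 : φC.symm (J h') (φ r' • c) = φC.symm (J (r' • h')) c := by
    have h2 : J (r' • h') = φ r' • J h' := map_smulₛₗ J r' h'
    rw [h2, LinearEquiv.map_smul, LinearMap.smul_apply, LinearMap.map_smul]
  have a2 : φC'.symm h' (r' • c') = φC'.symm (r' • h') c' := by
    rw [LinearEquiv.map_smul, LinearMap.smul_apply, LinearMap.map_smul]
  rw [a1, a2]
  exact e1

include hφC hφC' hJmem hq in
/-- For homogeneous elements the relation only has to be tested against classes of the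
complementary degree. -/
theorem rel_of_homog (d' : ℤ) {c' : C'} (hc' : c' ∈ 𝒞' (-d')) {c : C} (hc : c ∈ 𝒞 (-(d' * q)))
    (hrel : ∀ h' ∈ I'.Hgr m' n d', coord hpos h0 m hmsp 𝓔 e he (φC.symm (J h') c) =
      phi0 φ hφ q hdeg (coord hpos' h0' m' hm'sp 𝓔'' e' he' (φC'.symm h' c'))) :
    Rel hpos h0 m hmsp 𝓔 e he n I φC hpos' h0' m' hm'sp 𝓔'' e' he' I' φC' φ hφ q hdeg J c' c := by
  classical
  intro h'
  have hint := Groth.Agent.S13225.result R' 𝒜' m' R' 𝒜' I' n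
  letI : DirectSum.Decomposition (I'.Hgr m' n) := hint.chooseDecomposition
  induction h' using DirectSum.Decomposition.inductionOn (I'.Hgr m' n) with
  | zero =>
    rw [map_zero, map_zero, map_zero, LinearMap.zero_apply, LinearMap.zero_apply, coord_zero,
      coord_zero, map_zero]
  | add x y hx hy =>
    rw [map_add, map_add, LinearMap.add_apply, coord_add, hx, hy, map_add, LinearMap.add_apply,
      coord_add, map_add]
  | @homogeneous d'' x =>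
    by_cases hd : d'' = d'
    · subst hd
      exact hrel x x.2
    · have hJx := hJmem d'' x x.2
      have h1 := symm_isGrHomDeg m 𝓔 𝒞 n I φC hφC hJx (-(d' * q)) c hc
      have hne : -(d' * q) + d'' * q ≠ 0 := by
        intro h
        apply hd
        have h3 : (d'' - d') * q = 0 := by
          rw [sub_mul]
          linarith
        rcases mul_eq_zero.mp h3 with h4 | h4
        · omega
        · omega
      rw [coord_of_mem_ne hpos h0 m hmsp 𝓔 e he hne h1]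
      have h2 := symm_isGrHomDeg m' 𝓔'' 𝒞' n I' φC' hφC' x.2 (-d') c' hc'
      rw [coord_of_mem_ne hpos' h0' m' hm'sp 𝓔'' e' he' (by omega) h2, map_zero]


/-- Multiplication by `q` as an additive endomorphism of `ℤ`. -/
def eq (q : ℤ) : ℤ →+ ℤ := AddMonoidHom.mulRight q

theorem eq_apply (q j : ℤ) : eq q j = j * q := rfl

local notation "RelN" =>
  Rel hpos h0 m hmsp 𝓔 e he n I φC hpos' h0' m' hm'sp 𝓔'' e' he' I' φC' φ hφ q hdeg J

include hφC hJsurj in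
/-- Uniqueness: an element of the Veronese submodule of `C` related to `0` vanishes. -/
theorem rel_unique {c : C} (hc : c ∈ verSub (eq q) 𝒞) (hrel : RelN (0 : C') c) : c = 0 := by
  apply ext_decompose 𝒞
  intro i
  rw [decompose_zero, DirectSum.zero_apply, ZeroMemClass.coe_zero]
  by_cases hi : i ∈ Set.range (eq q)
  · obtain ⟨j, rfl⟩ := hi
    rw [eq_apply]
    by_contra hne
    have hmem : (decompose 𝒞 c (j * q) : C) ∈ 𝒞 (-(-(j * q))) := by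
      rw [neg_neg]
      exact (decompose 𝒞 c (j * q)).2
    obtain ⟨h, hh, hcoord⟩ := exists_coord_ne hpos h0 m hmsp 𝓔 e he 𝒞 n I φC hφC (-(j * q)) hmem hne
    have hh' : h ∈ I.Hgr m n ((-j) * q) := by rwa [neg_mul]
    obtain ⟨x, hx, hJx⟩ := hJsurj (-j) h hh'
    apply hcoord
    have h1 := hrel x
    rw [hJx, map_zero, coord_zero, map_zero] at h1
    have h2 := coord_map_decompose hpos h0 m hmsp 𝓔 e he 𝒞 (φC.symm h) (-(j * q))
      (symm_isGrHomDeg m 𝓔 𝒞 n I φC hφC hh) c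
    rw [neg_neg] at h2
    rw [← h2]
    exact h1
  · exact decompose_eq_zero_of_mem_verSub (eq q) 𝒞 hc hi

include hφC hφC' hJinj hJmem hJsurj hq in
/-- Existence for homogeneous elements. -/
theorem exists_rel_of_homog (d' : ℤ) {c' : C'} (hc' : c' ∈ 𝒞' (-d')) :
    ∃ c ∈ 𝒞 (-(d' * q)), RelN c' c := by
  classical
  have hex : ∀ h : ↥(I.Hcomp m n (d' * q)), ∃ x ∈ I'.Hgr m' n d', J x = (h : I.H m n) :=
    fun h => hJsurj d' h h.2
  choose Jinv hJinvmem hJinv using hex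
  have hadd : ∀ h1 h2, Jinv (h1 + h2) = Jinv h1 + Jinv h2 := by
    intro h1 h2
    apply hJinj
    rw [map_add, hJinv, hJinv, hJinv]
    rfl
  have hsmul : ∀ (r : deg0 𝒜) h, Jinv (r • h) =
      (((phi0 φ hφ q hdeg).symm r : deg0 𝒜') : R') • Jinv h := by
    intro r h
    apply hJinj
    rw [hJinv, map_smulₛₗ, hJinv]
    have h3 : φ (((phi0 φ hφ q hdeg).symm r : deg0 𝒜') : R') = (r : R) := by
      rw [← phi0_coe φ hφ q hdeg, RingEquiv.apply_symm_apply]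
    rw [h3]
    rfl
  let l : ↥(I.Hcomp m n (d' * q)) →ₗ[deg0 𝒜] deg0 𝒜 :=
    { toFun := fun h => phi0 φ hφ q hdeg
        (coord hpos' h0' m' hm'sp 𝓔'' e' he' (φC'.symm (Jinv h) c'))
      map_add' := by
        intro h1 h2
        rw [hadd, map_add, LinearMap.add_apply, coord_add, map_add]
      map_smul' := by
        intro r h
        rw [hsmul, map_smul, LinearMap.smul_apply, coord_smul, map_mul,
          RingEquiv.apply_symm_apply, RingHom.id_apply, smul_eq_mul] }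
  obtain ⟨c, hc, hcl⟩ := exists_coord_rep hpos h0 m hmsp 𝓔 e he 𝒞 n I φC hφC (d' * q) l
  refine ⟨c, hc, rel_of_homog hpos h0 m hmsp 𝓔 e he 𝒞 n I φC hφC hpos' h0' m' hm'sp 𝓔'' e' he' 𝒞'
    I' φC' hφC' φ hφ q hq hdeg J hJmem d' hc' hc ?_⟩
  intro h' hh'
  have h1 := hcl ⟨J h', hJmem d' h' hh'⟩
  have h2 : Jinv ⟨J h', hJmem d' h' hh'⟩ = h' := hJinj (hJinv _)
  rw [h1]
  change phi0 φ hφ q hdeg (coord hpos' h0' m' hm'sp 𝓔'' e' he' (φC'.symm (Jinv _) c')) = _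
  rw [h2]

include hφC hφC' hJinj hJmem hJsurj hq in
/-- Existence in general. -/
theorem exists_rel (c' : C') : ∃ c ∈ verSub (eq q) 𝒞, RelN c' c := by
  classical
  induction c' using DirectSum.Decomposition.inductionOn 𝒞' with
  | zero =>
    exact ⟨0, zero_mem _, rel_zero hpos h0 m hmsp 𝓔 e he n I φC hpos' h0' m' hm'sp 𝓔'' e' he' I' φC'
      φ hφ q hdeg J⟩
  | @homogeneous j x =>
    have hx : (x : C') ∈ 𝒞' (-(-j)) := by
      rw [neg_neg]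
      exact x.2
    obtain ⟨c, hc, hrel⟩ := exists_rel_of_homog hpos h0 m hmsp 𝓔 e he 𝒞 n I φC hφC hpos' h0' m' hm'sp
      𝓔'' e' he' 𝒞' I' φC' hφC' φ hφ q hq hdeg J hJinj hJmem hJsurj (-j) hx
    refine ⟨c, ?_, hrel⟩
    have h3 : -(-j * q) = (eq q) j := by
      rw [neg_mul, neg_neg]
      rfl
    rw [h3] at hc
    exact mem_verSub_of_mem (eq q) 𝒞 hc
  | add x y hx hy =>
    obtain ⟨c1, hc1, h1⟩ := hx
    obtain ⟨c2, hc2, h2⟩ := hy
    exact ⟨c1 + c2, add_mem hc1 hc2, rel_add hpos h0 m hmsp 𝓔 e he n I φC hpos' h0' m' hm'sp 𝓔'' e'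
      he' I' φC' φ hφ q hdeg J h1 h2⟩


/-- The comparison map, as a function. -/
noncomputable def gFun (c' : C') : C :=
  Classical.choose (exists_rel hpos h0 m hmsp 𝓔 e he 𝒞 n I φC hφC hpos' h0' m' hm'sp
      𝓔'' e' he' 𝒞' I' φC' hφC' φ hφ q hq hdeg J hJinj hJmem hJsurj c')

local notation "gF" =>
  gFun hpos h0 m hmsp 𝓔 e he 𝒞 n I φC hφC hpos' h0' m' hm'sp
      𝓔'' e' he' 𝒞' I' φC' hφC' φ hφ q hq hdeg J hJinj hJmem hJsurj

theorem gFun_mem (c' : C') : gF c' ∈ verSub (eq q) 𝒞 :=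
  (Classical.choose_spec (exists_rel hpos h0 m hmsp 𝓔 e he 𝒞 n I φC hφC hpos' h0' m' hm'sp
      𝓔'' e' he' 𝒞' I' φC' hφC' φ hφ q hq hdeg J hJinj hJmem hJsurj c')).1

theorem gFun_rel (c' : C') : RelN c' (gF c') :=
  (Classical.choose_spec (exists_rel hpos h0 m hmsp 𝓔 e he 𝒞 n I φC hφC hpos' h0' m' hm'sp
      𝓔'' e' he' 𝒞' I' φC' hφC' φ hφ q hq hdeg J hJinj hJmem hJsurj c')).2

theorem gFun_unique {c' : C'} {c : C} (hc : c ∈ verSub (eq q) 𝒞) (hrel : RelN c' c) :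
    gF c' = c := by
  have h1 := rel_sub hpos h0 m hmsp 𝓔 e he n I φC hpos' h0' m' hm'sp 𝓔'' e' he' I' φC' φ hφ q hdeg J
    (gFun_rel hpos h0 m hmsp 𝓔 e he 𝒞 n I φC hφC hpos' h0' m' hm'sp
      𝓔'' e' he' 𝒞' I' φC' hφC' φ hφ q hq hdeg J hJinj hJmem hJsurj c') hrel
  rw [sub_self] at h1
  exact sub_eq_zero.mp (rel_unique hpos h0 m hmsp 𝓔 e he 𝒞 n I φC hφC hpos' h0' m' hm'sp
      𝓔'' e' he' I' φC' φ hφ q hdeg J hJsurj (sub_mem (gFun_mem hpos h0 m hmsp 𝓔 e he 𝒞 n I φC hφC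
      hpos' h0' m' hm'sp 𝓔'' e' he' 𝒞' I' φC' hφC' φ hφ q hq hdeg J hJinj hJmem hJsurj c') hc) h1)

/-- The comparison map, semilinear over the inclusion of the Veronese subring. -/
noncomputable def gMap : C' →ₛₗ[φ] C where
  toFun := gF
  map_add' := by
    intro x y
    apply gFun_unique
    · exact add_mem (gFun_mem hpos h0 m hmsp 𝓔 e he 𝒞 n I φC hφC
        hpos' h0' m' hm'sp 𝓔'' e' he' 𝒞' I' φC' hφC' φ hφ q hq hdeg J hJinj hJmem hJsurj x)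
        (gFun_mem hpos h0 m hmsp 𝓔 e he 𝒞 n I φC hφC
        hpos' h0' m' hm'sp 𝓔'' e' he' 𝒞' I' φC' hφC' φ hφ q hq hdeg J hJinj hJmem hJsurj y)
    · exact rel_add hpos h0 m hmsp 𝓔 e he n I φC hpos' h0' m' hm'sp 𝓔'' e' he' I' φC' φ hφ q hdeg J
        (gFun_rel hpos h0 m hmsp 𝓔 e he 𝒞 n I φC hφC hpos' h0' m' hm'sp
          𝓔'' e' he' 𝒞' I' φC' hφC' φ hφ q hq hdeg J hJinj hJmem hJsurj x)
        (gFun_rel hpos h0 m hmsp 𝓔 e he 𝒞 n I φC hφC hpos' h0' m' hm'sp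
          𝓔'' e' he' 𝒞' I' φC' hφC' φ hφ q hq hdeg J hJinj hJmem hJsurj y)
  map_smul' := by
    intro r x
    apply gFun_unique
    · exact smul_mem_verSub (eq q) 𝒜 𝒞 𝒜' φ hdeg r (gFun_mem hpos h0 m hmsp 𝓔 e he 𝒞 n I φC hφC
        hpos' h0' m' hm'sp 𝓔'' e' he' 𝒞' I' φC' hφC' φ hφ q hq hdeg J hJinj hJmem hJsurj x)
    · exact rel_smul hpos h0 m hmsp 𝓔 e he n I φC hpos' h0' m' hm'sp 𝓔'' e' he' I' φC' φ hφ q hdeg J r
        (gFun_rel hpos h0 m hmsp 𝓔 e he 𝒞 n I φC hφC hpos' h0' m' hm'sp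
          𝓔'' e' he' 𝒞' I' φC' hφC' φ hφ q hq hdeg J hJinj hJmem hJsurj x)

local notation "gM" =>
  gMap hpos h0 m hmsp 𝓔 e he 𝒞 n I φC hφC hpos' h0' m' hm'sp
      𝓔'' e' he' 𝒞' I' φC' hφC' φ hφ q hq hdeg J hJinj hJmem hJsurj

theorem gMap_apply (c' : C') : gM c' = gF c' := rfl


theorem gMap_injective : Function.Injective gM := by
  rw [injective_iff_map_eq_zero]
  intro c' hc'
  have hrel := gFun_rel hpos h0 m hmsp 𝓔 e he 𝒞 n I φC hφC hpos' h0' m' hm'sp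
      𝓔'' e' he' 𝒞' I' φC' hφC' φ hφ q hq hdeg J hJinj hJmem hJsurj c'
  rw [← gMap_apply, hc'] at hrel
  have hz : ∀ h' : I'.H m' n, coord hpos' h0' m' hm'sp 𝓔'' e' he' (φC'.symm h' c') = 0 := by
    intro h'
    have h1 := hrel h'
    rw [map_zero, coord_zero] at h1
    exact ((phi0 φ hφ q hdeg).map_eq_zero_iff.mp h1.symm)
  apply ext_decompose 𝒞'
  intro j
  rw [decompose_zero, DirectSum.zero_apply, ZeroMemClass.coe_zero]
  by_contra hne
  have hmem : (decompose 𝒞' c' j : C') ∈ 𝒞' (-(-j)) := by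
    rw [neg_neg]
    exact (decompose 𝒞' c' j).2
  obtain ⟨h', hh', hcoord⟩ := exists_coord_ne hpos' h0' m' hm'sp 𝓔'' e' he' 𝒞' n I' φC' hφC' (-j)
    hmem hne
  apply hcoord
  have h2 := coord_map_decompose hpos' h0' m' hm'sp 𝓔'' e' he' 𝒞' (φC'.symm h') (-j)
    (symm_isGrHomDeg m' 𝓔'' 𝒞' n I' φC' hφC' hh') c'
  rw [neg_neg] at h2
  rw [← h2]
  exact hz h'

theorem gMap_map (j : ℤ) : (𝒞' j).map (gM : C' →+ C) = 𝒞 (j * q) := by
  classical
  have hneg : -(-j * q) = j * q := by rw [neg_mul, neg_neg]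
  apply le_antisymm
  · rintro _ ⟨c', hc', rfl⟩
    have hx : c' ∈ 𝒞' (-(-j)) := by
      rw [neg_neg]
      exact hc'
    obtain ⟨c, hc, hrel⟩ := exists_rel_of_homog hpos h0 m hmsp 𝓔 e he 𝒞 n I φC hφC hpos' h0' m' hm'sp
      𝓔'' e' he' 𝒞' I' φC' hφC' φ hφ q hq hdeg J hJinj hJmem hJsurj (-j) hx
    rw [hneg] at hc
    have hcV : c ∈ verSub (eq q) 𝒞 := mem_verSub_of_mem (eq q) 𝒞 (k := j) hc
    have h1 : gM c' = c := gFun_unique hpos h0 m hmsp 𝓔 e he 𝒞 n I φC hφC hpos' h0' m' hm'sp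
      𝓔'' e' he' 𝒞' I' φC' hφC' φ hφ q hq hdeg J hJinj hJmem hJsurj hcV hrel
    change gM c' ∈ 𝒞 (j * q)
    rw [h1]
    exact hc
  · intro c hc
    let l' : ↥(I'.Hcomp m' n (-j)) →ₗ[deg0 𝒜'] deg0 𝒜' :=
      { toFun := fun h' => (phi0 φ hφ q hdeg).symm
          (coord hpos h0 m hmsp 𝓔 e he (φC.symm (J (h' : I'.H m' n)) c))
        map_add' := by
          intro h1 h2
          have : ((h1 + h2 : ↥(I'.Hcomp m' n (-j))) : I'.H m' n) = (h1 : I'.H m' n) + h2 := rfl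
          rw [this, map_add, map_add, LinearMap.add_apply, coord_add, map_add]
        map_smul' := by
          intro r h
          have h1 : ((r • h : ↥(I'.Hcomp m' n (-j))) : I'.H m' n) = (r : R') • (h : I'.H m' n) := rfl
          have h2 : J ((r : R') • (h : I'.H m' n)) = φ (r : R') • J (h : I'.H m' n) :=
            map_smulₛₗ J (r : R') (h : I'.H m' n)
          rw [h1, h2, map_smul, LinearMap.smul_apply, ← phi0_coe φ hφ q hdeg r, coord_smul, map_mul,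
            RingEquiv.symm_apply_apply, RingHom.id_apply, smul_eq_mul] }
    obtain ⟨c', hc', hcl⟩ := exists_coord_rep hpos' h0' m' hm'sp 𝓔'' e' he' 𝒞' n I' φC' hφC' (-j) l'
    have hcq : c ∈ 𝒞 (-(-j * q)) := by
      rw [hneg]
      exact hc
    have hrel : RelN c' c := by
      apply rel_of_homog hpos h0 m hmsp 𝓔 e he 𝒞 n I φC hφC hpos' h0' m' hm'sp 𝓔'' e' he' 𝒞'
        I' φC' hφC' φ hφ q hq hdeg J hJmem (-j) hc' hcq
      intro h' hh'
      have h1 := hcl ⟨h', hh'⟩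
      rw [h1]
      change _ = phi0 φ hφ q hdeg ((phi0 φ hφ q hdeg).symm _)
      rw [RingEquiv.apply_symm_apply]
    have hcV : c ∈ verSub (eq q) 𝒞 := mem_verSub_of_mem (eq q) 𝒞 (k := j) hc
    have h1 : gM c' = c := gFun_unique hpos h0 m hmsp 𝓔 e he 𝒞 n I φC hφC hpos' h0' m' hm'sp
      𝓔'' e' he' 𝒞' I' φC' hφC' φ hφ q hq hdeg J hJinj hJmem hJsurj hcV hrel
    rw [neg_neg] at hc'
    exact ⟨c', hc', h1⟩


include hpos h0 hmsp he hφC hpos' h0' hm'sp he' hφC' hφ hq hdeg hJinj hJmem hJsurj in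
/-- The canonical module of the Veronese subring is the Veronese submodule of the canonical
module. -/
theorem main : ∃ g : C' →ₛₗ[φ] C, Function.Injective g ∧
    ∀ j : ℤ, (𝒞' j).map (g : C' →+ C) = 𝒞 (j * q) :=
  ⟨gM, gMap_injective hpos h0 m hmsp 𝓔 e he 𝒞 n I φC hφC hpos' h0' m' hm'sp
      𝓔'' e' he' 𝒞' I' φC' hφC' φ hφ q hq hdeg J hJinj hJmem hJsurj,
    gMap_map hpos h0 m hmsp 𝓔 e he 𝒞 n I φC hφC hpos' h0' m' hm'sp
      𝓔'' e' he' 𝒞' I' φC' hφC' φ hφ q hq hdeg J hJinj hJmem hJsurj⟩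

end Main

end Groth.Agent.Lib.Helper8.GrCanVer
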