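import Groth.Agent.Lib.Helper30.GradedGam
import Mathlib.RingTheory.GradedAlgebra.Radical
import Mathlib.RingTheory.Ideal.Height
import Groth.Prelude.Def_GrLC

/-!
# Heights of primes in ℤ-graded rings: `ht p ≤ ht p* + 1`
-/

set_option autoImplicit false
set_option linter.unusedSectionVars false
universe u

open DirectSum
open Groth.Agent.Lib.Helper30

namespace Groth.Agent.Lib.Helper8.GrHeight

variable {R : Type u} [CommRing R] {𝒜 : ℤ → AddSubgroup R} [GradedRing 𝒜]

section Supp

variable (𝒜) (P₀ : Ideal R)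

/-- the components of `x` outside `[lo, hi]` lie in `P₀`. -/
def Supp (x : R) (lo hi : ℤ) : Prop :=
  ∀ i : ℤ, (i < lo ∨ hi < i) → (decompose 𝒜 x i : R) ∈ P₀

variable {𝒜 P₀}

theorem Supp.mono {x : R} {lo hi lo' hi' : ℤ} (h : Supp 𝒜 P₀ x lo hi) (h1 : lo' ≤ lo) (h2 : hi ≤ hi') :
    Supp 𝒜 P₀ x lo' hi' := fun i hi => h i (by omega)

theorem Supp.sub {x y : R} {lo hi : ℤ} (hx : Supp 𝒜 P₀ x lo hi) (hy : Supp 𝒜 P₀ y lo hi) :
    Supp 𝒜 P₀ (x - y) lo hi := by
  intro i hi
  rw [decompose_sub, DirectSum.sub_apply, AddSubgroup.coe_sub]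
  exact P₀.sub_mem (hx i hi) (hy i hi)

theorem Supp.add {x y : R} {lo hi : ℤ} (hx : Supp 𝒜 P₀ x lo hi) (hy : Supp 𝒜 P₀ y lo hi) :
    Supp 𝒜 P₀ (x + y) lo hi := by
  intro i hi
  rw [decompose_add, DirectSum.add_apply, AddSubgroup.coe_add]
  exact P₀.add_mem (hx i hi) (hy i hi)

theorem supp_zero (lo hi : ℤ) : Supp 𝒜 P₀ 0 lo hi := by
  intro i _
  rw [decompose_zero, DirectSum.zero_apply, ZeroMemClass.coe_zero]
  exact P₀.zero_mem

theorem supp_homog {y : R} {d : ℤ} (hy : y ∈ 𝒜 d) : Supp 𝒜 P₀ y d d := by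
  intro i hi
  rw [decompose_of_mem_ne 𝒜 hy (by omega)]
  exact P₀.zero_mem

theorem Supp.mul_homog {x : R} {lo hi : ℤ} (hx : Supp 𝒜 P₀ x lo hi) {c : R} {γ : ℤ} (hc : c ∈ 𝒜 γ) :
    Supp 𝒜 P₀ (c * x) (lo + γ) (hi + γ) := by
  intro i hi
  have h := decompose_smul_of_mem 𝒜 𝒜 hc x (i - γ)
  rw [add_sub_cancel] at h
  rw [← smul_eq_mul, h, smul_eq_mul]
  exact P₀.mul_mem_left _ (hx _ (by omega))

theorem decompose_mul_homog {c : R} {γ : ℤ} (hc : c ∈ 𝒜 γ) (x : R) (i : ℤ) :
    (decompose 𝒜 (c * x) (γ + i) : R) = c * (decompose 𝒜 x i : R) := by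
  have h := decompose_smul_of_mem 𝒜 𝒜 hc x i
  rw [← smul_eq_mul, h, smul_eq_mul]

theorem supp_of_mem (hP₀ : P₀.IsHomogeneous 𝒜) {x : R} (hx : x ∈ P₀) (lo hi : ℤ) : Supp 𝒜 P₀ x lo hi :=
  fun i _ => hP₀ i hx

theorem mem_of_forall (x : R) (h : ∀ i, (decompose 𝒜 x i : R) ∈ P₀) : x ∈ P₀ := by
  classical
  rw [← sum_support_decompose 𝒜 x]
  exact P₀.sum_mem fun i _ => h i

theorem Supp.mem_of_lt {x : R} {lo hi : ℤ} (hx : Supp 𝒜 P₀ x lo hi) (h : hi < lo) : x ∈ P₀ :=
  mem_of_forall x fun i => hx i (by omega)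

theorem Supp.shrink_top {x : R} {lo hi : ℤ} (hx : Supp 𝒜 P₀ x lo hi)
    (h : (decompose 𝒜 x hi : R) ∈ P₀) : Supp 𝒜 P₀ x lo (hi - 1) := by
  intro i hi'
  by_cases e : i = hi
  · rw [e]; exact h
  · exact hx i (by omega)

theorem Supp.shrink_bot {x : R} {lo hi : ℤ} (hx : Supp 𝒜 P₀ x lo hi)
    (h : (decompose 𝒜 x lo : R) ∈ P₀) : Supp 𝒜 P₀ x (lo + 1) hi := by
  intro i hi'
  by_cases e : i = lo
  · rw [e]; exact h
  · exact hx i (by omega)

theorem exists_supp (x : R) : ∃ (lo : ℤ) (k : ℕ), Supp 𝒜 P₀ x lo (lo + k) := by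
  classical
  by_cases hne : (DFinsupp.support (decompose 𝒜 x)).Nonempty
  · refine ⟨(DFinsupp.support (decompose 𝒜 x)).min' hne,
      ((DFinsupp.support (decompose 𝒜 x)).max' hne - (DFinsupp.support (decompose 𝒜 x)).min' hne).toNat,
      fun i hi => ?_⟩
    by_cases hi' : i ∈ DFinsupp.support (decompose 𝒜 x)
    · exfalso
      have h1 := Finset.min'_le _ i hi'
      have h2 := Finset.le_max' _ i hi'
      have h3 := Int.self_le_toNat ((DFinsupp.support (decompose 𝒜 x)).max' hne -
        (DFinsupp.support (decompose 𝒜 x)).min' hne)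
      omega
    · rw [DFinsupp.notMem_support_iff] at hi'
      rw [hi', ZeroMemClass.coe_zero]
      exact P₀.zero_mem
  · refine ⟨0, 0, fun i _ => ?_⟩
    rw [Finset.not_nonempty_iff_eq_empty] at hne
    have : i ∉ DFinsupp.support (decompose 𝒜 x) := by rw [hne]; exact Finset.notMem_empty _
    rw [DFinsupp.notMem_support_iff] at this
    rw [this, ZeroMemClass.coe_zero]
    exact P₀.zero_mem

theorem pow_mem_piece {c : R} {γ : ℤ} (hc : c ∈ 𝒜 γ) (e : ℕ) : c ^ e ∈ 𝒜 ((e : ℤ) * γ) := by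
  have := SetLike.pow_mem_graded e hc
  rwa [nsmul_eq_mul] at this

/-- Division with remainder by an element whose support mod `P₀` lies in `[b, b+n]`. -/
theorem division (g : R) (b : ℤ) (n : ℕ) (hg : Supp 𝒜 P₀ g b (b + n)) :
    ∀ (k : ℕ) (h : R) (lo : ℤ), Supp 𝒜 P₀ h lo (lo + k) →
      ∃ (e : ℕ) (u r : R), (decompose 𝒜 g (b + n) : R) ^ e * h = u * g + r ∧
        (∃ L : ℤ, Supp 𝒜 P₀ r L (L + n - 1)) ∧
        Supp 𝒜 P₀ u ((e : ℤ) * (b + n) + lo - b) ((e : ℤ) * (b + n) + lo - b + (k - n)) := by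
  set c : R := (decompose 𝒜 g (b + n) : R) with hc
  have hcm : c ∈ 𝒜 (b + n) := (decompose 𝒜 g (b + n)).2
  intro k
  induction k using Nat.strong_induction_on with
  | _ k ih =>
    intro h lo hh
    by_cases hkn : k < n
    · refine ⟨0, 0, h, by ring, ⟨lo, hh.mono le_rfl (by omega)⟩, supp_zero _ _⟩
    · rw [not_lt] at hkn
      set t : R := (decompose 𝒜 h (lo + k) : R) with ht
      have htm : t ∈ 𝒜 (lo + k) := (decompose 𝒜 h (lo + k)).2
      set h' : R := c * h - t * g with hh'
      have h1 : Supp 𝒜 P₀ (c * h) (lo + b + n) (lo + k + b + n) := by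
        have := hh.mul_homog hcm
        exact this.mono (by omega) (by omega)
      have h2 : Supp 𝒜 P₀ (t * g) (lo + b + n) (lo + k + b + n) := by
        have := hg.mul_homog htm
        exact this.mono (by omega) (by omega)
      have h3 : Supp 𝒜 P₀ h' (lo + b + n) (lo + k + b + n) := h1.sub h2
      have htop : (decompose 𝒜 h' (lo + k + b + n) : R) ∈ P₀ := by
        have e1 : (decompose 𝒜 (c * h) (lo + k + b + n) : R) = c * t := by
          have := decompose_mul_homog hcm h (lo + k)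
          have e : b + n + (lo + k) = lo + k + b + n := by ring
          rw [e] at this
          exact this
        have e2 : (decompose 𝒜 (t * g) (lo + k + b + n) : R) = t * c := by
          have := decompose_mul_homog htm g (b + n)
          have e : lo + k + (b + n) = lo + k + b + n := by ring
          rw [e] at this
          exact this
        rw [hh', decompose_sub, DirectSum.sub_apply, AddSubgroup.coe_sub, e1, e2, mul_comm, sub_self]
        exact P₀.zero_mem
      have h4 : Supp 𝒜 P₀ h' (lo + b + n) (lo + k + b + n - 1) := h3.shrink_top htop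
      rcases Nat.eq_zero_or_pos k with hk0 | hkpos
      · -- `k = 0`, hence `n = 0`
        have hn0 : n = 0 := by omega
        subst hk0
        subst hn0
        refine ⟨1, t, h', by rw [hh']; ring, ⟨lo + b, ?_⟩, ?_⟩
        · exact h4.mono (by push_cast; omega) (by push_cast; omega)
        · have := supp_homog (P₀ := P₀) htm
          exact this.mono (by push_cast; omega) (by push_cast; omega)
      · obtain ⟨k', rfl⟩ : ∃ k', k = k' + 1 := ⟨k - 1, by omega⟩
        have h5 : Supp 𝒜 P₀ h' (lo + b + n) (lo + b + n + (k' : ℤ)) :=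
          h4.mono le_rfl (by push_cast; omega)
        obtain ⟨e, u', r', heq, hr', hu'⟩ := ih k' (by omega) h' (lo + b + n) h5
        refine ⟨e + 1, u' + c ^ e * t, r', ?_, hr', ?_⟩
        · have : c * h = h' + t * g := by rw [hh']; ring
          rw [pow_succ, mul_assoc, this, mul_add, heq]
          ring
        · apply Supp.add
          · exact hu'.mono (by push_cast; ring_nf; omega) (by push_cast; ring_nf; omega)
          · have hm : c ^ e * t ∈ 𝒜 ((e : ℤ) * (b + n) + (lo + (k' + 1 : ℕ))) :=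
              SetLike.GradedMul.mul_mem (pow_mem_piece hcm e) htm
            have := supp_homog (P₀ := P₀) hm
            exact this.mono (by push_cast; ring_nf; omega) (by push_cast; ring_nf; omega)

end Supp

section Between

variable (𝒜)

/-- There is no prime strictly between the homogeneous core `p*` of a prime `p` and `p`. -/
theorem le_of_between (p q : Ideal R) [hp : p.IsPrime] [hqp : q.IsPrime]
    (h1 : (p.homogeneousCore 𝒜).toIdeal ≤ q) (h2 : q ≤ p)
    (hq : ¬ q ≤ (p.homogeneousCore 𝒜).toIdeal) : p ≤ q := by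
  classical
  set P₀ : Ideal R := (p.homogeneousCore 𝒜).toIdeal with hP₀
  have hhom : P₀.IsHomogeneous 𝒜 := (p.homogeneousCore 𝒜).isHomogeneous
  have hprime : P₀.IsPrime := Ideal.IsPrime.homogeneousCore hp
  have hP₀p : P₀ ≤ p := Ideal.toIdeal_homogeneousCore_le 𝒜 p
  have hcore : ∀ (x : R) (d : ℤ), x ∈ 𝒜 d → x ∈ p → x ∈ P₀ := fun x d hx hxp =>
    Ideal.mem_homogeneousCore_of_homogeneous_of_mem ⟨d, hx⟩ hxp
  by_contra hpq
  -- the two minimal widths
  have hNq : ∃ k : ℕ, ∃ f ∈ q, f ∉ P₀ ∧ ∃ lo : ℤ, Supp 𝒜 P₀ f lo (lo + k) := by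
    obtain ⟨f, hfq, hf0⟩ := SetLike.not_le_iff_exists.mp hq
    obtain ⟨lo, k, hs⟩ := exists_supp (𝒜 := 𝒜) (P₀ := P₀) f
    exact ⟨k, f, hfq, hf0, lo, hs⟩
  have hNp : ∃ k : ℕ, ∃ g ∈ p, g ∉ q ∧ ∃ lo : ℤ, Supp 𝒜 P₀ g lo (lo + k) := by
    obtain ⟨g, hgp, hgq⟩ := SetLike.not_le_iff_exists.mp hpq
    obtain ⟨lo, k, hs⟩ := exists_supp (𝒜 := 𝒜) (P₀ := P₀) g
    exact ⟨k, g, hgp, hgq, lo, hs⟩
  obtain ⟨f, hfq, hf0, a, hfs⟩ := Nat.find_spec hNq
  obtain ⟨g, hgp, hgq, b, hgs⟩ := Nat.find_spec hNp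
  set W := Nat.find hNq with hW
  set n := Nat.find hNp with hn
  have hWmin : ∀ k : ℕ, k < W → ∀ f' ∈ q, f' ∉ P₀ → ∀ lo : ℤ, ¬ Supp 𝒜 P₀ f' lo (lo + k) :=
    fun k hk f' hf' hf'0 lo hs => Nat.find_min hNq hk ⟨f', hf', hf'0, lo, hs⟩
  have hnmin : ∀ k : ℕ, k < n → ∀ g' ∈ p, g' ∉ q → ∀ lo : ℤ, ¬ Supp 𝒜 P₀ g' lo (lo + k) :=
    fun k hk g' hg' hg'q lo hs => Nat.find_min hNp hk ⟨g', hg', hg'q, lo, hs⟩
  have hg0 : g ∉ P₀ := fun h => hgq (h1 h)
  -- tightness
  have hftop : (decompose 𝒜 f (a + W) : R) ∉ P₀ := by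
    intro h
    have hs := hfs.shrink_top h
    rcases Nat.eq_zero_or_pos W with h0 | hpos
    · exact hf0 (hs.mem_of_lt (by omega))
    · exact hWmin (W - 1) (by omega) f hfq hf0 a (hs.mono le_rfl (by
        have : ((W - 1 : ℕ) : ℤ) = (W : ℤ) - 1 := by omega
        omega))
  have hfbot : (decompose 𝒜 f a : R) ∉ P₀ := by
    intro h
    have hs := hfs.shrink_bot h
    rcases Nat.eq_zero_or_pos W with h0 | hpos
    · exact hf0 (hs.mem_of_lt (by omega))
    · exact hWmin (W - 1) (by omega) f hfq hf0 (a + 1) (hs.mono le_rfl (by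
        have : ((W - 1 : ℕ) : ℤ) = (W : ℤ) - 1 := by omega
        omega))
  have hgtop : (decompose 𝒜 g (b + n) : R) ∉ P₀ := by
    intro h
    have hs := hgs.shrink_top h
    rcases Nat.eq_zero_or_pos n with h0 | hpos
    · exact hg0 (hs.mem_of_lt (by omega))
    · exact hnmin (n - 1) (by omega) g hgp hgq b (hs.mono le_rfl (by
        have : ((n - 1 : ℕ) : ℤ) = (n : ℤ) - 1 := by omega
        omega))
  have hgbot : (decompose 𝒜 g b : R) ∉ P₀ := by
    intro h
    have hs := hgs.shrink_bot h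
    rcases Nat.eq_zero_or_pos n with h0 | hpos
    · exact hg0 (hs.mem_of_lt (by omega))
    · exact hnmin (n - 1) (by omega) g hgp hgq (b + 1) (hs.mono le_rfl (by
        have : ((n - 1 : ℕ) : ℤ) = (n : ℤ) - 1 := by omega
        omega))
  -- widths are positive
  have single : ∀ (x : R) (lo : ℤ), Supp 𝒜 P₀ x lo lo → x - (decompose 𝒜 x lo : R) ∈ P₀ := by
    intro x lo hs
    apply mem_of_forall (𝒜 := 𝒜)
    intro i
    rw [decompose_sub, DirectSum.sub_apply, AddSubgroup.coe_sub]
    by_cases hi : i = lo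
    · subst hi
      rw [decompose_of_mem_same 𝒜 (decompose 𝒜 x i).2, sub_self]
      exact P₀.zero_mem
    · rw [decompose_of_mem_ne 𝒜 (decompose 𝒜 x lo).2 (Ne.symm hi), sub_zero]
      exact hs i (by omega)
  have hWpos : 1 ≤ W := by
    by_contra h
    have hW0 : W = 0 := by omega
    have hs : Supp 𝒜 P₀ f a a := hfs.mono le_rfl (by omega)
    have h3 := single f a hs
    have h4 : (decompose 𝒜 f a : R) ∈ q := by
      have : (decompose 𝒜 f a : R) = f - (f - (decompose 𝒜 f a : R)) := by ring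
      rw [this]
      exact q.sub_mem hfq (h1 h3)
    exact hfbot (hcore _ a (decompose 𝒜 f a).2 (h2 h4))
  have hnpos : 1 ≤ n := by
    by_contra h
    have hn0 : n = 0 := by omega
    have hs : Supp 𝒜 P₀ g b b := hgs.mono le_rfl (by omega)
    have h3 := single g b hs
    have h4 : (decompose 𝒜 g b : R) ∈ p := by
      have : (decompose 𝒜 g b : R) = g - (g - (decompose 𝒜 g b : R)) := by ring
      rw [this]
      exact p.sub_mem hgp (hP₀p h3)
    exact hgbot (hcore _ b (decompose 𝒜 g b).2 h4)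
  have hcq : (decompose 𝒜 g (b + n) : R) ∉ q := fun h =>
    hgtop (hcore _ (b + n) (decompose 𝒜 g (b + n)).2 (h2 h))
  have hcfq : (decompose 𝒜 f (a + W) : R) ∉ q := fun h =>
    hftop (hcore _ (a + W) (decompose 𝒜 f (a + W)).2 (h2 h))
  rcases lt_or_ge W n with hWn | hWn
  · -- divide `g` by `f`
    obtain ⟨e, u, r, heq, ⟨L, hr⟩, -⟩ := division f a W hfs n g b hgs
    have hrp : r ∈ p := by
      have : r = (decompose 𝒜 f (a + W) : R) ^ e * g - u * f := by rw [heq]; ring
      rw [this]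
      exact p.sub_mem (p.mul_mem_left _ hgp) (p.mul_mem_left _ (h2 hfq))
    have hrq : r ∉ q := by
      intro hrq
      have h5 : (decompose 𝒜 f (a + W) : R) ^ e * g ∈ q := by
        rw [heq]
        exact q.add_mem (q.mul_mem_left _ hfq) hrq
      rcases hqp.mem_or_mem h5 with h6 | h6
      · exact hcfq (hqp.mem_of_pow_mem e h6)
      · exact hgq h6
    exact hnmin (W - 1) (by omega) r hrp hrq L (hr.mono le_rfl (by
      have : ((W - 1 : ℕ) : ℤ) = (W : ℤ) - 1 := by omega
      omega))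
  · -- divide `f` by `g`
    obtain ⟨e, u, r, heq, ⟨L, hr⟩, hu⟩ := division g b n hgs W f a hfs
    set c : R := (decompose 𝒜 g (b + n) : R) with hc
    have hcm : c ∈ 𝒜 (b + n) := (decompose 𝒜 g (b + n)).2
    have hrp : r ∈ p := by
      have : r = c ^ e * f - u * g := by rw [heq]; ring
      rw [this]
      exact p.sub_mem (p.mul_mem_left _ (h2 hfq)) (p.mul_mem_left _ hgp)
    have hrq : r ∈ q := by
      by_contra hrq
      exact hnmin (n - 1) (by omega) r hrp hrq L (hr.mono le_rfl (by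
        have : ((n - 1 : ℕ) : ℤ) = (n : ℤ) - 1 := by omega
        omega))
    have huq : u ∈ q := by
      have h5 : u * g ∈ q := by
        have : u * g = c ^ e * f - r := by rw [heq]; ring
        rw [this]
        exact q.sub_mem (q.mul_mem_left _ hfq) hrq
      rcases hqp.mem_or_mem h5 with h6 | h6
      · exact h6
      · exact absurd h6 hgq
    have hu0 : u ∈ P₀ := by
      by_contra hu0
      exact hWmin (W - n) (by omega) u huq hu0 _ (hu.mono le_rfl (by
        have : ((W - n : ℕ) : ℤ) = (W : ℤ) - n := by omega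
        omega))
    have hdiff : c ^ e * f - r ∈ P₀ := by
      have : c ^ e * f - r = u * g := by rw [heq]; ring
      rw [this]
      exact P₀.mul_mem_right _ hu0
    have hcem : c ^ e ∈ 𝒜 ((e : ℤ) * (b + n)) := pow_mem_piece hcm e
    have hce0 : c ^ e ∉ P₀ := fun h => hgtop (hprime.mem_of_pow_mem e h)
    have hcomp : ∀ i : ℤ, (decompose 𝒜 f i : R) ∉ P₀ →
        (decompose 𝒜 r ((e : ℤ) * (b + n) + i) : R) ∉ P₀ := by
      intro i hi hri
      have h6 := hhom ((e : ℤ) * (b + n) + i) hdiff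
      rw [decompose_sub, DirectSum.sub_apply, AddSubgroup.coe_sub, decompose_mul_homog hcem] at h6
      have h7 : c ^ e * (decompose 𝒜 f i : R) ∈ P₀ := by
        have := P₀.add_mem h6 hri
        rwa [sub_add_cancel] at this
      rcases hprime.mem_or_mem h7 with h8 | h8
      · exact hce0 h8
      · exact hi h8
    have hA := hcomp a hfbot
    have hB := hcomp (a + W) hftop
    by_cases hin : L ≤ (e : ℤ) * (b + n) + a
    · exact hB (hr _ (by omega))
    · exact hA (hr _ (by omega))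

/-- the homogeneous core as a point of the prime spectrum. -/
noncomputable def core (x : PrimeSpectrum R) : PrimeSpectrum R :=
  ⟨(x.asIdeal.homogeneousCore 𝒜).toIdeal, Ideal.IsPrime.homogeneousCore x.2⟩

theorem core_le (x : PrimeSpectrum R) : core 𝒜 x ≤ x :=
  Ideal.toIdeal_homogeneousCore_le 𝒜 x.asIdeal

theorem core_mono {x y : PrimeSpectrum R} (h : x ≤ y) : core 𝒜 x ≤ core 𝒜 y := by
  change (x.asIdeal.homogeneousCore 𝒜).toIdeal ≤ (y.asIdeal.homogeneousCore 𝒜).toIdeal
  exact Ideal.homogeneousCore_mono 𝒜 h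

theorem core_eq_of_homogeneous (x : PrimeSpectrum R) (hx : x.asIdeal.IsHomogeneous 𝒜) :
    core 𝒜 x = x := by
  apply PrimeSpectrum.ext
  exact hx.toIdeal_homogeneousCore_eq_self

theorem height_le_aux (n : ℕ) : ∀ x : PrimeSpectrum R, Order.height (core 𝒜 x) ≤ n →
    Order.height x ≤ (n + 1 : ℕ) := by
  induction n with
  | zero =>
    intro x hx
    rw [Order.height_le_coe_iff]
    intro y hy
    by_cases hyh : y.asIdeal.IsHomogeneous 𝒜
    · have h1 : y ≤ core 𝒜 x := by
        rw [← core_eq_of_homogeneous 𝒜 y hyh]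
        exact core_mono 𝒜 hy.le
      have h2 := le_trans (Order.height_mono h1) hx
      exact lt_of_le_of_lt h2 (by norm_num)
    · exfalso
      have hne : core 𝒜 y ≠ core 𝒜 x := by
        intro he
        have h1 : (x.asIdeal.homogeneousCore 𝒜).toIdeal ≤ y.asIdeal := by
          have := core_le 𝒜 y
          rw [he] at this
          exact this
        have hq : ¬ y.asIdeal ≤ (x.asIdeal.homogeneousCore 𝒜).toIdeal := by
          intro hle
          apply hyh
          have : y = core 𝒜 x := le_antisymm hle h1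
          rw [this]
          exact (x.asIdeal.homogeneousCore 𝒜).isHomogeneous
        have := @le_of_between R _ 𝒜 _ x.asIdeal y.asIdeal x.2 y.2 h1 hy.le hq
        exact absurd (show x ≤ y from this) (not_le_of_gt hy)
      have hlt : core 𝒜 y < core 𝒜 x := lt_of_le_of_ne (core_mono 𝒜 hy.le) hne
      have h3 := Order.height_add_one_le hlt
      have h4 := le_trans h3 hx
      simp at h4
  | succ n ih =>
    intro x hx
    rw [Order.height_le_coe_iff]
    intro y hy
    by_cases hyh : y.asIdeal.IsHomogeneous 𝒜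
    · have h1 : y ≤ core 𝒜 x := by
        rw [← core_eq_of_homogeneous 𝒜 y hyh]
        exact core_mono 𝒜 hy.le
      have h2 := le_trans (Order.height_mono h1) hx
      exact lt_of_le_of_lt h2 (by norm_cast; omega)
    · have hne : core 𝒜 y ≠ core 𝒜 x := by
        intro he
        have h1 : (x.asIdeal.homogeneousCore 𝒜).toIdeal ≤ y.asIdeal := by
          have := core_le 𝒜 y
          rw [he] at this
          exact this
        have hq : ¬ y.asIdeal ≤ (x.asIdeal.homogeneousCore 𝒜).toIdeal := by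
          intro hle
          apply hyh
          have : y = core 𝒜 x := le_antisymm hle h1
          rw [this]
          exact (x.asIdeal.homogeneousCore 𝒜).isHomogeneous
        have := @le_of_between R _ 𝒜 _ x.asIdeal y.asIdeal x.2 y.2 h1 hy.le hq
        exact absurd (show x ≤ y from this) (not_le_of_gt hy)
      have hlt : core 𝒜 y < core 𝒜 x := lt_of_le_of_ne (core_mono 𝒜 hy.le) hne
      have h3 := Order.height_add_one_le hlt
      have h4 := le_trans h3 hx
      have h5 : Order.height (core 𝒜 y) ≤ n := by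
        have : (Order.height (core 𝒜 y)) + 1 ≤ (n : ℕ∞) + 1 := by
          push_cast at h4
          exact h4
        exact (ENat.add_le_add_iff_right ENat.one_ne_top).1 this
      have h6 := ih y h5
      exact lt_of_le_of_lt h6 (by norm_cast; omega)

/-- `ht p ≤ ht p* + 1` in a `ℤ`-graded ring. -/
theorem height_le_core_add_one (p : Ideal R) [hp : p.IsPrime] :
    p.height ≤ (p.homogeneousCore 𝒜).toIdeal.height + 1 := by
  have hc : (p.homogeneousCore 𝒜).toIdeal.IsPrime := Ideal.IsPrime.homogeneousCore hp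
  have e1 := PrimeSpectrum.height_eq_orderHeight (⟨p, hp⟩ : PrimeSpectrum R)
  have e2 := PrimeSpectrum.height_eq_orderHeight (core 𝒜 ⟨p, hp⟩)
  change p.height = _ at e1
  change (p.homogeneousCore 𝒜).toIdeal.height = _ at e2
  rw [e1, e2]
  by_cases htop : Order.height (core 𝒜 ⟨p, hp⟩) = ⊤
  · rw [htop]
    simp
  · obtain ⟨n, hn⟩ := ENat.ne_top_iff_exists.mp htop
    rw [← hn]
    have := height_le_aux 𝒜 n ⟨p, hp⟩ (le_of_eq hn.symm)
    exact_mod_cast this

end Between

section StarLocal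

variable (𝒜) [IsNoetherianRing R]

/-- In a Noetherian *local ring every proper homogeneous ideal lies in the *maximal ideal. -/
theorem le_of_isStarLocal (m : HomogeneousIdeal 𝒜) (hm : GrLC.IsStarLocal 𝒜 m)
    (J : HomogeneousIdeal 𝒜) (hJ : J.toIdeal ≠ ⊤) : J ≤ m := by
  let S : Set (Ideal R) := {I | I.IsHomogeneous 𝒜 ∧ J.toIdeal ≤ I ∧ I ≠ ⊤}
  have hS : S.Nonempty := ⟨J.toIdeal, J.isHomogeneous, le_rfl, hJ⟩
  obtain ⟨M', ⟨hM'h, hJM', hM'top⟩, hmax⟩ :=
    (set_has_maximal_iff_noetherian (R := R) (M := R)).mpr inferInstance S hS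
  let K : HomogeneousIdeal 𝒜 := ⟨M', hM'h⟩
  have hK : IsCoatom K := by
    constructor
    · intro h
      apply hM'top
      have := congrArg HomogeneousIdeal.toIdeal h
      rwa [HomogeneousIdeal.toIdeal_top] at this
    · intro L hL
      by_contra hne
      have hLtop : L.toIdeal ≠ ⊤ := by
        intro h
        apply hne
        apply HomogeneousIdeal.toIdeal_injective
        rw [h, HomogeneousIdeal.toIdeal_top]
      have hlt : M' < L.toIdeal := by
        have h1 : K.toIdeal ≤ L.toIdeal := _root_.toIdeal_le_toIdeal_iff.mpr hL.le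
        refine lt_of_le_of_ne h1 (fun h => ?_)
        exact hL.ne (HomogeneousIdeal.toIdeal_injective h)
      exact hmax L.toIdeal ⟨L.isHomogeneous, le_trans hJM' hlt.le, hLtop⟩ hlt
  have := hm.2 K hK
  rw [← this]
  exact _root_.toIdeal_le_toIdeal_iff.mp hJM'

/-- In a Noetherian *local ring whose *maximal ideal is a maximal ideal, `dim R = ht m`. -/
theorem ringKrullDim_eq_height (m : HomogeneousIdeal 𝒜) (hm : GrLC.IsStarLocal 𝒜 m)
    [hmax : m.toIdeal.IsMaximal] : ringKrullDim R = m.toIdeal.height := by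
  have : Nontrivial R := ⟨⟨0, 1, fun h => hmax.ne_top ((Ideal.eq_top_iff_one _).mpr (by
    rw [← h]; exact Submodule.zero_mem _))⟩⟩
  apply le_antisymm
  · rw [← Ideal.sup_isPrime_height_eq_ringKrullDim, WithBot.coe_le_coe]
    apply iSup₂_le
    intro p hp
    have hcp : (p.homogeneousCore 𝒜).toIdeal.IsPrime := Ideal.IsPrime.homogeneousCore hp
    have hcm : p.homogeneousCore 𝒜 ≤ m :=
      le_of_isStarLocal 𝒜 m hm _ (fun h => hp.ne_top (top_le_iff.mp
        (h ▸ Ideal.toIdeal_homogeneousCore_le 𝒜 p)))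
    have hcm' : (p.homogeneousCore 𝒜).toIdeal ≤ m.toIdeal :=
      _root_.toIdeal_le_toIdeal_iff.mpr hcm
    by_cases hph : p.IsHomogeneous 𝒜
    · have : p ≤ m.toIdeal := by
        rw [← hph.toIdeal_homogeneousCore_eq_self]
        exact hcm'
      exact Ideal.height_mono this
    · have hne : (p.homogeneousCore 𝒜).toIdeal ≠ m.toIdeal := by
        intro h
        have h1 : m.toIdeal ≤ p := h ▸ Ideal.toIdeal_homogeneousCore_le 𝒜 p
        have h2 : m.toIdeal = p := hmax.eq_of_le hp.ne_top h1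
        exact hph (h2 ▸ m.isHomogeneous)
      have hlt : (p.homogeneousCore 𝒜).toIdeal < m.toIdeal := lt_of_le_of_ne hcm' hne
      have h3 := Ideal.height_add_one_le_of_lt_of_isPrime hlt
      exact le_trans (height_le_core_add_one 𝒜 p) h3
  · exact Ideal.height_le_ringKrullDim_of_ne_top hmax.ne_top

end StarLocal

end Groth.Agent.Lib.Helper8.GrHeight
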