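import Groth.Agent.Lib.Helper8.GrLCPieces

/-!
# A positively graded ring with degree-zero part a field is *local
-/

set_option autoImplicit false
set_option linter.unusedSectionVars false
universe u

open DirectSum GrLC
open Groth.Agent.Lib.Helper30

namespace Groth.Agent.Lib.Helper8.GrIrrelLocal

variable {R : Type u} [CommRing R] {𝒜 : ℤ → AddSubgroup R} [GradedRing 𝒜]
variable (hpos : ∀ n : ℤ, n < 0 → 𝒜 n = ⊥) (h0 : IsField (deg0 𝒜)) (m : HomogeneousIdeal 𝒜)
  (hmsp : m.toIdeal = Ideal.span (⋃ n ∈ Set.Ioi (0 : ℤ), (𝒜 n : Set R)))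

include hpos h0 hmsp in
/-- Every proper homogeneous ideal lies in the irrelevant ideal. -/
theorem le_irrel (J : HomogeneousIdeal 𝒜) (hJ : J.toIdeal ≠ ⊤) : J ≤ m := by
  classical
  intro x hx
  have hx' : x ∈ J.toIdeal := hx
  change x ∈ m.toIdeal
  apply Groth.Agent.Lib.Helper8.GrLCPieces.mem_of_forall_decompose_mem (ℳ := 𝒜)
    m.toIdeal x
  intro i
  have hi : (decompose 𝒜 x i : R) ∈ J.toIdeal := J.isHomogeneous i hx'
  rcases lt_trichotomy i 0 with hlt | heq | hgt
  · have hz : ∀ y : R, y ∈ 𝒜 i → y = 0 := by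
      intro y hy
      rw [hpos i hlt, AddSubgroup.mem_bot] at hy
      exact hy
    rw [hz _ (decompose 𝒜 x i).2]
    exact Submodule.zero_mem _
  · subst heq
    by_cases hz : (decompose 𝒜 x 0 : R) = 0
    · rw [hz]
      exact Submodule.zero_mem _
    · exfalso
      apply hJ
      let u : deg0 𝒜 := ⟨(decompose 𝒜 x 0 : R), (decompose 𝒜 x 0).2⟩
      have hu : u ≠ 0 := fun h => hz (congrArg Subtype.val h)
      obtain ⟨v, hv⟩ := h0.mul_inv_cancel hu
      have hv' : (decompose 𝒜 x 0 : R) * (v : R) = 1 := congrArg Subtype.val hv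
      rw [Ideal.eq_top_iff_one, ← hv']
      exact Ideal.mul_mem_right _ _ hi
  · rw [hmsp]
    apply Ideal.subset_span
    simp only [Set.mem_iUnion, Set.mem_Ioi, SetLike.mem_coe, exists_prop]
    exact ⟨i, hgt, (decompose 𝒜 x i).2⟩

include hpos h0 hmsp in
theorem irrel_ne_top : m.toIdeal ≠ ⊤ := by
  intro h
  have h1 : (1 : R) ∈ m.toIdeal := by
    rw [h]
    exact Submodule.mem_top
  have h2 : (1 : R) ∈ Ideal.span (⋃ n ∈ Set.Ioi (0 : ℤ), (𝒜 n : Set R)) := by
    rw [← hmsp]
    exact h1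
  have h3 := Groth.Agent.Lib.Helper8.GrLCPieces.eq_zero_of_mem_irrelevant hpos
    (SetLike.GradedOne.one_mem (A := 𝒜)) le_rfl h2
  have : (1 : deg0 𝒜) = 0 := Subtype.ext h3
  exact h0.nontrivial.exists_pair_ne.elim (fun a ⟨b, hab⟩ => hab (by
    rw [← mul_one a, ← mul_one b, this, mul_zero, mul_zero]))

include hpos h0 hmsp in
/-- A positively graded ring whose degree-zero part is a field is *local, with *maximal ideal
the irrelevant ideal. -/
theorem isStarLocal : IsStarLocal 𝒜 m := by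
  have hne : m ≠ ⊤ := by
    intro h
    apply irrel_ne_top hpos h0 m hmsp
    rw [h, HomogeneousIdeal.toIdeal_top]
  have hle : ∀ J : HomogeneousIdeal 𝒜, J ≠ ⊤ → J ≤ m := by
    intro J hJ
    apply le_irrel hpos h0 m hmsp J
    intro h
    apply hJ
    apply HomogeneousIdeal.toIdeal_injective
    rw [h, HomogeneousIdeal.toIdeal_top]
  refine ⟨⟨hne, fun J hJ => ?_⟩, fun n' hn' => ?_⟩
  · by_contra hJt
    exact hJ.not_ge (hle J hJt)
  · have h1 := hle n' hn'.1
    rcases eq_or_lt_of_le h1 with h | h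
    · exact h
    · exact absurd (hn'.2 m h) hne

end Groth.Agent.Lib.Helper8.GrIrrelLocal
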