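import Groth.Agent.Lib.Helper8.GrLCCompareRows
import Groth.Agent.Lib.Helper8.GrHeight
import Groth.Agent.Lib.Helper8.GrLCPieces
import Groth.Agent.Lib.Helper56.DepthAss
import Groth.Agent.Lib.Helper67.Depth2
import Groth.Agent.Lib.Helper92.LocCohDepth

/-!
# Cohen–Macaulay *local rings: vanishing of graded local cohomology below the dimension
-/

set_option autoImplicit false
set_option linter.unusedSectionVars false
universe u

open DirectSum GrLC
open Groth.Agent.Lib.Helper8.GrLCLES

namespace Groth.Agent.Lib.Helper8.GrLCCM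

variable {R : Type u} [CommRing R] {𝒜 : ℤ → AddSubgroup R} [GradedRing 𝒜]

/-- depth of a Cohen–Macaulay ring at a maximal ideal. -/
theorem le_idealDepth_of_cm [LocCoh.IsCohenMacaulayRing R] (m : Ideal R) [hmax : m.IsMaximal]
    (d : ℕ) (hd : m.height = d) : (d : ℕ∞) ≤ LocCoh.idealDepth m R := by
  rw [Groth.Agent.Lib.Helper67.idealDepth_eq_iInf_depth_localization]
  apply le_iInf₂
  intro p hp
  have hpm : p.asIdeal = m := (hmax.eq_of_le p.2.ne_top hp).symm
  have key : ∀ (q : Ideal R) [hq : q.IsPrime], q = m →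
      (d : ℕ∞) ≤ LocCoh.depth (Localization.AtPrime q) (LocalizedModule q.primeCompl R) := by
    intro q hq hqm
    subst hqm
    rw [Groth.Agent.Lib.Helper56.depth_localizedModule_self]
    have hcm := LocCoh.IsCohenMacaulayRing.isCohenMacaulayLocalRing_localization (R := R) q
    have h1 := hcm.supportDim_eq_depth
    rw [Module.supportDim_self_eq_ringKrullDim,
      IsLocalization.AtPrime.ringKrullDim_eq_height q (Localization.AtPrime q), hd] at h1
    have h2 : ((d : ℕ∞) : WithBot ℕ∞) =
        ((LocCoh.depth (Localization.AtPrime q) (Localization.AtPrime q) : ℕ∞) : WithBot ℕ∞) := h1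
    exact le_of_eq (WithBot.coe_injective h2)
  exact key p.asIdeal hpm

variable [LocCoh.IsCohenMacaulayRing R]

/-- In a positively graded Cohen–Macaulay *local ring, `H^i_m(R) = 0` for `i < dim R`. -/
theorem vanM_of_cm (hpos : ∀ n : ℤ, n < 0 → 𝒜 n = ⊥) (m : HomogeneousIdeal 𝒜)
    (hm : IsStarLocal 𝒜 m) (d : ℕ) (hd : ringKrullDim R = d) (i : ℕ) (hi : i < d) (g : ℤ) :
    VanM m 𝒜 i g := by
  have hmax : m.toIdeal.IsMaximal := Groth.Agent.Lib.Helper8.GrLCPieces.isMaximal_of_isStarLocal hpos m hm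
  have hht : m.toIdeal.height = d := by
    have := Groth.Agent.Lib.Helper8.GrHeight.ringKrullDim_eq_height 𝒜 m hm
    rw [hd] at this
    exact (WithBot.coe_injective this).symm
  have hdepth := le_idealDepth_of_cm m.toIdeal d hht
  have hIM : m.toIdeal • (⊤ : Submodule R R) ≠ ⊤ := by
    rw [smul_eq_mul, Ideal.mul_top]
    exact hmax.ne_top
  have hsub := Groth.Agent.Lib.Helper92.LC.subsingleton_of_lt_idealDepth m.toIdeal d R hIM hdepth i hi
  exact (Groth.Agent.Lib.Helper8.GrLCCompareRows.subsingleton_iff_vanM (ℳ := 𝒜) m i).mp hsub g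

end Groth.Agent.Lib.Helper8.GrLCCM
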