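import Groth.Agent.Lib.Helper8.GrLCRows2

set_option autoImplicit false
set_option linter.unusedSectionVars false
universe u

open DirectSum GrLC
open Groth.Agent.Lib.Helper30
open Groth.Agent.Lib.Helper8.GrLCBase Groth.Agent.Lib.Helper8.GrLCProd
open Groth.Agent.Lib.Helper8.GrLCLES Groth.Agent.Lib.Helper8.GrLCTors
open Groth.Agent.Lib.Helper8.GrLCShift

namespace Groth.Agent.Lib.Helper8.GrLCCone

variable {ι : Type} [AddCommGroup ι] [DecidableEq ι]
variable {R : Type u} [CommRing R] {𝒜 : ι → AddSubgroup R} [GradedRing 𝒜]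
variable {M : Type u} [AddCommGroup M] [Module R M] {ℳ : ι → AddSubgroup M}
  [DirectSum.Decomposition ℳ] [SetLike.GradedSMul 𝒜 ℳ]

section Complex

variable (E : StarInjRes 𝒜 ℳ) (x : R) (k : ι)

/-- The shifted term `E^j(-k)`. -/
noncomputable def XS (j : ℕ) : GMod.{u} 𝒜 := GMod.of 𝒜 (E.X j).carrier (shiftGr (E.X j).gr (-k))

/-- The cone term `E^j ⊕ E^{j+1}(-k)`. -/
noncomputable def CX (j : ℕ) : GMod.{u} 𝒜 := gprod (E.X j) (XS E k (j + 1))

/-- The carrier of the cone term. -/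
abbrev CT (j : ℕ) : Type u := (E.X j).carrier × (E.X (j + 1)).carrier

/-- The cone differential. -/
noncomputable def cD (j : ℕ) : CT E j →ₗ[R] CT E (j + 1) :=
  ((E.d j ∘ₗ LinearMap.fst R (E.X j).carrier (E.X (j + 1)).carrier) -
    x • LinearMap.snd R (E.X j).carrier (E.X (j + 1)).carrier).prod
  (-(E.d (j + 1) ∘ₗ LinearMap.snd R (E.X j).carrier (E.X (j + 1)).carrier))

theorem cD_apply (j : ℕ) (u : (E.X j).carrier) (z : (E.X (j + 1)).carrier) :
    cD E x j (u, z) = (E.d j u - x • z, -E.d (j + 1) z) := rfl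

/-- The differential out of the degree `-1` term. -/
noncomputable def cDm : (E.X 0).carrier →ₗ[R] CT E 0 :=
  (-(x • (LinearMap.id : (E.X 0).carrier →ₗ[R] (E.X 0).carrier))).prod (-(E.d 0))

theorem cDm_apply (w : (E.X 0).carrier) : cDm E x w = (-(x • w), -E.d 0 w) := rfl

/-- The augmentation of the cone from `M`. -/
noncomputable def cε : M →ₗ[R] CT E 0 := LinearMap.inl R _ _ ∘ₗ E.ε

theorem cε_apply (m : M) : cε E m = (E.ε m, 0) := rfl

theorem cD_cD (j : ℕ) (v : CT E j) : cD E x (j + 1) (cD E x j v) = 0 := by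
  obtain ⟨u, z⟩ := v
  rw [cD_apply, cD_apply, map_sub, map_smul, d_comp_d, map_neg, d_comp_d]
  simp

theorem cD_cDm (w : (E.X 0).carrier) : cD E x 0 (cDm E x w) = 0 := by
  rw [cDm_apply, cD_apply, map_neg, map_smul, map_neg, d_comp_d]
  simp

theorem cD_cε (m : M) : cD E x 0 (cε E m) = 0 := by
  rw [cε_apply, cD_apply, d_comp_ε]
  simp

theorem cD_exact_succ (j : ℕ) (v : CT E (j + 1)) (hv : cD E x (j + 1) v = 0) :
    ∃ v', cD E x j v' = v := by
  obtain ⟨u, z⟩ := v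
  rw [cD_apply, Prod.mk_eq_zero] at hv
  obtain ⟨h1, h2⟩ := hv
  have hz : z ∈ LinearMap.ker (E.d (j + 1 + 1)) := by
    rw [LinearMap.mem_ker]
    exact neg_eq_zero.mp h2
  rw [E.exact_succ (j + 1)] at hz
  obtain ⟨z₀, hz₀⟩ := hz
  have hu : u - x • z₀ ∈ LinearMap.ker (E.d (j + 1)) := by
    rw [LinearMap.mem_ker, map_sub, map_smul, hz₀]
    exact h1
  rw [E.exact_succ j] at hu
  obtain ⟨u', hu'⟩ := hu
  refine ⟨(u', -z₀), ?_⟩
  rw [cD_apply, hu', map_neg, hz₀]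
  simp

theorem cD_exact_zero (v : CT E 0) (hv : cD E x 0 v = 0) :
    ∃ w m, v = cDm E x w + cε E m := by
  obtain ⟨u, z⟩ := v
  rw [cD_apply, Prod.mk_eq_zero] at hv
  obtain ⟨h1, h2⟩ := hv
  have hz : z ∈ LinearMap.ker (E.d (0 + 1)) := by
    rw [LinearMap.mem_ker]
    exact neg_eq_zero.mp h2
  rw [E.exact_succ 0] at hz
  obtain ⟨z₀, hz₀⟩ := hz
  have hu : u - x • z₀ ∈ LinearMap.ker (E.d 0) := by
    rw [LinearMap.mem_ker, map_sub, map_smul, hz₀]
    exact h1
  rw [E.exact_zero] at hu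
  obtain ⟨m, hm⟩ := hu
  refine ⟨-z₀, m, ?_⟩
  rw [cDm_apply, cε_apply, hm, map_neg, hz₀, Prod.mk_add_mk]
  simp

variable {x k}

theorem smul_mem_of_shift (hx : x ∈ 𝒜 k) {j : ℕ} {g : ι} {z : (E.X j).carrier}
    (hz : z ∈ (E.X j).gr (g + -k)) : x • z ∈ (E.X j).gr g := by
  have := smul_mem_piece 𝒜 (E.X j).gr hx hz
  rwa [add_neg_cancel_comm_assoc] at this

theorem mem_CX (j : ℕ) (g : ι) (u : (E.X j).carrier) (z : (E.X (j + 1)).carrier) :
    ((u, z) : CT E j) ∈ (CX E k j).gr g ↔ u ∈ (E.X j).gr g ∧ z ∈ (E.X (j + 1)).gr (g + -k) :=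
  Iff.rfl

theorem cD_gr (hx : x ∈ 𝒜 k) (j : ℕ) : IsGrHom (CX E k j).gr (CX E k (j + 1)).gr (cD E x j) := by
  rintro g ⟨u, z⟩ hv
  obtain ⟨hu, hz⟩ := (mem_CX E j g u z).mp hv
  rw [cD_apply]
  refine (mem_CX E (j + 1) g _ _).mpr
    ⟨sub_mem (E.d_grHom j g u hu) (smul_mem_of_shift E hx hz), neg_mem ?_⟩
  exact E.d_grHom (j + 1) _ z hz

theorem cDm_gr (hx : x ∈ 𝒜 k) : IsGrHom (XS E k 0).gr (CX E k 0).gr (cDm E x) := by
  intro g w hw
  rw [cDm_apply]
  exact (mem_CX E 0 g _ _).mpr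
    ⟨neg_mem (smul_mem_of_shift E hx hw), neg_mem (E.d_grHom 0 _ w hw)⟩

theorem cε_gr : IsGrHom ℳ (CX E k 0).gr (cε E) := by
  intro g m hm
  rw [cε_apply]
  exact (mem_CX E 0 g _ _).mpr ⟨E.ε_grHom g m hm, zero_mem _⟩

theorem cDm_injective (hreg : IsSMulRegular M x) : Function.Injective (cDm E x) := by
  rw [← LinearMap.ker_eq_bot, eq_bot_iff]
  intro w hw
  rw [LinearMap.mem_ker, cDm_apply, Prod.mk_eq_zero] at hw
  obtain ⟨h1, h2⟩ := hw
  have hk : w ∈ LinearMap.ker (E.d 0) := neg_eq_zero.mp h2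
  rw [E.exact_zero] at hk
  obtain ⟨m, rfl⟩ := hk
  rw [neg_eq_zero, ← map_smul] at h1
  have : x • m = 0 := E.ε_injective (by rw [h1, map_zero])
  have hm : m = 0 := hreg (by
    change x • m = x • 0
    rw [this, smul_zero])
  rw [Submodule.mem_bot, hm, map_zero]

end Complex

section Res

variable (E : StarInjRes 𝒜 ℳ)

/-- A graded retraction of the degree `-1` differential. -/
structure CData (x : R) (k : ι) where
  ρ : (CX E k 0).carrier →ₗ[R] (XS E k 0).carrier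
  ρ_gr : IsGrHom (CX E k 0).gr (XS E k 0).gr ρ
  ρ_cDm : ∀ w : (E.X 0).carrier, ρ (cDm E x w) = w

theorem exists_cdata {x : R} {k : ι} (hx : x ∈ 𝒜 k) (hreg : IsSMulRegular M x) :
    Nonempty (CData E x k) := by
  have hinj : IsStarInj 𝒜 (XS E k 0).gr := isStarInj_shift (E.X 0).gr (E.starInj 0) (-k)
  let f : (XS E k 0).carrier →ₗ[R] (CX E k 0).carrier := cDm E x
  obtain ⟨ρ, hρ, hc⟩ := hinj (XS E k 0) (CX E k 0) f (cDm_gr E hx)
    (cDm_injective E hreg) LinearMap.id (fun _ _ h => h)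
  exact ⟨⟨ρ, hρ, fun w => LinearMap.congr_fun hc w⟩⟩

variable {E} {x : R} {k : ι} (D : CData E x k)

/-- The degree `-1` differential, typed with bundled carriers. -/
noncomputable def cDm' : (XS E k 0).carrier →ₗ[R] (CX E k 0).carrier := cDm E x

/-- The projection onto `ker ρ` along the image of the degree `-1` differential. -/
noncomputable def Pr : (CX E k 0).carrier →ₗ[R] (CX E k 0).carrier :=
  LinearMap.id - cDm' (E := E) (x := x) (k := k) ∘ₗ D.ρ

theorem Pr_apply (v : (CX E k 0).carrier) :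
    Pr D v = v - cDm' (E := E) (x := x) (k := k) (D.ρ v) := rfl

theorem ρ_cDm' (w : (XS E k 0).carrier) : D.ρ (cDm' (E := E) (x := x) (k := k) w) = w :=
  D.ρ_cDm w

theorem ρ_Pr (v : (CX E k 0).carrier) : D.ρ (Pr D v) = 0 := by
  rw [Pr_apply, map_sub, ρ_cDm', sub_self]

theorem Pr_cDm (w : (XS E k 0).carrier) : Pr D (cDm' (E := E) (x := x) (k := k) w) = 0 := by
  rw [Pr_apply, ρ_cDm', sub_self]

theorem Pr_of_mem {v : (CX E k 0).carrier} (hv : D.ρ v = 0) : Pr D v = v := by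
  rw [Pr_apply, hv, map_zero, sub_zero]

/-- The degree `0` differential, typed with bundled carriers. -/
noncomputable def cD0' : (CX E k 0).carrier →ₗ[R] (CX E k 1).carrier := cD E x 0

theorem cD0'_cDm' (w : (XS E k 0).carrier) :
    cD0' (E := E) (x := x) (k := k) (cDm' (E := E) (x := x) (k := k) w) = 0 := cD_cDm E x w

theorem cD_Pr (v : (CX E k 0).carrier) :
    cD0' (E := E) (x := x) (k := k) (Pr D v) = cD0' (E := E) (x := x) (k := k) v := by
  rw [Pr_apply, map_sub, cD0'_cDm', sub_zero]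

theorem Pr_gr (hx : x ∈ 𝒜 k) : IsGrHom (CX E k 0).gr (CX E k 0).gr (Pr D) := by
  intro g v hv
  rw [Pr_apply]
  exact sub_mem hv (cDm_gr E hx g _ (D.ρ_gr g v hv))

/-- The kernel of the retraction. -/
noncomputable def K : Submodule R (CX E k 0).carrier := LinearMap.ker D.ρ

theorem K_homog : (K D).IsHomogeneous (CX E k 0).gr :=
  ker_isHomogeneous (CX E k 0).gr (XS E k 0).gr D.ρ D.ρ_gr

/-- The degree zero term of the cone resolution. -/
noncomputable def X0 : GMod.{u} 𝒜 := gmodSub 𝒜 (CX E k 0).gr (K D) (K_homog D)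

/-- The corestriction of the projection. -/
noncomputable def PrK : (CX E k 0).carrier →ₗ[R] (X0 D).carrier :=
  (Pr D).codRestrict (K D) (fun v => ρ_Pr D v)

theorem PrK_coe (v : (CX E k 0).carrier) : (K D).subtype (PrK D v) = Pr D v := rfl

theorem isStarInj_CX (j : ℕ) : IsStarInj 𝒜 (CX E k j).gr :=
  isStarInj_gprod _ _ (E.starInj j) (isStarInj_shift (E.X (j + 1)).gr (E.starInj (j + 1)) (-k))

theorem isStarInj_X0 (hx : x ∈ 𝒜 k) : IsStarInj 𝒜 (X0 D).gr := by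
  intro A B f hf hinj g hg
  have hC : IsStarInj 𝒜 (CX E k 0).gr := isStarInj_CX 0
  let g' : A.carrier →ₗ[R] (CX E k 0).carrier := (K D).subtype ∘ₗ g
  have hg' : IsGrHom A.gr (CX E k 0).gr g' := fun j a ha => hg j a ha
  obtain ⟨h', hh', hc⟩ := hC A B f hf hinj g' hg'
  let h : B.carrier →ₗ[R] (X0 D).carrier := PrK D ∘ₗ h'
  refine ⟨h, ?_, ?_⟩
  · intro j b hb
    exact Pr_gr D hx j _ (hh' j b hb)
  · apply LinearMap.ext
    intro a
    apply Subtype.ext
    have h1 : h' (f a) = (K D).subtype (g a) := LinearMap.congr_fun hc a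
    change Pr D (h' (f a)) = (K D).subtype (g a)
    rw [h1]
    exact Pr_of_mem D (Subtype.property (p := fun v => v ∈ K D) (g a))

end Res

section Aug

variable {N : Type u} [AddCommGroup N] [Module R N] {𝒩 : ι → AddSubgroup N}
  [DirectSum.Decomposition 𝒩] [SetLike.GradedSMul 𝒜 𝒩]
variable {E : StarInjRes 𝒜 ℳ} {x : R} {k : ι} (D : CData E x k)
  (π : M →ₗ[R] N) (hπ : Function.Surjective π) (hπg : IsGrHom ℳ 𝒩 π)
  (hker : LinearMap.ker π = LinearMap.range (x • (LinearMap.id : M →ₗ[R] M)))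

/-- The augmentation of the cone from `M`, typed with bundled carriers. -/
noncomputable def cε' : M →ₗ[R] (CX E k 0).carrier := cε E

/-- The augmentation from `M` into the degree zero term. -/
noncomputable def εM : M →ₗ[R] (X0 D).carrier := PrK D ∘ₗ cε' (E := E) (k := k)

theorem cε'_smul (m : M) : ∃ w : (XS E k 0).carrier,
    cε' (E := E) (k := k) (x • m) = cDm' (E := E) (x := x) (k := k) w := by
  refine ⟨-(E.ε m), ?_⟩
  change cε E (x • m) = cDm E x (-(E.ε m))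
  rw [cε_apply, cDm_apply, map_smul, map_neg, d_comp_ε]
  simp

theorem εM_smul (m : M) : εM D (x • m) = 0 := by
  apply Subtype.ext
  change Pr D (cε' (E := E) (k := k) (x • m)) = 0
  obtain ⟨w, hw⟩ := cε'_smul (E := E) (x := x) (k := k) m
  rw [hw, Pr_cDm]

include hker in
theorem ker_le_ker_εM : LinearMap.ker π ≤ LinearMap.ker (εM D) := by
  intro m hm
  rw [hker] at hm
  obtain ⟨m', rfl⟩ := hm
  rw [LinearMap.mem_ker]
  exact εM_smul D m'

/-- The augmentation of the cone resolution. -/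
noncomputable def εN : N →ₗ[R] (X0 D).carrier :=
  (LinearMap.ker π).liftQ (εM D) (ker_le_ker_εM D π hker) ∘ₗ
    (π.quotKerEquivOfSurjective hπ).symm.toLinearMap

theorem εN_π (m : M) : εN D π hπ hker (π m) = εM D m := by
  have h1 : (π.quotKerEquivOfSurjective hπ).symm (π m) = Submodule.Quotient.mk m := by
    rw [LinearEquiv.symm_apply_eq]
    exact (LinearMap.quotKerEquivOfSurjective_apply_mk π hπ m).symm
  change (LinearMap.ker π).liftQ (εM D) (ker_le_ker_εM D π hker)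
    ((π.quotKerEquivOfSurjective hπ).symm (π m)) = _
  rw [h1]
  exact Submodule.liftQ_apply _ _ _

include hπ hπg in
theorem exists_homog_preimage (g : ι) (n : N) (hn : n ∈ 𝒩 g) : ∃ m ∈ ℳ g, π m = n := by
  obtain ⟨m, rfl⟩ := hπ n
  refine ⟨(decompose ℳ m g : M), (decompose ℳ m g).2, ?_⟩
  rw [decompose_map_of_isGrHom ℳ 𝒩 π hπg, decompose_of_mem_same 𝒩 hn]

theorem εM_gr (hx : x ∈ 𝒜 k) : IsGrHom ℳ (X0 D).gr (εM D) := by
  intro g m hm
  exact Pr_gr D hx g _ (cε_gr E g m hm)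

include hπg in
theorem εN_gr (hx : x ∈ 𝒜 k) : IsGrHom 𝒩 (X0 D).gr (εN D π hπ hker) := by
  intro g n hn
  obtain ⟨m, hm, rfl⟩ := exists_homog_preimage π hπ hπg g n hn
  rw [εN_π]
  exact εM_gr D hx g m hm

theorem εM_eq_zero (m : M) (h : εM D m = 0) : ∃ m', m = x • m' := by
  have h1 : Pr D (cε' (E := E) (k := k) m) = 0 := congrArg (K D).subtype h
  rw [Pr_apply, sub_eq_zero] at h1
  obtain ⟨w, h2⟩ : ∃ w : (E.X 0).carrier, cε E m = cDm E x w :=
    ⟨D.ρ (cε' (E := E) (k := k) m), h1⟩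
  rw [cε_apply, cDm_apply, Prod.mk.injEq] at h2
  obtain ⟨h3, h4⟩ := h2
  have hk : w ∈ LinearMap.ker (E.d 0) := by
    rw [LinearMap.mem_ker]
    exact neg_eq_zero.mp h4.symm
  rw [E.exact_zero] at hk
  obtain ⟨m', hm'⟩ := hk
  refine ⟨-m', E.ε_injective ?_⟩
  rw [h3, ← hm', map_smul, map_neg, smul_neg]

include hker in
theorem εN_injective : Function.Injective (εN D π hπ hker) := by
  rw [← LinearMap.ker_eq_bot, eq_bot_iff]
  intro n hn
  obtain ⟨m, rfl⟩ := hπ n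
  rw [LinearMap.mem_ker, εN_π] at hn
  obtain ⟨m', rfl⟩ := εM_eq_zero D m hn
  rw [Submodule.mem_bot]
  have : x • m' ∈ LinearMap.ker π := by
    rw [hker]
    exact ⟨m', rfl⟩
  exact this

/-- The terms of the cone resolution. -/
noncomputable def coneX : ℕ → GMod.{u} 𝒜
  | 0 => X0 D
  | j + 1 => CX E k (j + 1)

/-- The differentials of the cone resolution. -/
noncomputable def coned : ∀ n, (coneX D n).carrier →ₗ[R] (coneX D (n + 1)).carrier
  | 0 => cD0' (E := E) (x := x) (k := k) ∘ₗ (K D).subtype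
  | j + 1 => cD E x (j + 1)

theorem cone_exact_zero :
    LinearMap.ker (coned D 0) = LinearMap.range (εN D π hπ hker) := by
  apply le_antisymm
  · intro v hv
    have h0 : cD E x 0 ((K D).subtype v) = 0 := hv
    obtain ⟨w, m, hwm⟩ := cD_exact_zero E x _ h0
    refine ⟨π m, ?_⟩
    rw [εN_π]
    apply Subtype.ext
    change Pr D (cε' (E := E) (k := k) m) = (K D).subtype v
    have h1 : Pr D ((K D).subtype v) = (K D).subtype v :=
      Pr_of_mem D (Subtype.property (p := fun v => v ∈ K D) v)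
    obtain ⟨w', h2⟩ : ∃ w' : (XS E k 0).carrier,
        (K D).subtype v = cDm' (E := E) (x := x) (k := k) w' + cε' (E := E) (k := k) m :=
      ⟨w, hwm⟩
    rw [← h1, h2, map_add, Pr_cDm, zero_add]
  · rintro _ ⟨n, rfl⟩
    obtain ⟨m, rfl⟩ := hπ n
    have h1 : εN D π hπ hker (π m) = εM D m := εN_π D π hπ hker m
    have h2 : cD0' (E := E) (x := x) (k := k) (Pr D (cε' (E := E) (k := k) m)) = 0 := by
      rw [cD_Pr]
      exact cD_cε E x m
    exact (congrArg (coned D 0) h1).trans h2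

theorem cone_exact_succ (n : ℕ) :
    LinearMap.ker (coned D (n + 1)) = LinearMap.range (coned D n) := by
  cases n with
  | zero =>
    apply le_antisymm
    · intro v hv
      obtain ⟨v', hv'⟩ : ∃ v' : (CX E k 0).carrier, cD0' (E := E) (x := x) (k := k) v' = v :=
        cD_exact_succ E x 0 v hv
      refine ⟨PrK D v', ?_⟩
      change cD0' (E := E) (x := x) (k := k) (Pr D v') = v
      rw [cD_Pr]
      exact hv'
    · rintro _ ⟨v, rfl⟩
      exact cD_cD E x 0 _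
  | succ j =>
    apply le_antisymm
    · intro v hv
      obtain ⟨v', hv'⟩ := cD_exact_succ E x (j + 1) v hv
      exact ⟨v', hv'⟩
    · rintro _ ⟨v, rfl⟩
      exact cD_cD E x (j + 1) _

/-- The cone resolution of `N = M/xM`. -/
noncomputable def coneRes (hx : x ∈ 𝒜 k) : StarInjRes 𝒜 𝒩 where
  X := coneX D
  d := coned D
  ε := εN D π hπ hker
  d_grHom n := match n with
    | 0 => fun g v hv => cD_gr E hx 0 g _ hv
    | j + 1 => cD_gr E hx (j + 1)
  ε_grHom := εN_gr D π hπ hπg hker hx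
  ε_injective := εN_injective D π hπ hker
  exact_zero := cone_exact_zero D π hπ hker
  exact_succ := cone_exact_succ D
  starInj n := match n with
    | 0 => isStarInj_X0 D hx
    | j + 1 => isStarInj_CX (j + 1)

end Aug

section Main

variable {N : Type u} [AddCommGroup N] [Module R N] {𝒩 : ι → AddSubgroup N}
  [DirectSum.Decomposition 𝒩] [SetLike.GradedSMul 𝒜 𝒩]
variable (a : HomogeneousIdeal 𝒜)
variable (E : StarInjRes 𝒜 ℳ) {x : R} {k : ι} (hx : x ∈ 𝒜 k) (hreg : IsSMulRegular M x)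
  (π : M →ₗ[R] N) (hπ : Function.Surjective π) (hπg : IsGrHom ℳ 𝒩 π)
  (hker : LinearMap.ker π = LinearMap.range (x • (LinearMap.id : M →ₗ[R] M)))

theorem cone_split (i : ℕ) (g : ι) (v' : CT E i) (hv't : v' ∈ gam a.toIdeal (CT E i))
    (hv'g : v'.1 ∈ (E.X i).gr g ∧ v'.2 ∈ (E.X (i + 1)).gr (g + -k))
    (u : (E.X (i + 1)).carrier) (z : (E.X (i + 1 + 1)).carrier) (hv' : cD E x i v' = (u, z)) :
    ∃ (u' : (E.X i).carrier) (z' : (E.X (i + 1)).carrier),
      u' ∈ gam a.toIdeal (E.X i).carrier ∧ z' ∈ gam a.toIdeal (E.X (i + 1)).carrier ∧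
      u' ∈ (E.X i).gr g ∧ z' ∈ (E.X (i + 1)).gr (g + -k) ∧
      u = E.d i u' - x • z' ∧ z = -E.d (i + 1) z' := by
  obtain ⟨u', z'⟩ := v'
  obtain ⟨hu't, hz't⟩ := (gam_prod_iff a.toIdeal u' z').mp hv't
  rw [cD_apply, Prod.mk.injEq] at hv'
  exact ⟨u', z', hu't, hz't, hv'g.1, hv'g.2, hv'.1.symm, hv'.2.symm⟩

include hx hreg hπ hπg hker in
theorem cone_van_succ (i : ℕ) (g : ι) (h : VanM a 𝒩 (i + 1) g)
    (u : (E.X (i + 1)).carrier) (z : (E.X (i + 1 + 1)).carrier)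
    (hu : u ∈ gam a.toIdeal (E.X (i + 1)).carrier) (hz : z ∈ gam a.toIdeal (E.X (i + 1 + 1)).carrier)
    (hug : u ∈ (E.X (i + 1)).gr g) (hzg : z ∈ (E.X (i + 1 + 1)).gr (g + -k))
    (h1 : E.d (i + 1) u = x • z) (h2 : E.d (i + 1 + 1) z = 0) :
    ∃ (u' : (E.X i).carrier) (z' : (E.X (i + 1)).carrier),
      u' ∈ gam a.toIdeal (E.X i).carrier ∧ z' ∈ gam a.toIdeal (E.X (i + 1)).carrier ∧
      u' ∈ (E.X i).gr g ∧ z' ∈ (E.X (i + 1)).gr (g + -k) ∧
      u = E.d i u' - x • z' ∧ z = -E.d (i + 1) z' := by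
  obtain ⟨D⟩ := exists_cdata E hx hreg
  let C := coneRes D π hπ hπg hker hx
  have hC : Van C a (i + 1) g := h C
  let v : (C.X (i + 1)).carrier := ((u, z) : CT E (i + 1))
  have hvg : v ∈ (C.X (i + 1)).gr g := (mem_CX E (i + 1) g u z).mpr ⟨hug, hzg⟩
  have hvt : v ∈ gam a.toIdeal (C.X (i + 1)).carrier := (gam_prod_iff a.toIdeal u z).mpr ⟨hu, hz⟩
  have hdv : C.d (i + 1) v = 0 := by
    change cD E x (i + 1) (u, z) = 0
    rw [cD_apply, h1, h2, sub_self, neg_zero]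
    rfl
  have hcob := hC v hvt hdv hvg
  obtain ⟨y, hyt, hyg, hy⟩ := cobdy_homog C a hcob hvg
  cases i with
  | zero =>
    exact cone_split a E 0 g ((K D).subtype y) (gam_map a.toIdeal (K D).subtype hyt) hyg u z hy
  | succ j => exact cone_split a E (j + 1) g y hyt hyg u z hy

include hx hreg hπ hπg hker in
theorem cone_van_zero (g : ι) (h : VanM a 𝒩 0 g)
    (u : (E.X 0).carrier) (z : (E.X (0 + 1)).carrier)
    (hu : u ∈ gam a.toIdeal (E.X 0).carrier) (hz : z ∈ gam a.toIdeal (E.X (0 + 1)).carrier)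
    (hug : u ∈ (E.X 0).gr g) (hzg : z ∈ (E.X (0 + 1)).gr (g + -k))
    (h1 : E.d 0 u = x • z) (h2 : E.d (0 + 1) z = 0) :
    ∃ w : (E.X 0).carrier, w ∈ gam a.toIdeal (E.X 0).carrier ∧ w ∈ (E.X 0).gr (g + -k) ∧
      u = -(x • w) ∧ z = -E.d 0 w := by
  obtain ⟨D⟩ := exists_cdata E hx hreg
  let C := coneRes D π hπ hπg hker hx
  have hC : Van C a 0 g := h C
  let v0 : (CX E k 0).carrier := ((u, z) : CT E 0)
  have hv0g : v0 ∈ (CX E k 0).gr g := (mem_CX E 0 g u z).mpr ⟨hug, hzg⟩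
  have hv0t : v0 ∈ gam a.toIdeal (CX E k 0).carrier := (gam_prod_iff a.toIdeal u z).mpr ⟨hu, hz⟩
  have hdv0 : cD0' (E := E) (x := x) (k := k) v0 = 0 := by
    change cD E x 0 (u, z) = 0
    rw [cD_apply, h1, h2, sub_self, neg_zero]
    rfl
  let v : (C.X 0).carrier := PrK D v0
  have hvg : v ∈ (C.X 0).gr g := Pr_gr D hx g v0 hv0g
  have hvt : v ∈ gam a.toIdeal (C.X 0).carrier := gam_map a.toIdeal (PrK D) hv0t
  have hdv : C.d 0 v = 0 := by
    change cD0' (E := E) (x := x) (k := k) (Pr D v0) = 0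
    rw [cD_Pr]
    exact hdv0
  have hcob := hC v hvt hdv hvg
  have hv0 : v = 0 := (mem_cobdy_zero C a v).mp hcob
  have hPr : Pr D v0 = 0 := congrArg (K D).subtype hv0
  rw [Pr_apply, sub_eq_zero] at hPr
  obtain ⟨w, hw1, hw2, hw3⟩ : ∃ w : (E.X 0).carrier, w ∈ gam a.toIdeal (E.X 0).carrier ∧
      w ∈ (E.X 0).gr (g + -k) ∧ ((u, z) : CT E 0) = cDm E x w :=
    ⟨D.ρ v0, gam_map a.toIdeal D.ρ hv0t, D.ρ_gr g v0 hv0g, hPr⟩
  rw [cDm_apply, Prod.mk.injEq] at hw3
  exact ⟨w, hw1, hw2, hw3.1, hw3.2⟩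

include hx hreg hπ hπg hker in
/-- Injectivity of multiplication by `x` on cohomology classes. -/
theorem x_inj (i : ℕ) (g : ι) (h : VanM a 𝒩 i g) (z : (E.X (i + 1)).carrier)
    (hz : z ∈ gam a.toIdeal (E.X (i + 1)).carrier) (hdz : E.d (i + 1) z = 0)
    (hzg : z ∈ (E.X (i + 1)).gr (g + -k)) (hxz : x • z ∈ E.cobdy a (i + 1)) :
    z ∈ E.cobdy a (i + 1) := by
  have hxzg : x • z ∈ (E.X (i + 1)).gr g := smul_mem_of_shift E hx hzg
  obtain ⟨u, hut, hug, hu⟩ := cobdy_homog E a hxz hxzg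
  rw [mem_cobdy_succ]
  cases i with
  | zero =>
    obtain ⟨w, hw1, _, _, hw4⟩ := cone_van_zero a E hx hreg π hπ hπg hker g h u z hut hz hug hzg
      hu hdz
    exact ⟨-w, Submodule.neg_mem _ hw1, by rw [map_neg, hw4]⟩
  | succ j =>
    obtain ⟨u', z', _, hz't, _, _, _, hz'⟩ := cone_van_succ a E hx hreg π hπ hπg hker j g h u z
      hut hz hug hzg hu hdz
    exact ⟨-z', Submodule.neg_mem _ hz't, by rw [map_neg, hz']⟩

include hx hreg hπ hπg hker in
/-- Surjectivity of multiplication by `x` on cohomology classes. -/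
theorem x_surj (j : ℕ) (g : ι) (h : VanM a 𝒩 j g) (y : (E.X j).carrier)
    (hy : y ∈ gam a.toIdeal (E.X j).carrier) (hdy : E.d j y = 0) (hyg : y ∈ (E.X j).gr g) :
    ∃ z : (E.X j).carrier, z ∈ gam a.toIdeal (E.X j).carrier ∧ E.d j z = 0 ∧
      z ∈ (E.X j).gr (g + -k) ∧ x • z - y ∈ E.cobdy a j := by
  have h1 : E.d j y = x • (0 : (E.X (j + 1)).carrier) := by rw [hdy, smul_zero]
  cases j with
  | zero =>
    obtain ⟨w, hw1, hw2, hw3, hw4⟩ := cone_van_zero a E hx hreg π hπ hπg hker g h y 0 hy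
      (Submodule.zero_mem _) hyg (zero_mem _) h1 (map_zero _)
    refine ⟨-w, Submodule.neg_mem _ hw1, ?_, neg_mem hw2, ?_⟩
    · rw [map_neg]
      exact hw4.symm
    · rw [mem_cobdy_zero, hw3]
      simp
  | succ i =>
    obtain ⟨u', z', hu't, hz't, _, hz'g, hu, hz'⟩ := cone_van_succ a E hx hreg π hπ hπg hker i g h
      y 0 hy (Submodule.zero_mem _) hyg (zero_mem _) h1 (map_zero _)
    refine ⟨-z', Submodule.neg_mem _ hz't, ?_, neg_mem hz'g, ?_⟩
    · rw [map_neg]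
      exact hz'.symm
    · rw [mem_cobdy_succ]
      refine ⟨-u', Submodule.neg_mem _ hu't, ?_⟩
      rw [map_neg, hu, smul_neg]
      abel

include hx hreg hπ hπg hker in
/-- Vanishing of the local cohomology of `M` from that of `M/xM` in a range of degrees closed under
adding the degree of `x`. -/
theorem van_of_regular (hxa : x ∈ a.toIdeal) (i : ℕ) (G : ι → Prop) (hG : ∀ g, G g → G (g + k))
    (h : ∀ g, G g → VanM a 𝒩 i g) : ∀ g, G g → VanM a ℳ (i + 1) (g + -k) := by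
  intro g hg E'
  have key : ∀ (n : ℕ) (g : ι), G g → ∀ z : (E'.X (i + 1)).carrier,
      z ∈ gam a.toIdeal (E'.X (i + 1)).carrier → E'.d (i + 1) z = 0 →
      z ∈ (E'.X (i + 1)).gr (g + -k) → x ^ n • z ∈ E'.cobdy a (i + 1) →
      z ∈ E'.cobdy a (i + 1) := by
    intro n
    induction n with
    | zero =>
      intro g _ z _ _ _ hz
      rwa [pow_zero, one_smul] at hz
    | succ n ih =>
      intro g hg z hzt hdz hzg hz
      rw [pow_succ, mul_smul] at hz
      have hxzg : x • z ∈ (E'.X (i + 1)).gr (g + k + -k) := by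
        rw [add_neg_cancel_right]
        exact smul_mem_of_shift E' hx hzg
      have := ih (g + k) (hG g hg) (x • z) (Submodule.smul_mem _ _ hzt)
        (by rw [map_smul, hdz, smul_zero]) hxzg hz
      exact x_inj a E' hx hreg π hπ hπg hker i g (h g hg) z hzt hdz hzg this
  intro z hzt hdz hzg
  obtain ⟨n, hn⟩ := hzt
  apply key n g hg z ⟨n, hn⟩ hdz hzg
  rw [hn _ (Ideal.pow_mem_pow hxa n)]
  exact Submodule.zero_mem _

include hreg in
theorem vanM_zero_of_regular (hxa : x ∈ a.toIdeal) (g : ι) : VanM a ℳ 0 g := by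
  rw [vanM_zero_iff]
  intro m _ hmt
  obtain ⟨n, hn⟩ := hmt
  have h1 : x ^ n • m = 0 := hn _ (Ideal.pow_mem_pow hxa n)
  exact (hreg.pow n) (by
    change x ^ n • m = x ^ n • 0
    rw [h1, smul_zero])

end Main

end Groth.Agent.Lib.Helper8.GrLCCone
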