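import Groth.Agent.Lib.Helper8.GrLCInd
import Groth.Agent.Lib.Helper8.GrLCCone

set_option autoImplicit false
set_option linter.unusedSectionVars false
universe u

open DirectSum GrLC
open Groth.Agent.Lib.Helper30
open Groth.Agent.Lib.Helper8.GrLCBase Groth.Agent.Lib.Helper8.GrLCLES
open Groth.Agent.Lib.Helper8.GrLCProd Groth.Agent.Lib.Helper8.GrLCFree
open Groth.Agent.Lib.Helper8.GrLCTors Groth.Agent.Lib.Helper8.GrLCShift
open Groth.Agent.Lib.Helper8.GrLCCone Groth.Agent.Lib.Helper8.GrLCInd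

namespace Groth.Agent.Lib.Helper8.GrLCFin

section Z

variable {R : Type u} [CommRing R] [IsNoetherianRing R] {𝒜 : ℤ → AddSubgroup R} [GradedRing 𝒜]

/-- High degree pieces of a positively graded Noetherian ring lie in a given power of any ideal
containing the irrelevant ideal. -/
theorem exists_piece_le_pow (a : Ideal R) (hRp : ∀ n : ℤ, 0 < n → ∀ r ∈ 𝒜 n, r ∈ a) (t : ℕ) :
    ∃ j₀ : ℤ, ∀ j : ℤ, j₀ ≤ j → ∀ r ∈ 𝒜 j, r ∈ a ^ t := by
  classical
  have hfg : (Ideal.span (⋃ n ∈ Set.Ioi (0 : ℤ), (𝒜 n : Set R))).FG :=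
    IsNoetherian.noetherian _
  obtain ⟨T, hT, hspan⟩ := (Submodule.fg_span_iff_fg_span_finset_subset _).mp hfg
  have hT' : ∀ s ∈ T, ∃ n : ℤ, 0 < n ∧ s ∈ 𝒜 n := by
    intro s hs
    have := hT hs
    simp only [Set.mem_iUnion, Set.mem_Ioi, SetLike.mem_coe, exists_prop] at this
    exact this
  choose! deg hdeg using hT'
  obtain ⟨K, hK⟩ := Finset.exists_le (T.image deg)
  have hK' : ∀ s ∈ T, deg s ≤ K := fun s hs => hK _ (Finset.mem_image_of_mem deg hs)
  induction t with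
  | zero =>
    refine ⟨0, fun j _ r _ => ?_⟩
    rw [pow_zero, Ideal.one_eq_top]
    trivial
  | succ t ih =>
    obtain ⟨j₀, hj₀⟩ := ih
    refine ⟨max (j₀ + K) 1, fun j hj r hr => ?_⟩
    have hjpos : 0 < j := lt_of_lt_of_le zero_lt_one (le_trans (le_max_right _ _) hj)
    have hjK : j₀ + K ≤ j := le_trans (le_max_left _ _) hj
    have hrs : r ∈ Submodule.span R (T : Set R) := by
      rw [← hspan]
      apply Submodule.subset_span
      simp only [Set.mem_iUnion, Set.mem_Ioi, SetLike.mem_coe, exists_prop]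
      exact ⟨j, hjpos, hr⟩
    obtain ⟨c, hc⟩ := Submodule.mem_span_finset'.mp hrs
    have h1 : (decompose 𝒜 r j : R) = r := decompose_of_mem_same 𝒜 hr
    rw [← h1, ← hc, decompose_sum, DFinsupp.finsetSum_apply, AddSubmonoidClass.coe_finsetSum]
    apply Ideal.sum_mem
    intro s _
    have h2 := decompose_smul_of_mem_right 𝒜 𝒜 (hdeg s.1 s.2).2 (c s) (j - deg s.1)
    rw [sub_add_cancel] at h2
    rw [h2, pow_succ]
    apply Ideal.mul_mem_mul
    · apply hj₀ _ _ _ (decompose 𝒜 (c s) (j - deg s.1)).2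
      have := hK' s.1 s.2
      omega
    · exact hRp _ (hdeg s.1 s.2).1 _ (hdeg s.1 s.2).2

variable {M : Type u} [AddCommGroup M] [Module R M] {ℳ : ℤ → AddSubgroup M}
  [DirectSum.Decomposition ℳ] [SetLike.GradedSMul 𝒜 ℳ]

/-- A finitely generated graded module killed by a power of an ideal containing the irrelevant
ideal vanishes in high degrees. -/
theorem bounded_above_of_killed (a : Ideal R) (hRp : ∀ n : ℤ, 0 < n → ∀ r ∈ 𝒜 n, r ∈ a)
    [Module.Finite R M] (t : ℕ) (hkill : ∀ r ∈ a ^ t, ∀ m : M, r • m = 0) :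
    ∃ e₁ : ℤ, ∀ e : ℤ, e₁ ≤ e → ∀ m ∈ ℳ e, m = 0 := by
  classical
  obtain ⟨T, hT, hspan⟩ := exists_finset_homogeneous_span_eq_top (R := R) ℳ
  choose! deg hdeg using hT
  obtain ⟨D, hD⟩ := Finset.exists_le (T.image deg)
  have hD' : ∀ s ∈ T, deg s ≤ D := fun s hs => hD _ (Finset.mem_image_of_mem deg hs)
  obtain ⟨j₀, hj₀⟩ := exists_piece_le_pow (𝒜 := 𝒜) a hRp t
  refine ⟨D + j₀, fun e he x hx => ?_⟩
  have hxs : x ∈ Submodule.span R (T : Set M) := by rw [hspan]; trivial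
  obtain ⟨c, hc⟩ := Submodule.mem_span_finset'.mp hxs
  have h1 : (decompose ℳ x e : M) = x := decompose_of_mem_same ℳ hx
  rw [← h1, ← hc, decompose_sum, DFinsupp.finsetSum_apply, AddSubmonoidClass.coe_finsetSum]
  apply Finset.sum_eq_zero
  intro s _
  have h2 := decompose_smul_of_mem_right 𝒜 ℳ (hdeg s.1 s.2) (c s) (e - deg s.1)
  rw [sub_add_cancel] at h2
  rw [h2]
  apply hkill
  apply hj₀ _ _ _ (decompose 𝒜 (c s) (e - deg s.1)).2
  have := hD' s.1 s.2
  omega

theorem bounded_above_of_tors (a : Ideal R) (hRp : ∀ n : ℤ, 0 < n → ∀ r ∈ 𝒜 n, r ∈ a)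
    [Module.Finite R M] (ht : gam a M = ⊤) :
    ∃ e₁ : ℤ, ∀ e : ℤ, e₁ ≤ e → ∀ m ∈ ℳ e, m = 0 := by
  obtain ⟨t, ht'⟩ := exists_pow_kill_of_fg a (⊤ : Submodule R M) Module.Finite.fg_top
    (fun n _ => by rw [ht]; trivial)
  exact bounded_above_of_killed (ℳ := ℳ) a hRp t (fun r hr m => ht' r hr m trivial)

omit [IsNoetherianRing R] in
/-- The unique homogeneous maximal ideal of a positively graded ring contains the irrelevant ideal. -/
theorem irrelevant_le_of_isStarLocal (hpos : ∀ n : ℤ, n < 0 → 𝒜 n = ⊥) (m : HomogeneousIdeal 𝒜)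
    (hm : IsStarLocal 𝒜 m) : ∀ n : ℤ, 0 < n → ∀ r ∈ 𝒜 n, r ∈ m.toIdeal := by
  intro n hn r hr
  by_contra hrm
  have hJ : (Ideal.span {r}).IsHomogeneous 𝒜 := by
    apply Ideal.homogeneous_span
    intro x hx
    rw [Set.mem_singleton_iff] at hx
    subst hx
    exact ⟨n, hr⟩
  let J : HomogeneousIdeal 𝒜 := ⟨Ideal.span {r}, hJ⟩
  have hlt : m < m ⊔ J := by
    refine lt_of_le_of_ne le_sup_left (fun h => hrm ?_)
    have h1 : r ∈ (m ⊔ J).toIdeal := by
      rw [HomogeneousIdeal.toIdeal_sup]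
      exact Submodule.mem_sup_right (Ideal.mem_span_singleton_self r)
    rwa [← h] at h1
  have htop : (m ⊔ J).toIdeal = ⊤ := by
    rw [hm.1.2 _ hlt]
    rfl
  rw [HomogeneousIdeal.toIdeal_sup] at htop
  have h1 : (1 : R) ∈ m.toIdeal ⊔ Ideal.span {r} := by
    change (1 : R) ∈ m.toIdeal ⊔ J.toIdeal
    rw [htop]
    trivial
  obtain ⟨μ, hμ, y, hy, hsum⟩ := Submodule.mem_sup.mp h1
  obtain ⟨c, rfl⟩ := Ideal.mem_span_singleton'.mp hy
  have h0 : (decompose 𝒜 (1 : R) 0 : R) = 1 :=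
    decompose_of_mem_same 𝒜 (SetLike.GradedOne.one_mem)
  have h2 := decompose_smul_of_mem_right 𝒜 𝒜 hr c (-n)
  rw [neg_add_cancel] at h2
  have hz : ∀ y : R, y ∈ 𝒜 (-n) → y = 0 := by
    intro y hy
    rw [hpos (-n) (by omega), AddSubgroup.mem_bot] at hy
    exact hy
  have h3 : (decompose 𝒜 c (-n) : R) = 0 := hz _ (decompose 𝒜 c (-n)).2
  have h4 : (1 : R) = (decompose 𝒜 μ 0 : R) := by
    rw [← h0, ← hsum, decompose_add, DirectSum.add_apply, AddSubgroup.coe_add]
    have h2' : (decompose 𝒜 (c * r) 0 : R) = 0 := by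
      rw [← smul_eq_mul, h2, h3, zero_smul]
    rw [h2', add_zero]
  have h5 : (1 : R) ∈ m.toIdeal := by
    rw [h4]
    exact m.isHomogeneous 0 hμ
  apply hm.1.1
  apply HomogeneousIdeal.toIdeal_injective
  rw [(Ideal.eq_top_iff_one _).mpr h5]
  rfl

variable (hpos : ∀ n : ℤ, n < 0 → 𝒜 n = ⊥) (a : HomogeneousIdeal 𝒜)
  (hRp : ∀ n : ℤ, 0 < n → ∀ r ∈ 𝒜 n, r ∈ a.toIdeal)

include hpos hRp in
/-- Uniform vanishing in high degrees of the graded local cohomology of a finitely generated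
graded module with respect to an ideal containing the irrelevant ideal. -/
theorem vanish_high (X : GMod.{u} 𝒜) (hX : Module.Finite R X.carrier) :
    ∃ r : ℤ, ∀ (i : ℕ) (n : ℤ), r ≤ n → VanM a X.gr i n := by
  refine grInduction a (fun X => ∃ r : ℤ, ∀ (i : ℕ) (n : ℤ), r ≤ n → VanM a X.gr i n)
    ?_ ?_ ?_ X hX
  · intro X hfin ht
    have := hfin
    obtain ⟨e₁, he₁⟩ := bounded_above_of_tors (ℳ := X.gr) a.toIdeal hRp ht
    refine ⟨e₁, fun i n hn => ?_⟩
    cases i with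
    | zero =>
      rw [vanM_zero_iff]
      intro m hm _
      exact he₁ n hn m hm
    | succ i => exact vanM_of_tors_aux a i X ht n
  · rintro X' X X'' i p S _ ⟨r', hr'⟩ ⟨r'', hr''⟩
    refine ⟨max r' r'', fun j n hn => ?_⟩
    exact les_mid a S j n (hr' j n (le_trans (le_max_left _ _) hn))
      (hr'' j n (le_trans (le_max_right _ _) hn))
  · rintro X Z k x hxk hxa hreg π hπg hπ hker _ ⟨r, hr⟩
    by_cases hk : k < 0
    · have hx0 : x = 0 := by
        rw [hpos k hk, AddSubgroup.mem_bot] at hxk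
        exact hxk
      have hsub : Subsingleton X.carrier := by
        refine ⟨fun y y' => hreg ?_⟩
        change x • y = x • y'
        rw [hx0, zero_smul, zero_smul]
      exact ⟨0, fun i n _ => vanM_of_subsingleton a i n⟩
    · push Not at hk
      refine ⟨r, fun i n hn => ?_⟩
      cases i with
      | zero => exact vanM_zero_of_regular (ℳ := X.gr) a hreg hxa n
      | succ i =>
        have := van_of_regular (ℳ := X.gr) (𝒩 := Z.gr) a hxk hreg π hπ hπg hker hxa i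
          (fun g => r ≤ g) (fun g hg => le_trans hg (le_add_of_nonneg_right hk))
          (fun g hg => hr i g hg) (n + k) (le_trans hn (le_add_of_nonneg_right hk))
        rwa [add_neg_cancel_right] at this

end Z

end Groth.Agent.Lib.Helper8.GrLCFin
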