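import Groth.Agent.Lib.Helper8.GrLCQRows
import Groth.Agent.Lib.Helper30.GradedShift
import Groth.Agent.Lib.Helper30.GradedHull

set_option autoImplicit false
set_option linter.unusedSectionVars false
universe u

open DirectSum GrLC
open Groth.Agent.Lib.Helper30
open Groth.Agent.Lib.Helper8.GrLCBase Groth.Agent.Lib.Helper8.GrLCLES
open Groth.Agent.Lib.Helper8.GrLCProd Groth.Agent.Lib.Helper8.GrLCFree

namespace Groth.Agent.Lib.Helper8.GrLCInd

section Quot

variable {ι : Type} [AddCommGroup ι] [DecidableEq ι]
variable {R : Type u} [CommRing R] {𝒜 : ι → AddSubgroup R} [GradedRing 𝒜]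

theorem comap_isHomogeneous_of_isGrHomDeg {M : Type u} [AddCommGroup M] [Module R M]
    (ℳ : ι → AddSubgroup M) [DirectSum.Decomposition ℳ]
    {N : Type u} [AddCommGroup N] [Module R N] (𝒩 : ι → AddSubgroup N) [DirectSum.Decomposition 𝒩]
    (f : M →ₗ[R] N) (d : ι) (hf : IsGrHomDeg ℳ 𝒩 f d) (P : Submodule R N)
    (hP : P.IsHomogeneous 𝒩) : (P.comap f).IsHomogeneous ℳ := by
  intro i m hm
  rw [Submodule.mem_comap] at hm ⊢
  rw [decompose_map_of_isGrHomDeg ℳ 𝒩 f d hf]
  exact hP (i + d) hm

variable (X : GMod.{u} 𝒜)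

/-- The quotient of a graded module by a homogeneous submodule. -/
noncomputable def Q (N : Submodule R X.carrier) (hN : N.IsHomogeneous X.gr) : GMod.{u} 𝒜 :=
  gmodQuot 𝒜 X.gr N hN

/-- The quotient map. -/
noncomputable def Qmk (N : Submodule R X.carrier) (hN : N.IsHomogeneous X.gr) :
    X.carrier →ₗ[R] (Q X N hN).carrier := N.mkQ

variable {X}
variable {N N₂ : Submodule R X.carrier} (hN : N.IsHomogeneous X.gr) (hN₂ : N₂.IsHomogeneous X.gr)

theorem Qmk_surjective : Function.Surjective (Qmk X N hN) := N.mkQ_surjective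

theorem Qmk_gr : IsGrHom X.gr (Q X N hN).gr (Qmk X N hN) := isGrHom_mkQ X.gr N

theorem Qmk_eq_zero (m : X.carrier) : Qmk X N hN m = 0 ↔ m ∈ N :=
  Submodule.Quotient.mk_eq_zero N

theorem Q_finite [Module.Finite R X.carrier] : Module.Finite R (Q X N hN).carrier :=
  Module.Finite.of_surjective (Qmk X N hN) (Qmk_surjective hN)

/-- The factor map between quotients. -/
noncomputable def fac (h : N ≤ N₂) : (Q X N hN).carrier →ₗ[R] (Q X N₂ hN₂).carrier :=
  Submodule.factor h

theorem fac_Qmk (h : N ≤ N₂) (m : X.carrier) :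
    fac hN hN₂ h (Qmk X N hN m) = Qmk X N₂ hN₂ m := rfl

theorem fac_surjective (h : N ≤ N₂) : Function.Surjective (fac hN hN₂ h) := by
  intro z
  obtain ⟨m, rfl⟩ := Qmk_surjective hN₂ z
  exact ⟨Qmk X N hN m, rfl⟩

theorem fac_gr (h : N ≤ N₂) : IsGrHom (Q X N hN).gr (Q X N₂ hN₂).gr (fac hN hN₂ h) := by
  rintro g _ ⟨m, hm, rfl⟩
  exact ⟨m, hm, rfl⟩

theorem Q_killed (I : Ideal R) (hI : ∀ r ∈ I, ∀ m : X.carrier, r • m = 0) :
    ∀ r ∈ I, ∀ y : (Q X N hN).carrier, r • y = 0 := by
  intro r hr y
  obtain ⟨m, rfl⟩ := Qmk_surjective hN y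
  rw [← map_smul, hI r hr m, map_zero]

end Quot

section Ind

variable {ι : Type} [AddCommGroup ι] [DecidableEq ι]
variable {R : Type u} [CommRing R] [IsNoetherianRing R] {𝒜 : ι → AddSubgroup R} [GradedRing 𝒜]

theorem killed_sup (I : Ideal R) (x : R) {Y : Type u} [AddCommGroup Y] [Module R Y]
    (hI : ∀ r ∈ I, ∀ y : Y, r • y = 0) (hx : ∀ y : Y, x • y = 0) :
    ∀ r ∈ I ⊔ Ideal.span {x}, ∀ y : Y, r • y = 0 := by
  intro r hr y
  obtain ⟨i, hi, j, hj, rfl⟩ := Submodule.mem_sup.mp hr
  obtain ⟨c, rfl⟩ := Ideal.mem_span_singleton'.mp hj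
  rw [add_smul, hI i hi y, mul_smul, hx y, smul_zero, add_zero]

theorem exists_homogeneous_not_kill (a : HomogeneousIdeal 𝒜) (Y : Type u) [AddCommGroup Y] [Module R Y]
    (ht : gam a.toIdeal Y ≠ ⊤) :
    ∃ (k : ι) (x : R), x ∈ 𝒜 k ∧ x ∈ a.toIdeal ∧ ∃ y : Y, x • y ≠ 0 := by
  classical
  by_contra hcon
  push Not at hcon
  apply ht
  rw [eq_top_iff]
  intro y _
  refine ⟨1, fun r hr => ?_⟩
  rw [pow_one] at hr
  rw [← DirectSum.sum_support_decompose 𝒜 r, Finset.sum_smul]
  apply Finset.sum_eq_zero
  intro i _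
  exact hcon i _ (SetLike.coe_mem _) (a.isHomogeneous i hr) y

/-- Noetherian induction for finitely generated graded modules: a property holds for all of them as
soon as it holds for torsion modules, is closed under extensions, and passes from `X/xX` to `X` for
a homogeneous `X`-regular element `x` of the ideal. -/
theorem grInduction (a : HomogeneousIdeal 𝒜) (C : GMod.{u} 𝒜 → Prop)
    (h_tors : ∀ X : GMod.{u} 𝒜, Module.Finite R X.carrier → gam a.toIdeal X.carrier = ⊤ → C X)
    (h_ext : ∀ (X' X X'' : GMod.{u} 𝒜) (i : X'.carrier →ₗ[R] X.carrier)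
      (p : X.carrier →ₗ[R] X''.carrier), SES X'.gr X.gr X''.gr i p → Module.Finite R X.carrier →
      C X' → C X'' → C X)
    (h_reg : ∀ (X Z : GMod.{u} 𝒜) (k : ι) (x : R), x ∈ 𝒜 k → x ∈ a.toIdeal →
      IsSMulRegular X.carrier x → ∀ π : X.carrier →ₗ[R] Z.carrier, IsGrHom X.gr Z.gr π →
      Function.Surjective π →
      LinearMap.ker π = LinearMap.range (x • (LinearMap.id : X.carrier →ₗ[R] X.carrier)) →
      Module.Finite R X.carrier → C Z → C X) :
    ∀ X : GMod.{u} 𝒜, Module.Finite R X.carrier → C X := by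
  classical
  have outer : ∀ I : Ideal R, ∀ X : GMod.{u} 𝒜, Module.Finite R X.carrier →
      (∀ r ∈ I, ∀ m : X.carrier, r • m = 0) → C X := by
    intro I
    induction I using IsNoetherian.induction with
    | hgt I ihI =>
    intro X hfin hI
    have := hfin
    have : IsNoetherian R X.carrier := isNoetherian_of_isNoetherianRing_of_finite R X.carrier
    have inner : ∀ N : Submodule R X.carrier, ∀ hN : N.IsHomogeneous X.gr, C (Q X N hN) := by
      intro N
      induction N using IsNoetherian.induction with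
      | hgt N ihN =>
      intro hN
      have hYfin : Module.Finite R (Q X N hN).carrier := Q_finite hN
      by_cases ht : gam a.toIdeal (Q X N hN).carrier = ⊤
      · exact h_tors _ hYfin ht
      obtain ⟨k, x, hxk, hxa, y, hxy⟩ := exists_homogeneous_not_kill a (Q X N hN).carrier ht
      have hxI : x ∉ I := fun hx => hxy (Q_killed hN I hI x hx y)
      have hJ : I < I ⊔ Ideal.span {x} := by
        refine lt_of_le_of_ne le_sup_left (fun h => hxI ?_)
        rw [h]
        exact Submodule.mem_sup_right (Ideal.mem_span_singleton_self x)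
      let mx : X.carrier →ₗ[R] X.carrier := LinearMap.lsmul R X.carrier x
      have hmx : IsGrHomDeg X.gr X.gr mx k := lsmul_isGrHomDeg 𝒜 X.gr hxk
      let N' : Submodule R X.carrier := N.comap mx
      have hN' : N'.IsHomogeneous X.gr :=
        comap_isHomogeneous_of_isGrHomDeg X.gr X.gr mx k hmx N hN
      have hle : N ≤ N' := fun m hm => N.smul_mem x hm
      by_cases hNN : N' ≤ N
      · -- `x` is regular on the quotient
        let N'' : Submodule R X.carrier := N ⊔ LinearMap.range mx
        have hN'' : N''.IsHomogeneous X.gr :=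
          sup_isHomogeneous X.gr _ _ hN (range_isHomogeneous_of_isGrHomDeg X.gr X.gr mx k hmx)
        have hle'' : N ≤ N'' := le_sup_left
        have hreg : IsSMulRegular (Q X N hN).carrier x := by
          intro y₁ y₂ h
          have h0 : x • (y₁ - y₂) = 0 := by
            rw [smul_sub]
            exact sub_eq_zero.mpr h
          obtain ⟨m, hm⟩ := Qmk_surjective hN (y₁ - y₂)
          rw [← hm, ← map_smul, Qmk_eq_zero] at h0
          have : m ∈ N := hNN h0
          rw [← Qmk_eq_zero hN, hm] at this
          exact sub_eq_zero.mp this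
        have hZfin : Module.Finite R (Q X N'' hN'').carrier := Q_finite hN''
        have hZk : ∀ r ∈ I ⊔ Ideal.span {x}, ∀ z : (Q X N'' hN'').carrier, r • z = 0 := by
          apply killed_sup I x (Q_killed hN'' I hI)
          intro z
          obtain ⟨m, rfl⟩ := Qmk_surjective hN'' z
          rw [← map_smul, Qmk_eq_zero]
          exact Submodule.mem_sup_right ⟨m, rfl⟩
        have hCZ : C (Q X N'' hN'') := ihI _ hJ _ hZfin hZk
        refine h_reg (Q X N hN) (Q X N'' hN'') k x hxk hxa hreg (fac hN hN'' hle'')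
          (fac_gr hN hN'' hle'') (fac_surjective hN hN'' hle'') ?_ hYfin hCZ
        apply le_antisymm
        · intro y hy
          rw [LinearMap.mem_ker] at hy
          obtain ⟨m, rfl⟩ := Qmk_surjective hN y
          rw [fac_Qmk, Qmk_eq_zero] at hy
          obtain ⟨n, hn, _, ⟨m', rfl⟩, rfl⟩ := Submodule.mem_sup.mp hy
          refine ⟨Qmk X N hN m', ?_⟩
          rw [map_add, (Qmk_eq_zero hN n).mpr hn, zero_add]
          change x • Qmk X N hN m' = Qmk X N hN (x • m')
          rw [map_smul]
        · rintro _ ⟨y, rfl⟩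
          rw [LinearMap.mem_ker]
          obtain ⟨m, rfl⟩ := Qmk_surjective hN y
          change fac hN hN'' hle'' (x • Qmk X N hN m) = 0
          rw [← map_smul, fac_Qmk, Qmk_eq_zero]
          exact Submodule.mem_sup_right ⟨m, rfl⟩
      · -- the annihilator of `x` in the quotient is non-zero
        have hlt : N < N' := lt_of_le_of_ne hle (fun h => hNN (h ▸ le_refl _))
        have hCQ : C (Q X N' hN') := ihN N' hlt hN'
        let φ := fac hN hN' hle
        have hφ : IsGrHom (Q X N hN).gr (Q X N' hN').gr φ := fac_gr hN hN' hle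
        let K : GMod.{u} 𝒜 := gker (Q X N hN) (Q X N' hN') φ hφ
        have : IsNoetherian R (Q X N hN).carrier :=
          isNoetherian_of_isNoetherianRing_of_finite R (Q X N hN).carrier
        have hKfin : Module.Finite R K.carrier :=
          Module.Finite.iff_fg.mpr (IsNoetherian.noetherian (LinearMap.ker φ))
        have hKk : ∀ r ∈ I ⊔ Ideal.span {x}, ∀ z : K.carrier, r • z = 0 := by
          apply killed_sup I x
          · intro r hr z
            apply Subtype.ext
            exact Q_killed hN I hI r hr z.1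
          · intro z
            apply Subtype.ext
            obtain ⟨y, hy⟩ := z
            obtain ⟨m, rfl⟩ := Qmk_surjective hN y
            rw [LinearMap.mem_ker] at hy
            change fac hN hN' hle (Qmk X N hN m) = 0 at hy
            rw [fac_Qmk, Qmk_eq_zero] at hy
            change x • Qmk X N hN m = 0
            rw [← map_smul, Qmk_eq_zero]
            exact hy
        have hCK : C K := ihI _ hJ K hKfin hKk
        exact h_ext K (Q X N hN) (Q X N' hN') _ φ
          (ses_ker_surj (Q X N hN) (Q X N' hN') φ hφ (fac_surjective hN hN' hle)) hYfin hCK hCQ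
    -- pass from `X/0` to `X`
    have hbot : (⊥ : Submodule R X.carrier).IsHomogeneous X.gr := bot_isHomogeneous' X.gr
    have hC0 := inner ⊥ hbot
    have hsub : Subsingleton (gzero (𝒜 := 𝒜)).carrier :=
      (inferInstance : Subsingleton PUnit.{u + 1})
    have hZ : C (gzero (𝒜 := 𝒜)) := by
      apply h_tors
      · exact Module.Finite.of_surjective (0 : R →ₗ[R] (gzero (𝒜 := 𝒜)).carrier)
          (fun z => ⟨0, Subsingleton.elim _ _⟩)
      · rw [eq_top_iff]
        intro z _
        exact ⟨0, fun r _ => Subsingleton.elim _ _⟩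
    refine h_ext (gzero (𝒜 := 𝒜)) X (Q X ⊥ hbot) 0 (Qmk X ⊥ hbot) ?_ hfin hZ hC0
    exact
      { i_gr := fun g z _ => by
          rw [LinearMap.zero_apply]
          exact zero_mem _
        p_gr := Qmk_gr hbot
        inj := fun z z' _ => Subsingleton.elim _ _
        surj := Qmk_surjective hbot
        exact := by
          apply le_antisymm
          · rintro _ ⟨z, rfl⟩
            rw [LinearMap.zero_apply]
            exact Submodule.zero_mem _
          · intro m hm
            rw [LinearMap.mem_ker, Qmk_eq_zero, Submodule.mem_bot] at hm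
            rw [hm]
            exact Submodule.zero_mem _ }
  intro X hfin
  exact outer ⊥ X hfin (fun r hr m => by
    rw [Submodule.mem_bot] at hr
    rw [hr, zero_smul])

end Ind

end Groth.Agent.Lib.Helper8.GrLCInd
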