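import Groth.Agent.Lib.Helper8.GrLCFree
import Mathlib.RingTheory.Artinian.Module
import Mathlib.RingTheory.FiniteLength

set_option autoImplicit false
set_option linter.unusedSectionVars false
universe u

open DirectSum GrLC
open Groth.Agent.Lib.Helper30
open Groth.Agent.Lib.Helper8.GrLCBase Groth.Agent.Lib.Helper8.GrLCProd
open Groth.Agent.Lib.Helper8.GrLCLES Groth.Agent.Lib.Helper8.GrLCTors
open Groth.Agent.Lib.Helper8.GrLCShift Groth.Agent.Lib.Helper8.GrLCFree
open Groth.Agent.Lib.Helper8.GrLCRows Groth.Agent.Lib.Helper8.GrLCRows2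

namespace Groth.Agent.Lib.Helper8.GrLCQReg

variable {R : Type u} [CommRing R] {𝒜 : ℤ → AddSubgroup R} [GradedRing 𝒜]

section Trunc

variable {X : Type u} [AddCommGroup X] [Module R X] (𝒳 : ℤ → AddSubgroup X)
  [DirectSum.Decomposition 𝒳] [SetLike.GradedSMul 𝒜 𝒳]

theorem eq_zero_of_neg (hpos : ∀ n : ℤ, n < 0 → 𝒜 n = ⊥) {n : ℤ} (hn : n < 0) {y : R} (hy : y ∈ 𝒜 n) : y = 0 := by
  rw [hpos n hn, AddSubgroup.mem_bot] at hy
  exact hy

/-- The elements all of whose components of degree `< t` vanish. -/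
def Zlt (hpos : ∀ n : ℤ, n < 0 → 𝒜 n = ⊥) (t : ℤ) : Submodule R X where
  carrier := {y | ∀ s < t, (decompose 𝒳 y s : X) = 0}
  add_mem' := by
    intro y y' hy hy' s hs
    rw [decompose_add, DirectSum.add_apply, AddSubgroup.coe_add, hy s hs, hy' s hs, add_zero]
  zero_mem' := by
    intro s _
    rw [decompose_zero, DirectSum.zero_apply, ZeroMemClass.coe_zero]
  smul_mem' := by
    intro c y hy s hs
    induction c using DirectSum.Decomposition.inductionOn 𝒜 with
    | zero => rw [zero_smul, decompose_zero, DirectSum.zero_apply, ZeroMemClass.coe_zero]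
    | @homogeneous i c =>
      have h := decompose_smul_of_mem 𝒜 𝒳 c.2 y (s - i)
      rw [add_sub_cancel] at h
      rw [h]
      by_cases hi : i < 0
      · rw [eq_zero_of_neg hpos hi c.2, zero_smul]
      · rw [hy (s - i) (by omega), smul_zero]
    | add c c' hc hc' =>
      rw [add_smul, decompose_add, DirectSum.add_apply, AddSubgroup.coe_add, hc, hc', add_zero]

variable (hpos : ∀ n : ℤ, n < 0 → 𝒜 n = ⊥)

theorem mem_Zlt (t : ℤ) (y : X) : y ∈ Zlt 𝒳 hpos t ↔ ∀ s < t, (decompose 𝒳 y s : X) = 0 := Iff.rfl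

theorem Zlt_anti {t t' : ℤ} (h : t ≤ t') : Zlt 𝒳 hpos t' ≤ Zlt 𝒳 hpos t :=
  fun _ hy s hs => hy s (lt_of_lt_of_le hs h)

theorem eq_zero_of_forall_decompose (y : X) (h : ∀ s, (decompose 𝒳 y s : X) = 0) : y = 0 := by
  classical
  rw [← sum_support_decompose 𝒳 y]
  exact Finset.sum_eq_zero fun s _ => h s

include hpos in
/-- An Artinian homogeneous submodule vanishes in high degrees. -/
theorem exists_vanish (P : Submodule R X) [IsArtinian R ↥P] :
    ∃ T : ℤ, ∀ t, T < t → ∀ y ∈ P, y ∈ 𝒳 t → y = 0 := by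
  let f : ℕ →o (Submodule R ↥P)ᵒᵈ :=
    ⟨fun n => OrderDual.toDual ((Zlt 𝒳 hpos (n : ℤ)).comap P.subtype), fun a b hab =>
      OrderDual.toDual_le_toDual.mpr
        (Submodule.comap_mono (Zlt_anti 𝒳 hpos (by exact_mod_cast hab)))⟩
  obtain ⟨N, hN⟩ := IsArtinian.monotone_stabilizes f
  refine ⟨N, fun t ht y hyP hyt => ?_⟩
  have h1 : (⟨y, hyP⟩ : ↥P) ∈ (Zlt 𝒳 hpos (N : ℤ)).comap P.subtype := by
    intro s hs
    exact decompose_of_mem_ne 𝒳 hyt (by omega)
  have h2 : (Zlt 𝒳 hpos (N : ℤ)).comap P.subtype =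
      (Zlt 𝒳 hpos (((t + 1).toNat : ℕ) : ℤ)).comap P.subtype := by
    have := hN (t + 1).toNat (by omega)
    exact OrderDual.toDual.injective this
  rw [h2] at h1
  have h3 := h1 t (by
    rw [Int.toNat_of_nonneg (by omega)]
    omega)
  change (decompose 𝒳 y t : X) = 0 at h3
  rwa [decompose_of_mem_same 𝒳 hyt] at h3

variable (a : HomogeneousIdeal 𝒜)
  (hhom : a.toIdeal = Ideal.span ((𝒜 1 : AddSubgroup R) : Set R))

include hhom in
theorem smul_mem_Zlt_succ (t : ℤ) (r : R) (hr : r ∈ a.toIdeal) :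
    ∀ y ∈ Zlt 𝒳 hpos t, r • y ∈ Zlt 𝒳 hpos (t + 1) := by
  rw [hhom] at hr
  refine Submodule.span_induction ?_ ?_ ?_ ?_ hr
  · intro x hx y hy s hs
    have h := decompose_smul_of_mem 𝒜 𝒳 hx y (s - 1)
    rw [add_sub_cancel] at h
    rw [h, hy (s - 1) (by omega), smul_zero]
  · intro y _
    rw [zero_smul]
    exact Submodule.zero_mem _
  · intro r r' _ _ h h' y hy
    rw [add_smul]
    exact Submodule.add_mem _ (h y hy) (h' y hy)
  · intro c r' _ h y hy
    rw [smul_eq_mul, mul_comm, mul_smul]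
    exact h _ (Submodule.smul_mem _ c hy)

include hhom in
theorem smul_mem_Zlt_pow (n : ℕ) : ∀ (t : ℤ) (r : R), r ∈ a.toIdeal ^ n →
    ∀ y ∈ Zlt 𝒳 hpos t, r • y ∈ Zlt 𝒳 hpos (t + n) := by
  induction n with
  | zero =>
    intro t r _ y hy
    rw [Nat.cast_zero, add_zero]
    exact Submodule.smul_mem _ r hy
  | succ n ih =>
    intro t r hr
    rw [pow_succ] at hr
    refine Submodule.mul_induction_on hr ?_ ?_
    · intro r₁ hr₁ r₂ hr₂ y hy
      rw [mul_smul]
      have h1 := smul_mem_Zlt_succ 𝒳 hpos a hhom t r₂ hr₂ y hy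
      have h2 := ih (t + 1) r₁ hr₁ _ h1
      have e : t + 1 + (n : ℤ) = t + ((n + 1 : ℕ) : ℤ) := by push_cast; ring
      rwa [e] at h2
    · intro r r' h h' y hy
      rw [add_smul]
      exact Submodule.add_mem _ (h y hy) (h' y hy)

include hhom hpos in
/-- An Artinian homogeneous submodule of a graded module bounded below is torsion. -/
theorem gam_eq_top_of_artinian (P : Submodule R X) (hP : P.IsHomogeneous 𝒳) [IsArtinian R ↥P]
    (e₀ : ℤ) (he₀ : ∀ e : ℤ, e < e₀ → 𝒳 e = ⊥) : gam a.toIdeal ↥P = ⊤ := by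
  obtain ⟨T, hT⟩ := exists_vanish 𝒳 hpos P
  rw [eq_top_iff]
  intro y _
  refine ⟨(T + 1 - e₀).toNat, fun r hr => ?_⟩
  apply Subtype.ext
  change r • (y : X) = 0
  have hy0 : (y : X) ∈ Zlt 𝒳 hpos e₀ := by
    intro s hs
    have h0 : ∀ z : X, z ∈ 𝒳 s → z = 0 := by
      intro z hz
      rw [he₀ s hs, AddSubgroup.mem_bot] at hz
      exact hz
    exact h0 _ (decompose 𝒳 (y : X) s).2
  have h1 := smul_mem_Zlt_pow 𝒳 hpos a hhom _ e₀ r hr _ hy0
  apply eq_zero_of_forall_decompose 𝒳
  intro s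
  by_cases hs : s ≤ T
  · apply h1 s
    have := Int.self_le_toNat (T + 1 - e₀)
    omega
  · exact hT s (not_le.mp hs) _ (hP s (P.smul_mem r y.2)) (decompose 𝒳 _ s).2

end Trunc

section RegDefs

variable (a : HomogeneousIdeal 𝒜) (X : GMod.{u} 𝒜)

/-- Local-cohomological regularity at most `d`. -/
def RegHG (d : ℤ) : Prop := ∀ (i : ℕ) (g : ℤ), d < g + i → VanM a X.gr i g

/-- `d`-regularity. -/
def DRegG (d : ℤ) : Prop :=
  (∀ t : ℤ, d < t → VanM a X.gr 0 t) ∧ ∀ i : ℕ, 0 < i → VanM a X.gr i (d - (i : ℤ) + 1)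

/-- weak `d`-regularity. -/
def WRegG (d : ℤ) : Prop := ∀ i : ℕ, 0 < i → VanM a X.gr i (d - (i : ℤ) + 1)

theorem regHG_mono {d d' : ℤ} (h : d ≤ d') (hd : RegHG a X d) : RegHG a X d' :=
  fun i g hg => hd i g (by omega)

variable [IsNoetherianRing R]
  (hhom : a.toIdeal = Ideal.span ((𝒜 1 : AddSubgroup R) : Set R))

include hhom in
/-- Mumford: weak `d`-regularity propagates upwards. -/
theorem wRegG_van {d : ℤ} (h : WRegG a X d) (i : ℕ) (hi : 0 < i) (g : ℤ) (hg : d < g + i) :
    VanM a X.gr i g := by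
  have hm := mumford a hhom (ℳ := X.gr) d 1 le_rfl (fun j hj => by
      have := h j (by omega)
      have e : d + 1 - (j : ℤ) = d - (j : ℤ) + 1 := by ring
      rw [e]
      exact this) (g + (i : ℤ) - d - 1).toNat i (by omega)
  have e : d + 1 + ((g + (i : ℤ) - d - 1).toNat : ℤ) - (i : ℤ) = g := by
    rw [Int.toNat_of_nonneg (by omega)]
    ring
  rw [e] at hm
  exact hm

include hhom in
theorem regHG_iff_dRegG (d : ℤ) : RegHG a X d ↔ DRegG a X d := by
  constructor
  · intro h
    exact ⟨fun t ht => h 0 t (by simpa using ht), fun i _ => h i _ (by omega)⟩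
  · rintro ⟨h0, h1⟩ i g hg
    cases i with
    | zero => exact h0 g (by simpa using hg)
    | succ i => exact wRegG_van a X hhom h1 (i + 1) (by omega) g hg

end RegDefs

section QReg

variable [IsNoetherianRing R] (a : HomogeneousIdeal 𝒜)
  (hhom : a.toIdeal = Ideal.span ((𝒜 1 : AddSubgroup R) : Set R))
  (X N : GMod.{u} 𝒜) (x : R) (hx : x ∈ 𝒜 1)
  (π : X.carrier →ₗ[R] N.carrier) (hπ : Function.Surjective π) (hπg : IsGrHom X.gr N.gr π)
  (hker : LinearMap.ker π = LinearMap.range (x • (LinearMap.id : X.carrier →ₗ[R] X.carrier)))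
  (hK : gam a.toIdeal ↥(LinearMap.ker (x • (LinearMap.id : X.carrier →ₗ[R] X.carrier))) = ⊤)

/-- The shifted module `X(-1)`. -/
noncomputable def Xs : GMod.{u} 𝒜 := GMod.of 𝒜 X.carrier (shiftGr X.gr (-1))

/-- Multiplication by `x` as a map `X(-1) → X`. -/
noncomputable def mulx : (Xs X).carrier →ₗ[R] X.carrier :=
  x • (LinearMap.id : X.carrier →ₗ[R] X.carrier)

include hx in
theorem mulx_gr : IsGrHom (Xs X).gr X.gr (mulx X x) := by
  intro g m hm
  have := smul_mem_piece 𝒜 X.gr hx hm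
  rwa [add_neg_cancel_comm_assoc] at this

/-- The kernel of multiplication by `x`, shifted. -/
noncomputable def Kx : GMod.{u} 𝒜 := gker (Xs X) X (mulx X x) (mulx_gr X x hx)

/-- The image of multiplication by `x`. -/
noncomputable def xX : GMod.{u} 𝒜 := grange (Xs X) X (mulx X x) (mulx_gr X x hx)

/-- The inclusion of the kernel, typed. -/
noncomputable def Kι : (Kx X x hx).carrier →ₗ[R] (Xs X).carrier :=
  gkerι (Xs X) X (mulx X x) (mulx_gr X x hx)

/-- The corestriction of multiplication by `x`, typed. -/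
noncomputable def xXπ : (Xs X).carrier →ₗ[R] (xX X x hx).carrier :=
  grangeπ (Xs X) X (mulx X x) (mulx_gr X x hx)

theorem ses1 : SES (Kx X x hx).gr (Xs X).gr (xX X x hx).gr (Kι X x hx) (xXπ X x hx) :=
  ses_ker_range (Xs X) X (mulx X x) (mulx_gr X x hx)

/-- The inclusion of `xX`. -/
noncomputable def xXι : (xX X x hx).carrier →ₗ[R] X.carrier :=
  (LinearMap.range (mulx X x)).subtype

include hπ hπg hker in
theorem ses2 : SES (xX X x hx).gr X.gr N.gr (xXι X x hx) π where
  i_gr := fun _ _ h => h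
  p_gr := hπg
  inj := Subtype.val_injective
  surj := hπ
  exact := by
    rw [hker]
    apply le_antisymm
    · rintro _ ⟨z, rfl⟩
      exact z.2
    · intro y hy
      exact ⟨⟨y, hy⟩, rfl⟩

include hK in
theorem vanM_Kx (n : ℕ) (g : ℤ) : VanM a (Kx X x hx).gr (n + 1) g :=
  vanM_of_tors_aux a n (Kx X x hx) hK g

include hK in
theorem vanA (i : ℕ) (g : ℤ) (h : VanM a X.gr i (g + -1)) : VanM a (xX X x hx).gr i g :=
  les_right a (ses1 X x hx) i g ((vanM_shift (ℳ := X.gr) a (-1) i g).mpr h)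
    (vanM_Kx a X x hx hK i g)

include hK in
theorem vanB (i : ℕ) (g : ℤ) (h : VanM a (xX X x hx).gr (i + 1) g) :
    VanM a X.gr (i + 1) (g + -1) :=
  (vanM_shift (ℳ := X.gr) a (-1) (i + 1) g).mp
    (les_mid a (ses1 X x hx) (i + 1) g (vanM_Kx a X x hx hK i g) h)

include hπ hπg hker in
theorem vanC (i : ℕ) (g : ℤ) (h : VanM a X.gr i g) (h' : VanM a (xX X x hx).gr (i + 1) g) :
    VanM a N.gr i g :=
  les_right a (ses2 X N x hx π hπ hπg hker) i g h h'

include hπ hπg hker in
theorem vanD (i : ℕ) (g : ℤ) (h : VanM a N.gr i g) (h' : VanM a X.gr (i + 1) g) :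
    VanM a (xX X x hx).gr (i + 1) g :=
  les_left a (ses2 X N x hx π hπ hπg hker) i g h h'

include hx hπ hπg hker hK in
/-- weak regularity descends to the quotient by a quasi-regular linear form. -/
theorem wRegG_quot (d : ℤ) (h : WRegG a X d) : WRegG a N d := by
  intro i hi
  apply vanC a X N x hx π hπ hπg hker i _ (h i hi)
  apply vanA a X x hx hK
  have := h (i + 1) (by omega)
  have e : d - ((i + 1 : ℕ) : ℤ) + 1 = d - (i : ℤ) + 1 + -1 := by push_cast; ring
  rwa [e] at this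

include hx hπ hπg hker hK hhom in
theorem dRegG_quot (d : ℤ) (h : DRegG a X d) : DRegG a N d := by
  refine ⟨fun t ht => ?_, wRegG_quot a X N x hx π hπ hπg hker hK d h.2⟩
  apply vanC a X N x hx π hπ hπg hker 0 t (h.1 t ht)
  apply vanA a X x hx hK
  apply wRegG_van a X hhom h.2 1 one_pos
  push_cast
  omega

include hx hπ hπg hker hK hhom in
theorem regHG_step (d e : ℤ) (hde : d ≤ e) (hN : RegHG a N d) (h0 : ∀ t : ℤ, d < t → VanM a X.gr 0 t)
    (h : RegHG a X (e + 1)) : RegHG a X e := by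
  intro i g hg
  by_cases hlt : e + 1 < g + i
  · exact h i g hlt
  · have hgi : g + i = e + 1 := by omega
    cases i with
    | zero => exact h0 g (by push_cast at hgi; omega)
    | succ i =>
      have h1 : VanM a (xX X x hx).gr (i + 1) (g + 1) := by
        apply vanD a X N x hx π hπ hπg hker i (g + 1)
        · apply hN
          push_cast at hgi
          omega
        · apply h
          push_cast at hgi ⊢
          omega
      have := vanB a X x hx hK i (g + 1) h1
      rwa [add_neg_cancel_right] at this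

include hx hπ hπg hker hK hhom in
theorem regHG_of_quot (d : ℤ) (hN : RegHG a N d) (h0 : ∀ t : ℤ, d < t → VanM a X.gr 0 t)
    (hfin : ∃ d', RegHG a X d') : RegHG a X d := by
  obtain ⟨d', hd'⟩ := hfin
  have key : ∀ n : ℕ, RegHG a X (d + n) → RegHG a X d := by
    intro n
    induction n with
    | zero =>
      intro h
      simpa using h
    | succ n ih =>
      intro h
      apply ih
      apply regHG_step a hhom X N x hx π hπ hπg hker hK d (d + n) (by omega) hN h0
      have e : d + ((n + 1 : ℕ) : ℤ) = d + n + 1 := by push_cast; ring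
      rwa [e] at h
  apply key (d' - d).toNat
  apply regHG_mono a X _ hd'
  have := Int.self_le_toNat (d' - d)
  omega

end QReg

end Groth.Agent.Lib.Helper8.GrLCQReg
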