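import Groth.Agent.Lib.Helper8.GrLCCone

set_option autoImplicit false
set_option linter.unusedSectionVars false
universe u

open DirectSum GrLC
open Groth.Agent.Lib.Helper30
open Groth.Agent.Lib.Helper8.GrLCBase Groth.Agent.Lib.Helper8.GrLCProd
open Groth.Agent.Lib.Helper8.GrLCLES Groth.Agent.Lib.Helper8.GrLCTors
open Groth.Agent.Lib.Helper8.GrLCShift Groth.Agent.Lib.Helper8.GrLCCone

namespace Groth.Agent.Lib.Helper8.GrLCWhole

variable {ι : Type} [AddCommGroup ι] [DecidableEq ι]
variable {R : Type u} [CommRing R] {𝒜 : ι → AddSubgroup R} [GradedRing 𝒜]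
variable {M : Type u} [AddCommGroup M] [Module R M] {ℳ : ι → AddSubgroup M}
  [DirectSum.Decomposition ℳ] [SetLike.GradedSMul 𝒜 ℳ]

/-- If all graded pieces of the cohomology vanish, the cohomology module vanishes. -/
theorem subsingleton_H_of_vanM (a : HomogeneousIdeal 𝒜) (E : StarInjRes 𝒜 ℳ) (q : ℕ)
    (h : ∀ g, VanM a ℳ q g) : Subsingleton (E.H a q) := by
  classical
  have key : ∀ z : (E.X q).carrier, z ∈ gam a.toIdeal (E.X q).carrier → E.d q z = 0 →
      z ∈ E.cobdy a q := by
    intro z hzt hdz
    rw [← sum_support_decompose (E.X q).gr z]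
    apply Submodule.sum_mem
    intro g _
    apply h g E
    · exact gam_isHomogeneous 𝒜 (E.X q).gr a g hzt
    · rw [decompose_map_of_isGrHom (E.X q).gr (E.X (q + 1)).gr (E.d q) (E.d_grHom q), hdz,
        decompose_zero, DirectSum.zero_apply, ZeroMemClass.coe_zero]
    · exact (decompose (E.X q).gr z g).2
  constructor
  intro p p'
  obtain ⟨z, rfl⟩ := Submodule.mkQ_surjective _ p
  obtain ⟨z', rfl⟩ := Submodule.mkQ_surjective _ p'
  rw [Submodule.mkQ_apply, Submodule.mkQ_apply, Submodule.Quotient.eq]
  change ((z - z' : ↥(E.cocyc a q)) : (E.X q).carrier) ∈ E.cobdy a q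
  exact key _ (z - z').2.1 (z - z').2.2

/-- Local cohomology vanishes when a homogeneous element of the ideal acts bijectively. -/
theorem vanM_of_bijective (a : HomogeneousIdeal 𝒜) {x : R} {k : ι} (hx : x ∈ 𝒜 k)
    (hxa : x ∈ a.toIdeal) (hbij : Function.Bijective (fun m : M => x • m)) (q : ℕ) (g : ι) :
    VanM a ℳ q g := by
  have hreg : IsSMulRegular M x := hbij.1
  cases q with
  | zero => exact vanM_zero_of_regular a hreg hxa g
  | succ q =>
    let N : GMod.{u} 𝒜 := gzero
    let π : M →ₗ[R] N.carrier := 0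
    have hπ : Function.Surjective π := fun y => ⟨0, Subsingleton.elim (α := PUnit.{u + 1}) _ _⟩
    have hπg : IsGrHom ℳ N.gr π := fun _ _ _ => Subsingleton.elim (α := PUnit.{u + 1}) _ _
    have hker : LinearMap.ker π = LinearMap.range (x • (LinearMap.id : M →ₗ[R] M)) := by
      apply le_antisymm
      · intro m _
        obtain ⟨m', hm'⟩ := hbij.2 m
        exact ⟨m', hm'⟩
      · intro m _
        exact Subsingleton.elim (α := PUnit.{u + 1}) _ _
    have hsub : Subsingleton N.carrier := (inferInstance : Subsingleton PUnit.{u + 1})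
    have := van_of_regular (𝒩 := N.gr) a hx hreg π hπ hπg hker hxa q (fun _ => True)
      (fun _ _ => trivial)
      (fun g' _ => vanM_of_subsingleton (M := N.carrier) (ℳ := N.gr) a q g') (g + k) trivial
    rwa [add_neg_cancel_right] at this

end Groth.Agent.Lib.Helper8.GrLCWhole
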