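import Groth.Agent.Lib.Helper8.GrLCCompare
import Groth.Agent.Lib.Helper8.GrLCQReg
import Groth.Agent.Lib.Helper8.GrLCInd
import Groth.Agent.Lib.Helper8.GrLCWhole
import Groth.Agent.Lib.Helper8.GrLCFin
import Groth.Agent.Lib.Helper92.LocCohTorsion
import Groth.Agent.S13217

/-!
# Consequences of the comparison theorem
-/

set_option autoImplicit false
set_option linter.unusedSectionVars false
universe u

open DirectSum GrLC
open Groth.Agent.Lib.Helper30
open Groth.Agent.Lib.Helper8.GrLCBase Groth.Agent.Lib.Helper8.GrLCProd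
open Groth.Agent.Lib.Helper8.GrLCLES Groth.Agent.Lib.Helper8.GrLCTors
open Groth.Agent.Lib.Helper8.GrLCShift Groth.Agent.Lib.Helper8.GrLCFree
open Groth.Agent.Lib.Helper8.GrLCInd Groth.Agent.Lib.Helper8.GrLCRows2
open Groth.Agent.Lib.Helper8.GrLCQReg Groth.Agent.Lib.Helper8.GrLCWhole
open Groth.Agent.Lib.Helper8.GrLCFin

namespace Groth.Agent.Lib.Helper8.GrLCCompareRows

section General

variable {ι : Type} [AddCommGroup ι] [DecidableEq ι] [Module.Free ℤ ι] [Module.Finite ℤ ι]
variable {R : Type u} [CommRing R] [IsNoetherianRing R] {𝒜 : ι → AddSubgroup R} [GradedRing 𝒜]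
variable {M : Type u} [AddCommGroup M] [Module R M] {ℳ : ι → AddSubgroup M}
  [DirectSum.Decomposition ℳ] [SetLike.GradedSMul 𝒜 ℳ]

/-- The comparison theorem. -/
theorem compare (a : HomogeneousIdeal 𝒜) (E : StarInjRes 𝒜 ℳ) (i : ℕ) :
    Nonempty (E.H a i ≃ₗ[R] LocCoh.H a.toIdeal i M) := by
  have hacyc : ∀ n j, Subsingleton ((localCohomology a.toIdeal (j + 1)).obj
      (ModuleCat.of R (E.X n).carrier)) :=
    fun n j => Groth.Agent.S13217.result R 𝒜 a (E.X n).carrier (E.X n).gr (E.starInj n) (j + 1)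
      (by omega)
  cases i with
  | zero =>
    obtain ⟨e⟩ := Groth.Agent.Lib.Helper8.GrLCCompare.zero_case a.toIdeal
      (fun n => (E.X n).carrier) E.d E.ε E.ε_injective E.exact_zero
    exact ⟨e.symm⟩
  | succ j =>
    obtain ⟨e⟩ := Groth.Agent.Lib.Helper8.GrLCCompare.succ_case a.toIdeal
      (fun n => (E.X n).carrier) E.d E.exact_succ hacyc E.ε E.ε_injective E.exact_zero j
    exact ⟨e.symm⟩

/-- Graded vanishing in all degrees is equivalent to vanishing of the ungraded local cohomology. -/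
theorem subsingleton_iff_vanM (a : HomogeneousIdeal 𝒜) (i : ℕ) :
    Subsingleton (LocCoh.H a.toIdeal i M) ↔ ∀ g, VanM a ℳ i g := by
  let E := starInjRes 𝒜 ℳ
  obtain ⟨e⟩ := compare a E i
  constructor
  · intro h g
    rw [vanM_iff_hcomp a E]
    rw [eq_bot_iff]
    intro x _
    have : Subsingleton (E.H a i) := e.toEquiv.subsingleton
    rw [Subsingleton.elim x 0]
    exact Submodule.zero_mem _
  · intro h
    have := subsingleton_H_of_vanM a E i h
    exact e.symm.toEquiv.subsingleton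

end General

section Tors

variable {R : Type u} [CommRing R] [IsNoetherianRing R]
variable {M : Type u} [AddCommGroup M] [Module R M]

theorem mem_gam_of_pow_smul_mem (a : Ideal R) (m : M) (k : ℕ)
    (hk : ∀ r ∈ a ^ k, r • m ∈ gam a M) : m ∈ gam a M := by
  let P : Submodule R M := (a ^ k) • Submodule.span R {m}
  have hPfg : P.FG := Submodule.FG.smul (IsNoetherian.noetherian _) (Submodule.fg_span_singleton m)
  have hPt : ∀ n ∈ P, n ∈ gam a M := by
    intro n hn
    refine Submodule.smul_induction_on hn ?_ ?_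
    · intro r hr n' hn'
      obtain ⟨c, rfl⟩ := Submodule.mem_span_singleton.mp hn'
      rw [smul_comm]
      exact Submodule.smul_mem _ _ (hk r hr)
    · intro x y hx hy
      exact Submodule.add_mem _ hx hy
  obtain ⟨t, ht⟩ := exists_pow_kill_of_fg a P hPfg hPt
  refine ⟨t + k, fun r hr => ?_⟩
  rw [pow_add] at hr
  refine Submodule.mul_induction_on hr ?_ ?_
  · intro r₁ hr₁ r₂ hr₂
    rw [mul_smul]
    apply ht r₁ hr₁
    exact Submodule.smul_mem_smul hr₂ (Submodule.mem_span_singleton_self m)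
  · intro x y hx hy
    rw [add_smul, hx, hy, add_zero]

end Tors

section Z

variable {R : Type u} [CommRing R] [IsNoetherianRing R] {𝒜 : ℤ → AddSubgroup R} [GradedRing 𝒜]
variable {M : Type u} [AddCommGroup M] [Module R M] {ℳ : ℤ → AddSubgroup M}
  [DirectSum.Decomposition ℳ] [SetLike.GradedSMul 𝒜 ℳ]
variable (a : HomogeneousIdeal 𝒜)
  (hhom : a.toIdeal = Ideal.span ((𝒜 1 : AddSubgroup R) : Set R))
  (hpos : ∀ n : ℤ, n < 0 → 𝒜 n = ⊥)

include hhom hpos in
/-- A finitely generated graded module over a standard graded ring all of whose higher local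
cohomology modules vanish is torsion. -/
theorem tors_of_vanishing [Module.Finite R M] (hv : ∀ (i : ℕ) (g : ℤ), VanM a ℳ (i + 1) g) :
    gam a.toIdeal M = ⊤ := by
  classical
  let X : GMod.{u} 𝒜 := GMod.of 𝒜 M ℳ
  let N : Submodule R X.carrier := gam a.toIdeal M
  have hN : N.IsHomogeneous X.gr := gam_isHomogeneous 𝒜 ℳ a
  let Y : GMod.{u} 𝒜 := Q X N hN
  let φ : X.carrier →ₗ[R] Y.carrier := Qmk X N hN
  have hφ : IsGrHom X.gr Y.gr φ := Qmk_gr hN
  have S := ses_ker_surj X Y φ hφ (Qmk_surjective hN)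
  have hK : gam a.toIdeal (gker X Y φ hφ).carrier = ⊤ := by
    rw [eq_top_iff]
    rintro ⟨z, hz⟩ _
    have hz' : z ∈ N := by
      rw [LinearMap.mem_ker] at hz
      exact (Qmk_eq_zero hN z).mp hz
    obtain ⟨k, hk⟩ := hz'
    exact ⟨k, fun r hr => Subtype.ext (hk r hr)⟩
  have hKv : ∀ (i : ℕ) (g : ℤ), VanM a (gker X Y φ hφ).gr (i + 1) g :=
    fun i g => vanM_of_tors a hK i g
  have hYv : ∀ (i : ℕ) (g : ℤ), VanM a Y.gr (i + 1) g :=
    fun i g => les_right a S (i + 1) g (hv i g) (hKv (i + 1) g)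
  have hY0 : ∀ g : ℤ, VanM a Y.gr 0 g := by
    intro g
    rw [vanM_zero_iff]
    intro y _ hyt
    obtain ⟨m, rfl⟩ := Qmk_surjective hN y
    rw [Qmk_eq_zero]
    obtain ⟨k, hk⟩ := hyt
    refine mem_gam_of_pow_smul_mem a.toIdeal m k (fun r hr => ?_)
    have := hk r hr
    rw [← map_smul, Qmk_eq_zero] at this
    exact this
  have hXfin : Module.Finite R X.carrier := (inferInstance : Module.Finite R M)
  have hYfin : Module.Finite R Y.carrier := Q_finite hN
  have hgen := generated_of_van (ℳ := Y.gr) a hhom hpos (fun _ => False) (by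
    intro e _
    refine ⟨hY0 e, fun p => ?_⟩
    rw [Nat.add_comm]
    exact hYv p _)
  have hbot : Submodule.span R (⋃ (n : ℤ) (_ : False), (Y.gr n : Set Y.carrier)) = ⊥ := by
    rw [Submodule.span_eq_bot]
    intro x hx
    simp only [Set.iUnion_of_empty, Set.iUnion_empty, Set.mem_empty_iff_false] at hx
  rw [hbot] at hgen
  rw [eq_top_iff]
  intro m _
  have : φ m ∈ (⊤ : Submodule R Y.carrier) := trivial
  rw [← hgen, Submodule.mem_bot] at this
  exact (Qmk_eq_zero hN m).mp this

include hhom hpos in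
/-- A finitely generated graded module over a standard graded ring vanishing in high degrees is
torsion. -/
theorem tors_of_bounded [Module.Finite R M] (n₀ : ℤ) (h : ∀ n : ℤ, n₀ ≤ n → ℳ n = ⊥) :
    gam a.toIdeal M = ⊤ := by
  obtain ⟨e₀, he₀⟩ := bounded_below (𝒜 := 𝒜) (ℳ := ℳ) hpos
  rw [eq_top_iff]
  intro y _
  refine ⟨(n₀ - e₀).toNat, fun r hr => ?_⟩
  have hy0 : y ∈ Zlt ℳ hpos e₀ := by
    intro s hs
    have h0 : ∀ z : M, z ∈ ℳ s → z = 0 := by
      intro z hz
      rw [he₀ s hs, AddSubgroup.mem_bot] at hz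
      exact hz
    exact h0 _ (decompose ℳ y s).2
  have h1 := smul_mem_Zlt_pow ℳ hpos a hhom _ e₀ r hr _ hy0
  apply eq_zero_of_forall_decompose ℳ
  intro s
  by_cases hs : s < n₀
  · apply h1 s
    have := Int.self_le_toNat (n₀ - e₀)
    omega
  · have h0 : ∀ z : M, z ∈ ℳ s → z = 0 := by
      intro z hz
      rw [h s (not_lt.mp hs), AddSubgroup.mem_bot] at hz
      exact hz
    exact h0 _ (decompose ℳ _ s).2

end Z

end Groth.Agent.Lib.Helper8.GrLCCompareRows
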