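import Groth.Agent.Lib.Helper8.GrInjComp
import Groth.Agent.Lib.Helper8.GrLCQReg
import Groth.Agent.Lib.Helper8.GrLCPieces
import Groth.Agent.Lib.Helper30.GradedPrime
import Groth.Agent.S13225
import Mathlib.LinearAlgebra.Dual.Lemmas

/-!
# Graded duality for *canonical modules over a positively graded ring with `R_0` a field

The *injective envelope `E'` of `R/m` is concentrated in degrees `≤ 0` with `E'_0 = R_0 ε`, and for a
graded module `X` restriction identifies the maps `X → E'` of degree `d` with the `R_0`-linear maps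
`X_{-d} → E'_0`.
-/

set_option autoImplicit false
set_option linter.unusedSectionVars false
universe u

open DirectSum GrLC
open Groth.Agent.Lib.Helper30
open Groth.Agent.Lib.Helper8.GrLCShift

namespace Groth.Agent.Lib.Helper8.GrCanDual

section Env

variable {R : Type u} [CommRing R] {𝒜 : ℤ → AddSubgroup R} [GradedRing 𝒜]
variable (hpos : ∀ n : ℤ, n < 0 → 𝒜 n = ⊥) (h0 : IsField (deg0 𝒜)) (m : HomogeneousIdeal 𝒜)
  (hmsp : m.toIdeal = Ideal.span (⋃ n ∈ Set.Ioi (0 : ℤ), (𝒜 n : Set R)))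
variable {E' : Type u} [AddCommGroup E'] [Module R E'] (𝓔 : ℤ → AddSubgroup E')
  [DirectSum.Decomposition 𝓔] [SetLike.GradedSMul 𝒜 𝓔]
  (e : (R ⧸ m.toIdeal) →ₗ[R] E') (he : IsStarEss (quotGr 𝒜 m) 𝓔 e)

/-- The generator of the socle of the *injective envelope. -/
def eps : E' := e (Ideal.Quotient.mk m.toIdeal 1)

theorem e_mk (r : R) : e (Ideal.Quotient.mk m.toIdeal r) = r • eps m e := by
  unfold eps
  rw [← map_smul]
  congr 1
  change _ = Ideal.Quotient.mk m.toIdeal (r * 1)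
  rw [mul_one]

include he in
theorem eps_mem : eps m e ∈ 𝓔 0 :=
  he.grHom 0 _ ⟨1, SetLike.GradedOne.one_mem (A := 𝒜), rfl⟩

include hmsp in
theorem smul_eps_of_pos {i : ℤ} (hi : 0 < i) {r : R} (hr : r ∈ 𝒜 i) : r • eps m e = 0 := by
  rw [← e_mk]
  have : r ∈ m.toIdeal := by
    rw [hmsp]
    apply Ideal.subset_span
    simp only [Set.mem_iUnion, Set.mem_Ioi, SetLike.mem_coe, exists_prop]
    exact ⟨i, hi, hr⟩
  rw [Ideal.Quotient.eq_zero_iff_mem.mpr this, map_zero]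

include hpos hmsp he in
theorem eq_zero_of_smul_eps {r : R} (hr : r ∈ 𝒜 0) (h : r • eps m e = 0) : r = 0 := by
  rw [← e_mk] at h
  have h1 : Ideal.Quotient.mk m.toIdeal r = 0 := he.injective (by rw [h, map_zero])
  rw [Ideal.Quotient.eq_zero_iff_mem, hmsp] at h1
  exact Groth.Agent.Lib.Helper8.GrLCPieces.eq_zero_of_mem_irrelevant hpos hr le_rfl h1

include hpos hmsp in
/-- Every element of the image of `R/m` is a degree-zero multiple of the generator. -/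
theorem exists_deg0_of_mem_range {y : E'} (hy : y ∈ LinearMap.range e) :
    ∃ r ∈ 𝒜 0, y = r • eps m e := by
  classical
  obtain ⟨z, rfl⟩ := hy
  obtain ⟨t, rfl⟩ := Ideal.Quotient.mk_surjective z
  refine ⟨(decompose 𝒜 t 0 : R), (decompose 𝒜 t 0).2, ?_⟩
  rw [e_mk]
  conv_lhs => rw [← DirectSum.sum_support_decompose 𝒜 t, Finset.sum_smul]
  have hz : ∀ i ∈ DFinsupp.support (decompose 𝒜 t), i ≠ 0 →
      (decompose 𝒜 t i : R) • eps m e = 0 := by
    intro i _ hi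
    rcases lt_or_gt_of_ne hi with h | h
    · rw [Groth.Agent.Lib.Helper8.GrLCQReg.eq_zero_of_neg hpos h (decompose 𝒜 t i).2, zero_smul]
    · exact smul_eps_of_pos m hmsp e h (decompose 𝒜 t i).2
  by_cases h0s : (0 : ℤ) ∈ DFinsupp.support (decompose 𝒜 t)
  · rw [Finset.sum_eq_single_of_mem 0 h0s hz]
  · rw [Finset.sum_eq_zero (fun i hi => hz i hi (fun h => h0s (h ▸ hi)))]
    rw [DFinsupp.notMem_support_iff] at h0s
    rw [h0s]
    simp

include hpos hmsp he in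
/-- *Essentiality, elementwise: a nonzero homogeneous element has a nonzero homogeneous multiple in
degree zero. -/
theorem exists_smul_ne_zero {j : ℤ} {x : E'} (hx : x ∈ 𝓔 j) (hx0 : x ≠ 0) :
    ∃ r ∈ 𝒜 (-j), r • x ≠ 0 := by
  have hA : (LinearMap.range e).IsHomogeneous 𝓔 := range_isHomogeneous_quot 𝒜 𝓔 m e he.grHom
  have hess := (isStarEssIn_iff 𝒜 𝓔 _).mp he.essential
  obtain ⟨h, a, ha, haA, ha0⟩ := exists_homogeneous_smul_mem_of_mem_piece 𝒜 𝓔 _ ⊤ hA hess hx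
    trivial hx0
  obtain ⟨r, hr, hra⟩ := exists_deg0_of_mem_range hpos m hmsp e haA
  have h1 : a • x ∈ 𝓔 (h + j) := smul_mem_piece 𝒜 𝓔 ha hx
  have h2 : a • x ∈ 𝓔 0 := by
    rw [hra]
    have := smul_mem_piece 𝒜 𝓔 hr (eps_mem m 𝓔 e he)
    rwa [zero_add] at this
  have h3 : h + j = 0 := by
    by_contra hne
    apply ha0
    have := DirectSum.decompose_of_mem_ne 𝓔 h1 hne
    rw [DirectSum.decompose_of_mem_same 𝓔 h2] at this
    exact this
  have h4 : h = -j := by omega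
  exact ⟨a, h4 ▸ ha, ha0⟩

include hpos hmsp he in
theorem eq_zero_of_pos {j : ℤ} (hj : 0 < j) {x : E'} (hx : x ∈ 𝓔 j) : x = 0 := by
  by_contra hx0
  obtain ⟨r, hr, hr0⟩ := exists_smul_ne_zero hpos m hmsp 𝓔 e he hx hx0
  apply hr0
  rw [Groth.Agent.Lib.Helper8.GrLCQReg.eq_zero_of_neg hpos (by omega) hr, zero_smul]

include hpos h0 hmsp he in
/-- The degree-zero piece of the *injective envelope is spanned by the generator. -/
theorem exists_deg0_of_mem_zero {x : E'} (hx : x ∈ 𝓔 0) : ∃ r ∈ 𝒜 0, x = r • eps m e := by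
  by_cases hx0 : x = 0
  · exact ⟨0, zero_mem _, by rw [hx0, zero_smul]⟩
  have hA : (LinearMap.range e).IsHomogeneous 𝓔 := range_isHomogeneous_quot 𝒜 𝓔 m e he.grHom
  have hess := (isStarEssIn_iff 𝒜 𝓔 _).mp he.essential
  obtain ⟨h, a, ha, haA, ha0⟩ := exists_homogeneous_smul_mem_of_mem_piece 𝒜 𝓔 _ ⊤ hA hess hx
    trivial hx0
  obtain ⟨r, hr, hra⟩ := exists_deg0_of_mem_range hpos m hmsp e haA
  have h1 : a • x ∈ 𝓔 (h + 0) := smul_mem_piece 𝒜 𝓔 ha hx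
  have h2 : a • x ∈ 𝓔 0 := by
    rw [hra]
    have := smul_mem_piece 𝒜 𝓔 hr (eps_mem m 𝓔 e he)
    rwa [zero_add] at this
  have h3 : h + 0 = 0 := by
    by_contra hne
    apply ha0
    have := DirectSum.decompose_of_mem_ne 𝓔 h1 hne
    rw [DirectSum.decompose_of_mem_same 𝓔 h2] at this
    exact this
  have h4 : h = 0 := by omega
  subst h4
  have ha00 : a ≠ 0 := fun h => ha0 (by rw [h, zero_smul])
  let u : deg0 𝒜 := ⟨a, ha⟩
  have hu : u ≠ 0 := fun h => ha00 (congrArg Subtype.val h)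
  obtain ⟨v, hv⟩ := h0.mul_inv_cancel hu
  have hv' : a * (v : R) = 1 := congrArg Subtype.val hv
  refine ⟨(v : R) * r, ?_, ?_⟩
  · have := SetLike.GradedMul.mul_mem (A := 𝒜) v.2 hr
    rwa [zero_add] at this
  · rw [mul_smul, ← hra, ← mul_smul, mul_comm, hv', one_smul]

end Env

section Restrict

variable {R : Type u} [CommRing R] {𝒜 : ℤ → AddSubgroup R} [GradedRing 𝒜]
variable (hpos : ∀ n : ℤ, n < 0 → 𝒜 n = ⊥) (m : HomogeneousIdeal 𝒜)
  (hmsp : m.toIdeal = Ideal.span (⋃ n ∈ Set.Ioi (0 : ℤ), (𝒜 n : Set R)))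
variable {E' : Type u} [AddCommGroup E'] [Module R E'] (𝓔 : ℤ → AddSubgroup E')
  [DirectSum.Decomposition 𝓔] [SetLike.GradedSMul 𝒜 𝓔]
  (e : (R ⧸ m.toIdeal) →ₗ[R] E') (he : IsStarEss (quotGr 𝒜 m) 𝓔 e)
variable {X : Type u} [AddCommGroup X] [Module R X] (𝒳 : ℤ → AddSubgroup X)
  [DirectSum.Decomposition 𝒳] [SetLike.GradedSMul 𝒜 𝒳]

include hpos hmsp he in
/-- A map of degree `d` into the *injective envelope which vanishes on `X_{-d}` is zero. -/
theorem restrict_injective (d : ℤ) (f : X →ₗ[R] E') (hf : IsGrHomDeg 𝒳 𝓔 f d)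
    (hz : ∀ x ∈ 𝒳 (-d), f x = 0) : f = 0 := by
  classical
  apply LinearMap.ext
  intro x
  rw [LinearMap.zero_apply]
  induction x using DirectSum.Decomposition.inductionOn 𝒳 with
  | zero => exact map_zero f
  | add x y hx hy => rw [map_add, hx, hy, add_zero]
  | @homogeneous i x =>
    by_contra hne
    obtain ⟨r, hr, hr0⟩ := exists_smul_ne_zero hpos m hmsp 𝓔 e he (hf i x x.2) hne
    apply hr0
    rw [← map_smul]
    apply hz
    have := smul_mem_piece 𝒜 𝒳 hr x.2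
    have h2 : -(i + d) + i = -d := by ring
    rwa [h2] at this

/-- The lowest component of an element of the truncation `X_{≥ -d}`, as an element of the piece. -/
noncomputable def lowComp (d : ℤ) (y : X) : ↥(comp 𝒜 𝒳 (-d)) :=
  ⟨(decompose 𝒳 y (-d) : X), (decompose 𝒳 y (-d)).2⟩

theorem lowComp_add (d : ℤ) (y y' : X) :
    lowComp (𝒜 := 𝒜) 𝒳 d (y + y') = lowComp (𝒜 := 𝒜) 𝒳 d y + lowComp (𝒜 := 𝒜) 𝒳 d y' := by
  apply Subtype.ext
  change (decompose 𝒳 (y + y') (-d) : X) = (decompose 𝒳 y (-d) : X) + (decompose 𝒳 y' (-d) : X)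
  rw [decompose_add, DirectSum.add_apply, AddSubgroup.coe_add]

theorem lowComp_zero (d : ℤ) : lowComp (𝒜 := 𝒜) 𝒳 d (0 : X) = 0 := by
  apply Subtype.ext
  change (decompose 𝒳 (0 : X) (-d) : X) = 0
  rw [decompose_zero, DirectSum.zero_apply, ZeroMemClass.coe_zero]

theorem lowComp_of_mem (d : ℤ) {y : X} (hy : y ∈ 𝒳 (-d)) :
    (lowComp (𝒜 := 𝒜) 𝒳 d y : X) = y :=
  DirectSum.decompose_of_mem_same 𝒳 hy

theorem lowComp_of_mem_ne (d : ℤ) {g : ℤ} {y : X} (hy : y ∈ 𝒳 g) (hg : g ≠ -d) :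
    lowComp (𝒜 := 𝒜) 𝒳 d y = 0 := by
  apply Subtype.ext
  exact DirectSum.decompose_of_mem_ne 𝒳 hy hg

include hpos hmsp he in
/-- Every `R_0`-linear map `X_{-d} → E'_0` extends to a map `X → E'` of degree `d`. -/
theorem exists_extension (hE : IsStarInj 𝒜 𝓔) (d : ℤ)
    (μ : ↥(comp 𝒜 𝒳 (-d)) →ₗ[deg0 𝒜] ↥(comp 𝒜 𝓔 0)) :
    ∃ f : X →ₗ[R] E', IsGrHomDeg 𝒳 𝓔 f d ∧ ∀ v : ↥(comp 𝒜 𝒳 (-d)), f (v : X) = (μ v : E') := by
  classical
  let Z : Submodule R X := Groth.Agent.Lib.Helper8.GrLCQReg.Zlt 𝒳 hpos (-d)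
  have hZ : Z.IsHomogeneous 𝒳 := by
    intro i y hy s hs
    by_cases hsi : i = s
    · subst hsi
      rw [DirectSum.decompose_of_mem_same 𝒳 (decompose 𝒳 y i).2]
      exact hy i hs
    · exact DirectSum.decompose_of_mem_ne 𝒳 (decompose 𝒳 y i).2 hsi
  -- the map on the truncation
  let ℓ0 : ↥Z →+ E' :=
    { toFun := fun y => (μ (lowComp (𝒜 := 𝒜) 𝒳 d (y : X)) : E')
      map_zero' := by
        change ((μ (lowComp (𝒜 := 𝒜) 𝒳 d (0 : X)) : ↥(comp 𝒜 𝓔 0)) : E') = 0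
        rw [lowComp_zero, map_zero]
        rfl
      map_add' := by
        intro y y'
        change ((μ (lowComp (𝒜 := 𝒜) 𝒳 d ((y : X) + (y' : X))) : ↥(comp 𝒜 𝓔 0)) : E') = _
        rw [lowComp_add, map_add]
        rfl }
  have hℓ0_hom : ∀ (i : ℤ) (r : R), r ∈ 𝒜 i → ∀ y : ↥Z, ℓ0 (r • y) = r • ℓ0 y := by
    intro i r hr y
    change ((μ (lowComp (𝒜 := 𝒜) 𝒳 d (r • (y : X))) : ↥(comp 𝒜 𝓔 0)) : E') =
      r • ((μ (lowComp (𝒜 := 𝒜) 𝒳 d (y : X)) : ↥(comp 𝒜 𝓔 0)) : E')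
    rcases lt_trichotomy i 0 with hi | hi | hi
    · rw [Groth.Agent.Lib.Helper8.GrLCQReg.eq_zero_of_neg hpos hi hr, zero_smul, zero_smul,
        lowComp_zero, map_zero]
      rfl
    · subst hi
      have h1 : lowComp (𝒜 := 𝒜) 𝒳 d (r • (y : X)) =
          (⟨r, hr⟩ : deg0 𝒜) • lowComp (𝒜 := 𝒜) 𝒳 d (y : X) := by
        apply Subtype.ext
        change (decompose 𝒳 (r • (y : X)) (-d) : X) = r • (decompose 𝒳 (y : X) (-d) : X)
        have := decompose_smul_of_mem 𝒜 𝒳 hr (y : X) (-d)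
        rwa [zero_add] at this
      rw [h1, map_smul]
      rfl
    · have h1 : lowComp (𝒜 := 𝒜) 𝒳 d (r • (y : X)) = 0 := by
        apply Subtype.ext
        change (decompose 𝒳 (r • (y : X)) (-d) : X) = 0
        have := decompose_smul_of_mem 𝒜 𝒳 hr (y : X) (-d - i)
        rw [add_sub_cancel] at this
        rw [this, y.2 (-d - i) (by omega), smul_zero]
      rw [h1, map_zero]
      have h2 : r • ((μ (lowComp (𝒜 := 𝒜) 𝒳 d (y : X)) : ↥(comp 𝒜 𝓔 0)) : E') ∈ 𝓔 (i + 0) :=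
        smul_mem_piece 𝒜 𝓔 hr (μ (lowComp (𝒜 := 𝒜) 𝒳 d (y : X))).2
      rw [eq_zero_of_pos hpos m hmsp 𝓔 e he (by omega) h2]
      rfl
  let ℓ : ↥Z →ₗ[R] E' :=
    { toFun := ℓ0
      map_add' := ℓ0.map_add
      map_smul' := by
        intro r y
        change ℓ0 (r • y) = r • ℓ0 y
        induction r using DirectSum.Decomposition.inductionOn 𝒜 with
        | zero => rw [zero_smul, zero_smul, map_zero]
        | @homogeneous i r => exact hℓ0_hom i r r.2 y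
        | add r r' hr hr' => rw [add_smul, add_smul, map_add, hr, hr'] }
  let A : GMod.{u} 𝒜 := gmodSub 𝒜 𝒳 Z hZ
  let B : GMod.{u} 𝒜 := GMod.of 𝒜 X 𝒳
  have hf : IsGrHom A.gr B.gr Z.subtype := isGrHom_subtype 𝒳 Z
  have hg : IsGrHom A.gr (shiftGr 𝓔 d) ℓ := by
    intro g y hy
    have hy' : (y : X) ∈ 𝒳 g := hy
    change ((μ (lowComp (𝒜 := 𝒜) 𝒳 d (y : X)) : ↥(comp 𝒜 𝓔 0)) : E') ∈ 𝓔 (g + d)
    by_cases hgd : g = -d
    · have : g + d = 0 := by omega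
      rw [this]
      exact (μ (lowComp (𝒜 := 𝒜) 𝒳 d (y : X))).2
    · rw [lowComp_of_mem_ne 𝒳 d hy' hgd, map_zero]
      exact zero_mem _
  obtain ⟨H, hH, hHℓ⟩ := isStarInj_shift 𝓔 hE d A B Z.subtype hf
    (Submodule.subtype_injective _) ℓ hg
  refine ⟨H, fun g x hx => hH g x hx, fun v => ?_⟩
  have hvZ : (v : X) ∈ Z := by
    intro s hs
    exact DirectSum.decompose_of_mem_ne 𝒳 v.2 (by omega)
  have h1 := LinearMap.congr_fun hHℓ ⟨(v : X), hvZ⟩
  refine Eq.trans h1 ?_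
  change ((μ (lowComp (𝒜 := 𝒜) 𝒳 d (v : X)) : ↥(comp 𝒜 𝓔 0)) : E') = _
  congr 2
  apply Subtype.ext
  exact lowComp_of_mem 𝒳 d v.2

end Restrict

section Abstract

variable {k : Type*} [Field k] {V H L : Type*} [AddCommGroup V] [Module k V] [Module.Finite k V]
  [AddCommGroup H] [Module k H] [AddCommGroup L] [Module k L]
  (c : L ≃ₗ[k] k) (Φ : H ≃ₗ[k] (V →ₗ[k] L))

/-- The dual-space form of the pairing. -/
noncomputable def toDual : H ≃ₗ[k] Module.Dual k V := Φ.trans (LinearEquiv.congrRight c)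

theorem toDual_apply (h : H) (v : V) : toDual c Φ h v = c (Φ h v) := rfl

include c Φ in
theorem abs_finrank : Module.finrank k H = Module.finrank k V :=
  (toDual c Φ).finrank_eq.trans Subspace.dual_finrank_eq

include c in
theorem abs_exists_ne {v : V} (hv : v ≠ 0) : ∃ h : H, Φ h v ≠ 0 := by
  have h1 : ¬ ∀ f : Module.Dual k V, f v = 0 := fun h => hv ((Module.forall_dual_apply_eq_zero_iff k v).mp h)
  push Not at h1
  obtain ⟨f, hf⟩ := h1
  refine ⟨(toDual c Φ).symm f, fun h0 => hf ?_⟩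
  have h2 := toDual_apply c Φ ((toDual c Φ).symm f) v
  rw [LinearEquiv.apply_symm_apply, h0, map_zero] at h2
  exact h2

include c in
theorem abs_exists_rep (l : H →ₗ[k] L) : ∃ v : V, ∀ h : H, Φ h v = l h := by
  let l' : Module.Dual k (Module.Dual k V) :=
    c.toLinearMap ∘ₗ l ∘ₗ (toDual c Φ).symm.toLinearMap
  refine ⟨(Module.evalEquiv k V).symm l', fun h => ?_⟩
  apply c.injective
  rw [← toDual_apply, Module.apply_evalEquiv_symm_apply]
  change c (l ((toDual c Φ).symm (toDual c Φ h))) = c (l h)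
  rw [LinearEquiv.symm_apply_apply]

end Abstract

section Can

variable {R : Type u} [CommRing R] [IsNoetherianRing R] {𝒜 : ℤ → AddSubgroup R} [GradedRing 𝒜]
variable (hpos : ∀ n : ℤ, n < 0 → 𝒜 n = ⊥) (h0 : IsField (deg0 𝒜)) (m : HomogeneousIdeal 𝒜)
  (hmsp : m.toIdeal = Ideal.span (⋃ n ∈ Set.Ioi (0 : ℤ), (𝒜 n : Set R)))
variable {E' : Type u} [AddCommGroup E'] [Module R E'] (𝓔 : ℤ → AddSubgroup E')
  [DirectSum.Decomposition 𝓔] [SetLike.GradedSMul 𝒜 𝓔]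
  (e : (R ⧸ m.toIdeal) →ₗ[R] E') (he : IsStarInjHull 𝒜 (quotGr 𝒜 m) 𝓔 e)
variable {C : Type u} [AddCommGroup C] [Module R C] (𝒞 : ℤ → AddSubgroup C)
  [DirectSum.Decomposition 𝒞] [SetLike.GradedSMul 𝒜 𝒞] [Module.Finite R C]
variable (n : ℕ) (I : StarInjRes 𝒜 𝒜) (φ : (C →ₗ[R] E') ≃ₗ[R] I.H m n)
  (hφ : IsGrHom (fun d => (homDeg 𝒜 𝒞 𝓔 d).toAddSubgroup) (I.Hgr m n) φ.toLinearMap)

include hφ in
/-- The inverse of the canonical isomorphism carries classes of degree `d` to maps of degree `d`. -/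
theorem symm_isGrHomDeg {d : ℤ} {h : I.H m n} (hh : h ∈ I.Hgr m n d) :
    IsGrHomDeg 𝒞 𝓔 (φ.symm h) d := by
  classical
  have hint := Groth.Agent.S13225.result R 𝒜 m R 𝒜 I n
  letI : DirectSum.Decomposition (I.Hgr m n) := hint.chooseDecomposition
  obtain ⟨J, hJ⟩ := Groth.Agent.Lib.Helper8.GrInjComp.exists_finset_sum_comp 𝒜 𝒞 𝓔 (φ.symm h)
  have hfj : ∀ j, φ (Groth.Agent.Lib.Helper8.GrInjComp.comp 𝒜 𝒞 𝓔 (φ.symm h) j) ∈ I.Hgr m n j :=
    fun j => hφ j _ (Groth.Agent.Lib.Helper8.GrInjComp.comp_isGrHomDeg 𝒜 𝒞 𝓔 (φ.symm h) j)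
  have hsumf : φ.symm h = ∑ j ∈ J, Groth.Agent.Lib.Helper8.GrInjComp.comp 𝒜 𝒞 𝓔 (φ.symm h) j := by
    apply LinearMap.ext
    intro x
    rw [hJ x, LinearMap.sum_apply]
  have hsum : h = ∑ j ∈ J, φ (Groth.Agent.Lib.Helper8.GrInjComp.comp 𝒜 𝒞 𝓔 (φ.symm h) j) := by
    rw [← map_sum, ← hsumf, LinearEquiv.apply_symm_apply]
  have hzero : ∀ j ∈ J, j ≠ d →
      Groth.Agent.Lib.Helper8.GrInjComp.comp 𝒜 𝒞 𝓔 (φ.symm h) j = 0 := by
    intro j hj hjd
    apply φ.injective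
    rw [map_zero]
    have h1 : (decompose (I.Hgr m n) h j : I.H m n) = 0 :=
      DirectSum.decompose_of_mem_ne (I.Hgr m n) hh (Ne.symm hjd)
    rw [hsum, decompose_sum, DFinsupp.finsetSum_apply, AddSubgroup.val_finsetSum] at h1
    rw [Finset.sum_eq_single_of_mem j hj] at h1
    · rw [DirectSum.decompose_of_mem_same (I.Hgr m n) (hfj j)] at h1
      exact h1
    · intro j' _ hj'
      exact DirectSum.decompose_of_mem_ne (I.Hgr m n) (hfj j') hj'
  intro g x hx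
  rw [hsumf, LinearMap.sum_apply]
  apply sum_mem
  intro j hj
  by_cases hjd : j = d
  · subst hjd
    exact Groth.Agent.Lib.Helper8.GrInjComp.comp_isGrHomDeg 𝒜 𝒞 𝓔 (φ.symm h) j g x hx
  · rw [hzero j hj hjd, LinearMap.zero_apply]
    exact zero_mem _

include hφ in
theorem pair_mem {d : ℤ} {h : I.H m n} (hh : h ∈ I.Hgr m n d) {v : C} (hv : v ∈ 𝒞 (-d)) :
    φ.symm h v ∈ 𝓔 0 := by
  have := symm_isGrHomDeg m 𝓔 𝒞 n I φ hφ hh (-d) v hv
  rwa [neg_add_cancel] at this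

/-- The pairing between `H^n_m(R)_d` and `C_{-d}` with values in `E'_0`. -/
noncomputable def pairHom (d : ℤ) :
    ↥(I.Hcomp m n d) →ₗ[deg0 𝒜] (↥(comp 𝒜 𝒞 (-d)) →ₗ[deg0 𝒜] ↥(comp 𝒜 𝓔 0)) where
  toFun h :=
    { toFun := fun v => ⟨φ.symm (h : I.H m n) (v : C), pair_mem m 𝓔 𝒞 n I φ hφ h.2 v.2⟩
      map_add' := fun v w => Subtype.ext (by
        change φ.symm (h : I.H m n) ((v : C) + (w : C)) = _
        rw [map_add]
        rfl)
      map_smul' := fun r v => Subtype.ext (by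
        change φ.symm (h : I.H m n) ((r : R) • (v : C)) = (r : R) • φ.symm (h : I.H m n) (v : C)
        rw [map_smul]) }
  map_add' := fun h h' => by
    apply LinearMap.ext
    intro v
    apply Subtype.ext
    change φ.symm ((h : I.H m n) + (h' : I.H m n)) (v : C) = _
    rw [map_add, LinearMap.add_apply]
    rfl
  map_smul' := fun r h => by
    apply LinearMap.ext
    intro v
    apply Subtype.ext
    change φ.symm ((r : R) • (h : I.H m n)) (v : C) = (r : R) • φ.symm (h : I.H m n) (v : C)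
    rw [map_smul, LinearMap.smul_apply]

theorem pairHom_apply (d : ℤ) (h : ↥(I.Hcomp m n d)) (v : ↥(comp 𝒜 𝒞 (-d))) :
    ((pairHom m 𝓔 𝒞 n I φ hφ d h v : ↥(comp 𝒜 𝓔 0)) : E') = φ.symm (h : I.H m n) (v : C) := rfl

include hpos hmsp he in
theorem pairHom_bijective (d : ℤ) : Function.Bijective (pairHom m 𝓔 𝒞 n I φ hφ d) := by
  constructor
  · rw [injective_iff_map_eq_zero]
    intro h hh
    have h1 : φ.symm (h : I.H m n) = 0 := by
      apply restrict_injective hpos m hmsp 𝓔 e he.toIsStarEss 𝒞 d _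
        (symm_isGrHomDeg m 𝓔 𝒞 n I φ hφ h.2)
      intro x hx
      have h2 := LinearMap.congr_fun hh (⟨x, hx⟩ : ↥(comp 𝒜 𝒞 (-d)))
      have h3 := congrArg Subtype.val h2
      exact h3
    apply Subtype.ext
    have h4 := congrArg φ h1
    rw [LinearEquiv.apply_symm_apply, map_zero] at h4
    exact h4
  · intro μ
    obtain ⟨f, hf, hfμ⟩ := exists_extension hpos m hmsp 𝓔 e he.toIsStarEss 𝒞 he.starInj d μ
    refine ⟨⟨φ f, hφ d f hf⟩, ?_⟩
    apply LinearMap.ext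
    intro v
    apply Subtype.ext
    rw [pairHom_apply]
    change φ.symm (φ f) (v : C) = _
    rw [LinearEquiv.symm_apply_apply]
    exact hfμ v

/-- The pairing as an isomorphism onto the dual. -/
noncomputable def pairEquiv (d : ℤ) :
    ↥(I.Hcomp m n d) ≃ₗ[deg0 𝒜] (↥(comp 𝒜 𝒞 (-d)) →ₗ[deg0 𝒜] ↥(comp 𝒜 𝓔 0)) :=
  LinearEquiv.ofBijective (pairHom m 𝓔 𝒞 n I φ hφ d)
    (pairHom_bijective hpos m hmsp 𝓔 e he 𝒞 n I φ hφ d)

/-- The coordinate on the degree-zero piece of the *injective envelope. -/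
noncomputable def epsHom : deg0 𝒜 →ₗ[deg0 𝒜] ↥(comp 𝒜 𝓔 0) where
  toFun r := ⟨(r : R) • eps m e, by
    have := smul_mem_piece 𝒜 𝓔 r.2 (eps_mem m 𝓔 e he.toIsStarEss)
    rwa [zero_add] at this⟩
  map_add' := fun r s => Subtype.ext (by
    change ((r : R) + (s : R)) • eps m e = _
    rw [add_smul]
    rfl)
  map_smul' := fun r s => Subtype.ext (by
    change ((r : R) * (s : R)) • eps m e = (r : R) • ((s : R) • eps m e)
    rw [mul_smul])

include hpos h0 hmsp in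
theorem epsHom_bijective : Function.Bijective (epsHom m 𝓔 e he) := by
  constructor
  · rw [injective_iff_map_eq_zero]
    intro r hr
    apply Subtype.ext
    exact eq_zero_of_smul_eps hpos m hmsp 𝓔 e he.toIsStarEss r.2 (congrArg Subtype.val hr)
  · rintro ⟨x, hx⟩
    obtain ⟨r, hr, hxr⟩ := exists_deg0_of_mem_zero hpos h0 m hmsp 𝓔 e he.toIsStarEss hx
    exact ⟨⟨r, hr⟩, Subtype.ext hxr.symm⟩

/-- The degree-zero piece of the *injective envelope is a line. -/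
noncomputable def epsEquiv : ↥(comp 𝒜 𝓔 0) ≃ₗ[deg0 𝒜] deg0 𝒜 :=
  (LinearEquiv.ofBijective (epsHom m 𝓔 e he) (epsHom_bijective hpos h0 m hmsp 𝓔 e he)).symm

include hpos h0 hmsp he hφ in
/-- Graded duality, numerically: `dim H^n_m(R)_d = dim C_{-d}`. -/
theorem finrank_eq (d : ℤ) :
    Module.finrank (deg0 𝒜) ↥(I.Hcomp m n d) = Module.finrank (deg0 𝒜) ↥(comp 𝒜 𝒞 (-d)) := by
  haveI : IsNoetherian R C := isNoetherian_of_isNoetherianRing_of_finite R C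
  haveI : IsNoetherian (deg0 𝒜) ↥(comp 𝒜 𝒞 (-d)) :=
    Groth.Agent.Lib.Helper8.GrLCPieces.isNoetherian_comp (𝒜 := 𝒜) (ℳ := 𝒞) (-d)
  haveI : Module.Finite (deg0 𝒜) ↥(comp 𝒜 𝒞 (-d)) := Module.IsNoetherian.finite _ _
  letI : Field (deg0 𝒜) := h0.toField
  exact abs_finrank (epsEquiv hpos h0 m hmsp 𝓔 e he) (pairEquiv hpos m hmsp 𝓔 e he 𝒞 n I φ hφ d)

include hpos h0 hmsp he hφ in
/-- Graded duality: a nonzero element of `C_{-d}` pairs nontrivially with some class of degree `d`. -/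
theorem exists_pair_ne (d : ℤ) {c : C} (hc : c ∈ 𝒞 (-d)) (hc0 : c ≠ 0) :
    ∃ h ∈ I.Hgr m n d, φ.symm h c ≠ 0 := by
  haveI : IsNoetherian R C := isNoetherian_of_isNoetherianRing_of_finite R C
  haveI : IsNoetherian (deg0 𝒜) ↥(comp 𝒜 𝒞 (-d)) :=
    Groth.Agent.Lib.Helper8.GrLCPieces.isNoetherian_comp (𝒜 := 𝒜) (ℳ := 𝒞) (-d)
  haveI : Module.Finite (deg0 𝒜) ↥(comp 𝒜 𝒞 (-d)) := Module.IsNoetherian.finite _ _
  letI : Field (deg0 𝒜) := h0.toField
  have hv : (⟨c, hc⟩ : ↥(comp 𝒜 𝒞 (-d))) ≠ 0 := fun h => hc0 (congrArg Subtype.val h)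
  obtain ⟨h, hh⟩ := abs_exists_ne (epsEquiv hpos h0 m hmsp 𝓔 e he)
    (pairEquiv hpos m hmsp 𝓔 e he 𝒞 n I φ hφ d) hv
  refine ⟨(h : I.H m n), h.2, fun h0' => hh ?_⟩
  apply Subtype.ext
  exact h0'

include hpos h0 hmsp he hφ in
/-- Graded duality: every `R_0`-linear map `H^n_m(R)_d → E'_0` is the pairing with a unique element
of `C_{-d}`. -/
theorem exists_rep (d : ℤ) (l : ↥(I.Hcomp m n d) →ₗ[deg0 𝒜] ↥(comp 𝒜 𝓔 0)) :
    ∃ c ∈ 𝒞 (-d), ∀ h : ↥(I.Hcomp m n d), φ.symm (h : I.H m n) c = (l h : E') := by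
  haveI : IsNoetherian R C := isNoetherian_of_isNoetherianRing_of_finite R C
  haveI : IsNoetherian (deg0 𝒜) ↥(comp 𝒜 𝒞 (-d)) :=
    Groth.Agent.Lib.Helper8.GrLCPieces.isNoetherian_comp (𝒜 := 𝒜) (ℳ := 𝒞) (-d)
  haveI : Module.Finite (deg0 𝒜) ↥(comp 𝒜 𝒞 (-d)) := Module.IsNoetherian.finite _ _
  letI : Field (deg0 𝒜) := h0.toField
  obtain ⟨v, hv⟩ := abs_exists_rep (epsEquiv hpos h0 m hmsp 𝓔 e he)
    (pairEquiv hpos m hmsp 𝓔 e he 𝒞 n I φ hφ d) l
  refine ⟨(v : C), v.2, fun h => ?_⟩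
  exact congrArg Subtype.val (hv h)

/-- The coordinate of the degree-zero component of an element of the *injective envelope. -/
noncomputable def coord (x : E') : deg0 𝒜 :=
  epsEquiv hpos h0 m hmsp 𝓔 e he ⟨(decompose 𝓔 x 0 : E'), (decompose 𝓔 x 0).2⟩

theorem coord_add (x y : E') : coord hpos h0 m hmsp 𝓔 e he (x + y) =
    coord hpos h0 m hmsp 𝓔 e he x + coord hpos h0 m hmsp 𝓔 e he y := by
  unfold coord
  rw [← map_add]
  congr 1
  apply Subtype.ext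
  change (decompose 𝓔 (x + y) 0 : E') = (decompose 𝓔 x 0 : E') + (decompose 𝓔 y 0 : E')
  rw [decompose_add, DirectSum.add_apply, AddSubgroup.coe_add]

theorem coord_zero : coord hpos h0 m hmsp 𝓔 e he (0 : E') = 0 := by
  unfold coord
  rw [← map_zero (epsEquiv hpos h0 m hmsp 𝓔 e he)]
  congr 1
  apply Subtype.ext
  change (decompose 𝓔 (0 : E') 0 : E') = 0
  rw [decompose_zero, DirectSum.zero_apply, ZeroMemClass.coe_zero]

theorem coord_smul (r : deg0 𝒜) (x : E') : coord hpos h0 m hmsp 𝓔 e he ((r : R) • x) =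
    r * coord hpos h0 m hmsp 𝓔 e he x := by
  unfold coord
  rw [← smul_eq_mul, ← map_smul]
  congr 1
  apply Subtype.ext
  change (decompose 𝓔 ((r : R) • x) 0 : E') = (r : R) • (decompose 𝓔 x 0 : E')
  have := decompose_smul_of_mem 𝒜 𝓔 r.2 x 0
  rwa [zero_add] at this

theorem coord_of_mem_ne {j : ℤ} (hj : j ≠ 0) {x : E'} (hx : x ∈ 𝓔 j) :
    coord hpos h0 m hmsp 𝓔 e he x = 0 := by
  unfold coord
  rw [← map_zero (epsEquiv hpos h0 m hmsp 𝓔 e he)]
  congr 1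
  apply Subtype.ext
  exact DirectSum.decompose_of_mem_ne 𝓔 hx hj

theorem eq_zero_of_coord {x : E'} (hx : x ∈ 𝓔 0) (h : coord hpos h0 m hmsp 𝓔 e he x = 0) :
    x = 0 := by
  unfold coord at h
  have h1 := (epsEquiv hpos h0 m hmsp 𝓔 e he).map_eq_zero_iff.mp h
  have h2 := congrArg Subtype.val h1
  rw [← DirectSum.decompose_of_mem_same 𝓔 hx]
  exact h2

theorem coord_of_mem {x : E'} (hx : x ∈ 𝓔 0) :
    coord hpos h0 m hmsp 𝓔 e he x = epsEquiv hpos h0 m hmsp 𝓔 e he ⟨x, hx⟩ := by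
  unfold coord
  congr 1
  apply Subtype.ext
  exact DirectSum.decompose_of_mem_same 𝓔 hx

/-- Only the component of degree `-d` of the argument contributes to the coordinate of the value of
a map of degree `d`. -/
theorem coord_map_decompose {X : Type u} [AddCommGroup X] [Module R X] (𝒳 : ℤ → AddSubgroup X)
    [DirectSum.Decomposition 𝒳] [SetLike.GradedSMul 𝒜 𝒳] (f : X →ₗ[R] E') (d : ℤ)
    (hf : IsGrHomDeg 𝒳 𝓔 f d) (x : X) :
    coord hpos h0 m hmsp 𝓔 e he (f x) =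
      coord hpos h0 m hmsp 𝓔 e he (f (decompose 𝒳 x (-d) : X)) := by
  have h1 := decompose_map_of_isGrHomDeg 𝒳 𝓔 f d hf x (-d)
  rw [neg_add_cancel] at h1
  have h2 : f (decompose 𝒳 x (-d) : X) ∈ 𝓔 0 := by
    rw [h1]
    exact (decompose 𝓔 (f x) 0).2
  rw [coord_of_mem hpos h0 m hmsp 𝓔 e he h2]
  unfold coord
  congr 1
  apply Subtype.ext
  exact h1.symm

include hφ in
/-- Graded duality with values in the field `R_0`: nondegeneracy on the side of `C`. -/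
theorem exists_coord_ne (d : ℤ) {c : C} (hc : c ∈ 𝒞 (-d)) (hc0 : c ≠ 0) :
    ∃ h ∈ I.Hgr m n d, coord hpos h0 m hmsp 𝓔 e he (φ.symm h c) ≠ 0 := by
  obtain ⟨h, hh, hne⟩ := exists_pair_ne hpos h0 m hmsp 𝓔 e he 𝒞 n I φ hφ d hc hc0
  refine ⟨h, hh, fun h0' => hne ?_⟩
  exact eq_zero_of_coord hpos h0 m hmsp 𝓔 e he (pair_mem m 𝓔 𝒞 n I φ hφ hh hc) h0'

include hφ in
/-- Graded duality with values in the field `R_0`: every linear form on `H^n_m(R)_d` is represented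
by an element of `C_{-d}`. -/
theorem exists_coord_rep (d : ℤ) (l : ↥(I.Hcomp m n d) →ₗ[deg0 𝒜] deg0 𝒜) :
    ∃ c ∈ 𝒞 (-d), ∀ h : ↥(I.Hcomp m n d),
      coord hpos h0 m hmsp 𝓔 e he (φ.symm (h : I.H m n) c) = l h := by
  obtain ⟨c, hc, hcl⟩ := exists_rep hpos h0 m hmsp 𝓔 e he 𝒞 n I φ hφ d
    ((epsEquiv hpos h0 m hmsp 𝓔 e he).symm.toLinearMap ∘ₗ l)
  refine ⟨c, hc, fun h => ?_⟩
  rw [coord_of_mem hpos h0 m hmsp 𝓔 e he (pair_mem m 𝓔 𝒞 n I φ hφ h.2 hc)]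
  have h1 : (⟨φ.symm (h : I.H m n) c, pair_mem m 𝓔 𝒞 n I φ hφ h.2 hc⟩ : ↥(comp 𝒜 𝓔 0)) =
      (epsEquiv hpos h0 m hmsp 𝓔 e he).symm (l h) := Subtype.ext (hcl h)
  rw [h1, LinearEquiv.apply_symm_apply]

end Can

end Groth.Agent.Lib.Helper8.GrCanDual
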