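import Groth.Agent.Lib.Helper8.GrLCTors

set_option autoImplicit false
set_option linter.unusedSectionVars false
universe u

open DirectSum GrLC
open Groth.Agent.Lib.Helper30
open Groth.Agent.Lib.Helper8.GrLCBase Groth.Agent.Lib.Helper8.GrLCProd
open Groth.Agent.Lib.Helper8.GrLCLES Groth.Agent.Lib.Helper8.GrLCTors

namespace Groth.Agent.Lib.Helper8.GrLCShift

variable {ι : Type} [AddCommGroup ι] [DecidableEq ι]
variable {R : Type u} [CommRing R] {𝒜 : ι → AddSubgroup R} [GradedRing 𝒜]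

section ShiftGr

variable {M : Type u} [AddCommGroup M] [Module R M] (ℳ : ι → AddSubgroup M)
  [DirectSum.Decomposition ℳ] [SetLike.GradedSMul 𝒜 ℳ]

/-- The pieces of the shifted module `M(k)`: `M(k)_g = M_{g+k}`. -/
def shiftGr (k : ι) : ι → AddSubgroup M := fun g => ℳ (g + k)

noncomputable instance shiftDec (k : ι) : DirectSum.Decomposition (shiftGr ℳ k) :=
  (isInternal_reindex ℳ (Equiv.addRight k)).chooseDecomposition

instance shiftGSMul (k : ι) : SetLike.GradedSMul 𝒜 (shiftGr ℳ k) :=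
  gradedSMul_reindex 𝒜 ℳ (Equiv.addRight k) (fun h g => by
    change h + g + k = h + (g + k)
    rw [add_assoc])

theorem mem_shiftGr (k g : ι) (m : M) : m ∈ shiftGr ℳ k g ↔ m ∈ ℳ (g + k) := Iff.rfl

end ShiftGr

section StarInjShift

variable {J : Type u} [AddCommGroup J] [Module R J] (𝒥 : ι → AddSubgroup J)
  [DirectSum.Decomposition 𝒥] [SetLike.GradedSMul 𝒜 𝒥]

theorem isStarInj_shift (hJ : IsStarInj 𝒜 𝒥) (k : ι) : IsStarInj 𝒜 (shiftGr 𝒥 k) := by
  intro A B f hf hinj g hg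
  let A' : GMod.{u} 𝒜 := GMod.of 𝒜 A.carrier (shiftGr A.gr (-k))
  let B' : GMod.{u} 𝒜 := GMod.of 𝒜 B.carrier (shiftGr B.gr (-k))
  have hf' : IsGrHom A'.gr B'.gr f := fun h x hx => hf _ x hx
  have hg' : IsGrHom A'.gr 𝒥 g := by
    intro h x hx
    have := hg _ x hx
    rw [mem_shiftGr, neg_add_cancel_right] at this
    exact this
  obtain ⟨h', hh', hcomp⟩ := hJ A' B' f hf' hinj g hg'
  refine ⟨h', ?_, hcomp⟩
  intro h x hx
  rw [mem_shiftGr]
  apply hh'
  change x ∈ B.gr (h + k + -k)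
  rw [add_neg_cancel_right]
  exact hx

end StarInjShift

section ResShift

variable {M : Type u} [AddCommGroup M] [Module R M] {ℳ : ι → AddSubgroup M}
  [DirectSum.Decomposition ℳ] [SetLike.GradedSMul 𝒜 ℳ]

/-- The shift of a resolution. -/
noncomputable def resShift (E : StarInjRes 𝒜 ℳ) (k : ι) : StarInjRes 𝒜 (shiftGr ℳ k) where
  X n := GMod.of 𝒜 (E.X n).carrier (shiftGr (E.X n).gr k)
  d n := E.d n
  ε := E.ε
  d_grHom n := fun g x hx => E.d_grHom n _ x hx
  ε_grHom := fun g x hx => E.ε_grHom _ x hx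
  ε_injective := E.ε_injective
  exact_zero := E.exact_zero
  exact_succ := E.exact_succ
  starInj n := isStarInj_shift (E.X n).gr (E.starInj n) k

theorem van_resShift (E : StarInjRes 𝒜 ℳ) (a : HomogeneousIdeal 𝒜) (k : ι) (n : ℕ) (g : ι) :
    Van (resShift E k) a n g ↔ Van E a n (g + k) := by
  cases n with
  | zero => exact Iff.rfl
  | succ n => exact Iff.rfl

theorem vanM_shift (a : HomogeneousIdeal 𝒜) (k : ι) (n : ℕ) (g : ι) :
    VanM a (shiftGr ℳ k) n g ↔ VanM a ℳ n (g + k) := by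
  rw [vanM_iff a (resShift (starInjRes 𝒜 ℳ) k), vanM_iff a (starInjRes 𝒜 ℳ), van_resShift]

end ResShift

section Misc

variable {M : Type u} [AddCommGroup M] [Module R M] {ℳ : ι → AddSubgroup M}
  [DirectSum.Decomposition ℳ] [SetLike.GradedSMul 𝒜 ℳ]

theorem isStarInj_of_subsingleton [Subsingleton M] : IsStarInj 𝒜 ℳ := by
  intro A B f _ _ g _
  refine ⟨0, fun k x _ => by rw [LinearMap.zero_apply]; exact zero_mem _, ?_⟩
  apply LinearMap.ext
  intro x
  exact Subsingleton.elim _ _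

theorem vanM_of_subsingleton [Subsingleton M] (a : HomogeneousIdeal 𝒜) (n : ℕ) (g : ι) :
    VanM a ℳ n g := by
  cases n with
  | zero =>
    rw [vanM_zero_iff]
    intro m _ _
    exact Subsingleton.elim _ _
  | succ n => exact vanM_of_isStarInj a isStarInj_of_subsingleton n g

variable {N : Type u} [AddCommGroup N] [Module R N] {𝒩 : ι → AddSubgroup N}
  [DirectSum.Decomposition 𝒩] [SetLike.GradedSMul 𝒜 𝒩]

theorem vanM_of_equiv (a : HomogeneousIdeal 𝒜) (e : M ≃ₗ[R] N)
    (he : IsGrHom ℳ 𝒩 e.toLinearMap) (he' : IsGrHom 𝒩 ℳ e.symm.toLinearMap) (n : ℕ) (g : ι) :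
    VanM a ℳ n g ↔ VanM a 𝒩 n g :=
  ⟨vanM_of_retract a e.toLinearMap he e.symm.toLinearMap he' (fun y => e.apply_symm_apply y) n g,
    vanM_of_retract a e.symm.toLinearMap he' e.toLinearMap he (fun y => e.symm_apply_apply y)
      n g⟩

theorem vanM_gprod (a : HomogeneousIdeal 𝒜) (X Y : GMod.{u} 𝒜) (n : ℕ) (g : ι)
    (hX : VanM a X.gr n g) (hY : VanM a Y.gr n g) : VanM a (gprod X Y).gr n g := by
  let inl' : X.carrier →ₗ[R] (gprod X Y).carrier := LinearMap.inl R X.carrier Y.carrier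
  let snd' : (gprod X Y).carrier →ₗ[R] Y.carrier := LinearMap.snd R X.carrier Y.carrier
  have S : SES X.gr (gprod X Y).gr Y.gr inl' snd' :=
    { i_gr := fun k x hx => ⟨hx, zero_mem _⟩
      p_gr := fun k x hx => hx.2
      inj := LinearMap.inl_injective
      surj := LinearMap.snd_surjective
      exact := by
        apply le_antisymm
        · rintro _ ⟨x, rfl⟩
          rfl
        · rintro ⟨x, y⟩ hxy
          have hy : y = 0 := hxy
          exact ⟨x, by rw [hy]; rfl⟩ }
  exact les_mid a S n g hX hY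

end Misc

end Groth.Agent.Lib.Helper8.GrLCShift
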