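import Groth.Agent.Lib.Helper8.GrLCRows2

set_option autoImplicit false
set_option linter.unusedSectionVars false
universe u

open DirectSum GrLC
open Groth.Agent.Lib.Helper30
open Groth.Agent.Lib.Helper8.GrLCBase Groth.Agent.Lib.Helper8.GrLCLES

namespace Groth.Agent.Lib.Helper8.GrLCSub

section Transport

variable {ι : Type} [DecidableEq ι]
variable {M : Type u} [AddCommGroup M] {τ : Type u} [SetLike τ M] [AddSubgroupClass τ M]

/-- The underlying family of additive subgroups. -/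
def agr (ℳ : ι → τ) : ι → AddSubgroup M := fun i => AddSubgroup.ofClass (ℳ i)

theorem mem_agr (ℳ : ι → τ) (i : ι) (x : M) : x ∈ agr ℳ i ↔ x ∈ ℳ i := Iff.rfl

variable (ℳ : ι → τ) [DirectSum.Decomposition ℳ]

/-- componentwise map -/
def toA (i : ι) : ℳ i →+ agr ℳ i where
  toFun y := ⟨y.1, y.2⟩
  map_zero' := rfl
  map_add' _ _ := rfl

noncomputable def decA : M →+ ⨁ i, agr ℳ i :=
  (DFinsupp.mapRange.addMonoidHom (toA ℳ)).comp (decomposeAddEquiv ℳ).toAddMonoidHom

theorem mapRange_of (i : ι) (y : ℳ i) :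
    DFinsupp.mapRange.addMonoidHom (toA ℳ) (DirectSum.of (fun i => ℳ i) i y) =
      DirectSum.of (fun i => agr ℳ i) i (toA ℳ i y) := by
  rw [DFinsupp.mapRange.addMonoidHom_apply]
  exact DFinsupp.mapRange_single

theorem coe_mapRange (z : ⨁ i, ℳ i) :
    DirectSum.coeAddMonoidHom (agr ℳ) (DFinsupp.mapRange.addMonoidHom (toA ℳ) z) =
      DirectSum.coeAddMonoidHom ℳ z := by
  induction z using DirectSum.induction_on with
  | zero => simp
  | of i y =>
    rw [mapRange_of, DirectSum.coeAddMonoidHom_of, DirectSum.coeAddMonoidHom_of]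
    rfl
  | add a b ha hb => rw [map_add, map_add, map_add, ha, hb]

noncomputable instance agrDecomposition : DirectSum.Decomposition (agr ℳ) :=
  DirectSum.Decomposition.ofAddHom (agr ℳ) (decA ℳ)
    (by
      ext x
      change DirectSum.coeAddMonoidHom (agr ℳ)
        (DFinsupp.mapRange.addMonoidHom (toA ℳ) (decompose ℳ x)) = x
      rw [coe_mapRange]
      exact (decompose ℳ).left_inv x)
    (by
      apply DirectSum.addHom_ext
      intro i y
      change DFinsupp.mapRange.addMonoidHom (toA ℳ)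
        (decompose ℳ (DirectSum.coeAddMonoidHom (agr ℳ) (DirectSum.of (fun i => agr ℳ i) i y))) =
          DirectSum.of (fun i => agr ℳ i) i y
      rw [DirectSum.coeAddMonoidHom_of]
      have h1 : decompose ℳ (y : M) = DirectSum.of (fun i => ℳ i) i ⟨y.1, y.2⟩ :=
        decompose_of_mem ℳ y.2
      rw [h1, mapRange_of]
      rfl)

theorem coe_decompose_agr (x : M) (i : ι) :
    (decompose (agr ℳ) x i : M) = (decompose ℳ x i : M) := by
  change ((DFinsupp.mapRange.addMonoidHom (toA ℳ) (decompose ℳ x)) i : M) = _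
  rw [DFinsupp.mapRange.addMonoidHom_apply, DFinsupp.mapRange_apply]
  rfl

end Transport

section Ring

variable {ι : Type} [AddCommGroup ι] [DecidableEq ι]
variable {R : Type u} [CommRing R] {σ : Type u} [SetLike σ R] [AddSubgroupClass σ R]
variable (𝒜 : ι → σ) [GradedRing 𝒜]

instance agrGradedMonoid : SetLike.GradedMonoid (agr 𝒜) where
  one_mem := SetLike.GradedOne.one_mem (A := 𝒜)
  mul_mem _ _ _ _ ha hb := SetLike.GradedMul.mul_mem (A := 𝒜) ha hb

noncomputable instance agrGradedRing : GradedRing (agr 𝒜) where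
  toGradedMonoid := agrGradedMonoid 𝒜
  toDecomposition := agrDecomposition 𝒜

variable {M : Type u} [AddCommGroup M] [Module R M] {τ : Type u} [SetLike τ M] [AddSubgroupClass τ M]
  (ℳ : ι → τ) [DirectSum.Decomposition ℳ] [SetLike.GradedSMul 𝒜 ℳ]

instance agrGradedSMul : SetLike.GradedSMul (agr 𝒜) (agr ℳ) where
  smul_mem _ _ _ _ ha hm := SetLike.GradedSMul.smul_mem (A := 𝒜) (B := ℳ) ha hm

/-- A graded module over `𝒜` seen over `agr 𝒜`. -/
noncomputable def gmodA (X : GMod.{u} 𝒜) : GMod.{u} (agr 𝒜) where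
  carrier := X.carrier
  gr := X.gr
  gsmul := ⟨fun _ _ _ _ ha hm => SetLike.GradedSMul.smul_mem (A := 𝒜) (B := X.gr) ha hm⟩

/-- A graded module over `agr 𝒜` seen over `𝒜`. -/
noncomputable def gmodB (X : GMod.{u} (agr 𝒜)) : GMod.{u} 𝒜 where
  carrier := X.carrier
  gr := X.gr
  gsmul := ⟨fun _ _ _ _ ha hm => SetLike.GradedSMul.smul_mem (A := agr 𝒜) (B := X.gr) ha hm⟩

theorem isStarInj_agr (h : IsStarInj 𝒜 ℳ) : IsStarInj (agr 𝒜) (agr ℳ) := by
  intro A B f hf hinj g hg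
  obtain ⟨h', hh', hc⟩ := h (gmodB 𝒜 A) (gmodB 𝒜 B) f hf hinj g hg
  exact ⟨h', hh', hc⟩

theorem isStarInj_gmodA (X : GMod.{u} 𝒜) (h : IsStarInj 𝒜 X.gr) :
    IsStarInj (agr 𝒜) (gmodA 𝒜 X).gr := by
  intro A B f hf hinj g hg
  obtain ⟨h', hh', hc⟩ := h (gmodB 𝒜 A) (gmodB 𝒜 B) f hf hinj g hg
  exact ⟨h', hh', hc⟩

/-- The resolution seen over `agr 𝒜`. -/
noncomputable def resA (E : StarInjRes 𝒜 ℳ) : StarInjRes (agr 𝒜) (agr ℳ) where
  X n := gmodA 𝒜 (E.X n)
  d := E.d
  ε := E.ε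
  d_grHom := E.d_grHom
  ε_grHom := E.ε_grHom
  ε_injective := E.ε_injective
  exact_zero := E.exact_zero
  exact_succ := E.exact_succ
  starInj n := isStarInj_gmodA 𝒜 (E.X n) (E.starInj n)

/-- A homogeneous ideal seen over `agr 𝒜`. -/
noncomputable def idealA (a : HomogeneousIdeal 𝒜) : HomogeneousIdeal (agr 𝒜) :=
  ⟨a.toIdeal, fun i r hr => by
    have := a.isHomogeneous i hr
    rw [coe_decompose_agr]
    exact this⟩

theorem idealA_toIdeal (a : HomogeneousIdeal 𝒜) : (idealA 𝒜 a).toIdeal = a.toIdeal := rfl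

theorem hcomp_eq_bot_iff_van (E : StarInjRes 𝒜 ℳ) (a : HomogeneousIdeal 𝒜) (n : ℕ) (g : ι) :
    E.Hcomp a n g = ⊥ ↔ Van (resA 𝒜 ℳ E) (idealA 𝒜 a) n g := by
  constructor
  · intro h z hz hdz hzg
    have hzc : z ∈ E.cocyc a n := ⟨hz, hdz⟩
    have hmem : E.toH a n ⟨z, hzc⟩ ∈ E.Hcomp a n g := ⟨⟨z, hzc⟩, hzg, rfl⟩
    rw [h, Submodule.mem_bot] at hmem
    have := (Submodule.Quotient.mk_eq_zero _).mp hmem
    cases n with
    | zero => exact this
    | succ n => exact this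
  · intro h
    rw [eq_bot_iff]
    rintro x ⟨z, hzg, rfl⟩
    rw [Submodule.mem_bot]
    apply (Submodule.Quotient.mk_eq_zero _).mpr
    have := h z.1 z.2.1 z.2.2 hzg
    cases n with
    | zero => exact this
    | succ n => exact this

theorem hcomp_eq_bot_iff_vanM (E : StarInjRes 𝒜 ℳ) (a : HomogeneousIdeal 𝒜) (n : ℕ) (g : ι) :
    E.Hcomp a n g = ⊥ ↔ VanM (idealA 𝒜 a) (agr ℳ) n g := by
  rw [hcomp_eq_bot_iff_van, vanM_iff]

theorem hgr_eq_bot_iff (E : StarInjRes 𝒜 ℳ) (a : HomogeneousIdeal 𝒜) (n : ℕ) (g : ι) :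
    E.Hgr a n g = ⊥ ↔ E.Hcomp a n g = ⊥ := by
  unfold StarInjRes.Hgr
  constructor
  · intro h
    rw [eq_bot_iff]
    intro x hx
    have : x ∈ (E.Hcomp a n g).toAddSubgroup := hx
    rw [h, AddSubgroup.mem_bot] at this
    rw [this]
    exact Submodule.zero_mem _
  · intro h
    rw [h]
    ext x
    simp

end Ring

section EndDeg

variable {M : Type u} [AddCommGroup M] (ℳ : ℤ → AddSubgroup M)

theorem endDeg_le_iff (ρ : ℤ) :
    GrLC.endDeg ℳ ≤ ((ρ : WithTop ℤ) : WithBot (WithTop ℤ)) ↔ ∀ t, ρ < t → ℳ t = ⊥ := by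
  unfold GrLC.endDeg
  rw [iSup₂_le_iff]
  constructor
  · intro h t ht
    by_contra hne
    have := h t hne
    rw [WithBot.coe_le_coe, WithTop.coe_le_coe] at this
    omega
  · intro h t ht
    rw [WithBot.coe_le_coe, WithTop.coe_le_coe]
    by_contra hlt
    exact ht (h t (not_le.mp hlt))

theorem add_coe_le_iff (x : WithBot (WithTop ℤ)) (i d : ℤ) :
    x + ((i : WithTop ℤ) : WithBot (WithTop ℤ)) ≤ ((d : WithTop ℤ) : WithBot (WithTop ℤ)) ↔
      x ≤ (((d - i : ℤ) : WithTop ℤ) : WithBot (WithTop ℤ)) := by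
  induction x using WithBot.recBotCoe with
  | bot => simp
  | coe x =>
    induction x using WithTop.recTopCoe with
    | top =>
      rw [← WithBot.coe_add, WithBot.coe_le_coe, WithBot.coe_le_coe]
      simp
    | coe n =>
      rw [← WithBot.coe_add, ← WithTop.coe_add, WithBot.coe_le_coe, WithTop.coe_le_coe,
        WithBot.coe_le_coe, WithTop.coe_le_coe]
      omega

theorem endDeg_add_le_iff (i : ℕ) (d : ℤ) :
    GrLC.endDeg ℳ + (((i : ℤ) : WithTop ℤ) : WithBot (WithTop ℤ)) ≤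
      ((d : WithTop ℤ) : WithBot (WithTop ℤ)) ↔ ∀ t : ℤ, d < t + i → ℳ t = ⊥ := by
  rw [add_coe_le_iff, endDeg_le_iff]
  constructor
  · intro h t ht
    exact h t (by omega)
  · intro h t ht
    exact h t (by omega)

end EndDeg

end Groth.Agent.Lib.Helper8.GrLCSub
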