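import Groth.Agent.Lib.Helper8.GrLCFreeFun
import Groth.Agent.Lib.Helper8.GrLCInd
import Groth.Agent.S13225

/-!
# Top local cohomology and quotients: `H^n(R) = J H^n(R)` when `H^n(R/J) = 0`
-/

set_option autoImplicit false
set_option linter.unusedSectionVars false
universe u

open DirectSum GrLC
open Groth.Agent.Lib.Helper30
open Groth.Agent.Lib.Helper8.GrLCBase Groth.Agent.Lib.Helper8.GrLCProd
open Groth.Agent.Lib.Helper8.GrLCLES Groth.Agent.Lib.Helper8.GrLCTors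
open Groth.Agent.Lib.Helper8.GrLCShift Groth.Agent.Lib.Helper8.GrLCFree
open Groth.Agent.Lib.Helper8.GrLCFun Groth.Agent.Lib.Helper8.GrLCFreeFun
open Groth.Agent.Lib.Helper8.GrLCInd

namespace Groth.Agent.Lib.Helper8.GrLCTopQuot

variable {ι : Type} [AddCommGroup ι] [DecidableEq ι]
variable {R : Type u} [CommRing R] [IsNoetherianRing R] {𝒜 : ι → AddSubgroup R} [GradedRing 𝒜]
variable (a : HomogeneousIdeal 𝒜) (n : ℕ) (I : StarInjRes 𝒜 𝒜)

/-- The ring as a graded module over itself. -/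
noncomputable abbrev XR : GMod.{u} 𝒜 := GMod.of 𝒜 R 𝒜

theorem mu_ring {j : ι} {r : R} (hr : r ∈ 𝒜 j) (h : I.H a n) : mu I I a n r h = r • h := by
  rw [mu_of_mem I I a n hr]
  have h1 : (rho r : R →ₗ[R] R) = r • (LinearMap.id : R →ₗ[R] R) := by
    apply LinearMap.ext
    intro s
    rw [rho_apply, LinearMap.smul_apply, LinearMap.id_apply, smul_eq_mul, smul_eq_mul, mul_comm]
  rw [h1, Hf_smul_id a n hr]
  rfl

/-- If the top local cohomology of `R/J` vanishes, every class in `H^n(R)` is a combination of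
classes with homogeneous coefficients in `J`. -/
theorem exists_sum_smul (J : HomogeneousIdeal 𝒜)
    (hGV : ∀ Y : GMod.{u} 𝒜, Module.Finite R Y.carrier → ∀ g, VanM a Y.gr (n + 1) g)
    (hQ : ∀ g, VanM a (Q (XR (𝒜 := 𝒜)) J.toIdeal J.isHomogeneous).gr n g) (y : I.H a n) :
    ∃ (t : ℕ) (x : Fin t → R) (c : Fin t → ι) (h : Fin t → I.H a n),
      (∀ b, x b ∈ J.toIdeal) ∧ (∀ b, x b ∈ 𝒜 (c b)) ∧ y = ∑ b, x b • h b := by
  classical
  let Jm : GMod.{u} 𝒜 := gmodSub 𝒜 𝒜 J.toIdeal J.isHomogeneous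
  let Qm : GMod.{u} 𝒜 := Q (XR (𝒜 := 𝒜)) J.toIdeal J.isHomogeneous
  let i : Jm.carrier →ₗ[R] R := J.toIdeal.subtype
  let p : R →ₗ[R] Qm.carrier := Qmk (XR (𝒜 := 𝒜)) J.toIdeal J.isHomogeneous
  have hi : IsGrHom Jm.gr 𝒜 i := isGrHom_subtype 𝒜 J.toIdeal
  have S : SES Jm.gr 𝒜 Qm.gr i p :=
    { i_gr := hi
      p_gr := Qmk_gr (X := XR (𝒜 := 𝒜)) J.isHomogeneous
      inj := Subtype.val_injective
      surj := Qmk_surjective (X := XR (𝒜 := 𝒜)) J.isHomogeneous
      exact := by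
        apply le_antisymm
        · rintro _ ⟨z, rfl⟩
          rw [LinearMap.mem_ker]
          exact (Qmk_eq_zero (X := XR (𝒜 := 𝒜)) J.isHomogeneous _).mpr z.2
        · intro z hz
          rw [LinearMap.mem_ker] at hz
          exact ⟨⟨z, (Qmk_eq_zero (X := XR (𝒜 := 𝒜)) J.isHomogeneous z).mp hz⟩, rfl⟩ }
  let EJ : StarInjRes 𝒜 Jm.gr := starInjRes 𝒜 Jm.gr
  let EQ : StarInjRes 𝒜 Qm.gr := starInjRes 𝒜 Qm.gr
  obtain ⟨D⟩ := exists_hsdata (E' := EJ) (E'' := EQ) S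
  let EM : StarInjRes 𝒜 𝒜 := hs S D
  have hid : IsGrHomDeg 𝒜 𝒜 (LinearMap.id : R →ₗ[R] R) 0 := fun g m hm => by
    rw [add_zero]
    exact hm
  have hi0 : IsGrHomDeg Jm.gr 𝒜 i 0 := fun g m hm => by
    rw [add_zero]
    exact hi g m hm
  -- transfer to the horseshoe resolution
  let y' : EM.H a n := Hf I EM a n LinearMap.id 0 y
  have hsub : Subsingleton (EQ.H a n) :=
    Groth.Agent.Lib.Helper8.GrLCWhole.subsingleton_H_of_vanM a EQ n hQ
  obtain ⟨y'', hy''⟩ := Hf_exact S D a n y' (Subsingleton.elim _ _)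
  have hJfin : Module.Finite R Jm.carrier :=
    Module.IsNoetherian.finite R ↥J.toIdeal
  obtain ⟨t, x, c, hx, hspan⟩ := span_mu (I := I) a n Jm.gr hJfin EJ hGV
  obtain ⟨h, hh⟩ := hspan y''
  refine ⟨t, fun b => i (x b), c, h, fun b => (x b).2, fun b => hi _ _ (hx b), ?_⟩
  have hback : Hf EM I a n LinearMap.id 0 y' = y := by
    have h1 := Hf_comp (E := I) (E' := EM) (E'' := I) a n hid hid
    rw [LinearMap.id_comp, add_zero, Hf_id] at h1
    have h2 := LinearMap.congr_fun h1 y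
    rw [LinearMap.id_apply, LinearMap.comp_apply] at h2
    exact h2.symm
  have hcomp : Hf EJ I a n i 0 = Hf EM I a n LinearMap.id 0 ∘ₗ Hf EJ EM a n i 0 := by
    have h1 := Hf_comp (E := EJ) (E' := EM) (E'' := I) a n hi0 hid
    rw [LinearMap.id_comp, add_zero] at h1
    exact h1
  have hy : y = Hf EJ I a n i 0 y'' := by
    rw [hcomp, LinearMap.comp_apply, hy'', hback]
  rw [hy, hh, map_sum]
  apply Finset.sum_congr rfl
  intro b _
  have h3 := mu_nat EJ I I a n i hi (x b)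
  have h4 := LinearMap.congr_fun h3 (h b)
  rw [LinearMap.comp_apply] at h4
  rw [← h4]
  exact mu_ring a n I (hi _ _ (hx b)) (h b)

section Graded

variable {M : Type u} [AddCommGroup M] [Module R M] {ℳ : ι → AddSubgroup M}
  [DirectSum.Decomposition ℳ] [SetLike.GradedSMul 𝒜 ℳ] (E : StarInjRes 𝒜 ℳ)

omit [IsNoetherianRing R] in
theorem smul_mem_Hgr {i g : ι} {r : R} (hr : r ∈ 𝒜 i) {h : E.H a n} (hh : h ∈ E.Hgr a n g) :
    r • h ∈ E.Hgr a n (i + g) := by
  obtain ⟨z, hz, rfl⟩ := hh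
  refine ⟨r • z, ?_, map_smul _ _ _⟩
  rw [Submodule.coe_smul]
  exact smul_mem_piece 𝒜 (E.X n).gr hr hz

omit [IsNoetherianRing R] in
theorem gradedSMul_Hgr : SetLike.GradedSMul 𝒜 (E.Hgr a n) :=
  ⟨fun {i j r h} hr hh => by
    rw [vadd_eq_add]
    exact smul_mem_Hgr a n E hr hh⟩

end Graded

section Deg

variable {R : Type u} [CommRing R] [IsNoetherianRing R] {𝒜 : ℤ → AddSubgroup R} [GradedRing 𝒜]
variable (a : HomogeneousIdeal 𝒜) (n : ℕ) (I : StarInjRes 𝒜 𝒜)

/-- If `J` is generated by a set `L` of elements of degree one and the top local cohomology of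
`R/J` vanishes, then `H^n(R)_{d+1} = L · H^n(R)_d`. -/
theorem mem_closure_of_span (L : Set R) (hL : ∀ l ∈ L, l ∈ 𝒜 1) (J : HomogeneousIdeal 𝒜)
    (hJ : J.toIdeal = Ideal.span L)
    (hGV : ∀ Y : GMod.{u} 𝒜, Module.Finite R Y.carrier → ∀ g, VanM a Y.gr (n + 1) g)
    (hQ : ∀ g, VanM a (Q (XR (𝒜 := 𝒜)) J.toIdeal J.isHomogeneous).gr n g) (d : ℤ)
    (y : I.H a n) (hy : y ∈ I.Hgr a n (d + 1)) :
    y ∈ AddSubgroup.closure {z : I.H a n | ∃ l ∈ L, ∃ h ∈ I.Hgr a n d, z = l • h} := by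
  classical
  obtain ⟨t, x, c, h, hxJ, hxc, hsum⟩ := exists_sum_smul a n I J hGV hQ y
  have hint := Groth.Agent.S13225.result R 𝒜 a R 𝒜 I n
  letI : DirectSum.Decomposition (I.Hgr a n) := hint.chooseDecomposition
  haveI : SetLike.GradedSMul 𝒜 (I.Hgr a n) := gradedSMul_Hgr a n I
  have key : y = ∑ b, x b • (decompose (I.Hgr a n) (h b) (d + 1 - c b) : I.H a n) := by
    have h1 := DirectSum.decompose_of_mem_same (I.Hgr a n) hy
    rw [← h1, hsum, decompose_sum, DFinsupp.finsetSum_apply, AddSubgroup.val_finsetSum]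
    apply Finset.sum_congr rfl
    intro b _
    have e : d + 1 = c b + (d + 1 - c b) := by ring
    have h2 := decompose_smul_of_mem 𝒜 (I.Hgr a n) (hxc b) (h b) (d + 1 - c b)
    rw [← e] at h2
    exact h2
  rw [key]
  apply AddSubgroup.sum_mem
  intro b _
  set h' : I.H a n := (decompose (I.Hgr a n) (h b) (d + 1 - c b) : I.H a n) with hh'
  have hh'mem : h' ∈ I.Hgr a n (d + 1 - c b) := (decompose (I.Hgr a n) (h b) (d + 1 - c b)).2
  have hxs : x b ∈ Submodule.span R L := by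
    have := hxJ b
    rw [hJ] at this
    exact this
  obtain ⟨N, s, l, hsl⟩ := Submodule.mem_span_set'.mp hxs
  have hx2 : x b = ∑ k, (decompose 𝒜 (s k) (c b - 1) : R) * (l k : R) := by
    have h1 := DirectSum.decompose_of_mem_same 𝒜 (hxc b)
    rw [← h1, ← hsl, decompose_sum, DFinsupp.finsetSum_apply, AddSubgroup.val_finsetSum]
    apply Finset.sum_congr rfl
    intro k _
    have e : c b = (c b - 1) + 1 := by ring
    have h2 := decompose_smul_of_mem_right 𝒜 𝒜 (hL _ (l k).2) (s k) (c b - 1)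
    rw [← e] at h2
    exact h2
  rw [hx2, Finset.sum_smul]
  apply AddSubgroup.sum_mem
  intro k _
  apply AddSubgroup.subset_closure
  refine ⟨(l k : R), (l k).2, (decompose 𝒜 (s k) (c b - 1) : R) • h', ?_, ?_⟩
  · have := smul_mem_Hgr a n I (decompose 𝒜 (s k) (c b - 1)).2 hh'mem
    have e : c b - 1 + (d + 1 - c b) = d := by ring
    rwa [e] at this
  · rw [mul_comm, mul_smul]

end Deg

end Groth.Agent.Lib.Helper8.GrLCTopQuot
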