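import Groth.Agent.Lib.Helper8.GrSyzCone

set_option autoImplicit false
set_option linter.unusedSectionVars false
universe u

namespace Groth.Agent.Lib.Helper8.GrSyzCone2

open GrSyz DirectSum
open Groth.Agent.Lib.Helper8.GrSyzBasic Groth.Agent.Lib.Helper8.GrSyzStrand
open Groth.Agent.Lib.Helper8.GrSyzCompare Groth.Agent.Lib.Helper8.GrSyzCone

variable {k R : Type u} [Field k] [CommRing R] [Algebra k R] {𝒜 : ℤ → Submodule k R}
  [GradedAlgebra 𝒜]
variable {M : Type u} [AddCommGroup M] [Module k M] [Module R M] [IsScalarTower k R M]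
  {ℳ : ℤ → Submodule k M} [DirectSum.Decomposition ℳ] [SetLike.GradedSMul 𝒜 ℳ]
variable {N : Type u} [AddCommGroup N] [Module k N] [Module R N] [IsScalarTower k R N]
  {𝒩 : ℤ → Submodule k N} [DirectSum.Decomposition 𝒩] [SetLike.GradedSMul 𝒜 𝒩]

section ChainMapShift

variable (F : FreeRes 𝒜 ℳ) (F' : FreeRes 𝒜 𝒩) (f : M →ₗ[R] N) (a : ℤ)

structure CMs (i : ℕ) : Type u where
  φ : Matrix (Fin (F'.rk i)) (Fin (F.rk i)) R
  homog : ∀ b' b, φ b' b ∈ 𝒜 (F.deg i b + a - F'.deg i b')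
  cyc : ∀ x, IsCycle F i x → IsCycle F' i (φ.mulVec x)

theorem exists_cms0 (hf : ∀ g m, m ∈ ℳ g → f m ∈ 𝒩 (g + a)) : ∃ s : CMs F F' a 0,
    ∀ x, Fintype.linearCombination R F'.aug (s.φ.mulVec x) =
      f (Fintype.linearCombination R F.aug x) := by
  have h : ∀ b : Fin (F.rk 0), ∃ v ∈ homVec 𝒜 (F'.deg 0) (F.deg 0 b + a),
      Fintype.linearCombination R F'.aug v = f (F.aug b) := by
    intro b
    obtain ⟨v, hv⟩ := augStr_surjective F' (F.deg 0 b + a) ⟨f (F.aug b), hf _ _ (F.aug_mem b)⟩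
    exact ⟨v.1, v.2, congrArg Subtype.val hv⟩
  choose v hv1 hv2 using h
  have hcompat : ∀ x, Fintype.linearCombination R F'.aug
      ((Matrix.of fun b' b => v b b').mulVec x) = f (Fintype.linearCombination R F.aug x) := by
    intro x
    have e : (Matrix.of fun b' b => v b b').mulVec x = ∑ b, x b • v b := by
      funext a
      simp [Matrix.mulVec, dotProduct, Finset.sum_apply, mul_comm]
    rw [e, map_sum, Fintype.linearCombination_apply, map_sum]
    apply Finset.sum_congr rfl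
    intro b _
    rw [map_smul, hv2, map_smul]
  refine ⟨⟨Matrix.of fun b' b => v b b', fun b' b => (mem_homVec 𝒜).1 (hv1 b) b', ?_⟩, hcompat⟩
  intro x hx
  change Fintype.linearCombination R F'.aug _ = 0
  rw [hcompat]
  have hx' : Fintype.linearCombination R F.aug x = 0 := hx
  rw [hx', map_zero]

theorem exists_cms_succ (i : ℕ) (s : CMs F F' a i) :
    ∃ s' : CMs F F' a (i + 1), F'.d i * s'.φ = s.φ * F.d i := by
  have hW : ∀ a' c, (s.φ * F.d i) a' c ∈ 𝒜 (F.deg (i + 1) c + a - F'.deg i a') := by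
    intro a' c
    rw [Matrix.mul_apply]
    refine Submodule.sum_mem _ fun b _ => ?_
    have h := SetLike.mul_mem_graded (s.homog a' b) (F.d_mem i b c)
    have e : F.deg i b + a - F'.deg i a' + (F.deg (i + 1) c - F.deg i b) =
        F.deg (i + 1) c + a - F'.deg i a' := by ring
    rw [e] at h
    exact h
  have hc : ∀ c, IsCycle F' i ((s.φ * F.d i).col c) := by
    intro c
    have e : (s.φ * F.d i).col c = s.φ.mulVec ((F.d i).mulVec (Pi.single c 1)) := by
      rw [Matrix.mulVec_mulVec, Matrix.mulVec_single_one]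
    rw [e]
    exact s.cyc _ (isCycle_d F i _)
  obtain ⟨V, hV1, hV2⟩ := exists_matrix_lift F' i (fun c => F.deg (i + 1) c + a) (s.φ * F.d i) hW hc
  refine ⟨⟨V, hV1, ?_⟩, hV2⟩
  intro x hx
  change (F'.d i).mulVec (V.mulVec x) = 0
  rw [Matrix.mulVec_mulVec, hV2, ← Matrix.mulVec_mulVec]
  have hx' : (F.d i).mulVec x = 0 := hx
  rw [hx', Matrix.mulVec_zero]

structure CMsNext (i : ℕ) (s : CMs F F' a i) : Type u where
  s' : CMs F F' a (i + 1)
  comm : F'.d i * s'.φ = s.φ * F.d i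

noncomputable def cmsNext (i : ℕ) (s : CMs F F' a i) : CMsNext F F' a i s :=
  Classical.choice (by
    obtain ⟨s', h⟩ := exists_cms_succ F F' a i s
    exact ⟨⟨s', h⟩⟩)

noncomputable def cmsSeq (s0 : CMs F F' a 0) : (i : ℕ) → CMs F F' a i
  | 0 => s0
  | i + 1 => (cmsNext F F' a i (cmsSeq s0 i)).s'

theorem exists_chainMap_shift (hf : ∀ g m, m ∈ ℳ g → f m ∈ 𝒩 (g + a)) :
    ∃ φ : (i : ℕ) → Matrix (Fin (F'.rk i)) (Fin (F.rk i)) R,
    (∀ i b' b, φ i b' b ∈ 𝒜 (F.deg i b + a - F'.deg i b')) ∧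
    (∀ x, Fintype.linearCombination R F'.aug ((φ 0).mulVec x) =
      f (Fintype.linearCombination R F.aug x)) ∧
    ∀ i, F'.d i * φ (i + 1) = φ i * F.d i := by
  obtain ⟨s0, h0⟩ := exists_cms0 F F' f a hf
  refine ⟨fun i => (cmsSeq F F' a s0 i).φ, fun i => (cmsSeq F F' a s0 i).homog, h0, fun i => ?_⟩
  exact (cmsNext F F' a i (cmsSeq F F' a s0 i)).comm

end ChainMapShift

section ConeS

variable {L : Type u} [AddCommGroup L] [Module k L] [Module R L] [IsScalarTower k R L]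
  {ℒ : ℤ → Submodule k L} [DirectSum.Decomposition ℒ] [SetLike.GradedSMul 𝒜 ℒ]

variable (F : FreeRes 𝒜 ℳ) (F' : FreeRes 𝒜 𝒩) (a : ℤ)

def coneDegS : (i : ℕ) → Fin (coneRk F.rk F'.rk i) → ℤ
  | 0 => F'.deg 0
  | n + 1 => Fin.append (fun b => F.deg n b + a) (F'.deg (n + 1))

theorem coneDegS_succ_left (n : ℕ) (b : Fin (F.rk n)) :
    coneDegS F F' a (n + 1) (Fin.castAdd (F'.rk (n + 1)) b) = F.deg n b + a := by
  simp only [coneDegS, Fin.append_left]

theorem coneDegS_succ_right (n : ℕ) (b : Fin (F'.rk (n + 1))) :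
    coneDegS F F' a (n + 1) (Fin.natAdd (F.rk n) b) = F'.deg (n + 1) b := by
  simp only [coneDegS, Fin.append_right]

variable {F F' a} {φ : (i : ℕ) → Matrix (Fin (F'.rk i)) (Fin (F.rk i)) R}
  {f : M →ₗ[R] N} {g : N →ₗ[R] L}

theorem coneS_d_mem (hφ : ∀ i b' b, φ i b' b ∈ 𝒜 (F.deg i b + a - F'.deg i b')) (i : ℕ)
    (x : Fin (coneRk F.rk F'.rk i)) (y : Fin (coneRk F.rk F'.rk (i + 1))) :
    coneD F F' φ i x y ∈ 𝒜 (coneDegS F F' a (i + 1) y - coneDegS F F' a i x) := by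
  cases i with
  | zero =>
    revert y
    refine Fin.addCases (fun b1 => ?_) (fun b2 => ?_)
    · rw [coneD_zero_left, coneDegS_succ_left]
      exact hφ 0 x b1
    · rw [coneD_zero_right, coneDegS_succ_right]
      exact F'.d_mem 0 x b2
  | succ n =>
    revert x y
    refine Fin.addCases (fun a1 => ?_) (fun a2 => ?_)
    · refine Fin.addCases (fun b1 => ?_) (fun b2 => ?_)
      · rw [coneD_succ_ll, coneDegS_succ_left, coneDegS_succ_left]
        have e : F.deg (n + 1) b1 + a - (F.deg n a1 + a) = F.deg (n + 1) b1 - F.deg n a1 := by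
          ring
        rw [e]
        exact neg_mem (F.d_mem n a1 b1)
      · rw [coneD_succ_lr]
        exact zero_mem _
    · refine Fin.addCases (fun b1 => ?_) (fun b2 => ?_)
      · rw [coneD_succ_rl, coneDegS_succ_left, coneDegS_succ_right]
        exact hφ (n + 1) a2 b1
      · rw [coneD_succ_rr, coneDegS_succ_right, coneDegS_succ_right]
        exact F'.d_mem (n + 1) a2 b2

variable (F F' a φ f g) in
def coneS (hf : Function.Injective f) (hg : Function.Surjective g)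
    (hgf : LinearMap.range f = LinearMap.ker g) (hggr : ∀ d m, m ∈ 𝒩 d → g m ∈ ℒ d)
    (hφ : ∀ i b' b, φ i b' b ∈ 𝒜 (F.deg i b + a - F'.deg i b'))
    (hφ0 : ∀ x, Fintype.linearCombination R F'.aug ((φ 0).mulVec x) =
      f (Fintype.linearCombination R F.aug x))
    (hφc : ∀ i, F'.d i * φ (i + 1) = φ i * F.d i) : FreeRes 𝒜 ℒ where
  rk := coneRk F.rk F'.rk
  deg := coneDegS F F' a
  d := coneD F F' φ
  aug := fun b => g (F'.aug b)
  d_mem := coneS_d_mem hφ
  aug_mem := fun b => hggr _ _ (F'.aug_mem b)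
  aug_surjective := by
    intro l
    obtain ⟨m, rfl⟩ := hg l
    obtain ⟨x, rfl⟩ := F'.aug_surjective m
    exact ⟨x, lc_comp F' g x⟩
  exact_zero := cone_exact_zero hgf hφ0
  exact_succ := fun i => by
    cases i with
    | zero => exact cone_exact_one hf hφ0 hφc
    | succ n => exact cone_exact_succ hφc n

theorem coneD_entries_mem {𝔪 : Ideal R} (hF : F.IsMinimal 𝔪) (hF' : F'.IsMinimal 𝔪)
    (hφm : ∀ i b' b, φ i b' b ∈ 𝔪) (i : ℕ)
    (x : Fin (coneRk F.rk F'.rk i)) (y : Fin (coneRk F.rk F'.rk (i + 1))) :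
    coneD F F' φ i x y ∈ 𝔪 := by
  cases i with
  | zero =>
    revert y
    refine Fin.addCases (fun b1 => ?_) (fun b2 => ?_)
    · rw [coneD_zero_left]
      exact hφm 0 x b1
    · rw [coneD_zero_right]
      exact hF' 0 x b2
  | succ n =>
    revert x y
    refine Fin.addCases (fun a1 => ?_) (fun a2 => ?_)
    · refine Fin.addCases (fun b1 => ?_) (fun b2 => ?_)
      · rw [coneD_succ_ll]
        exact neg_mem (hF n a1 b1)
      · rw [coneD_succ_lr]
        exact zero_mem _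
    · refine Fin.addCases (fun b1 => ?_) (fun b2 => ?_)
      · rw [coneD_succ_rl]
        exact hφm (n + 1) a2 b1
      · rw [coneD_succ_rr]
        exact hF' (n + 1) a2 b2

end ConeS

section SES

open Groth.Agent.Lib.Helper8.GrSyzHilb Groth.Agent.Lib.Helper8.GrSyzMin

variable {k : Type u} [Field k] {n : ℕ}
variable {M₁ : Type u} [AddCommGroup M₁] [Module k M₁] [Module (MvPolynomial (Fin (n + 1)) k) M₁]
  [IsScalarTower k (MvPolynomial (Fin (n + 1)) k) M₁]
  {ℳ₁ : ℤ → Submodule k M₁} [DirectSum.Decomposition ℳ₁]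
  [SetLike.GradedSMul (stdGr k (Fin (n + 1))) ℳ₁]
variable {M₂ : Type u} [AddCommGroup M₂] [Module k M₂] [Module (MvPolynomial (Fin (n + 1)) k) M₂]
  [IsScalarTower k (MvPolynomial (Fin (n + 1)) k) M₂]
  {ℳ₂ : ℤ → Submodule k M₂} [DirectSum.Decomposition ℳ₂]
  [SetLike.GradedSMul (stdGr k (Fin (n + 1))) ℳ₂]
variable {M₃ : Type u} [AddCommGroup M₃] [Module k M₃] [Module (MvPolynomial (Fin (n + 1)) k) M₃]
  [IsScalarTower k (MvPolynomial (Fin (n + 1)) k) M₃]
  {ℳ₃ : ℤ → Submodule k M₃} [DirectSum.Decomposition ℳ₃]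
  [SetLike.GradedSMul (stdGr k (Fin (n + 1))) ℳ₃]

variable (f : M₁ →ₗ[MvPolynomial (Fin (n + 1)) k] M₂) (g : M₂ →ₗ[MvPolynomial (Fin (n + 1)) k] M₃)
  (a : ℤ)
  (hf : Function.Injective f) (hg : Function.Surjective g)
  (hfg : LinearMap.range f = LinearMap.ker g)
  (hfgr : ∀ d m, m ∈ ℳ₁ d → f m ∈ ℳ₂ (d + a)) (hggr : ∀ d m, m ∈ ℳ₂ d → g m ∈ ℳ₃ d)

include hf hg hfg hfgr hggr in
theorem reg_ses_three_shift [Module.Finite (MvPolynomial (Fin (n + 1)) k) M₃] (r : ℤ)
    (h1 : IsRegLE (stdGr k (Fin (n + 1))) ℳ₁ (irrel (stdGr k (Fin (n + 1)))).toIdeal (r + 1 - a))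
    (h2 : IsRegLE (stdGr k (Fin (n + 1))) ℳ₂ (irrel (stdGr k (Fin (n + 1)))).toIdeal r) :
    IsRegLE (stdGr k (Fin (n + 1))) ℳ₃ (irrel (stdGr k (Fin (n + 1)))).toIdeal r := by
  obtain ⟨F₁, -, hF₁⟩ := h1
  obtain ⟨F₂, -, hF₂⟩ := h2
  obtain ⟨φ, hφ1, hφ2, hφ3⟩ := exists_chainMap_shift F₁ F₂ f a hfgr
  refine isRegLE_of_freeRes (coneS F₁ F₂ a φ f g hf hg hfg hggr hφ1 hφ2 hφ3) r ?_
  intro i
  cases i with
  | zero => exact fun b => hF₂ 0 b
  | succ m =>
    refine Fin.addCases (fun b1 => ?_) (fun b2 => ?_)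
    · change coneDegS F₁ F₂ a (m + 1) (Fin.castAdd _ b1) ≤ _
      rw [coneDegS_succ_left]
      have := hF₁ m b1
      push_cast
      linarith
    · change coneDegS F₁ F₂ a (m + 1) (Fin.natAdd _ b2) ≤ _
      rw [coneDegS_succ_right]
      exact hF₂ (m + 1) b2

include hf hg hfg hfgr hggr in
theorem reg_ses_two_shift [Module.Finite (MvPolynomial (Fin (n + 1)) k) M₂] (r : ℤ)
    (h1 : IsRegLE (stdGr k (Fin (n + 1))) ℳ₁ (irrel (stdGr k (Fin (n + 1)))).toIdeal (r - a))
    (h3 : IsRegLE (stdGr k (Fin (n + 1))) ℳ₃ (irrel (stdGr k (Fin (n + 1)))).toIdeal r) :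
    IsRegLE (stdGr k (Fin (n + 1))) ℳ₂ (irrel (stdGr k (Fin (n + 1)))).toIdeal r := by
  obtain ⟨F₁, -, hF₁⟩ := h1
  obtain ⟨F₃, -, hF₃⟩ := h3
  obtain ⟨F₂, hmin⟩ := exists_minimal (k := k) (r := n) ℳ₂
  refine ⟨F₂, hmin, ?_⟩
  obtain ⟨φ, hφ1, hφ2, hφ3⟩ := exists_chainMap_shift F₁ F₂ f a hfgr
  let C := coneS F₁ F₂ a φ f g hf hg hfg hggr hφ1 hφ2 hφ3
  intro i b
  by_contra hlt
  rw [not_le] at hlt
  cases i with
  | zero =>
    refine local_min_zero hneg_std hpos_std one_not_mem_irrel C F₃ b ?_ ?_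
    · intro b3
      have := hF₃ 0 b3
      change F₃.deg 0 b3 ≠ F₂.deg 0 b
      omega
    · refine Fin.addCases (fun c1 => ?_) (fun c2 => ?_)
      · change coneD F₁ F₂ φ 0 b (Fin.castAdd _ c1) ∈ _
        rw [coneD_zero_left]
        refine mem_of_deg_ne hneg_std hpos_std ?_ (hφ1 0 b c1)
        have := hF₁ 0 c1
        push_cast at this hlt
        omega
      · change coneD F₁ F₂ φ 0 b (Fin.natAdd _ c2) ∈ _
        rw [coneD_zero_right]
        exact hmin 0 b c2
  | succ m =>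
    refine local_min_succ hneg_std hpos_std one_not_mem_irrel C F₃ m (Fin.natAdd (F₁.rk m) b)
      ?_ ?_ ?_
    · intro b3
      have := hF₃ (m + 1) b3
      change F₃.deg (m + 1) b3 ≠ coneDegS F₁ F₂ a (m + 1) (Fin.natAdd _ b)
      rw [coneDegS_succ_right]
      omega
    · refine Fin.addCases (fun c1 => ?_) (fun c2 => ?_)
      · change coneD F₁ F₂ φ (m + 1) (Fin.natAdd _ b) (Fin.castAdd _ c1) ∈ _
        rw [coneD_succ_rl]
        refine mem_of_deg_ne hneg_std hpos_std ?_ (hφ1 (m + 1) b c1)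
        have := hF₁ (m + 1) c1
        push_cast at this hlt
        omega
      · change coneD F₁ F₂ φ (m + 1) (Fin.natAdd _ b) (Fin.natAdd _ c2) ∈ _
        rw [coneD_succ_rr]
        exact hmin (m + 1) b c2
    · cases m with
      | zero =>
        intro (a' : Fin (F₂.rk 0))
        change coneD F₁ F₂ φ 0 a' (Fin.natAdd _ b) ∈ _
        rw [coneD_zero_right]
        exact hmin 0 a' b
      | succ m' =>
        refine Fin.addCases (fun a1 => ?_) (fun a2 => ?_)
        · change coneD F₁ F₂ φ (m' + 1) (Fin.castAdd _ a1) (Fin.natAdd _ b) ∈ _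
          rw [coneD_succ_lr]
          exact zero_mem _
        · change coneD F₁ F₂ φ (m' + 1) (Fin.natAdd _ a2) (Fin.natAdd _ b) ∈ _
          rw [coneD_succ_rr]
          exact hmin (m' + 1) a2 b

include hf hg hfg hfgr hggr in
theorem reg_ses_one_shift [Module.Finite (MvPolynomial (Fin (n + 1)) k) M₁] (r : ℤ)
    (h2 : IsRegLE (stdGr k (Fin (n + 1))) ℳ₂ (irrel (stdGr k (Fin (n + 1)))).toIdeal r)
    (h3 : IsRegLE (stdGr k (Fin (n + 1))) ℳ₃ (irrel (stdGr k (Fin (n + 1)))).toIdeal (r - 1)) :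
    IsRegLE (stdGr k (Fin (n + 1))) ℳ₁ (irrel (stdGr k (Fin (n + 1)))).toIdeal (r - a) := by
  obtain ⟨F₂, -, hF₂⟩ := h2
  obtain ⟨F₃, -, hF₃⟩ := h3
  obtain ⟨F₁, hmin⟩ := exists_minimal (k := k) (r := n) ℳ₁
  refine ⟨F₁, hmin, ?_⟩
  obtain ⟨φ, hφ1, hφ2, hφ3⟩ := exists_chainMap_shift F₁ F₂ f a hfgr
  let C := coneS F₁ F₂ a φ f g hf hg hfg hggr hφ1 hφ2 hφ3
  intro i b
  by_contra hlt
  rw [not_le] at hlt
  refine local_min_succ hneg_std hpos_std one_not_mem_irrel C F₃ i (Fin.castAdd (F₂.rk (i + 1)) b)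
    ?_ ?_ ?_
  · intro b3
    have := hF₃ (i + 1) b3
    change F₃.deg (i + 1) b3 ≠ coneDegS F₁ F₂ a (i + 1) (Fin.castAdd _ b)
    rw [coneDegS_succ_left]
    push_cast at this
    omega
  · refine Fin.addCases (fun c1 => ?_) (fun c2 => ?_)
    · change coneD F₁ F₂ φ (i + 1) (Fin.castAdd _ b) (Fin.castAdd _ c1) ∈ _
      rw [coneD_succ_ll]
      exact neg_mem (hmin i b c1)
    · change coneD F₁ F₂ φ (i + 1) (Fin.castAdd _ b) (Fin.natAdd _ c2) ∈ _
      rw [coneD_succ_lr]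
      exact zero_mem _
  · cases i with
    | zero =>
      intro (a' : Fin (F₂.rk 0))
      change coneD F₁ F₂ φ 0 a' (Fin.castAdd _ b) ∈ _
      rw [coneD_zero_left]
      refine mem_of_deg_ne hneg_std hpos_std ?_ (hφ1 0 a' b)
      have := hF₂ 0 a'
      push_cast at this hlt
      omega
    | succ i' =>
      refine Fin.addCases (fun a1 => ?_) (fun a2 => ?_)
      · change coneD F₁ F₂ φ (i' + 1) (Fin.castAdd _ a1) (Fin.castAdd _ b) ∈ _
        rw [coneD_succ_ll]
        exact neg_mem (hmin i' a1 b)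
      · change coneD F₁ F₂ φ (i' + 1) (Fin.natAdd _ a2) (Fin.castAdd _ b) ∈ _
        rw [coneD_succ_rl]
        refine mem_of_deg_ne hneg_std hpos_std ?_ (hφ1 (i' + 1) a2 b)
        have := hF₂ (i' + 1) a2
        push_cast at this hlt
        omega

end SES

section Regular

open Groth.Agent.Lib.Helper8.GrSyzHilb Groth.Agent.Lib.Helper8.GrSyzMin

variable {k : Type u} [Field k] {n : ℕ}
variable {M : Type u} [AddCommGroup M] [Module k M] [Module (MvPolynomial (Fin (n + 1)) k) M]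
  [IsScalarTower k (MvPolynomial (Fin (n + 1)) k) M]
  {ℳ : ℤ → Submodule k M} [DirectSum.Decomposition ℳ]
  [SetLike.GradedSMul (stdGr k (Fin (n + 1))) ℳ]
variable {N : Type u} [AddCommGroup N] [Module k N] [Module (MvPolynomial (Fin (n + 1)) k) N]
  [IsScalarTower k (MvPolynomial (Fin (n + 1)) k) N]
  {𝒩 : ℤ → Submodule k N} [DirectSum.Decomposition 𝒩]
  [SetLike.GradedSMul (stdGr k (Fin (n + 1))) 𝒩]

theorem isRegLE_iff_of_regular [Module.Finite (MvPolynomial (Fin (n + 1)) k) M]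
    [Module.Finite (MvPolynomial (Fin (n + 1)) k) N]
    (x : MvPolynomial (Fin (n + 1)) k) (hx : x ∈ stdGr k (Fin (n + 1)) 1)
    (hreg : IsSMulRegular M x)
    (π : M →ₗ[MvPolynomial (Fin (n + 1)) k] N) (hπ : Function.Surjective π)
    (hπg : ∀ d m, m ∈ ℳ d → π m ∈ 𝒩 d)
    (hker : LinearMap.ker π = LinearMap.range (LinearMap.lsmul (MvPolynomial (Fin (n + 1)) k) M x))
    (r : ℤ) :
    IsRegLE (stdGr k (Fin (n + 1))) ℳ (irrel (stdGr k (Fin (n + 1)))).toIdeal r ↔
      IsRegLE (stdGr k (Fin (n + 1))) 𝒩 (irrel (stdGr k (Fin (n + 1)))).toIdeal r := by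
  have hf : Function.Injective (LinearMap.lsmul (MvPolynomial (Fin (n + 1)) k) M x) := hreg
  have hfgr : ∀ d m, m ∈ ℳ d →
      LinearMap.lsmul (MvPolynomial (Fin (n + 1)) k) M x m ∈ ℳ (d + 1) := by
    intro d m hm
    have := SetLike.GradedSMul.smul_mem (A := stdGr k (Fin (n + 1))) (B := ℳ) hx hm
    rw [vadd_eq_add, add_comm] at this
    exact this
  constructor
  · intro h
    refine reg_ses_three_shift _ π 1 hf hπ hker.symm hfgr hπg r ?_ h
    rw [add_sub_cancel_right]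
    exact h
  · rintro ⟨G, -, hG⟩
    obtain ⟨F, hmin⟩ := exists_minimal (k := k) (r := n) ℳ
    refine ⟨F, hmin, ?_⟩
    let φ : (i : ℕ) → Matrix (Fin (F.rk i)) (Fin (F.rk i)) (MvPolynomial (Fin (n + 1)) k) :=
      fun i => x • (1 : Matrix (Fin (F.rk i)) (Fin (F.rk i)) (MvPolynomial (Fin (n + 1)) k))
    have hφ1 : ∀ i b' b, φ i b' b ∈ stdGr k (Fin (n + 1)) (F.deg i b + 1 - F.deg i b') := by
      intro i b' b
      change (x • (1 : Matrix _ _ (MvPolynomial (Fin (n + 1)) k))) b' b ∈ _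
      rw [Matrix.smul_apply, Matrix.one_apply]
      split_ifs with h
      · subst h
        rw [smul_eq_mul, mul_one, add_sub_cancel_left]
        exact hx
      · rw [smul_zero]
        exact zero_mem _
    have hφ2 : ∀ y, Fintype.linearCombination (MvPolynomial (Fin (n + 1)) k) F.aug
        ((φ 0).mulVec y) = LinearMap.lsmul (MvPolynomial (Fin (n + 1)) k) M x
          (Fintype.linearCombination (MvPolynomial (Fin (n + 1)) k) F.aug y) := by
      intro y
      change Fintype.linearCombination _ F.aug ((x • (1 : Matrix _ _ _)).mulVec y) = _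
      rw [Matrix.smul_mulVec, Matrix.one_mulVec, map_smul]
      rfl
    have hφ3 : ∀ i, F.d i * φ (i + 1) = φ i * F.d i := by
      intro i
      change F.d i * (x • (1 : Matrix _ _ _)) = (x • (1 : Matrix _ _ _)) * F.d i
      rw [Matrix.mul_smul, Matrix.mul_one, Matrix.smul_mul, Matrix.one_mul]
    have hφm : ∀ i b' b, φ i b' b ∈ (irrel (stdGr k (Fin (n + 1)))).toIdeal := by
      intro i b' b
      change (x • (1 : Matrix _ _ (MvPolynomial (Fin (n + 1)) k))) b' b ∈ _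
      rw [Matrix.smul_apply, Matrix.one_apply]
      split_ifs with h
      · rw [smul_eq_mul, mul_one]
        exact mem_irrel_of_mem_stdGr_pos one_pos hx
      · rw [smul_zero]
        exact zero_mem _
    let C := coneS F F 1 φ _ π hf hπ hker.symm hπg hφ1 hφ2 hφ3
    have hCmin : C.IsMinimal (irrel (stdGr k (Fin (n + 1)))).toIdeal :=
      fun i x y => coneD_entries_mem hmin hmin hφm i x y
    intro i b
    cases i with
    | zero =>
      obtain ⟨b', hb'⟩ := exists_deg_eq hneg_std one_not_mem_irrel C G hCmin 0 b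
      have := hG 0 b'
      rw [hb'] at this
      exact this
    | succ m =>
      obtain ⟨b', hb'⟩ := exists_deg_eq hneg_std one_not_mem_irrel C G hCmin (m + 1)
        (Fin.natAdd (F.rk m) b)
      have := hG (m + 1) b'
      rw [hb'] at this
      change coneDegS F F 1 (m + 1) (Fin.natAdd _ b) ≤ _ at this
      rw [coneDegS_succ_right] at this
      exact this

end Regular

end Groth.Agent.Lib.Helper8.GrSyzCone2
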