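import Groth.Agent.Lib.Helper8.GrSyzQuot
import Groth.Agent.Lib.Helper8.GrSyzCone2
import Mathlib.RingTheory.MvPolynomial.Ideal

set_option autoImplicit false
set_option linter.unusedSectionVars false
universe u

namespace Groth.Agent.Lib.Helper8.GrSyzKoszul

open GrSyz DirectSum
open Groth.Agent.Lib.Helper8.GrSyzBasic Groth.Agent.Lib.Helper8.GrSyzStrand
open Groth.Agent.Lib.Helper8.GrSyzCompare Groth.Agent.Lib.Helper8.GrSyzCone
open Groth.Agent.Lib.Helper8.GrSyzCone2 Groth.Agent.Lib.Helper8.GrSyzQuot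

section Inst

variable {k R : Type u} [Field k] [CommRing R] [Algebra k R] {𝒜 : ℤ → Submodule k R}
  [GradedAlgebra 𝒜]
variable {M : Type u} [AddCommGroup M] [Module k M] [Module R M] [IsScalarTower k R M]
  {ℳ : ℤ → Submodule k M} [DirectSum.Decomposition ℳ] [SetLike.GradedSMul 𝒜 ℳ]
variable {K : Submodule R M}

noncomputable instance quotDecompositionFact [Fact (IsHomog ℳ K)] :
    DirectSum.Decomposition (quotGr ℳ K) :=
  quotDecomposition Fact.out

instance quotGradedSMulInst : SetLike.GradedSMul 𝒜 (quotGr ℳ K) := quotGradedSMul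

end Inst

section Mono

variable {k : Type u} [Field k] {r : ℕ}
variable {M : Type u} [AddCommGroup M] [Module k M] [Module (MvPolynomial (Fin (r + 1)) k) M]
  [IsScalarTower k (MvPolynomial (Fin (r + 1)) k) M]
  {ℳ : ℤ → Submodule k M} [DirectSum.Decomposition ℳ]
  [SetLike.GradedSMul (stdGr k (Fin (r + 1))) ℳ]

theorem isRegLE_mono {𝔪 : Ideal (MvPolynomial (Fin (r + 1)) k)} {a b : ℤ} (hab : a ≤ b)
    (h : IsRegLE (stdGr k (Fin (r + 1))) ℳ 𝔪 a) : IsRegLE (stdGr k (Fin (r + 1))) ℳ 𝔪 b := by
  obtain ⟨F, hF, hG⟩ := h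
  exact ⟨F, hF, fun i c => (hG i c).trans (by omega)⟩

@[reducible] def zrk : ℕ → ℕ := fun _ => 0

noncomputable def emptyRes [Subsingleton M] : FreeRes (stdGr k (Fin (r + 1))) ℳ where
  rk := zrk
  deg := fun _ b => b.elim0
  d := fun _ => 0
  aug := fun b => b.elim0
  d_mem := fun _ a _ => a.elim0
  aug_mem := fun b => b.elim0
  aug_surjective := fun m => ⟨0, Subsingleton.elim _ _⟩
  exact_zero := by
    ext v
    have : v = 0 := Subsingleton.elim _ _
    subst this
    simp only [Submodule.zero_mem]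
  exact_succ := fun i => by
    ext v
    have : v = 0 := Subsingleton.elim _ _
    subst this
    simp

theorem isRegLE_of_subsingleton [Subsingleton M] (𝔪 : Ideal (MvPolynomial (Fin (r + 1)) k))
    (a : ℤ) : IsRegLE (stdGr k (Fin (r + 1))) ℳ 𝔪 a :=
  ⟨emptyRes, fun _ a _ => a.elim0, fun _ b => b.elim0⟩

end Mono

section Koszul

variable (k : Type u) [Field k] (r : ℕ)

noncomputable def varIdeal (j : ℕ) :
    Submodule (MvPolynomial (Fin (r + 1)) k) (MvPolynomial (Fin (r + 1)) k) :=
  Ideal.span (MvPolynomial.X '' {i : Fin (r + 1) | (i : ℕ) < j})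

theorem X_mem_stdGr (i : Fin (r + 1)) :
    (MvPolynomial.X i : MvPolynomial (Fin (r + 1)) k) ∈ stdGr k (Fin (r + 1)) 1 :=
  MvPolynomial.isWeightedHomogeneous_X k _ i

theorem varIdeal_homog (j : ℕ) : IsHomog (stdGr k (Fin (r + 1))) (varIdeal k r j) := by
  have h : (Ideal.span (MvPolynomial.X '' {i : Fin (r + 1) | (i : ℕ) < j})).IsHomogeneous
      (stdGr k (Fin (r + 1))) :=
    Ideal.homogeneous_span _ _ (by rintro _ ⟨i, _, rfl⟩; exact ⟨1, X_mem_stdGr k r i⟩)
  intro m hm d
  exact h d hm

instance varIdeal_fact (j : ℕ) : Fact (IsHomog (stdGr k (Fin (r + 1))) (varIdeal k r j)) :=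
  ⟨varIdeal_homog k r j⟩

theorem varIdeal_zero : varIdeal k r 0 = ⊥ := by
  unfold varIdeal
  have : {i : Fin (r + 1) | (i : ℕ) < 0} = ∅ := by
    ext i; simp
  rw [this, Set.image_empty, Ideal.span_empty]

theorem varIdeal_succ (j : ℕ) (hj : j < r + 1) :
    varIdeal k r (j + 1) = Ideal.span {MvPolynomial.X ⟨j, hj⟩} ⊔ varIdeal k r j := by
  unfold varIdeal
  have : {i : Fin (r + 1) | (i : ℕ) < j + 1} = insert ⟨j, hj⟩ {i : Fin (r + 1) | (i : ℕ) < j} := by
    ext i
    simp only [Set.mem_ofPred_eq, Set.mem_insert_iff, Fin.ext_iff]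
    omega
  rw [this, Set.image_insert_eq, Ideal.span_insert]

@[reducible] def oneRk : ℕ → ℕ
  | 0 => 1
  | _ + 1 => 0

noncomputable def cyclicRes :
    FreeRes (stdGr k (Fin (r + 1))) (quotGr (stdGr k (Fin (r + 1))) (varIdeal k r 0)) where
  rk := oneRk
  deg := fun _ _ => 0
  d := fun _ => 0
  aug := fun _ => Submodule.Quotient.mk 1
  d_mem := fun _ _ _ => zero_mem _
  aug_mem := fun _ => mk_mem_quotGr _ _ (SetLike.GradedOne.one_mem)
  aug_surjective := by
    intro q
    obtain ⟨p, rfl⟩ := Submodule.Quotient.mk_surjective _ q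
    refine ⟨fun _ => p, ?_⟩
    rw [Fintype.linearCombination_apply]
    simp only [Finset.univ_unique, Finset.sum_singleton]
    rw [← Submodule.Quotient.mk_smul, smul_eq_mul, mul_one]
  exact_zero := by
    ext v
    rw [LinearMap.mem_ker, Fintype.linearCombination_apply]
    simp only [Finset.univ_unique, Finset.sum_singleton]
    rw [← Submodule.Quotient.mk_smul, smul_eq_mul, mul_one, Submodule.Quotient.mk_eq_zero,
      varIdeal_zero, Submodule.mem_bot]
    constructor
    · intro h
      refine ⟨0, ?_⟩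
      rw [map_zero]
      funext b
      rw [Subsingleton.elim b default]
      exact h.symm
    · rintro ⟨w, rfl⟩
      simp
  exact_succ := fun i => by
    ext v
    have : v = 0 := Subsingleton.elim _ _
    subst this
    simp only [Submodule.zero_mem]

theorem koszul_zero :
    IsRegLE (stdGr k (Fin (r + 1))) (quotGr (stdGr k (Fin (r + 1))) (varIdeal k r 0))
      (irrel (stdGr k (Fin (r + 1)))).toIdeal 0 := by
  refine ⟨cyclicRes k r, fun i a b => ?_, fun i b => ?_⟩
  · change (0 : Matrix _ _ _) a b ∈ _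
    exact zero_mem _
  · change (0 : ℤ) ≤ 0 + i
    omega

theorem varIdeal_mono (j : ℕ) : varIdeal k r j ≤ varIdeal k r (j + 1) := by
  unfold varIdeal
  apply Ideal.span_mono
  apply Set.image_mono
  intro i hi
  exact Nat.lt_succ_of_lt hi

theorem X_mul_mem_varIdeal (j : ℕ) (hj : j < r + 1) (p : MvPolynomial (Fin (r + 1)) k)
    (h : (MvPolynomial.X (⟨j, hj⟩ : Fin (r + 1)) : MvPolynomial (Fin (r + 1)) k) * p ∈ varIdeal k r j) : p ∈ varIdeal k r j := by
  unfold varIdeal at h ⊢
  rw [MvPolynomial.mem_ideal_span_X_image] at h ⊢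
  intro m hm
  have hm' : Finsupp.single ⟨j, hj⟩ 1 + m ∈ ((MvPolynomial.X (⟨j, hj⟩ : Fin (r + 1)) : MvPolynomial (Fin (r + 1)) k) * p).support := by
    rw [MvPolynomial.mem_support_iff, MvPolynomial.coeff_X_mul]
    exact MvPolynomial.mem_support_iff.mp hm
  obtain ⟨i, hi, hne⟩ := h _ hm'
  refine ⟨i, hi, ?_⟩
  have hij : (⟨j, hj⟩ : Fin (r + 1)) ≠ i := by
    intro e
    rw [← e] at hi
    exact lt_irrefl j hi
  rwa [Finsupp.add_apply, Finsupp.single_eq_of_ne hij.symm, zero_add] at hne

theorem koszul_step (j : ℕ) (hj : j < r + 1)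
    (h : IsRegLE (stdGr k (Fin (r + 1))) (quotGr (stdGr k (Fin (r + 1))) (varIdeal k r j))
      (irrel (stdGr k (Fin (r + 1)))).toIdeal 0) :
    IsRegLE (stdGr k (Fin (r + 1))) (quotGr (stdGr k (Fin (r + 1))) (varIdeal k r (j + 1)))
      (irrel (stdGr k (Fin (r + 1)))).toIdeal 0 := by
  let π : (MvPolynomial (Fin (r + 1)) k ⧸ varIdeal k r j) →ₗ[MvPolynomial (Fin (r + 1)) k]
      (MvPolynomial (Fin (r + 1)) k ⧸ varIdeal k r (j + 1)) :=
    Submodule.mapQ (varIdeal k r j) (varIdeal k r (j + 1)) LinearMap.id (varIdeal_mono k r j)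
  have hπmk : ∀ p, π (Submodule.Quotient.mk p) = Submodule.Quotient.mk p := fun p => rfl
  refine (isRegLE_iff_of_regular (ℳ := quotGr (stdGr k (Fin (r + 1))) (varIdeal k r j))
    (𝒩 := quotGr (stdGr k (Fin (r + 1))) (varIdeal k r (j + 1)))
    (MvPolynomial.X ⟨j, hj⟩) (X_mem_stdGr k r _) ?_ π ?_ ?_ ?_ 0).mp h
  · intro q q' hqq
    obtain ⟨p, rfl⟩ := Submodule.Quotient.mk_surjective _ q
    obtain ⟨p', rfl⟩ := Submodule.Quotient.mk_surjective _ q'
    have h1 : (Submodule.Quotient.mk (MvPolynomial.X ⟨j, hj⟩ * p) :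
        MvPolynomial (Fin (r + 1)) k ⧸ varIdeal k r j) =
        Submodule.Quotient.mk (MvPolynomial.X ⟨j, hj⟩ * p') := hqq
    rw [Submodule.Quotient.eq, ← mul_sub] at h1
    rw [Submodule.Quotient.eq]
    exact X_mul_mem_varIdeal k r j hj _ h1
  · intro q
    obtain ⟨p, rfl⟩ := Submodule.Quotient.mk_surjective _ q
    exact ⟨Submodule.Quotient.mk p, hπmk p⟩
  · rintro d q ⟨p, hp, rfl⟩
    exact mk_mem_quotGr _ _ hp
  · ext q
    obtain ⟨p, rfl⟩ := Submodule.Quotient.mk_surjective _ q
    rw [LinearMap.mem_ker, hπmk, Submodule.Quotient.mk_eq_zero, varIdeal_succ k r j hj,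
      LinearMap.mem_range]
    constructor
    · intro hp
      obtain ⟨u, hu, v, hv, rfl⟩ := Submodule.mem_sup.mp hp
      obtain ⟨c, rfl⟩ := Ideal.mem_span_singleton'.mp hu
      refine ⟨Submodule.Quotient.mk c, ?_⟩
      change (MvPolynomial.X (⟨j, hj⟩ : Fin (r + 1)) : MvPolynomial (Fin (r + 1)) k) •
        (Submodule.Quotient.mk c : MvPolynomial (Fin (r + 1)) k ⧸ varIdeal k r j) = _
      rw [← Submodule.Quotient.mk_smul, Submodule.Quotient.eq, smul_eq_mul, mul_comm]
      simpa using (varIdeal k r j).neg_mem hv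
    · rintro ⟨q', hq'⟩
      obtain ⟨c, rfl⟩ := Submodule.Quotient.mk_surjective _ q'
      change (MvPolynomial.X (⟨j, hj⟩ : Fin (r + 1)) : MvPolynomial (Fin (r + 1)) k) •
        (Submodule.Quotient.mk c : MvPolynomial (Fin (r + 1)) k ⧸ varIdeal k r j) = _ at hq'
      rw [← Submodule.Quotient.mk_smul, Submodule.Quotient.eq, smul_eq_mul] at hq'
      have : p = MvPolynomial.X ⟨j, hj⟩ * c - (MvPolynomial.X ⟨j, hj⟩ * c - p) := by ring
      rw [this]
      exact Submodule.sub_mem _
        (Submodule.mem_sup_left (Ideal.mul_mem_right _ _ (Ideal.mem_span_singleton_self _)))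
        (Submodule.mem_sup_right hq')

theorem koszul (j : ℕ) (hj : j ≤ r + 1) :
    IsRegLE (stdGr k (Fin (r + 1))) (quotGr (stdGr k (Fin (r + 1))) (varIdeal k r j))
      (irrel (stdGr k (Fin (r + 1)))).toIdeal 0 := by
  induction j with
  | zero => exact koszul_zero k r
  | succ j ih => exact koszul_step k r j (by omega) (ih (by omega))

theorem mem_varIdeal_top_iff (p : MvPolynomial (Fin (r + 1)) k) :
    p ∈ varIdeal k r (r + 1) ↔ MvPolynomial.constantCoeff p = 0 := by
  unfold varIdeal
  rw [MvPolynomial.mem_ideal_span_X_image]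
  constructor
  · intro h
    by_contra hne
    have h0 : (0 : Fin (r + 1) →₀ ℕ) ∈ p.support := by
      rw [MvPolynomial.mem_support_iff]
      exact hne
    obtain ⟨i, -, hi⟩ := h 0 h0
    exact hi rfl
  · intro h m hm
    have hm0 : m ≠ 0 := by
      rintro rfl
      rw [MvPolynomial.mem_support_iff] at hm
      exact hm h
    obtain ⟨i, hi⟩ : ∃ i, m i ≠ 0 := by
      by_contra hall
      push Not at hall
      exact hm0 (Finsupp.ext hall)
    exact ⟨i, i.isLt, hi⟩

end Koszul

section FiniteLength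

variable {k : Type u} [Field k] {r : ℕ}

theorem isRegLE_of_length (ν : ℕ) : ∀ (M : Type u) [AddCommGroup M] [Module k M]
    [Module (MvPolynomial (Fin (r + 1)) k) M] [IsScalarTower k (MvPolynomial (Fin (r + 1)) k) M]
    [Module.Finite (MvPolynomial (Fin (r + 1)) k) M]
    (ℳ : ℤ → Submodule k M) [DirectSum.Decomposition ℳ]
    [SetLike.GradedSMul (stdGr k (Fin (r + 1))) ℳ]
    (ρ : ℤ), Module.length (MvPolynomial (Fin (r + 1)) k) M = ν → (∀ t, ρ < t → ℳ t = ⊥) →
    IsRegLE (stdGr k (Fin (r + 1))) ℳ (irrel (stdGr k (Fin (r + 1)))).toIdeal ρ := by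
  induction ν using Nat.strong_induction_on with
  | _ ν ih =>
    intro M _ _ _ _ _ ℳ _ _ ρ hlen hvan
    by_cases hsub : Subsingleton M
    · exact isRegLE_of_subsingleton _ _
    · rw [not_subsingleton_iff_nontrivial] at hsub
      have hfl : IsFiniteLength (MvPolynomial (Fin (r + 1)) k) M :=
        Module.length_ne_top_iff.mp (by rw [hlen]; exact ENat.natCast_ne_top _)
      obtain ⟨hnoeth, hart⟩ := isFiniteLength_iff_isNoetherian_isArtinian.mp hfl
      have hne : ∃ t, ℳ t ≠ ⊥ := by
        classical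
        by_contra hall
        push Not at hall
        obtain ⟨m, hm⟩ := exists_ne (0 : M)
        apply hm
        rw [← DirectSum.sum_support_decompose ℳ m]
        apply Finset.sum_eq_zero
        intro t _
        have h1 : ((decompose ℳ m t : ℳ t) : M) ∈ ℳ t := (decompose ℳ m t).2
        have h2 : ∀ y : M, y ∈ ℳ t → y = 0 := by
          intro y hy
          rw [hall t] at hy
          exact (Submodule.mem_bot k).1 hy
        exact h2 _ h1
      have hb : ∃ b : ℤ, ∀ z, ℳ z ≠ ⊥ → z ≤ b :=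
        ⟨ρ, fun z hz => by
          by_contra h
          exact hz (hvan z (not_le.mp h))⟩
      obtain ⟨d, hd, hdmax⟩ := Int.exists_greatest_of_bdd hb hne
      have hdρ : d ≤ ρ := by
        by_contra h
        exact hd (hvan d (not_le.mp h))
      obtain ⟨m, hm, hm0⟩ := Submodule.exists_mem_ne_zero_of_ne_bot hd
      have hXm : ∀ i : Fin (r + 1),
          (MvPolynomial.X i : MvPolynomial (Fin (r + 1)) k) • m = 0 := by
        intro i
        have h1 := SetLike.GradedSMul.smul_mem (A := stdGr k (Fin (r + 1))) (B := ℳ)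
          (X_mem_stdGr k r i) hm
        have h2 : ℳ (1 + d) = ⊥ := by
          by_contra h
          have := hdmax _ h
          omega
        rw [vadd_eq_add, h2] at h1
        exact (Submodule.mem_bot k).1 h1
      let K : Submodule (MvPolynomial (Fin (r + 1)) k) M :=
        Submodule.span (MvPolynomial (Fin (r + 1)) k) {m}
      have hK : IsHomog ℳ K := by
        intro y hy t
        obtain ⟨s, rfl⟩ := Submodule.mem_span_singleton.mp hy
        rw [coe_decompose_smul_of_right_mem (stdGr k (Fin (r + 1))) ℳ t hm s]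
        exact Submodule.smul_mem _ _ (Submodule.mem_span_singleton_self m)
      have : Fact (IsHomog ℳ K) := ⟨hK⟩
      have hKne : K ≠ ⊥ := by
        intro h
        have : m ∈ K := Submodule.mem_span_singleton_self m
        rw [h] at this
        exact hm0 ((Submodule.mem_bot _).1 this)
      have hlenQ : Module.length (MvPolynomial (Fin (r + 1)) k) (M ⧸ K) < (ν : ℕ∞) := by
        rw [← hlen]
        exact Submodule.length_quotient_lt K hKne
      obtain ⟨ν', hν'⟩ : ∃ ν' : ℕ,
          Module.length (MvPolynomial (Fin (r + 1)) k) (M ⧸ K) = ν' :=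
        (ENat.ne_top_iff_exists.mp (ne_top_of_lt hlenQ)).imp fun _ h => h.symm
      have hν'lt : ν' < ν := by
        rw [hν'] at hlenQ
        exact_mod_cast hlenQ
      have hQ := ih ν' hν'lt (M ⧸ K) (quotGr ℳ K) ρ hν'
        (fun t ht => by rw [quotGr, hvan t ht, Submodule.map_bot])
      have hker : varIdeal k r (r + 1) ≤
          LinearMap.ker (LinearMap.toSpanSingleton (MvPolynomial (Fin (r + 1)) k) M m) := by
        unfold varIdeal
        rw [Ideal.span_le]
        rintro _ ⟨i, _, rfl⟩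
        exact hXm i
      let f : (MvPolynomial (Fin (r + 1)) k ⧸ varIdeal k r (r + 1)) →ₗ[MvPolynomial (Fin (r + 1)) k]
          M := (varIdeal k r (r + 1)).liftQ
            (LinearMap.toSpanSingleton (MvPolynomial (Fin (r + 1)) k) M m) hker
      have hfmk : ∀ s, f (Submodule.Quotient.mk s) = s • m := fun s => rfl
      have hf : Function.Injective f := by
        rw [← LinearMap.ker_eq_bot, LinearMap.ker_eq_bot']
        intro q hq
        obtain ⟨s, rfl⟩ := Submodule.Quotient.mk_surjective _ q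
        rw [hfmk] at hq
        rw [Submodule.Quotient.mk_eq_zero, mem_varIdeal_top_iff]
        by_contra hc
        have hs' : s - MvPolynomial.C (MvPolynomial.constantCoeff s) ∈ varIdeal k r (r + 1) := by
          rw [mem_varIdeal_top_iff]
          simp
        have h1 : (s - MvPolynomial.C (MvPolynomial.constantCoeff s)) • m = 0 := hker hs'
        rw [sub_smul, hq, zero_sub, neg_eq_zero] at h1
        have h2 : (MvPolynomial.C (MvPolynomial.constantCoeff s) :
            MvPolynomial (Fin (r + 1)) k) • m = MvPolynomial.constantCoeff s • m :=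
          algebraMap_smul _ _ _
        rw [h2] at h1
        rcases smul_eq_zero.mp h1 with h | h
        · exact hc h
        · exact hm0 h
      have hrange : LinearMap.range f = LinearMap.ker K.mkQ := by
        rw [Submodule.ker_mkQ, Submodule.range_liftQ, LinearMap.range_toSpanSingleton]
      have hfgr : ∀ t q, q ∈ quotGr (stdGr k (Fin (r + 1))) (varIdeal k r (r + 1)) t →
          f q ∈ ℳ (t + d) := by
        rintro t _ ⟨s, hs, rfl⟩
        exact SetLike.GradedSMul.smul_mem (A := stdGr k (Fin (r + 1))) (B := ℳ) hs hm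
      exact reg_ses_two_shift f K.mkQ d hf (Submodule.mkQ_surjective K) hrange hfgr
        (fun _ _ hm' => mk_mem_quotGr ℳ K hm') ρ
        (isRegLE_mono (by omega) (koszul k r (r + 1) le_rfl)) hQ

end FiniteLength

end Groth.Agent.Lib.Helper8.GrSyzKoszul
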