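import Groth.Agent.Lib.Helper8.GrLCSyz
import Groth.Agent.Lib.Helper8.GrLCSub
import Groth.Agent.Lib.Helper8.GrSyzKoszul

set_option autoImplicit false
set_option linter.unusedSectionVars false
universe u

open DirectSum GrLC GrSyz
open Groth.Agent.Lib.Helper30
open Groth.Agent.Lib.Helper8.GrLCBase Groth.Agent.Lib.Helper8.GrLCProd
open Groth.Agent.Lib.Helper8.GrLCLES Groth.Agent.Lib.Helper8.GrLCTors
open Groth.Agent.Lib.Helper8.GrLCShift Groth.Agent.Lib.Helper8.GrLCFree
open Groth.Agent.Lib.Helper8.GrLCCone Groth.Agent.Lib.Helper8.GrLCSub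

namespace Groth.Agent.Lib.Helper8.GrLCPoly

section Step

variable {R : Type u} [CommRing R] {𝒜 : ℤ → AddSubgroup R} [GradedRing 𝒜]
  (a : HomogeneousIdeal 𝒜)

/-- The quotient of the ring by a homogeneous ideal, as a graded module. -/
noncomputable def QM (I : Submodule R R) (hI : I.IsHomogeneous 𝒜) : GMod.{u} 𝒜 :=
  gmodQuot 𝒜 𝒜 I hI

variable (I J : Submodule R R) (hI : I.IsHomogeneous 𝒜) (hJ : J.IsHomogeneous 𝒜)
  (x : R) (hx : x ∈ 𝒜 1) (hxa : x ∈ a.toIdeal)
  (hIJ : J = Ideal.span {x} ⊔ I) (hreg : ∀ p : R, x * p ∈ I → p ∈ I)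

include hIJ in
theorem le_of_eq_sup : I ≤ J := by
  rw [hIJ]
  exact le_sup_right

/-- The projection `R/I → R/J`. -/
noncomputable def proj : (R ⧸ I) →ₗ[R] (R ⧸ J) :=
  Submodule.mapQ I J LinearMap.id (le_of_eq_sup I J x hIJ)

theorem proj_mk (r : R) : proj I J x hIJ (I.mkQ r) = J.mkQ r := rfl

theorem proj_surjective : Function.Surjective (proj I J x hIJ) := by
  intro y
  obtain ⟨r, rfl⟩ := J.mkQ_surjective y
  exact ⟨I.mkQ r, rfl⟩

theorem proj_gr : IsGrHom (quotGrMod 𝒜 I) (quotGrMod 𝒜 J) (proj I J x hIJ) := by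
  rintro g y ⟨r, hr, rfl⟩
  exact ⟨r, hr, rfl⟩

theorem proj_ker : LinearMap.ker (proj I J x hIJ) =
    LinearMap.range (x • (LinearMap.id : (R ⧸ I) →ₗ[R] (R ⧸ I))) := by
  apply le_antisymm
  · intro y hy
    obtain ⟨r, rfl⟩ := I.mkQ_surjective y
    rw [LinearMap.mem_ker, proj_mk, Submodule.mkQ_apply, Submodule.Quotient.mk_eq_zero, hIJ,
      Submodule.mem_sup] at hy
    obtain ⟨s, hs, i', hi', rfl⟩ := hy
    obtain ⟨c, rfl⟩ := Ideal.mem_span_singleton'.mp hs
    refine ⟨I.mkQ c, ?_⟩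
    rw [LinearMap.smul_apply, LinearMap.id_apply, ← map_smul, smul_eq_mul, Submodule.mkQ_apply,
      Submodule.mkQ_apply, Submodule.Quotient.eq]
    have : x * c - (c * x + i') = -i' := by ring
    rw [this]
    exact I.neg_mem hi'
  · rintro _ ⟨y, rfl⟩
    obtain ⟨r, rfl⟩ := I.mkQ_surjective y
    rw [LinearMap.mem_ker, LinearMap.smul_apply, LinearMap.id_apply, ← map_smul, proj_mk,
      Submodule.mkQ_apply, Submodule.Quotient.mk_eq_zero, hIJ, smul_eq_mul]
    apply Submodule.mem_sup_left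
    exact Ideal.mul_mem_right _ _ (Ideal.subset_span rfl)

include hreg in
theorem quot_regular : IsSMulRegular (R ⧸ I) x := by
  intro y y' hyy'
  obtain ⟨p, rfl⟩ := I.mkQ_surjective y
  obtain ⟨q, rfl⟩ := I.mkQ_surjective y'
  have h1 : I.mkQ (x • p) = I.mkQ (x • q) := by
    rw [map_smul, map_smul]
    exact hyy'
  rw [Submodule.mkQ_apply, Submodule.mkQ_apply, Submodule.Quotient.eq] at h1 ⊢
  apply hreg
  have : x * (p - q) = x • p - x • q := by
    rw [smul_eq_mul, smul_eq_mul]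
    ring
  rw [this]
  exact h1

include hx hxa hIJ hreg in
theorem step (t : ℤ) (h : ∀ (i : ℕ) (e : ℤ), t < e + i → VanM a (QM J hJ).gr i e) :
    ∀ (i : ℕ) (e : ℤ), t < e + i → VanM a (QM I hI).gr i e := by
  intro i e he
  have hr : IsSMulRegular (QM I hI).carrier x := quot_regular I x hreg
  cases i with
  | zero => exact vanM_zero_of_regular a hr hxa e
  | succ i =>
    let π : (QM I hI).carrier →ₗ[R] (QM J hJ).carrier := proj I J x hIJ
    have := van_of_regular (ℳ := (QM I hI).gr) (𝒩 := (QM J hJ).gr) a hx hr π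
      (proj_surjective I J x hIJ)
      (proj_gr I J x hIJ) (proj_ker I J x hIJ) hxa i (fun g => t < g + i)
      (fun g hg => by omega) (fun g hg => h i g hg) (e + 1) (by push_cast at he; omega)
    rwa [add_neg_cancel_right] at this

end Step

section Poly

open Groth.Agent.Lib.Helper8.GrSyzKoszul Groth.Agent.Lib.Helper8.GrSyzBasic

variable (k : Type u) [Field k] (r : ℕ)

/-- The standard grading by additive subgroups. -/
noncomputable abbrev gS : ℤ → AddSubgroup (MvPolynomial (Fin (r + 1)) k) :=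
  agr (stdGr k (Fin (r + 1)))

/-- The irrelevant ideal for the grading by additive subgroups. -/
noncomputable abbrev mS : HomogeneousIdeal (gS k r) :=
  idealA (stdGr k (Fin (r + 1))) (irrel (stdGr k (Fin (r + 1))))

theorem varIdeal_homogA (j : ℕ) : (varIdeal k r j).IsHomogeneous (gS k r) := by
  intro i m hm
  rw [coe_decompose_agr]
  exact varIdeal_homog k r j m hm i

theorem irrel_le_varIdeal : (irrel (stdGr k (Fin (r + 1)))).toIdeal ≤ varIdeal k r (r + 1) := by
  intro p hp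
  rw [mem_varIdeal_top_iff]
  exact constantCoeff_eq_zero_of_mem_irrel hp

theorem gam_top : gam (irrel (stdGr k (Fin (r + 1)))).toIdeal
    (MvPolynomial (Fin (r + 1)) k ⧸ varIdeal k r (r + 1)) = ⊤ := by
  rw [eq_top_iff]
  intro y _
  refine ⟨1, fun s hs => ?_⟩
  rw [pow_one] at hs
  obtain ⟨p, rfl⟩ := (varIdeal k r (r + 1)).mkQ_surjective y
  rw [← map_smul]
  apply (Submodule.Quotient.mk_eq_zero _).mpr
  rw [smul_eq_mul]
  exact Ideal.mul_mem_right _ _ (irrel_le_varIdeal k r hs)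

theorem base (i : ℕ) (e : ℤ) (he : 0 < e + i) :
    VanM (mS k r) (QM (varIdeal k r (r + 1)) (varIdeal_homogA k r (r + 1))).gr i e := by
  cases i with
  | zero =>
    rw [vanM_zero_iff]
    rintro m ⟨p, hp, rfl⟩ _
    have he' : 0 < e := by simpa using he
    have : p ∈ (irrel (stdGr k (Fin (r + 1)))).toIdeal := mem_irrel_of_mem_stdGr_pos he' hp
    exact (Submodule.Quotient.mk_eq_zero _).mpr (irrel_le_varIdeal k r this)
  | succ i =>
    apply vanM_of_tors
    exact gam_top k r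

theorem all (m : ℕ) (hm : m ≤ r + 1) (i : ℕ) (e : ℤ) (he : 0 < e + i) :
    VanM (mS k r) (QM (varIdeal k r (r + 1 - m)) (varIdeal_homogA k r (r + 1 - m))).gr i e := by
  induction m generalizing i e with
  | zero => exact base k r i e he
  | succ m ih =>
    have hj : r + 1 - (m + 1) < r + 1 := by omega
    have hj1 : r + 1 - (m + 1) + 1 = r + 1 - m := by omega
    have hIJ : varIdeal k r (r + 1 - (m + 1) + 1) =
        Ideal.span {MvPolynomial.X ⟨r + 1 - (m + 1), hj⟩} ⊔ varIdeal k r (r + 1 - (m + 1)) :=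
      varIdeal_succ k r _ hj
    refine step (mS k r) (varIdeal k r (r + 1 - (m + 1))) (varIdeal k r (r + 1 - (m + 1) + 1))
      (varIdeal_homogA k r _) (varIdeal_homogA k r _) (MvPolynomial.X ⟨r + 1 - (m + 1), hj⟩)
      (X_mem_stdGr k r _) (mem_irrel_of_mem_stdGr_pos one_pos (X_mem_stdGr k r _)) hIJ
      (X_mul_mem_varIdeal k r _ hj) 0 ?_ i e he
    intro i' e' he'
    have := ih (by omega) i' e' he'
    rw [← hj1] at this
    exact this

/-- The polynomial ring has regularity zero with respect to local cohomology. -/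
theorem HR_poly (i : ℕ) (e : ℤ) (he : 0 < e + i) : VanM (mS k r) (gS k r) i e := by
  have h := all k r (r + 1) le_rfl i e he
  have h0 : varIdeal k r (r + 1 - (r + 1)) = ⊥ := by
    rw [Nat.sub_self]
    exact varIdeal_zero k r
  let f : MvPolynomial (Fin (r + 1)) k ≃ₗ[MvPolynomial (Fin (r + 1)) k]
      (QM (varIdeal k r (r + 1 - (r + 1))) (varIdeal_homogA k r _)).carrier :=
    (Submodule.quotEquivOfEqBot _ h0).symm
  refine (vanM_of_equiv (mS k r) f ?_ ?_ i e).mpr h
  · intro g p hp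
    exact ⟨p, hp, rfl⟩
  · rintro g y ⟨p, hp, rfl⟩
    exact hp

end Poly

end Groth.Agent.Lib.Helper8.GrLCPoly
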