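import Groth.Agent.Lib.Helper8.GrCanPoly
import Groth.Agent.Lib.Helper8.GrLCPoly
import Mathlib.RingTheory.KrullDimension.Polynomial

/-!
# The canonical module of a weighted polynomial ring
-/

set_option autoImplicit false
set_option linter.unusedSectionVars false
universe u

attribute [local instance] MvPolynomial.weightedGradedAlgebra

open DirectSum GrLC
open Groth.Agent.Lib.Helper30
open Groth.Agent.Lib.Helper8.GrLCSub

namespace Groth.Agent.Lib.Helper8.GrCanPolyW

section Weights

variable (k : Type u) [Field k] (N : ℕ) (w : Fin N → ℤ) (hw : ∀ i, 0 < w i)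

include hw in
theorem weight_nonneg (d : Fin N →₀ ℕ) : 0 ≤ Finsupp.weight w d := by
  rw [Finsupp.weight_apply, Finsupp.sum_fintype d (fun i c => c • w i) (fun _ => zero_smul _ _)]
  apply Finset.sum_nonneg
  intro i _
  exact smul_nonneg (Nat.zero_le _) (hw i).le

include hw in
theorem eq_zero_of_weight_eq_zero (d : Fin N →₀ ℕ) (h : Finsupp.weight w d = 0) : d = 0 := by
  rw [Finsupp.weight_apply, Finsupp.sum_fintype d (fun i c => c • w i) (fun _ => zero_smul _ _)] at h
  have h1 := (Finset.sum_eq_zero_iff_of_nonneg (fun i _ =>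
    smul_nonneg (Nat.zero_le (d i)) (hw i).le)).mp h
  ext i
  have h2 := h1 i (Finset.mem_univ i)
  rw [nsmul_eq_mul] at h2
  rcases mul_eq_zero.mp h2 with h3 | h3
  · exact_mod_cast h3
  · exact absurd h3 (hw i).ne'

include hw in
theorem hpos_W : ∀ n : ℤ, n < 0 → agr (MvPolynomial.weightedHomogeneousSubmodule k w) n = ⊥ := by
  intro n hn
  rw [eq_bot_iff]
  intro p hp
  have hp' : MvPolynomial.IsWeightedHomogeneous w p n := hp
  rw [AddSubgroup.mem_bot]
  ext d
  rw [MvPolynomial.coeff_zero]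
  by_contra hne
  have := hp' hne
  have h2 := weight_nonneg N w hw d
  omega

include hw in
theorem eq_C_of_mem_zero {p : MvPolynomial (Fin N) k}
    (hp : p ∈ MvPolynomial.weightedHomogeneousSubmodule k w 0) :
    p = MvPolynomial.C (MvPolynomial.constantCoeff p) := by
  have hp' : MvPolynomial.IsWeightedHomogeneous w p 0 := hp
  ext d
  rw [MvPolynomial.coeff_C]
  by_cases hd : 0 = d
  · rw [if_pos hd, ← hd]
    rfl
  · rw [if_neg hd]
    by_contra hne
    exact hd (eq_zero_of_weight_eq_zero N w hw d (hp' hne)).symm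

theorem C_mem_deg0 (a : k) :
    (MvPolynomial.C a : MvPolynomial (Fin N) k) ∈
      deg0 (agr (MvPolynomial.weightedHomogeneousSubmodule k w)) := by
  change MvPolynomial.C a ∈ MvPolynomial.weightedHomogeneousSubmodule k w 0
  rw [MvPolynomial.mem_weightedHomogeneousSubmodule]
  exact MvPolynomial.isWeightedHomogeneous_C _ _

/-- The constants, as a ring map onto the degree-zero subring. -/
noncomputable def cHom : k →+* deg0 (agr (MvPolynomial.weightedHomogeneousSubmodule k w)) :=
  (MvPolynomial.C : k →+* MvPolynomial (Fin N) k).codRestrict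
    (deg0 (agr (MvPolynomial.weightedHomogeneousSubmodule k w))) (C_mem_deg0 k N w)

include hw in
theorem cHom_surjective : Function.Surjective (cHom k N w) := by
  rintro ⟨p, hp⟩
  refine ⟨MvPolynomial.constantCoeff p, ?_⟩
  apply Subtype.ext
  have hp' : p ∈ MvPolynomial.weightedHomogeneousSubmodule k w 0 := hp
  exact (eq_C_of_mem_zero k N w hw hp').symm

include hw in
theorem isField_deg0 : IsField (deg0 (agr (MvPolynomial.weightedHomogeneousSubmodule k w))) := by
  have hinj : Function.Injective (cHom k N w) := (cHom k N w).injective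
  let e : k ≃+* deg0 (agr (MvPolynomial.weightedHomogeneousSubmodule k w)) :=
    RingEquiv.ofBijective (cHom k N w) ⟨hinj, cHom_surjective k N w hw⟩
  exact e.symm.toMulEquiv.isField (Field.toIsField k)

theorem X_mem (i : Fin N) : (MvPolynomial.X i : MvPolynomial (Fin N) k) ∈
    agr (MvPolynomial.weightedHomogeneousSubmodule k w) (w i) := by
  change MvPolynomial.X i ∈ MvPolynomial.weightedHomogeneousSubmodule k w (w i)
  rw [MvPolynomial.mem_weightedHomogeneousSubmodule]
  exact MvPolynomial.isWeightedHomogeneous_X k w i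

include hw in
/-- The irrelevant ideal is generated by the variables. -/
theorem irrel_eq_span :
    Ideal.span (⋃ n ∈ Set.Ioi (0 : ℤ),
      (agr (MvPolynomial.weightedHomogeneousSubmodule k w) n : Set (MvPolynomial (Fin N) k))) =
    Ideal.span (Set.range (fun i : Fin N => (MvPolynomial.X i : MvPolynomial (Fin N) k))) := by
  apply le_antisymm
  · rw [Ideal.span_le]
    intro p hp
    simp only [Set.mem_iUnion, Set.mem_Ioi, SetLike.mem_coe, exists_prop] at hp
    obtain ⟨n, hn, hpn⟩ := hp
    have hp' : MvPolynomial.IsWeightedHomogeneous w p n := hpn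
    have hX : Set.range (fun i : Fin N => (MvPolynomial.X i : MvPolynomial (Fin N) k)) =
        MvPolynomial.X '' (Set.univ : Set (Fin N)) := Set.image_univ.symm
    rw [hX, SetLike.mem_coe, MvPolynomial.mem_ideal_span_X_image]
    intro d hd
    rw [MvPolynomial.mem_support_iff] at hd
    have h1 := hp' hd
    have hd0 : d ≠ 0 := by
      rintro rfl
      rw [map_zero] at h1
      omega
    obtain ⟨i, hi⟩ : ∃ i, d i ≠ 0 := by
      by_contra hall
      push_neg at hall
      exact hd0 (Finsupp.ext hall)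
    exact ⟨i, Set.mem_univ i, hi⟩
  · rw [Ideal.span_le]
    rintro _ ⟨i, rfl⟩
    apply Ideal.subset_span
    simp only [Set.mem_iUnion, Set.mem_Ioi, SetLike.mem_coe, exists_prop]
    exact ⟨w i, hw i, X_mem k N w i⟩

/-- The variables form a regular sequence. -/
theorem X_weaklyRegular : RingTheory.Sequence.IsWeaklyRegular (MvPolynomial (Fin N) k)
    (List.ofFn (fun i : Fin N => (MvPolynomial.X i : MvPolynomial (Fin N) k))) := by
  refine ⟨fun i hi => ?_⟩
  have hiN : i < N := by simpa using hi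
  have hI : (Ideal.ofList ((List.ofFn (fun i : Fin N =>
      (MvPolynomial.X i : MvPolynomial (Fin N) k))).take i) •
      (⊤ : Submodule (MvPolynomial (Fin N) k) (MvPolynomial (Fin N) k))) =
      Ideal.span (MvPolynomial.X '' {j : Fin N | (j : ℕ) < i}) := by
    have h1 : ∀ J : Ideal (MvPolynomial (Fin N) k),
        J • (⊤ : Submodule (MvPolynomial (Fin N) k) (MvPolynomial (Fin N) k)) = J :=
      fun J => Ideal.mul_top J
    rw [h1]
    unfold Ideal.ofList
    congr 1
    ext p
    simp only [Set.mem_setOf_eq, Set.mem_image]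
    rw [List.mem_take_iff_getElem]
    constructor
    · rintro ⟨j, hj, rfl⟩
      rw [List.getElem_ofFn]
      have hj' : j < i ∧ j < N := by simpa using hj
      exact ⟨⟨j, hj'.2⟩, hj'.1, rfl⟩
    · rintro ⟨j, hj, rfl⟩
      refine ⟨(j : ℕ), ?_, ?_⟩
      · simp only [List.length_ofFn, lt_min_iff]
        exact ⟨hj, j.isLt⟩
      · rw [List.getElem_ofFn]
  rw [List.getElem_ofFn]
  apply Groth.Agent.Lib.Helper8.GrLCPoly.quot_regular
  intro p h
  rw [hI] at h ⊢
  rw [MvPolynomial.mem_ideal_span_X_image] at h ⊢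
  intro d hd
  have hd' : Finsupp.single (⟨i, hiN⟩ : Fin N) 1 + d ∈
      ((MvPolynomial.X (⟨i, hiN⟩ : Fin N) : MvPolynomial (Fin N) k) * p).support := by
    rw [MvPolynomial.mem_support_iff, MvPolynomial.coeff_X_mul]
    exact MvPolynomial.mem_support_iff.mp hd
  obtain ⟨j, hj, hne⟩ := h _ hd'
  refine ⟨j, hj, ?_⟩
  have hij : (⟨i, hiN⟩ : Fin N) ≠ j := by
    intro e
    rw [← e] at hj
    exact lt_irrefl i hj
  rwa [Finsupp.add_apply, Finsupp.single_eq_of_ne hij.symm, zero_add] at hne

theorem dim_poly : ringKrullDim (MvPolynomial (Fin N) k) = ((N : ℕ) : WithBot ℕ∞) := by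
  rw [MvPolynomial.ringKrullDim_of_isNoetherianRing, ringKrullDim_eq_zero_of_field, zero_add,
    Nat.card_eq_fintype_card, Fintype.card_fin]

end Weights

section Main

variable (k : Type u) [Field k] (N : ℕ) (w : Fin N → ℤ) (hw : ∀ i, 0 < w i)

include hw in
/-- The canonical module of the weighted polynomial ring is the ring shifted by the sum of the
weights. -/
theorem main (m : HomogeneousIdeal (MvPolynomial.weightedHomogeneousSubmodule k w))
    (hmsp : m.toIdeal = Ideal.span (⋃ n ∈ Set.Ioi (0 : ℤ),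
      (MvPolynomial.weightedHomogeneousSubmodule k w n : Set (MvPolynomial (Fin N) k))))
    (I : StarInjRes (MvPolynomial.weightedHomogeneousSubmodule k w)
      (MvPolynomial.weightedHomogeneousSubmodule k w))
    (E' : Type u) [AddCommGroup E'] [Module (MvPolynomial (Fin N) k) E'] (𝓔 : ℤ → AddSubgroup E')
    [DirectSum.Decomposition 𝓔]
    [SetLike.GradedSMul (MvPolynomial.weightedHomogeneousSubmodule k w) 𝓔]
    (e : (MvPolynomial (Fin N) k ⧸ m.toIdeal) →ₗ[MvPolynomial (Fin N) k] E')
    (he : IsStarInjHull (MvPolynomial.weightedHomogeneousSubmodule k w)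
      (quotGr (MvPolynomial.weightedHomogeneousSubmodule k w) m) 𝓔 e)
    (C : Type u) [AddCommGroup C] [Module (MvPolynomial (Fin N) k) C] (𝒞 : ℤ → AddSubgroup C)
    [DirectSum.Decomposition 𝒞]
    [SetLike.GradedSMul (MvPolynomial.weightedHomogeneousSubmodule k w) 𝒞]
    (hC : IsStarCanonical (MvPolynomial.weightedHomogeneousSubmodule k w) 𝒞 𝓔 m N I) :
    ∃ f : MvPolynomial (Fin N) k →ₗ[MvPolynomial (Fin N) k] C, Function.Bijective f ∧
      IsGrHomDeg (MvPolynomial.weightedHomogeneousSubmodule k w) 𝒞 f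
        ((Finset.univ : Finset (Fin N)).sum w) := by
  classical
  obtain ⟨hfin, φC, hφC⟩ := hC
  let 𝒜' : ℤ → AddSubgroup (MvPolynomial (Fin N) k) :=
    agr (MvPolynomial.weightedHomogeneousSubmodule k w)
  let a' : HomogeneousIdeal 𝒜' := idealA (MvPolynomial.weightedHomogeneousSubmodule k w) m
  let I' : StarInjRes 𝒜' 𝒜' := resA (MvPolynomial.weightedHomogeneousSubmodule k w)
    (MvPolynomial.weightedHomogeneousSubmodule k w) I
  letI i1 : SetLike.GradedSMul 𝒜' 𝓔 := ⟨fun {_ _ _ _} ha hm =>
    SetLike.GradedSMul.smul_mem (A := MvPolynomial.weightedHomogeneousSubmodule k w) (B := 𝓔) ha hm⟩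
  letI i2 : SetLike.GradedSMul 𝒜' 𝒞 := ⟨fun {_ _ _ _} ha hm =>
    SetLike.GradedSMul.smul_mem (A := MvPolynomial.weightedHomogeneousSubmodule k w) (B := 𝒞) ha hm⟩
  have hmsp' : a'.toIdeal = Ideal.span (⋃ n ∈ Set.Ioi (0 : ℤ),
      (𝒜' n : Set (MvPolynomial (Fin N) k))) := hmsp
  have hinj' : IsStarInj 𝒜' 𝓔 := by
    intro A B f hf hinj g hg
    obtain ⟨h', hh', hc⟩ := he.starInj
      (gmodB (MvPolynomial.weightedHomogeneousSubmodule k w) A)
      (gmodB (MvPolynomial.weightedHomogeneousSubmodule k w) B) f hf hinj g hg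
    exact ⟨h', hh', hc⟩
  have he' : IsStarInjHull 𝒜' (quotGr 𝒜' a') 𝓔 e :=
    { injective := he.injective
      grHom := he.grHom
      essential := he.essential
      starInj := hinj' }
  have hφC' : IsGrHom (fun d => (homDeg 𝒜' 𝒞 𝓔 d).toAddSubgroup) (I'.Hgr a' N)
      (φC : (C →ₗ[MvPolynomial (Fin N) k] E') ≃ₗ[MvPolynomial (Fin N) k] I'.H a' N).toLinearMap :=
    hφC
  have hgen : a'.toIdeal = Ideal.span (Set.range (fun i : Fin N =>
      (MvPolynomial.X i : MvPolynomial (Fin N) k))) := by
    rw [hmsp']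
    exact irrel_eq_span k N w hw
  haveI : Module.Finite (MvPolynomial (Fin N) k) C := hfin
  obtain ⟨F, hF, hFd⟩ := Groth.Agent.Lib.Helper8.GrCanPoly.main (𝒜 := 𝒜') (hpos_W k N w hw)
    (isField_deg0 k N w hw) a' hmsp' 𝓔 e he' 𝒞 (dim_poly k N) I'
    (φC : (C →ₗ[MvPolynomial (Fin N) k] E') ≃ₗ[MvPolynomial (Fin N) k] I'.H a' N) hφC'
    (fun i : Fin N => (MvPolynomial.X i : MvPolynomial (Fin N) k)) w (X_mem k N w) hw
    (X_weaklyRegular k N) hgen
  exact ⟨F, hF, hFd⟩

end Main

end Groth.Agent.Lib.Helper8.GrCanPolyW
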