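import Groth.Agent.Lib.Helper8.GrLCPolyAlg
import Groth.Agent.Lib.Helper8.GrLCFin
import Groth.Agent.Lib.Helper8.GrHeight
import Mathlib.RingTheory.RegularLocalRing.Polynomial

/-!
# Regular standard graded rings over a field are generated by `dim R` elements of degree one
-/

set_option autoImplicit false
set_option linter.unusedSectionVars false
universe u

open DirectSum GrLC
open Groth.Agent.Lib.Helper30
open Groth.Agent.Lib.Helper8.GrLCPieces Groth.Agent.Lib.Helper8.GrLCFin
open Groth.Agent.Lib.Helper8.GrLCPolyAlg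

namespace Groth.Agent.Lib.Helper8.GrLCPolyReg

section Local

variable {R : Type u} [CommRing R]

/-- If an ideal `N ≤ m` generates `m` locally at the maximal ideal `m`, then `m = N + m²`. -/
theorem le_sup_sq (m : Ideal R) [hmax : m.IsMaximal] (N : Ideal R)
    (h : ∀ z ∈ m, ∃ s, s ∉ m ∧ s * z ∈ N) : m ≤ N ⊔ m ^ 2 := by
  intro z hz
  obtain ⟨s, hs, hsz⟩ := h z hz
  obtain ⟨c, i, hi, hci⟩ := hmax.exists_inv hs
  have : z = c * (s * z) + i * z := by
    calc z = (c * s + i) * z := by rw [hci, one_mul]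
      _ = c * (s * z) + i * z := by ring
  rw [this]
  refine Submodule.add_mem _ (Submodule.mem_sup_left (N.mul_mem_left c hsz))
    (Submodule.mem_sup_right ?_)
  rw [pow_two]
  exact Ideal.mul_mem_mul hi hz

/-- In a regular ring, a maximal ideal of height `r` is locally generated by `r` elements. -/
theorem exists_local_gens [IsRegularRing R] (m : Ideal R) [hmax : m.IsMaximal] (r : ℕ)
    (hr : m.height = r) :
    ∃ a : Fin r → R, (∀ i, a i ∈ m) ∧
      ∀ z ∈ m, ∃ s, s ∉ m ∧ s * z ∈ Ideal.span (Set.range a) := by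
  classical
  have hprime : m.IsPrime := hmax.isPrime
  let Rm := Localization.AtPrime m
  have hreg : IsRegularLocalRing Rm := IsRegularRing.isRegularLocalRing_localization m
  have hdim : ringKrullDim Rm = (r : WithBot ℕ∞) := by
    rw [IsLocalization.AtPrime.ringKrullDim_eq_height m Rm, hr]
    rfl
  have hspan := hreg.spanFinrank_maximalIdeal
  rw [hdim] at hspan
  have hfr : (IsLocalRing.maximalIdeal Rm).spanFinrank = r := by exact_mod_cast hspan
  have hfg : (IsLocalRing.maximalIdeal Rm).FG := IsNoetherian.noetherian _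
  obtain ⟨T, hTcard, hTspan⟩ := Submodule.FG.exists_span_finset_card_eq_spanFinrank hfg
  rw [hfr] at hTcard
  let eT := T.equivFinOfCardEq hTcard
  let y : Fin r → Rm := fun i => ((eT.symm i : T) : Rm)
  have hy_mem : ∀ i, y i ∈ IsLocalRing.maximalIdeal Rm := by
    intro i
    rw [← hTspan]
    exact Submodule.subset_span (eT.symm i).2
  have hy_span : IsLocalRing.maximalIdeal Rm ≤ Ideal.span (Set.range y) := by
    rw [← hTspan]
    apply Submodule.span_le.mpr
    intro t ht
    apply Ideal.subset_span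
    exact ⟨eT ⟨t, ht⟩, by simp [y]⟩
  have hex : ∀ i, ∃ (x : R) (t : m.primeCompl), IsLocalization.mk' Rm x t = y i :=
    fun i => by
      obtain ⟨⟨x, t⟩, hxt⟩ := IsLocalization.mk'_surjective m.primeCompl (y i)
      exact ⟨x, t, hxt⟩
  choose a s has using hex
  have ha : ∀ i, a i ∈ m := by
    intro i
    have := hy_mem i
    rw [← has i, IsLocalization.AtPrime.mk'_mem_maximal_iff Rm m] at this
    exact this
  refine ⟨a, ha, fun z hz => ?_⟩
  have hz' : algebraMap R Rm z ∈ IsLocalRing.maximalIdeal Rm := by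
    rw [← Localization.AtPrime.map_eq_maximalIdeal]
    exact Ideal.mem_map_of_mem _ hz
  have hle : Ideal.span (Set.range y) ≤ (Ideal.span (Set.range a)).map (algebraMap R Rm) := by
    apply Ideal.span_le.mpr
    rintro _ ⟨i, rfl⟩
    rw [SetLike.mem_coe, ← has i, IsLocalization.mk'_eq_mul_mk'_one]
    exact Ideal.mul_mem_right _ _ (Ideal.mem_map_of_mem _ (Ideal.subset_span ⟨i, rfl⟩))
  have hz'' := hle (hy_span hz')
  rw [IsLocalization.algebraMap_mem_map_algebraMap_iff m.primeCompl] at hz''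
  obtain ⟨t, ht, htz⟩ := hz''
  exact ⟨t, ht, htz⟩

end Local

section Graded

variable {R : Type u} [CommRing R] {𝒜 : ℤ → AddSubgroup R} [GradedRing 𝒜]
variable (hpos : ∀ n : ℤ, n < 0 → 𝒜 n = ⊥) (m : HomogeneousIdeal 𝒜)
  (hmsp : m.toIdeal = Ideal.span (⋃ n ∈ Set.Ioi (0 : ℤ), (𝒜 n : Set R)))

include hpos hmsp in
theorem decompose_eq_zero_of_mem (a : R) (ha : a ∈ m.toIdeal) (j : ℤ) (hj : j ≤ 0) :
    (decompose 𝒜 a j : R) = 0 := by
  apply eq_zero_of_mem_irrelevant hpos (decompose 𝒜 a j).2 hj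
  rw [← hmsp]
  exact m.isHomogeneous j ha

include hpos hmsp in
/-- The degree one component of a product with an element of the irrelevant ideal. -/
theorem decompose_mul_one (c a : R) (ha : a ∈ m.toIdeal) :
    (decompose 𝒜 (c * a) 1 : R) = (decompose 𝒜 c 0 : R) * (decompose 𝒜 a 1 : R) := by
  classical
  have hz : ∀ (n : ℤ), n < 0 → ∀ y : R, y ∈ 𝒜 n → y = 0 := by
    intro n hn y hy
    rw [hpos n hn, AddSubgroup.mem_bot] at hy
    exact hy
  conv_lhs => rw [← DirectSum.sum_support_decompose 𝒜 a, Finset.mul_sum]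
  rw [decompose_sum, DFinsupp.finsetSum_apply, AddSubgroup.val_finsetSum]
  have key : ∀ j : ℤ, (decompose 𝒜 (c * (decompose 𝒜 a j : R)) 1 : R) =
      (decompose 𝒜 c (1 - j) : R) * (decompose 𝒜 a j : R) := by
    intro j
    have h := decompose_smul_of_mem_right 𝒜 𝒜 (decompose 𝒜 a j).2 c (1 - j)
    rw [sub_add_cancel] at h
    exact h
  simp_rw [key]
  rw [Finset.sum_eq_single 1]
  · rw [sub_self]
  · intro j _ hj
    rcases lt_or_gt_of_ne hj with hlt | hgt
    · rw [decompose_eq_zero_of_mem hpos m hmsp a ha j (by omega), mul_zero]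
    · rw [hz (1 - j) (by omega) _ (decompose 𝒜 c (1 - j)).2, zero_mul]
  · intro h1
    rw [sub_self]
    have : (decompose 𝒜 a 1 : R) = 0 := by
      by_contra hne
      apply h1
      rw [DFinsupp.mem_support_iff]
      intro h0
      apply hne
      rw [h0]
      rfl
    rw [this, mul_zero]

include hpos hmsp in
theorem decompose_sq_one (μ : R) (hμ : μ ∈ m.toIdeal ^ 2) : (decompose 𝒜 μ 1 : R) = 0 := by
  rw [pow_two] at hμ
  refine Submodule.mul_induction_on hμ ?_ ?_
  · intro u hu v hv
    rw [decompose_mul_one hpos m hmsp u v hv,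
      decompose_eq_zero_of_mem hpos m hmsp u hu 0 le_rfl, zero_mul]
  · intro x y hx hy
    rw [decompose_add, DirectSum.add_apply, AddSubgroup.coe_add, hx, hy, add_zero]

include hpos hmsp in
/-- Generators of `m` modulo `m²` give generators of `R_1` over `R_0`. -/
theorem gen_of_le_sup_sq {r : ℕ} (a : Fin r → R) (ha : ∀ i, a i ∈ m.toIdeal)
    (hle : m.toIdeal ≤ Ideal.span (Set.range a) ⊔ m.toIdeal ^ 2) :
    Gen 𝒜 (fun i => (decompose 𝒜 (a i) 1 : R)) := by
  classical
  refine ⟨fun i => (decompose 𝒜 (a i) 1).2, fun y hy => ?_⟩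
  have hym : y ∈ m.toIdeal := by
    rw [hmsp]
    apply Ideal.subset_span
    simp only [Set.mem_iUnion, Set.mem_Ioi, SetLike.mem_coe, exists_prop]
    exact ⟨1, one_pos, hy⟩
  obtain ⟨ν, hν, μ, hμ, hsum⟩ := Submodule.mem_sup.mp (hle hym)
  obtain ⟨c, hc⟩ := (Ideal.mem_span_range_iff_exists_fun).mp hν
  refine ⟨fun i => (decompose 𝒜 (c i) 0 : R), fun i => (decompose 𝒜 (c i) 0).2, ?_⟩
  have h1 := decompose_of_mem_same 𝒜 hy
  rw [← h1, ← hsum, ← hc, decompose_add, DirectSum.add_apply, AddSubgroup.coe_add,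
    decompose_sq_one hpos m hmsp μ hμ, add_zero, decompose_sum, DFinsupp.finsetSum_apply,
    AddSubgroup.val_finsetSum]
  apply Finset.sum_congr rfl
  intro i _
  exact decompose_mul_one hpos m hmsp (c i) (a i) (ha i)

end Graded

end Groth.Agent.Lib.Helper8.GrLCPolyReg
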