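import Groth.Agent.Lib.Helper8.GrLCEulerAinv
import Groth.Agent.Lib.Helper8.GrLCPolyReg

/-!
# Characterisation of polynomial rings by the `a`-invariant
-/

set_option autoImplicit false
set_option linter.unusedSectionVars false
universe u

open DirectSum GrLC
open Groth.Agent.Lib.Helper30
open Groth.Agent.Lib.Helper8.GrLCLES
open Groth.Agent.Lib.Helper8.GrLCEulerInv Groth.Agent.Lib.Helper8.GrLCEulerAbs
open Groth.Agent.Lib.Helper8.GrLCEulerMain Groth.Agent.Lib.Helper8.GrLCEulerAinv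
open Groth.Agent.Lib.Helper8.GrLCPolyAlg Groth.Agent.Lib.Helper8.GrLCPolyReg
open Groth.Agent.Lib.Helper8.GrLCFin Groth.Agent.Lib.Helper8.GrLCPieces

namespace Groth.Agent.Lib.Helper8.GrLCPolyChar

section Diff

/-- The Hilbert function of the polynomial ring in `r` variables. -/
def G (r : ℕ) : ℤ → ℚ :=
  fun n => if 0 ≤ n then (((r + n.toNat - 1).choose n.toNat : ℕ) : ℚ) else 0

theorem G_neg (r : ℕ) (n : ℤ) (hn : n < 0) : G r n = 0 := by
  unfold G
  rw [if_neg (by omega)]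

theorem G_nat (r : ℕ) (k : ℕ) : G r (k : ℤ) = (((r + k - 1).choose k : ℕ) : ℚ) := by
  unfold G
  rw [if_pos (by omega)]
  simp

theorem Dl_G (r : ℕ) : Dl (G (r + 1)) = G r := by
  funext n
  rw [Dl_apply]
  rcases lt_trichotomy n 0 with hn | hn | hn
  · rw [G_neg _ n hn, G_neg _ (n - 1) (by omega), G_neg _ n hn, sub_zero]
  · subst hn
    rw [G_neg _ (0 - 1) (by omega), sub_zero]
    have h1 := G_nat (r + 1) 0
    have h2 := G_nat r 0
    simp only [Nat.cast_zero, Nat.choose_zero_right, Nat.cast_one] at h1 h2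
    rw [h1, h2]
  · obtain ⟨k, rfl⟩ : ∃ k : ℕ, n = ((k + 1 : ℕ) : ℤ) := ⟨(n - 1).toNat, by
      push_cast
      rw [Int.toNat_of_nonneg (by omega)]
      ring⟩
    have e1 : (((k + 1 : ℕ) : ℤ) - 1) = ((k : ℕ) : ℤ) := by push_cast; ring
    rw [e1, G_nat, G_nat, G_nat]
    have h1 : r + 1 + (k + 1) - 1 = (r + k) + 1 := by omega
    have h2 : r + 1 + k - 1 = r + k := by omega
    have h3 : r + (k + 1) - 1 = r + k := by omega
    rw [h1, h2, h3, Nat.choose_succ_succ]
    push_cast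
    ring

theorem Dl_iter_G (r : ℕ) : Dl^[r] (G r) = G 0 := by
  induction r with
  | zero => rfl
  | succ r ih => rw [Function.iterate_succ_apply, Dl_G, ih]

theorem G_zero_pos (n : ℤ) (hn : 1 ≤ n) : G 0 n = 0 := by
  obtain ⟨k, rfl⟩ : ∃ k : ℕ, n = ((k + 1 : ℕ) : ℤ) := ⟨(n - 1).toNat, by
    push_cast
    rw [Int.toNat_of_nonneg (by omega)]
    ring⟩
  rw [G_nat]
  have : 0 + (k + 1) - 1 = k := by omega
  rw [this, Nat.choose_succ_self]
  rfl

/-- Downward induction for finite differences. -/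
theorem eq_zero_downward (r : ℕ) (D : ℤ → ℚ) (N : ℤ) (hΔ : ∀ n, 1 ≤ n → Dl^[r] D n = 0)
    (hN : ∀ n, N ≤ n → D n = 0) : ∀ n, 1 - (r : ℤ) ≤ n → D n = 0 := by
  induction r generalizing D N with
  | zero =>
    intro n hn
    exact hΔ n (by simpa using hn)
  | succ r ih =>
    have hΔ' : ∀ n, 1 ≤ n → Dl^[r] (Dl D) n = 0 := by
      intro n hn
      have := hΔ n hn
      rwa [Function.iterate_succ_apply] at this
    have hN' : ∀ n, N + 1 ≤ n → Dl D n = 0 := by
      intro n hn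
      rw [Dl_apply, hN n (by omega), hN (n - 1) (by omega), sub_zero]
    have hstep : ∀ n, 1 - (r : ℤ) ≤ n → D n = D (n - 1) := by
      intro n hn
      have := ih (Dl D) (N + 1) hΔ' hN' n hn
      rw [Dl_apply] at this
      linarith
    have key : ∀ (k : ℕ) (n : ℤ), 1 - ((r + 1 : ℕ) : ℤ) ≤ n → N ≤ n + k → D n = 0 := by
      intro k
      induction k with
      | zero =>
        intro n _ hn
        exact hN n (by simpa using hn)
      | succ k ihk =>
        intro n hn1 hn2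
        have h1 := hstep (n + 1) (by push_cast at hn1; omega)
        rw [add_sub_cancel_right] at h1
        rw [← h1]
        exact ihk (n + 1) (by omega) (by push_cast at hn2; omega)
    intro n hn
    exact key (N - n).toNat n hn (by
      have := Int.self_le_toNat (N - n)
      omega)

/-- If `Δ^r f = 0` and `f` vanishes at `r - 1` consecutive integers, the next two values are in
the ratio `r`. -/
theorem step_of_window (r : ℕ) (f : ℤ → ℚ) (a : ℤ) (hD : Dl^[r] f = 0)
    (h : ∀ n, a ≤ n → n < a + r - 1 → f n = 0) : f (a + r) = r * f (a + r - 1) := by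
  induction r generalizing f a with
  | zero =>
    have hf : f = 0 := hD
    rw [hf]
    simp
  | succ r ih =>
    rw [Function.iterate_succ_apply] at hD
    rcases Nat.eq_zero_or_pos r with hr | hr
    · subst hr
      have hDf : Dl f = 0 := hD
      have := congrFun hDf (a + 1)
      rw [Dl_apply] at this
      simp only [Pi.zero_apply] at this
      push_cast
      linarith
    · have hg : ∀ n, a + 1 ≤ n → n < a + 1 + r - 1 → Dl f n = 0 := by
        intro n hn1 hn2
        rw [Dl_apply, h n (by omega) (by push_cast; omega),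
          h (n - 1) (by omega) (by push_cast; omega), sub_zero]
      have h1 := ih (Dl f) (a + 1) hD hg
      rw [Dl_apply, Dl_apply] at h1
      have h2 : f (a + 1 + r - 1 - 1) = 0 := by
        apply h
        · have : (1 : ℤ) ≤ r := by exact_mod_cast hr
          omega
        · push_cast
          omega
      rw [h2, sub_zero] at h1
      have e1 : a + ((r + 1 : ℕ) : ℤ) = a + 1 + r := by push_cast; ring
      rw [e1]
      push_cast
      linarith

end Diff

section Main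

variable {R : Type u} [CommRing R] [IsNoetherianRing R] {𝒜 : ℤ → AddSubgroup R} [GradedRing 𝒜]
variable (hpos : ∀ n : ℤ, n < 0 → 𝒜 n = ⊥)
  (hstd : Ideal.span (⋃ n ∈ Set.Ioi (0 : ℤ), (𝒜 n : Set R)) = Ideal.span ((𝒜 1 : AddSubgroup R) : Set R))
  (h0 : IsField ↥(deg0 𝒜)) (m : HomogeneousIdeal 𝒜) (hm : GrLC.IsStarLocal 𝒜 m)
  (r : ℕ) (hr : ringKrullDim R = r)

include h0 in
theorem isArtinianRing_deg0 : IsArtinianRing ↥(deg0 𝒜) :=
  @DivisionRing.instIsArtinianRing _ h0.toField.toDivisionRing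

include hpos hstd h0 hr in
theorem hilb_eq_G (x : Fin r → R) (hx : Gen 𝒜 x) (n : ℤ) : hilb 𝒜 𝒜 n = G r n := by
  rcases lt_or_ge n 0 with hn | hn
  · rw [hilb_neg hpos n hn, G_neg r n hn]
  · obtain ⟨k, rfl⟩ : ∃ k : ℕ, n = (k : ℤ) := ⟨n.toNat, (Int.toNat_of_nonneg hn).symm⟩
    rw [G_nat]
    unfold hilb
    rw [length_piece hpos hstd x h0 hx (phi_injective hpos hstd x h0 hx r hr le_rfl) k]
    rfl

include hpos hstd h0 hm hr in
/-- A Cohen–Macaulay standard graded ring over a field generated by `dim R` elements of degree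
one has `a`-invariant `-dim R`. -/
theorem endDeg_eq_of_gen (hv : ∀ i, i < r → ∀ g, VanM m 𝒜 i g) (x : Fin r → R) (hx : Gen 𝒜 x)
    (I : StarInjRes 𝒜 𝒜) :
    GrLC.endDeg (I.Hgr m r) = (((-(r : ℤ) : ℤ) : WithTop ℤ) : WithBot (WithTop ℤ)) := by
  have := isArtinianRing_deg0 h0
  have hD : Dl^[r] (F 𝒜 𝒜 m r) = 0 := by
    apply Dl_F_eq_zero hpos hstd m hm r hr (GMod.of 𝒜 R 𝒜)
      (show Module.Finite R R from inferInstance) r
    refine lt_of_le_of_lt (ringKrullDim_quotient_le _) ?_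
    rw [hr]
    exact_mod_cast Nat.lt_succ_self r
  obtain ⟨N₁, hN₁⟩ := vanish_high hpos m (irrelevant_le_of_isStarLocal hpos m hm)
    (GMod.of 𝒜 R 𝒜) (show Module.Finite R R from inferInstance)
  have hFhigh : ∀ n, N₁ ≤ n → F 𝒜 𝒜 m r n = hilb 𝒜 𝒜 n := by
    intro n hn
    simp only [F]
    have : chiE m r (starInjRes 𝒜 𝒜) n = 0 := by
      unfold chiE
      apply Finset.sum_eq_zero
      intro i _
      rw [length_eq_zero_of_vanM (starInjRes 𝒜 𝒜) m i n (hN₁ i n hn)]
      simp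
    rw [this, sub_zero]
  have hzero := eq_zero_downward r (F 𝒜 𝒜 m r - G r) N₁ (by
      intro n hn
      rw [Dl_iter_sub, hD, Dl_iter_G, Pi.sub_apply, Pi.zero_apply, G_zero_pos n hn, sub_zero])
    (by
      intro n hn
      rw [Pi.sub_apply, hFhigh n hn, hilb_eq_G hpos hstd h0 r hr x hx n, sub_self])
  have hvan : ∀ n : ℤ, 1 - (r : ℤ) ≤ n → I.Hgr m r n = ⊥ := by
    intro n hn
    have h1 := hzero n hn
    rw [Pi.sub_apply, ← hilb_eq_G hpos hstd h0 r hr x hx n] at h1
    simp only [F] at h1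
    have h2 : chiE m r (starInjRes 𝒜 𝒜) n = 0 := by linarith
    rw [chiE_eq_of_res m r (starInjRes 𝒜 𝒜) I n, chiE_top I m r n (fun i hi => hv i hi n)] at h2
    have hpow : (-1 : ℚ) ^ r ≠ 0 := pow_ne_zero _ (by norm_num)
    have h3 : ((Module.length ↥(deg0 𝒜) ↥(I.Hcomp m r n)).toNat : ℚ) = 0 := by
      rcases mul_eq_zero.mp h2 with h | h
      · exact absurd h hpow
      · exact h
    rw [Nat.cast_eq_zero, ENat.toNat_eq_zero] at h3
    rw [hgr_eq_bot_iff_length]
    rcases h3 with h | h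
    · exact h
    · exact absurd h (fin_H hpos m hm 𝒜 I r n)
  apply le_antisymm
  · unfold GrLC.endDeg
    apply iSup₂_le
    intro n hne
    have hn : n ≤ -(r : ℤ) := by
      by_contra hcon
      exact hne (hvan n (by omega))
    exact_mod_cast hn
  · exact neg_dim_le_endDeg hpos hstd m hm r hr hv I

include hpos hstd h0 hm hr in
/-- If the `a`-invariant is `-dim R`, the degree one piece has length `dim R`. -/
theorem length_one_of_endDeg (hv : ∀ i, i < r → ∀ g, VanM m 𝒜 i g) (I : StarInjRes 𝒜 𝒜)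
    (ha : GrLC.endDeg (I.Hgr m r) = (((-(r : ℤ) : ℤ) : WithTop ℤ) : WithBot (WithTop ℤ))) :
    Module.length ↥(deg0 𝒜) ↥(comp 𝒜 𝒜 (1 : ℤ)) = r := by
  have := isArtinianRing_deg0 h0
  have hD : Dl^[r] (F 𝒜 𝒜 m r) = 0 := by
    apply Dl_F_eq_zero hpos hstd m hm r hr (GMod.of 𝒜 R 𝒜)
      (show Module.Finite R R from inferInstance) r
    refine lt_of_le_of_lt (ringKrullDim_quotient_le _) ?_
    rw [hr]
    exact_mod_cast Nat.lt_succ_self r
  have hvan : ∀ n : ℤ, -(r : ℤ) < n → I.Hgr m r n = ⊥ := by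
    intro n hn
    by_contra hne
    have h1 : ((n : WithTop ℤ) : WithBot (WithTop ℤ)) ≤ GrLC.endDeg (I.Hgr m r) :=
      le_iSup₂ (f := fun (k : ℤ) (_ : I.Hgr m r k ≠ ⊥) => ((k : WithTop ℤ) : WithBot (WithTop ℤ)))
        n hne
    rw [ha] at h1
    have h2 : n ≤ -(r : ℤ) := by exact_mod_cast h1
    omega
  have hF : ∀ n : ℤ, -(r : ℤ) < n → F 𝒜 𝒜 m r n = hilb 𝒜 𝒜 n := by
    intro n hn
    simp only [F]
    rw [chiE_eq_of_res m r (starInjRes 𝒜 𝒜) I n, chiE_top I m r n (fun i hi => hv i hi n),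
      (hgr_eq_bot_iff_length I m r n).mp (hvan n hn)]
    simp
  have hstep := step_of_window r (F 𝒜 𝒜 m r) (1 - (r : ℤ)) hD (by
    intro n hn1 hn2
    have hn3 : -(r : ℤ) < n := by omega
    have hn4 : n < 0 := by omega
    rw [hF n hn3]
    exact hilb_neg hpos n hn4)
  have hr1 : -(r : ℤ) < 1 := by omega
  have hF1 := hF 1 hr1
  rw [show (1 - (r : ℤ) + r) = 1 by ring, show ((1 : ℤ) - 1) = 0 by ring, hF1] at hstep
  have h0' : hilb 𝒜 𝒜 0 = 1 := by
    unfold hilb
    rw [length_piece_zero h0]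
    rfl
  have hstep' : hilb 𝒜 𝒜 1 = (r : ℚ) := by
    rcases Nat.eq_zero_or_pos r with hr0 | hrpos
    · rw [hstep, hr0]
      simp
    · have hr2 : -(r : ℤ) < 0 := by omega
      rw [hstep, hF 0 hr2, h0', mul_one]
  unfold hilb at hstep'
  have h3 : (Module.length ↥(deg0 𝒜) ↥(comp 𝒜 𝒜 (1 : ℤ))).toNat = r := by exact_mod_cast hstep'
  have hfin : Module.length ↥(deg0 𝒜) ↥(comp 𝒜 𝒜 (1 : ℤ)) ≠ ⊤ := fin_comp (𝒜 := 𝒜) 𝒜 1
  rw [← h3]
  exact (ENat.natCast_toNat hfin).symm

include hpos hstd h0 hm hr in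
/-- Characterisation of polynomial rings among Cohen–Macaulay standard graded rings over a field:
`a(R) = -dim R` iff `R` is a polynomial ring. -/
theorem char (hmsp : m.toIdeal = Ideal.span (⋃ n ∈ Set.Ioi (0 : ℤ), (𝒜 n : Set R)))
    (hv : ∀ i, i < r → ∀ g, VanM m 𝒜 i g) (I : StarInjRes 𝒜 𝒜) :
    GrLC.endDeg (I.Hgr m r) = (((-(r : ℤ) : ℤ) : WithTop ℤ) : WithBot (WithTop ℤ)) ↔
      Nonempty (R ≃+* MvPolynomial (Fin r) ↥(deg0 𝒜)) := by
  constructor
  · intro ha
    have hl := length_one_of_endDeg hpos hstd h0 m hm r hr hv I ha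
    obtain ⟨x, hx⟩ := exists_gen_of_length h0 r hl
    obtain ⟨ε, -⟩ := algEquiv_of_gen hpos hstd h0 r x hx hr
    exact ⟨ε.symm.toRingEquiv⟩
  · rintro ⟨e⟩
    have hmax : m.toIdeal.IsMaximal := isMaximal_of_isStarLocal hpos m hm
    have hht : m.toIdeal.height = r := by
      have := Groth.Agent.Lib.Helper8.GrHeight.ringKrullDim_eq_height 𝒜 m hm
      rw [hr] at this
      exact (WithBot.coe_injective this).symm
    have hreg : IsRegularRing R := by
      let _ : Field ↥(deg0 𝒜) := h0.toField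
      have h1 : IsRegularRing (MvPolynomial (Fin r) ↥(deg0 𝒜)) := inferInstance
      exact IsRegularRing.of_ringEquiv e.symm
    obtain ⟨a, ha, hloc⟩ := exists_local_gens m.toIdeal r hht
    have hle := le_sup_sq m.toIdeal (Ideal.span (Set.range a)) hloc
    have hgen := gen_of_le_sup_sq hpos m hmsp a ha hle
    exact endDeg_eq_of_gen hpos hstd h0 m hm r hr hv _ hgen I

end Main

end Groth.Agent.Lib.Helper8.GrLCPolyChar
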