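import Mathlib

set_option autoImplicit false
universe u
open TensorProduct

namespace Groth.Agent.Lib.Helper8.MS2P1

/-- Flat base change commutes with colon ideals (element form): if `σ * c ∈ I R` in a flat
`A`-algebra `R`, and `(I : σ) ≤ p`, then `c ∈ p R`. -/
theorem mem_map_of_mul_mem_map_of_flat {A R : Type u} [CommRing A] [CommRing R] [Algebra A R]
    [Module.Flat A R] (I p : Ideal A) (σ : A) (hσ : ∀ w : A, w * σ ∈ I → w ∈ p) (c : R)
    (hc : algebraMap A R σ * c ∈ I.map (algebraMap A R)) : c ∈ p.map (algebraMap A R) := by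
  classical
  -- the map `f : A → A ⧸ I`, `w ↦ [w σ]`
  let f : A →ₗ[A] (A ⧸ I) := (Submodule.mkQ I) ∘ₗ (LinearMap.mulRight A σ)
  let J : Ideal A := LinearMap.ker f
  have hJp : J ≤ p := by
    intro w hw
    apply hσ w
    have : f w = 0 := hw
    have h2 : f w = Ideal.Quotient.mk I (w * σ) := rfl
    rw [h2, Ideal.Quotient.eq_zero_iff_mem] at this
    exact this
  have hex : Function.Exact J.subtype f := LinearMap.exact_subtype_ker_map f
  have hex' : Function.Exact (J.subtype.lTensor R) (f.lTensor R) :=
    Module.Flat.lTensor_exact R hex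
  -- `c ⊗ 1` is killed
  have hzero : (f.lTensor R) (c ⊗ₜ[A] (1 : A)) = 0 := by
    have h1 : (f.lTensor R) (c ⊗ₜ[A] (1 : A)) = c ⊗ₜ[A] (Submodule.mkQ I σ) := by
      simp [f]
    rw [h1]
    have h2 : c ⊗ₜ[A] (Submodule.mkQ I σ) = (σ • c) ⊗ₜ[A] (Submodule.mkQ I (1 : A)) := by
      rw [TensorProduct.smul_tmul]
      congr 1
      rw [← map_smul, smul_eq_mul, mul_one]
    rw [h2]
    apply (TensorProduct.tensorQuotEquivQuotSMul R I).injective
    rw [map_zero]
    have h3 : (TensorProduct.tensorQuotEquivQuotSMul R I) ((σ • c) ⊗ₜ[A] (Submodule.mkQ I (1 : A)))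
        = Submodule.Quotient.mk (σ • c) := by
      have := TensorProduct.tensorQuotEquivQuotSMul_tmul_mk (M := R) I (σ • c) (1 : A)
      simpa using this
    rw [h3, Submodule.Quotient.mk_eq_zero, Ideal.smul_top_eq_map]
    simpa [Algebra.smul_def] using hc
  obtain ⟨y, hy⟩ := (hex' _).mp hzero
  -- push to `R`
  have key : ∀ y : R ⊗[A] J, (TensorProduct.rid A R) ((J.subtype.lTensor R) y) ∈
      (p.map (algebraMap A R)).restrictScalars A := by
    intro y
    induction y using TensorProduct.induction_on with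
    | zero => simp
    | tmul r j =>
      simp only [LinearMap.lTensor_tmul, Submodule.subtype_apply, TensorProduct.rid_tmul,
        Submodule.restrictScalars_mem]
      rw [Algebra.smul_def]
      exact Ideal.mul_mem_right _ _ (Ideal.mem_map_of_mem _ (hJp j.2))
    | add a b ha hb =>
      rw [map_add, map_add]
      exact Submodule.add_mem _ ha hb
  have := key y
  rw [hy] at this
  simpa using this

end Groth.Agent.Lib.Helper8.MS2P1
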