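import Mathlib
import Groth.Agent.Lib.Helper6.WeilAlg

set_option autoImplicit false
open TensorProduct Module
universe u
open Groth.Agent.Lib.Helper6.WeilAlg

namespace Groth.Agent.Lib.Helper8.WeilAlgFP

variable {R : Type u} [CommRing R] {C : Type u} [CommRing C] [Algebra R C]
variable {ι : Type} [Fintype ι] (b : Basis ι R C)

/-- the generic map `R[X_j] → R[X_{j,i}] ⊗ C`, `X_j ↦ Σ_i X_{j,i} ⊗ b_i`. -/
noncomputable def gen' (n : ℕ) :
    MvPolynomial (Fin n) R →ₐ[R] (MvPolynomial (Fin n × ι) R) ⊗[R] C :=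
  MvPolynomial.aeval fun j => ∑ i, (MvPolynomial.X (j, i) : MvPolynomial (Fin n × ι) R) ⊗ₜ[R] b i

theorem finitePresentation_WAlg {R : Type u} [CommRing R] {C : Type u} [CommRing C] [Algebra R C]
    {ι : Type} [Fintype ι] (b : Basis ι R C) (B : Type u) [CommRing B] [Algebra R B]
    [Algebra.FinitePresentation R B] : Algebra.FinitePresentation R (WAlg b B) := by
  classical
  obtain ⟨n, π, hπ, hker⟩ := Algebra.FinitePresentation.out (R := R) (A := B)
  obtain ⟨s, hs⟩ := hker
  let Q := MvPolynomial (Fin n × ι) R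
  let g : MvPolynomial (Fin n) R →ₐ[R] Q ⊗[R] C := gen' (R := R) b n
  let T : Finset Q := (s ×ˢ (Finset.univ : Finset ι)).image
    (fun fi => (Algebra.TensorProduct.basis Q b).repr (g fi.1) fi.2)
  let J' : Ideal Q := Ideal.span (T : Set Q)
  have hJfg : J'.FG := ⟨T, rfl⟩
  let W' := Q ⧸ J'
  have hW' : Algebra.FinitePresentation R W' := Algebra.FinitePresentation.quotient hJfg
  let mk' : Q →ₐ[R] W' := Ideal.Quotient.mkₐ R J'
  have hmk' : Function.Surjective mk' := Ideal.Quotient.mkₐ_surjective R J'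
  -- ψ₀ : P → W' ⊗ C
  let ψ₀ : MvPolynomial (Fin n) R →ₐ[R] W' ⊗[R] C :=
    (Algebra.TensorProduct.map mk' (AlgHom.id R C)).comp g
  have hψ₀ : ∀ f ∈ RingHom.ker π.toRingHom, ψ₀ f = 0 := by
    have hle : RingHom.ker π.toRingHom ≤ RingHom.ker ψ₀.toRingHom := by
      rw [← hs, Ideal.span_le]
      intro f hf
      rw [SetLike.mem_coe, RingHom.mem_ker]
      show ψ₀ f = 0
      apply (Algebra.TensorProduct.basis W' b).repr.injective
      ext i
      rw [AlgHom.comp_apply, repr_map, map_zero, Finsupp.zero_apply]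
      refine Ideal.Quotient.eq_zero_iff_mem.mpr (Ideal.subset_span ?_)
      exact Finset.mem_coe.mpr (Finset.mem_image.mpr ⟨(f, i), by simpa using hf, rfl⟩)
    intro f hf
    exact hle hf
  let ψ : B →ₐ[R] W' ⊗[R] C :=
    (Ideal.Quotient.liftₐ (RingHom.ker π) ψ₀ (fun f hf => hψ₀ f hf)).comp
      (Ideal.quotientKerAlgEquivOfSurjective hπ).symm.toAlgHom
  have hψπ : ∀ f, ψ (π f) = ψ₀ f := by
    intro f
    have h1 : (Ideal.quotientKerAlgEquivOfSurjective hπ).symm (π f) = Ideal.Quotient.mk _ f := by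
      rw [AlgEquiv.symm_apply_eq]
      rfl
    show (Ideal.Quotient.liftₐ (RingHom.ker π) ψ₀ (fun f hf => hψ₀ f hf))
      ((Ideal.quotientKerAlgEquivOfSurjective hπ).symm (π f)) = ψ₀ f
    rw [h1]
    rfl
  -- β : WAlg → W'
  let β : WAlg b B →ₐ[R] W' := lift b B ψ
  -- α₀ : Q → WAlg
  let α₀ : Q →ₐ[R] WAlg b B :=
    MvPolynomial.aeval fun ji : Fin n × ι => q b B (MvPolynomial.X (π (MvPolynomial.X ji.1), ji.2))
  have hα₀g : (Algebra.TensorProduct.map α₀ (AlgHom.id R C)).comp g = (coev b B).comp π := by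
    apply MvPolynomial.algHom_ext
    intro j
    simp only [AlgHom.comp_apply, g, gen', MvPolynomial.aeval_X, map_sum,
      Algebra.TensorProduct.map_tmul, AlgHom.id_apply, α₀, coev_apply]
    refine Finset.sum_congr rfl fun i _ => ?_
    congr 1
    exact MvPolynomial.aeval_X _ _
  have hα₀J : ∀ p ∈ J', α₀ p = 0 := by
    have hle : J' ≤ RingHom.ker α₀.toRingHom := by
      rw [Ideal.span_le]
      intro p hp
      obtain ⟨⟨f, i⟩, hfi, rfl⟩ := Finset.mem_image.mp (Finset.mem_coe.mp hp)
      have hf : f ∈ s := (Finset.mem_product.mp hfi).1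
      rw [SetLike.mem_coe, RingHom.mem_ker]
      show α₀ _ = 0
      rw [← repr_map]
      have h := congrArg (fun F => F f) hα₀g
      simp only [AlgHom.comp_apply] at h
      rw [h]
      have hf0 : π f = 0 := by
        have : f ∈ RingHom.ker π.toRingHom := by
          rw [← hs]; exact Ideal.subset_span hf
        exact this
      rw [hf0, map_zero, map_zero, Finsupp.zero_apply]
    intro p hp
    exact hle hp
  let α : W' →ₐ[R] WAlg b B := Ideal.Quotient.liftₐ J' α₀ hα₀J
  have hαmk : ∀ p, α (mk' p) = α₀ p := fun p => rfl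
  -- (α ⊗ id) ∘ ψ = coev
  have hαψ : (Algebra.TensorProduct.map α (AlgHom.id R C)).comp ψ = coev b B := by
    apply AlgHom.ext
    intro x
    obtain ⟨f, rfl⟩ := hπ x
    rw [AlgHom.comp_apply, hψπ]
    have e : (Algebra.TensorProduct.map α (AlgHom.id R C)).comp
        (Algebra.TensorProduct.map mk' (AlgHom.id R C)) =
        Algebra.TensorProduct.map α₀ (AlgHom.id R C) := by
      apply Algebra.TensorProduct.ext'
      intro a c
      simp [hαmk]
    have h1 : (Algebra.TensorProduct.map α (AlgHom.id R C)) (ψ₀ f) =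
        (Algebra.TensorProduct.map α₀ (AlgHom.id R C)) (g f) :=
      congrArg (fun F => F (g f)) e
    rw [h1]
    exact congrArg (fun F => F f) hα₀g
  -- α ∘ β = id
  have hαβ : α.comp β = AlgHom.id R (WAlg b B) := by
    apply lift_unique b B
    have e : Algebra.TensorProduct.map (α.comp β) (AlgHom.id R C) =
        (Algebra.TensorProduct.map α (AlgHom.id R C)).comp
          (Algebra.TensorProduct.map β (AlgHom.id R C)) := by
      apply Algebra.TensorProduct.ext'
      intro a c
      simp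
    rw [e, AlgHom.comp_assoc, map_lift_coev b B ψ, hαψ]
    have e2 : Algebra.TensorProduct.map (AlgHom.id R (WAlg b B)) (AlgHom.id R C) =
        AlgHom.id R (WAlg b B ⊗[R] C) := by
      apply Algebra.TensorProduct.ext'
      intro a c
      simp
    rw [e2, AlgHom.id_comp]
  -- β ∘ α = id
  have hβα : β.comp α = AlgHom.id R W' := by
    have h1 : (β.comp α).comp mk' = (AlgHom.id R W').comp mk' := by
      apply MvPolynomial.algHom_ext
      rintro ⟨j, i⟩
      simp only [AlgHom.comp_apply, AlgHom.id_apply]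
      rw [hαmk]
      have h2 : α₀ (MvPolynomial.X (j, i)) = q b B (MvPolynomial.X (π (MvPolynomial.X j), i)) :=
        MvPolynomial.aeval_X _ _
      rw [h2]
      show lift b B ψ (q b B _) = _
      rw [lift_q]
      have h3 : lift₀ b B ψ (MvPolynomial.X (π (MvPolynomial.X j), i)) =
          (Algebra.TensorProduct.basis W' b).repr (ψ (π (MvPolynomial.X j))) i := by
        simp [lift₀]
      rw [h3, hψπ]
      have h4 : ψ₀ (MvPolynomial.X j) = ∑ i', mk' (MvPolynomial.X (j, i')) ⊗ₜ[R] b i' := by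
        simp only [ψ₀, g, gen', AlgHom.comp_apply, MvPolynomial.aeval_X, map_sum,
          Algebra.TensorProduct.map_tmul, AlgHom.id_apply]
      rw [h4, repr_sum_tmul]
    apply AlgHom.ext
    intro y
    obtain ⟨p, rfl⟩ := hmk' y
    exact congrArg (fun F => F p) h1
  exact Algebra.FinitePresentation.equiv (AlgEquiv.ofAlgHom α β hαβ hβα)

end Groth.Agent.Lib.Helper8.WeilAlgFP
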