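import Mathlib
import Groth.Prelude.Def_Wider
import Groth.Agent.Lib.Helper58.AdicFunct

set_option autoImplicit false
universe u

namespace Groth.Agent.Lib.Helper8.CplLocIso

open Groth.Agent.Lib.Helper58.AdicFunct

/-- every element of the completion is congruent to an element of `A` modulo `I^n Â`. -/
theorem exists_approx {A : Type u} [CommRing A] [IsNoetherianRing A] (I : Ideal A)
    (x : AdicCompletion I A) (n : ℕ) :
    ∃ a : A, x - algebraMap A (AdicCompletion I A) a ∈
      (I ^ n).map (algebraMap A (AdicCompletion I A)) := by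
  obtain ⟨a, ha⟩ := Submodule.Quotient.mk_surjective _ (AdicCompletion.eval I A n x)
  refine ⟨a, ?_⟩
  have h1 : x - algebraMap A (AdicCompletion I A) a ∈
      LinearMap.ker (AdicCompletion.eval I A n) := by
    rw [LinearMap.mem_ker, map_sub, ← ha, AdicCompletion.algebraMap_apply, AdicCompletion.eval_of]
    exact sub_self _
  rw [← AdicCompletion.pow_smul_top_eq_ker_eval (IsNoetherian.noetherian I)] at h1
  rw [Ideal.smul_top_eq_map] at h1
  exact h1

theorem exists_ringEquiv_cpl {A : Type u} [CommRing A] [IsNoetherianRing A] (I : Ideal A)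
    (q : Ideal (AdicCompletion I A)) [q.IsPrime]
    (hq : I.map (algebraMap A (AdicCompletion I A)) ≤ q) (qA : Ideal A) [qA.IsPrime]
    (hqA : qA = q.comap (algebraMap A (AdicCompletion I A))) :
    ∃ σ : AdicCompletion (I.map (algebraMap A (Localization.AtPrime qA)))
        (Localization.AtPrime qA) ≃+*
      AdicCompletion ((I.map (algebraMap A (AdicCompletion I A))).map
        (algebraMap (AdicCompletion I A) (Localization.AtPrime q))) (Localization.AtPrime q),
      ∀ a : A, σ (algebraMap A _ a) = algebraMap A _ a := by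
  classical
  -- notation
  set Ah := AdicCompletion I A with hAh
  set ι : A →+* Ah := algebraMap A Ah with hι
  set B := Localization.AtPrime qA with hB
  set C := Localization.AtPrime q with hC
  set J : Ideal B := I.map (algebraMap A B) with hJ
  set K : Ideal C := (I.map ι).map (algebraMap Ah C) with hK
  let φ : B →+* C := Localization.localRingHom qA q ι hqA
  have hφ : ∀ a : A, φ (algebraMap A B a) = algebraMap Ah C (ι a) := fun a =>
    Localization.localRingHom_to_map qA q ι hqA a
  have hJK : J ≤ K.comap φ := by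
    rw [hJ, Ideal.map_le_iff_le_comap]
    intro a ha
    rw [Ideal.mem_comap, Ideal.mem_comap, hφ]
    exact Ideal.mem_map_of_mem _ (Ideal.mem_map_of_mem _ ha)
  have hKn : ∀ n : ℕ, K ^ n = ((I ^ n).map ι).map (algebraMap Ah C) := by
    intro n
    rw [hK, ← Ideal.map_pow, ← Ideal.map_pow]
  have hJn : ∀ n : ℕ, J ^ n = (I ^ n).map (algebraMap A B) := by
    intro n
    rw [hJ, ← Ideal.map_pow]
  have hmapJ : ∀ n : ℕ, (J ^ n).map φ = K ^ n := by
    intro n
    rw [hJn, hKn, Ideal.map_map, Ideal.map_map]
    congr 1
    ext a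
    exact hφ a
  -- faithful flatness of φ
  have hflatι : ι.Flat := by
    rw [hι, RingHom.flat_algebraMap_iff]
    infer_instance
  have hflatφ : φ.Flat := RingHom.Flat.localRingHom hflatι q qA hqA
  let _ : Algebra B C := φ.toAlgebra
  have : Module.Flat B C := hflatφ
  have : IsLocalHom (algebraMap B C) := Localization.isLocalHom_localRingHom qA q ι hqA
  have : Module.FaithfullyFlat B C := Module.FaithfullyFlat.of_flat_of_isLocalHom
  have hinj : ∀ n : ℕ, (K ^ n).comap φ = J ^ n := by
    intro n
    rw [← hmapJ n]
    exact Ideal.comap_map_eq_self_of_faithfullyFlat (A := B) (B := C) (J ^ n)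
  -- bijectivity at each level
  have hb : ∀ n, Function.Bijective
      (Ideal.quotientMap (K ^ n) φ (pow_le_comap_pow J K φ hJK n)) := by
    intro n
    constructor
    · -- injective
      rw [injective_iff_map_eq_zero]
      intro y hy
      obtain ⟨β, rfl⟩ := Ideal.Quotient.mk_surjective y
      rw [Ideal.quotientMap_mk, Ideal.Quotient.eq_zero_iff_mem] at hy
      rw [Ideal.Quotient.eq_zero_iff_mem, ← hinj n]
      exact hy
    · -- surjective
      intro y
      obtain ⟨c, rfl⟩ := Ideal.Quotient.mk_surjective y
      rcases Nat.eq_zero_or_pos n with hn | hn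
      · subst hn
        refine ⟨0, ?_⟩
        rw [map_zero, eq_comm, Ideal.Quotient.eq_zero_iff_mem, pow_zero, Ideal.one_eq_top]
        exact Submodule.mem_top
      obtain ⟨x, w, rfl⟩ := IsLocalization.exists_mk'_eq q.primeCompl c
      obtain ⟨a, ha⟩ := exists_approx I x n
      obtain ⟨b, hb⟩ := exists_approx I (w : Ah) n
      have hle : (I ^ n).map ι ≤ q :=
        (Ideal.map_mono (Ideal.pow_le_self (Nat.pos_iff_ne_zero.mp hn))).trans hq
      have hbq : ι b ∉ q := by
        intro hbq
        apply w.2
        have : (w : Ah) = ((w : Ah) - ι b) + ι b := by ring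
        rw [this]
        exact q.add_mem (hle hb) hbq
      have hbqA : b ∈ qA.primeCompl := by
        intro hbqA
        apply hbq
        rw [hqA] at hbqA
        exact hbqA
      refine ⟨Ideal.Quotient.mk _ (IsLocalization.mk' B a ⟨b, hbqA⟩), ?_⟩
      rw [Ideal.quotientMap_mk, Ideal.Quotient.eq, hKn]
      have hφβ : φ (IsLocalization.mk' B a ⟨b, hbqA⟩) =
          IsLocalization.mk' C (ι a) (⟨ι b, hbq⟩ : q.primeCompl) :=
        Localization.localRingHom_mk' qA q ι hqA a ⟨b, hbqA⟩
      rw [hφβ]
      -- multiply by the units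
      have hu1 : IsUnit (algebraMap Ah C (w : Ah)) := IsLocalization.map_units C w
      have hu2 : IsUnit (algebraMap Ah C (ι b)) :=
        IsLocalization.map_units C (⟨ι b, hbq⟩ : q.primeCompl)
      rw [← Ideal.mul_unit_mem_iff_mem _ hu1, ← Ideal.mul_unit_mem_iff_mem _ hu2]
      have e1 : IsLocalization.mk' C (ι a) (⟨ι b, hbq⟩ : q.primeCompl) * algebraMap Ah C (ι b)
          = algebraMap Ah C (ι a) :=
        IsLocalization.mk'_spec C (ι a) (⟨ι b, hbq⟩ : q.primeCompl)
      have e2 : IsLocalization.mk' C x w * algebraMap Ah C (w : Ah) = algebraMap Ah C x :=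
        IsLocalization.mk'_spec C x w
      have e3 : (IsLocalization.mk' C (ι a) (⟨ι b, hbq⟩ : q.primeCompl) - IsLocalization.mk' C x w)
          * algebraMap Ah C (w : Ah) * algebraMap Ah C (ι b)
          = algebraMap Ah C (ι a * ((w : Ah) - ι b) - (x - ι a) * ι b) := by
        have : (IsLocalization.mk' C (ι a) (⟨ι b, hbq⟩ : q.primeCompl) - IsLocalization.mk' C x w)
          * algebraMap Ah C (w : Ah) * algebraMap Ah C (ι b)
          = (IsLocalization.mk' C (ι a) (⟨ι b, hbq⟩ : q.primeCompl) * algebraMap Ah C (ι b))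
              * algebraMap Ah C (w : Ah)
            - (IsLocalization.mk' C x w * algebraMap Ah C (w : Ah)) * algebraMap Ah C (ι b) := by
          ring
        rw [this, e1, e2, ← map_mul, ← map_mul, ← map_sub]
        congr 1
        ring
      rw [e3]
      apply Ideal.mem_map_of_mem
      exact Ideal.sub_mem _ (Ideal.mul_mem_left _ _ hb) (Ideal.mul_mem_right _ _ ha)
  -- assemble
  refine ⟨RingEquiv.ofBijective (adicMap J K φ hJK) (adicMap_bijective J K φ hJK hb), ?_⟩
  intro a
  have h1 : algebraMap A (AdicCompletion J B) a = AdicCompletion.of J B (algebraMap A B a) :=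
    AdicCompletion.algebraMap_apply (I := J) (R := B) (S := A) a
  have h2 : algebraMap A (AdicCompletion K C) a = AdicCompletion.of K C (algebraMap A C a) :=
    AdicCompletion.algebraMap_apply (I := K) (R := C) (S := A) a
  rw [RingEquiv.ofBijective_apply]
  erw [h1, h2]
  rw [adicMap_of, hφ, IsScalarTower.algebraMap_apply A Ah C]

end Groth.Agent.Lib.Helper8.CplLocIso
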