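import Mathlib
import Groth.Agent.Lib.Helper85.Cyc1941MULTALG

set_option autoImplicit false
set_option linter.style.haveILetI false
universe u
open TensorProduct IsLocalRing

namespace Groth.Agent.Lib.Helper8.Cyc1941RCb

section general

variable {A B : Type u} [CommRing A] [IsLocalRing A] [CommRing B] [Algebra A B] (I : Ideal B)

/-- the prime of `B` under a maximal ideal of `B ⧸ I` -/
def under (n : MaximalSpectrum (B ⧸ I)) : PrimeSpectrum B :=
  haveI := n.isMaximal
  ⟨n.asIdeal.comap (Ideal.Quotient.mk I), inferInstance⟩

theorem under_asIdeal (n : MaximalSpectrum (B ⧸ I)) :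
    (under I n).asIdeal = n.asIdeal.comap (Ideal.Quotient.mk I) := rfl

theorem le_under (n : MaximalSpectrum (B ⧸ I)) : I ≤ (under I n).asIdeal := by
  intro x hx
  rw [under_asIdeal, Ideal.mem_comap, Ideal.Quotient.eq_zero_iff_mem.mpr hx]
  exact zero_mem _

theorem under_comap [Module.Finite A (B ⧸ I)] (n : MaximalSpectrum (B ⧸ I)) :
    (under I n).asIdeal.comap (algebraMap A B) = maximalIdeal A := by
  rw [under_asIdeal, Ideal.comap_comap]
  exact Groth.Agent.Lib.Helper85.Cyc1941MULTALG.comap_eq_maximalIdeal (A := A) n

theorem submonoid_eq (n : MaximalSpectrum (B ⧸ I)) :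
    Algebra.algebraMapSubmonoid (B ⧸ I) (under I n).asIdeal.primeCompl =
      n.asIdeal.primeCompl := by
  ext x
  constructor
  · rintro ⟨b, hb, rfl⟩
    exact hb
  · intro hx
    obtain ⟨b, rfl⟩ := Ideal.Quotient.mk_surjective x
    exact ⟨b, hx, rfl⟩

theorem isLocalHom_under [Module.Finite A (B ⧸ I)] (n : MaximalSpectrum (B ⧸ I)) :
    IsLocalHom (algebraMap A (Localization.AtPrime (under I n).asIdeal)) := by
  refine ⟨fun a ha => ?_⟩
  by_contra hna
  have h1 : a ∈ maximalIdeal A := (mem_maximalIdeal a).mpr hna
  rw [← under_comap I n, Ideal.mem_comap] at h1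
  have h2 : algebraMap B (Localization.AtPrime (under I n).asIdeal) (algebraMap A B a) ∈
      maximalIdeal (Localization.AtPrime (under I n).asIdeal) :=
    (IsLocalization.AtPrime.to_map_mem_maximal_iff
      (Localization.AtPrime (under I n).asIdeal) (under I n).asIdeal _).mpr h1
  rw [← IsScalarTower.algebraMap_apply] at h2
  exact (mem_maximalIdeal _).mp h2 ha

/-- per-prime identity -/
theorem length_localization_under [Module.Finite A (B ⧸ I)] (n : MaximalSpectrum (B ⧸ I)) :
    Module.length A (Localization.AtPrime n.asIdeal) =
      Module.length (Localization.AtPrime (under I n).asIdeal)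
        (Localization.AtPrime (under I n).asIdeal ⧸
          I.map (algebraMap B (Localization.AtPrime (under I n).asIdeal))) *
      Module.length A (ResidueField (Localization.AtPrime (under I n).asIdeal)) := by
  haveI := n.isMaximal
  haveI := isLocalHom_under (A := A) I n
  haveI : IsLocalization n.asIdeal.primeCompl (Localization.AtPrime (under I n).asIdeal ⧸
      I.map (algebraMap B (Localization.AtPrime (under I n).asIdeal))) :=
    submonoid_eq I n ▸ inferInstance
  let e : Localization.AtPrime n.asIdeal ≃ₐ[B ⧸ I] (Localization.AtPrime (under I n).asIdeal ⧸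
      I.map (algebraMap B (Localization.AtPrime (under I n).asIdeal))) :=
    IsLocalization.algEquiv n.asIdeal.primeCompl _ _
  haveI : IsScalarTower A (B ⧸ I) (Localization.AtPrime (under I n).asIdeal ⧸
      I.map (algebraMap B (Localization.AtPrime (under I n).asIdeal))) :=
    IsScalarTower.of_algebraMap_eq (fun a => rfl)
  rw [(e.restrictScalars A).toLinearEquiv.length_eq,
    IsLocalRing.length_restrictScalars A (Localization.AtPrime (under I n).asIdeal)]
  congr 1
  exact (Module.length_eq_of_surjective (S := A) (R := ResidueField A)
    (M := ResidueField (Localization.AtPrime (under I n).asIdeal)) (residue_surjective (R := A))).symm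

/-- per-prime identity, with the ideal of the localisation given up to equality -/
theorem length_localization_under' [Module.Finite A (B ⧸ I)] (n : MaximalSpectrum (B ⧸ I))
    (J : Ideal (Localization.AtPrime (under I n).asIdeal))
    (hJ : J = I.map (algebraMap B (Localization.AtPrime (under I n).asIdeal))) :
    Module.length A (Localization.AtPrime n.asIdeal) =
      Module.length (Localization.AtPrime (under I n).asIdeal)
        (Localization.AtPrime (under I n).asIdeal ⧸ J) *
      Module.length A (ResidueField (Localization.AtPrime (under I n).asIdeal)) := by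
  subst hJ
  exact length_localization_under I n

theorem length_eq_sum_localization [Module.Finite A (B ⧸ I)] [IsArtinianRing (B ⧸ I)]
    [Fintype (MaximalSpectrum (B ⧸ I))] :
    Module.length A (B ⧸ I) =
      ∑ n : MaximalSpectrum (B ⧸ I), Module.length A (Localization.AtPrime n.asIdeal) := by
  rw [← Module.length_pi_of_fintype]
  exact ((MaximalSpectrum.toPiLocalizationEquiv (B ⧸ I)).restrictScalars A).toLinearEquiv.length_eq

theorem length_eq_sum [Module.Finite A (B ⧸ I)] [IsArtinianRing (B ⧸ I)]
    [Fintype (MaximalSpectrum (B ⧸ I))] :
    Module.length A (B ⧸ I) = ∑ n : MaximalSpectrum (B ⧸ I),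
      Module.length (Localization.AtPrime (under I n).asIdeal)
        (Localization.AtPrime (under I n).asIdeal ⧸
          I.map (algebraMap B (Localization.AtPrime (under I n).asIdeal))) *
      Module.length A (ResidueField (Localization.AtPrime (under I n).asIdeal)) := by
  have h2 : Module.length A (B ⧸ I) =
      ∑ n : MaximalSpectrum (B ⧸ I), Module.length A (Localization.AtPrime n.asIdeal) := by
    rw [← Module.length_pi_of_fintype]
    exact ((MaximalSpectrum.toPiLocalizationEquiv (B ⧸ I)).restrictScalars A).toLinearEquiv.length_eq
  rw [h2]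
  exact Finset.sum_congr rfl fun n _ => length_localization_under I n

end general

end Groth.Agent.Lib.Helper8.Cyc1941RCb
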