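import Mathlib
import Groth.Agent.Lib.Helper8.Cyc1941RCb
import Groth.Agent.Lib.Helper80.Cyc1941RCa

set_option autoImplicit false
set_option linter.style.haveILetI false
universe u
open TensorProduct IsLocalRing

namespace Groth.Agent.Lib.Helper8.Cyc1941RC

open Groth.Agent.Lib.Helper8.Cyc1941RCb

theorem ring_core_of_stepA {R S R' : Type u} [CommRing R] [CommRing S] [CommRing R']
    [IsLocalRing R] [IsLocalRing S] [IsLocalRing R'] [Algebra R S] [Algebra R R']
    [IsLocalHom (algebraMap R S)] [IsLocalHom (algebraMap R R')] [IsNoetherianRing R']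
    [Module.Finite (ResidueField R) (ResidueField S)]
    [IsArtinianRing (R' ⧸ (maximalIdeal R).map (algebraMap R R'))]
    (hA : Module.length R' ((R' ⊗[R] S) ⧸ (maximalIdeal S).map
        (Algebra.TensorProduct.includeRight : S →ₐ[R] R' ⊗[R] S).toRingHom) =
      (Module.finrank (ResidueField R) (ResidueField S) : ℕ∞) *
        Module.length R' (R' ⧸ (maximalIdeal R).map (algebraMap R R'))) :
    ∑ᶠ q ∈ {q : PrimeSpectrum (R' ⊗[R] S) |
        q.asIdeal.comap (algebraMap R' (R' ⊗[R] S)) = maximalIdeal R' ∧
        q.asIdeal.comap (Algebra.TensorProduct.includeRight : S →ₐ[R] R' ⊗[R] S).toRingHom =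
          maximalIdeal S},
      (((Module.length (Localization.AtPrime q.asIdeal) (Localization.AtPrime q.asIdeal ⧸
          (maximalIdeal S).map ((algebraMap (R' ⊗[R] S) (Localization.AtPrime q.asIdeal)).comp
            (Algebra.TensorProduct.includeRight : S →ₐ[R] R' ⊗[R] S).toRingHom))).toNat : ℤ) *
        ((Module.length R' (ResidueField (Localization.AtPrime q.asIdeal))).toNat : ℤ)) =
      (Module.finrank (ResidueField R) (ResidueField S) : ℤ) *
        ((Module.length R' (R' ⧸ (maximalIdeal R).map (algebraMap R R'))).toNat : ℤ) := by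
  classical
  set φ : S →+* R' ⊗[R] S :=
    (Algebra.TensorProduct.includeRight : S →ₐ[R] R' ⊗[R] S).toRingHom with hφ
  set I : Ideal (R' ⊗[R] S) := (maximalIdeal S).map φ with hI
  -- finiteness
  have hL : Module.length R' (R' ⧸ (maximalIdeal R).map (algebraMap R R')) ≠ ⊤ := by
    rw [Module.length_eq_of_surjective (S := R')
      (R := R' ⧸ (maximalIdeal R).map (algebraMap R R'))
      (M := R' ⧸ (maximalIdeal R).map (algebraMap R R')) Ideal.Quotient.mk_surjective,
      Module.length_ne_top_iff, isFiniteLength_iff_isNoetherian_isArtinian]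
    exact ⟨inferInstance, inferInstance⟩
  have hT : Module.length R' ((R' ⊗[R] S) ⧸ I) ≠ ⊤ := by
    rw [hA]
    exact WithTop.mul_ne_top (ENat.natCast_ne_top _) hL
  have hfl : IsFiniteLength R' ((R' ⊗[R] S) ⧸ I) := Module.length_ne_top_iff.mp hT
  obtain ⟨hN, hAr⟩ := isFiniteLength_iff_isNoetherian_isArtinian.mp hfl
  haveI : Module.Finite R' ((R' ⊗[R] S) ⧸ I) := Module.IsNoetherian.finite R' _
  haveI : IsArtinianRing ((R' ⊗[R] S) ⧸ I) := isArtinian_of_tower R' hAr
  haveI : Fintype (MaximalSpectrum ((R' ⊗[R] S) ⧸ I)) := Fintype.ofFinite _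
  -- the bijection
  have hbij : Set.BijOn (under I) Set.univ {q : PrimeSpectrum (R' ⊗[R] S) |
        q.asIdeal.comap (algebraMap R' (R' ⊗[R] S)) = maximalIdeal R' ∧
        q.asIdeal.comap φ = maximalIdeal S} := by
    refine ⟨?_, ?_, ?_⟩
    · intro n _
      refine ⟨under_comap (A := R') I n, ?_⟩
      have h1 : maximalIdeal S ≤ (under I n).asIdeal.comap φ :=
        Ideal.map_le_iff_le_comap.mp (le_under I n)
      have h2 : (under I n).asIdeal.comap φ ≠ ⊤ := (Ideal.IsPrime.comap φ).ne_top
      exact le_antisymm (IsLocalRing.le_maximalIdeal h2) h1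
    · intro n₁ _ n₂ _ h
      have h' : n₁.asIdeal.comap (Ideal.Quotient.mk I) = n₂.asIdeal.comap (Ideal.Quotient.mk I) :=
        congrArg PrimeSpectrum.asIdeal h
      exact MaximalSpectrum.ext
        (Ideal.comap_injective_of_surjective _ Ideal.Quotient.mk_surjective h')
    · intro q hq
      have hIq : I ≤ q.asIdeal := Ideal.map_le_iff_le_comap.mpr hq.2.ge
      haveI : (q.asIdeal.map (Ideal.Quotient.mk I)).IsPrime :=
        Ideal.map_isPrime_of_surjective Ideal.Quotient.mk_surjective
          (by rw [Ideal.mk_ker]; exact hIq)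
      refine ⟨⟨q.asIdeal.map (Ideal.Quotient.mk I), IsArtinianRing.isMaximal_of_isPrime _⟩,
        Set.mem_univ _, ?_⟩
      exact PrimeSpectrum.ext (Ideal.comap_map_mk hIq)
  rw [← finsum_mem_eq_of_bijOn (under I) hbij (fun n _ => rfl), finsum_mem_univ,
    finsum_eq_sum_of_fintype]
  -- the sum formula in `ℕ∞`
  have h3 : (Module.finrank (ResidueField R) (ResidueField S) : ℕ∞) *
        Module.length R' (R' ⧸ (maximalIdeal R).map (algebraMap R R')) =
      ∑ n : MaximalSpectrum ((R' ⊗[R] S) ⧸ I),
        Module.length (Localization.AtPrime (under I n).asIdeal)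
          (Localization.AtPrime (under I n).asIdeal ⧸
            (maximalIdeal S).map ((algebraMap (R' ⊗[R] S)
              (Localization.AtPrime (under I n).asIdeal)).comp φ)) *
        Module.length R' (ResidueField (Localization.AtPrime (under I n).asIdeal)) := by
    rw [← hA, length_eq_sum_localization (A := R') I]
    exact Finset.sum_congr rfl fun n _ =>
      length_localization_under' (A := R') I n _ (Ideal.map_map _ _).symm
  have hne : (Module.finrank (ResidueField R) (ResidueField S) : ℕ∞) *
      Module.length R' (R' ⧸ (maximalIdeal R).map (algebraMap R R')) ≠ ⊤ :=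
    WithTop.mul_ne_top (ENat.natCast_ne_top _) hL
  have hterm : ∀ n : MaximalSpectrum ((R' ⊗[R] S) ⧸ I),
      Module.length (Localization.AtPrime (under I n).asIdeal)
          (Localization.AtPrime (under I n).asIdeal ⧸
            (maximalIdeal S).map ((algebraMap (R' ⊗[R] S)
              (Localization.AtPrime (under I n).asIdeal)).comp φ)) *
        Module.length R' (ResidueField (Localization.AtPrime (under I n).asIdeal)) ≠ ⊤ := by
    intro n htop
    apply hne
    rw [h3]
    exact top_unique (htop ▸ Finset.single_le_sum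
      (f := fun n : MaximalSpectrum ((R' ⊗[R] S) ⧸ I) =>
        Module.length (Localization.AtPrime (under I n).asIdeal)
          (Localization.AtPrime (under I n).asIdeal ⧸
            (maximalIdeal S).map ((algebraMap (R' ⊗[R] S)
              (Localization.AtPrime (under I n).asIdeal)).comp φ)) *
        Module.length R' (ResidueField (Localization.AtPrime (under I n).asIdeal)))
      (fun _ _ => zero_le) (Finset.mem_univ n))
  have h4 : ((Module.finrank (ResidueField R) (ResidueField S) *
        (Module.length R' (R' ⧸ (maximalIdeal R).map (algebraMap R R'))).toNat : ℕ) : ℕ∞) =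
      ((∑ n : MaximalSpectrum ((R' ⊗[R] S) ⧸ I),
        (Module.length (Localization.AtPrime (under I n).asIdeal)
          (Localization.AtPrime (under I n).asIdeal ⧸
            (maximalIdeal S).map ((algebraMap (R' ⊗[R] S)
              (Localization.AtPrime (under I n).asIdeal)).comp φ))).toNat *
        (Module.length R' (ResidueField (Localization.AtPrime (under I n).asIdeal))).toNat : ℕ) :
        ℕ∞) := by
    rw [Nat.cast_sum, Nat.cast_mul, ENat.natCast_toNat hL, h3]
    refine Finset.sum_congr rfl fun n _ => ?_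
    rw [← ENat.toNat_mul, ENat.natCast_toNat (hterm n)]
  have h5 := ENat.natCast_inj.mp h4
  have h6 := congrArg (fun m : ℕ => (m : ℤ)) h5
  simp only [Nat.cast_mul, Nat.cast_sum] at h6
  exact h6.symm

theorem ring_core {R S R' : Type u} [CommRing R] [CommRing S] [CommRing R'] [IsLocalRing R] [IsLocalRing S] [IsLocalRing R'] [Algebra R S] [Algebra R R'] [IsLocalHom (algebraMap R S)] [IsLocalHom (algebraMap R R')] [IsNoetherianRing R'] [Module.Finite (ResidueField R) (ResidueField S)] [IsArtinianRing (R' ⧸ (maximalIdeal R).map (algebraMap R R'))] : ∑ᶠ q ∈ {q : PrimeSpectrum (R' ⊗[R] S) | q.asIdeal.comap (algebraMap R' (R' ⊗[R] S)) = maximalIdeal R' ∧ q.asIdeal.comap (Algebra.TensorProduct.includeRight : S →ₐ[R] R' ⊗[R] S).toRingHom = maximalIdeal S}, (((Module.length (Localization.AtPrime q.asIdeal) (Localization.AtPrime q.asIdeal ⧸ (maximalIdeal S).map ((algebraMap (R' ⊗[R] S) (Localization.AtPrime q.asIdeal)).comp (Algebra.TensorProduct.includeRight : S →ₐ[R] R' ⊗[R] S).toRingHom))).toNat : ℤ) * ((Module.length R' (ResidueField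 (Localization.AtPrime q.asIdeal))).toNat : ℤ)) = (Module.finrank (ResidueField R) (ResidueField S) : ℤ) * ((Module.length R' (R' ⧸ (maximalIdeal R).map (algebraMap R R'))).toNat : ℤ) :=
  ring_core_of_stepA Groth.Agent.Lib.Helper80.Cyc1941RCa.length_fibre_tensor

end Groth.Agent.Lib.Helper8.Cyc1941RC
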