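import Mathlib
import Groth.Prelude.Def_CartDual2
import Groth.Prelude.Def_SGA3b
import Groth.Agent.Lib.Helper3.IS1

set_option autoImplicit false
universe u
open TensorProduct IsLocalRing

namespace Groth.Agent.Lib.Helper8.FLiftL3

open Groth.Agent.Lib.Helper3.IS1

section Theta
variable (R : Type u) [CommRing R] (S : Type u) [CommRing S] [Algebra R S]
  (M : Type u) [AddCommGroup M] [Module R M]

/-- the canonical map `M ⊗ M → M_S ⊗_S M_S` -/
noncomputable def Θ' : M ⊗[R] M →ₗ[R] (S ⊗[R] M) ⊗[S] (S ⊗[R] M) :=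
  ((TensorProduct.AlgebraTensorModule.tensorTensorTensorComm R S R S S S M M).toLinearMap.restrictScalars R) ∘ₗ
    (TensorProduct.mk R (S ⊗[S] S) (M ⊗[R] M) (1 ⊗ₜ 1))

theorem Θ'_tmul (x y : M) :
    Θ' R S M (x ⊗ₜ y) = ((1 : S) ⊗ₜ[R] x) ⊗ₜ[S] ((1 : S) ⊗ₜ[R] y) := by
  simp [Θ']

end Theta

section Comul
variable (R : Type u) [CommRing R] (S : Type u) [CommRing S] [Algebra R S]
  (A : Type u) [Ring A] [Bialgebra R A]

theorem comul_one_tmul' (a : A) :
    Coalgebra.comul (R := S) ((1 : S) ⊗ₜ[R] a) = Θ' R S A (Coalgebra.comul (R := R) a) := by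
  rw [TensorProduct.comul_tmul]
  rfl

theorem counit_one_tmul' (a : A) :
    Coalgebra.counit (R := S) ((1 : S) ⊗ₜ[R] a) = algebraMap R S (Coalgebra.counit (R := R) a) := by
  rw [TensorProduct.counit_tmul]
  simp [Algebra.smul_def]

end Comul

section Ext
variable {R : Type u} [CommRing R] {S : Type u} [CommRing S] [Algebra R S]

theorem algHom_ext_one_tmul {A : Type u} [Ring A] [Algebra R A] {C : Type u} [Semiring C]
    [Algebra S C] (f g : S ⊗[R] A →ₐ[S] C)
    (h : ∀ x : A, f ((1 : S) ⊗ₜ[R] x) = g ((1 : S) ⊗ₜ[R] x)) : f = g := by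
  apply AlgHom.ext
  intro z
  induction z using TensorProduct.induction_on with
  | zero => rw [map_zero, map_zero]
  | tmul s x =>
    have e : s ⊗ₜ[R] x = s • ((1 : S) ⊗ₜ[R] x) := by
      rw [TensorProduct.smul_tmul', smul_eq_mul, mul_one]
    rw [e, map_smul, map_smul, h]
  | add z z' hz hz' => rw [map_add, map_add, hz, hz']

theorem linearMap_ext_one_tmul {E : Type u} [AddCommMonoid E] [Module R E] {N : Type u}
    [AddCommMonoid N] [Module S N] (f g : (S ⊗[R] E) ⊗[S] (S ⊗[R] E) →ₗ[S] N)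
    (h : ∀ a a' : E, f (((1 : S) ⊗ₜ[R] a) ⊗ₜ[S] ((1 : S) ⊗ₜ[R] a')) =
      g (((1 : S) ⊗ₜ[R] a) ⊗ₜ[S] ((1 : S) ⊗ₜ[R] a'))) : f = g := by
  apply TensorProduct.ext'
  intro b b'
  induction b using TensorProduct.induction_on with
  | zero => rw [TensorProduct.zero_tmul, map_zero, map_zero]
  | add b₁ b₂ h₁ h₂ => rw [TensorProduct.add_tmul, map_add, map_add, h₁, h₂]
  | tmul s a =>
    induction b' using TensorProduct.induction_on with
    | zero => rw [TensorProduct.tmul_zero, map_zero, map_zero]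
    | add b₁ b₂ h₁ h₂ => rw [TensorProduct.tmul_add, map_add, map_add, h₁, h₂]
    | tmul s' a' =>
      have e1 : s ⊗ₜ[R] a = s • ((1 : S) ⊗ₜ[R] a) := by
        rw [TensorProduct.smul_tmul', smul_eq_mul, mul_one]
      have e2 : s' ⊗ₜ[R] a' = s' • ((1 : S) ⊗ₜ[R] a') := by
        rw [TensorProduct.smul_tmul', smul_eq_mul, mul_one]
      rw [e1, e2, TensorProduct.smul_tmul_smul, map_smul, map_smul, h]

end Ext

theorem linearMap_ext_one_tmul' {R : Type u} [CommRing R] {S : Type u} [CommRing S] [Algebra R S]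
    {A : Type u} [AddCommMonoid A] [Module R A] {N : Type u} [AddCommMonoid N] [Module S N]
    (f g : S ⊗[R] A →ₗ[S] N)
    (h : ∀ x : A, f ((1 : S) ⊗ₜ[R] x) = g ((1 : S) ⊗ₜ[R] x)) : f = g := by
  apply LinearMap.ext
  intro z
  induction z using TensorProduct.induction_on with
  | zero => rw [map_zero, map_zero]
  | tmul s x =>
    have e : s ⊗ₜ[R] x = s • ((1 : S) ⊗ₜ[R] x) := by
      rw [TensorProduct.smul_tmul', smul_eq_mul, mul_one]
    rw [e, map_smul, map_smul, h]
  | add z z' hz hz' => rw [map_add, map_add, hz, hz']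

theorem nonempty_bialgEquiv_dual_baseChange (R : Type u) [CommRing R] (S : Type u) [CommRing S]
    [Algebra R S] (E : Type u) [CommRing E] [HopfAlgebra R E] [Module.Finite R E]
    [Module.Projective R E] :
    Nonempty ((S ⊗[R] CartDual.D R E) ≃ₐc[S] CartDual.D S (S ⊗[R] E)) := by
  classical
  let Φ : S ⊗[R] CartDual.D R E ≃ₐ[S] CartDual.D S (S ⊗[R] E) :=
    PhiE (k := R) (A := E) (R := S)
  let φ : S ⊗[R] CartDual.D R E →ₗ[S] CartDual.D S (S ⊗[R] E) :=
    { toFun := Φ, map_add' := map_add Φ, map_smul' := map_smul Φ }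
  have hΦ : ∀ x : CartDual.D R E, φ ((1 : S) ⊗ₜ[R] x) = bc (R := S) x := by
    intro x
    show (PhiA (k := R) (A := E) (R := S)) ((1 : S) ⊗ₜ[R] x) = _
    rw [PhiA_tmul, one_smul]
  have hbc : ∀ (x : CartDual.D R E) (a : E),
      (bc (R := S) x) ((1 : S) ⊗ₜ[R] a) = algebraMap R S (x a) := by
    intro x a
    rw [bc_apply, pairL_tmul, Algebra.smul_def, mul_one]
  refine ⟨{ toFun := Φ, invFun := Φ.symm, left_inv := Φ.left_inv, right_inv := Φ.right_inv,
            map_add' := map_add Φ, map_smul' := map_smul Φ, map_mul' := map_mul Φ,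
            counit_comp := ?_, map_comp_comul := ?_ }⟩
  · -- counit
    show Coalgebra.counit ∘ₗ φ = Coalgebra.counit
    apply linearMap_ext_one_tmul'
    intro x
    rw [LinearMap.comp_apply, hΦ, counit_one_tmul', CartDual.coalgebra_counit_apply,
      CartDual.coalgebra_counit_apply, Algebra.TensorProduct.one_def, hbc]
  · -- comul
    show TensorProduct.map φ φ ∘ₗ Coalgebra.comul = Coalgebra.comul ∘ₗ φ
    apply linearMap_ext_one_tmul'
    intro x
    rw [LinearMap.comp_apply, LinearMap.comp_apply, hΦ, comul_one_tmul']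
    apply (CartDual.ev₂ S (S ⊗[R] E)).injective
    apply linearMap_ext_one_tmul
    intro a a'
    rw [CartDual.ev₂_coalgebra_comul_tmul, Algebra.TensorProduct.tmul_mul_tmul, mul_one, hbc]
    have key : ∀ t : CartDual.D R E ⊗[R] CartDual.D R E,
        CartDual.ev₂ S (S ⊗[R] E)
          ((TensorProduct.map φ φ) (Θ' R S (CartDual.D R E) t))
            (((1 : S) ⊗ₜ[R] a) ⊗ₜ[S] ((1 : S) ⊗ₜ[R] a')) =
        algebraMap R S (CartDual.ev₂ R E t (a ⊗ₜ[R] a')) := by
      intro t
      induction t using TensorProduct.induction_on with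
      | zero => simp
      | tmul y y' =>
        rw [Θ'_tmul, TensorProduct.map_tmul, hΦ, hΦ, CartDual.ev₂_tmul, hbc, hbc,
          CartDual.ev₂_tmul, map_mul]
      | add t t' ht ht' =>
        rw [map_add, map_add, map_add, LinearMap.add_apply, ht, ht', map_add,
          LinearMap.add_apply, map_add]
    rw [key, CartDual.ev₂_coalgebra_comul_tmul]

end Groth.Agent.Lib.Helper8.FLiftL3
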