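import Groth.Agent.Lib.Helper8.GrLCFree
import Groth.Agent.Lib.Helper8.GrLCShift

/-!
# Exact complexes of `Γ_a`-acyclic graded modules stay exact after `Γ_a`
-/

set_option autoImplicit false
set_option linter.unusedSectionVars false
universe u

open DirectSum GrLC
open Groth.Agent.Lib.Helper30
open Groth.Agent.Lib.Helper8.GrLCBase Groth.Agent.Lib.Helper8.GrLCProd
open Groth.Agent.Lib.Helper8.GrLCLES
open Groth.Agent.Lib.Helper8.GrLCShift Groth.Agent.Lib.Helper8.GrLCFree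

namespace Groth.Agent.Lib.Helper8.GrAcyc

variable {ι : Type} [AddCommGroup ι] [DecidableEq ι]
variable {R : Type u} [CommRing R] {𝒜 : ι → AddSubgroup R} [GradedRing 𝒜]

section Surj

variable {M' : Type u} [AddCommGroup M'] [Module R M'] {ℳ' : ι → AddSubgroup M'}
  [DirectSum.Decomposition ℳ'] [SetLike.GradedSMul 𝒜 ℳ']
variable {M : Type u} [AddCommGroup M] [Module R M] {ℳ : ι → AddSubgroup M}
  [DirectSum.Decomposition ℳ] [SetLike.GradedSMul 𝒜 ℳ]
variable {M'' : Type u} [AddCommGroup M''] [Module R M''] {ℳ'' : ι → AddSubgroup M''}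
  [DirectSum.Decomposition ℳ''] [SetLike.GradedSMul 𝒜 ℳ'']
variable {i : M' →ₗ[R] M} {p : M →ₗ[R] M''}

/-- If `H^1_a(M')_g = 0` then `Γ_a(M)_g → Γ_a(M'')_g` is surjective. -/
theorem surj_of_vanM_one (S : SES ℳ' ℳ ℳ'' i p) (a : HomogeneousIdeal 𝒜) (g : ι)
    (h : VanM a ℳ' 1 g) (m'' : M'') (hg : m'' ∈ ℳ'' g) (ht : m'' ∈ gam a.toIdeal M'') :
    ∃ m ∈ ℳ g, m ∈ gam a.toIdeal M ∧ p m = m'' := by
  let E' := starInjRes 𝒜 ℳ'
  let E'' := starInjRes 𝒜 ℳ''
  obtain ⟨D⟩ := exists_hsdata (E' := E') (E'' := E'') S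
  have hV : Van E' a 1 g := h E'
  set z'' : (E''.X 0).carrier := E''.ε m'' with hz''
  have hz''g : z'' ∈ (E''.X 0).gr g := E''.ε_grHom g m'' hg
  have hz''t : z'' ∈ gam a.toIdeal (E''.X 0).carrier := gam_map _ _ ht
  have hz''d : E''.d 0 z'' = 0 := d_comp_ε E'' m''
  -- the connecting cocycle
  have hθd : E'.d 1 (D.θ 0 z'') = 0 := by
    have h3 := D.h3 0 z''
    rw [hz''d, map_zero] at h3
    have : E'.d 1 (D.θ 0 z'') = - D.θ 1 0 := by
      rw [map_zero, neg_zero]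
      have := neg_eq_zero.mp h3.symm
      exact this
    rw [this, map_zero, neg_zero]
  have hθ := hV (D.θ 0 z'') (gam_map _ _ hz''t) hθd (D.θ_gr 0 g z'' hz''g)
  obtain ⟨y', hy', hy'g, hy'z⟩ := cobdy_homog E' a hθ (D.θ_gr 0 g z'' hz''g)
  -- the element `(-y', z'')` of the horseshoe resolution is a cocycle in degree 0
  let w : ((hs S D).X 0).carrier := (-y', z'')
  have hw0 : (hs S D).d 0 w = 0 := by
    change (E'.d 0 (-y') + D.θ 0 z'', E''.d 0 z'') = 0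
    rw [map_neg, hy'z, neg_add_cancel, hz''d]
    rfl
  have hker : w ∈ LinearMap.ker ((hs S D).d 0) := hw0
  rw [(hs S D).exact_zero] at hker
  obtain ⟨m, hm⟩ := hker
  have hm' : (D.σ m, E''.ε (p m)) = (-y', z'') := hm
  have hm2 : E''.ε (p m) = E''.ε m'' := (Prod.mk.inj hm').2
  have hpm : p m = m'' := E''.ε_injective hm2
  have hmg : m ∈ ℳ g := by
    refine mem_piece_of_map_mem_piece ℳ ((hs S D).X 0).gr (hs S D).ε (hs S D).ε_grHom
      (hs S D).ε_injective ?_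
    rw [hm]
    exact ⟨AddSubgroup.neg_mem _ hy'g, hz''g⟩
  have hmt : m ∈ gam a.toIdeal M := by
    have hzt : ((-y', z'') : ((hs S D).X 0).carrier) ∈ gam a.toIdeal ((hs S D).X 0).carrier :=
      (gam_prod_iff a.toIdeal (-y') z'').mpr ⟨Submodule.neg_mem _ hy', hz''t⟩
    obtain ⟨k, hk⟩ := hzt
    refine ⟨k, fun r hr => (hs S D).ε_injective ?_⟩
    rw [map_smul, hm, hk r hr, map_zero]
  exact ⟨m, hmg, hmt, hpm⟩

end Surj

section Res

variable {M : Type u} [AddCommGroup M] [Module R M] {ℳ : ι → AddSubgroup M}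
  [DirectSum.Decomposition ℳ] [SetLike.GradedSMul 𝒜 ℳ]

/-- A resolution of a graded module by graded modules (no injectivity required). -/
structure GrRes (𝒜 : ι → AddSubgroup R) [GradedRing 𝒜] (ℳ : ι → AddSubgroup M)
    [DirectSum.Decomposition ℳ] [SetLike.GradedSMul 𝒜 ℳ] : Type (u + 1) where
  X : ℕ → GMod.{u} 𝒜
  d : ∀ n : ℕ, (X n).carrier →ₗ[R] (X (n + 1)).carrier
  ε : M →ₗ[R] (X 0).carrier
  d_grHom : ∀ n : ℕ, IsGrHom (X n).gr (X (n + 1)).gr (d n)
  ε_grHom : IsGrHom ℳ (X 0).gr ε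
  ε_injective : Function.Injective ε
  exact_zero : LinearMap.ker (d 0) = LinearMap.range ε
  exact_succ : ∀ n : ℕ, LinearMap.ker (d (n + 1)) = LinearMap.range (d n)

variable (C : GrRes 𝒜 ℳ) (a : HomogeneousIdeal 𝒜)

/-- The cycles of the complex, as graded modules. -/
noncomputable def GrRes.Z (n : ℕ) : GMod.{u} 𝒜 :=
  gker (C.X n) (C.X (n + 1)) (C.d n) (C.d_grHom n)

/-- The boundaries of the complex, as graded modules. -/
noncomputable def GrRes.B (n : ℕ) : GMod.{u} 𝒜 :=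
  grange (C.X n) (C.X (n + 1)) (C.d n) (C.d_grHom n)

theorem vanM_B_iff (n : ℕ) (j : ℕ) (g : ι) :
    VanM a (C.B n).gr j g ↔ VanM a (C.Z (n + 1)).gr j g := by
  let e : (C.B n).carrier ≃ₗ[R] (C.Z (n + 1)).carrier :=
    LinearEquiv.ofEq _ _ (C.exact_succ n).symm
  exact vanM_of_equiv a e (fun _ _ h => h) (fun _ _ h => h) j g

theorem vanM_Z_zero_iff (j : ℕ) (g : ι) :
    VanM a ℳ j g ↔ VanM a (C.Z 0).gr j g := by
  let e : M ≃ₗ[R] (C.Z 0).carrier :=
    (LinearEquiv.ofInjective C.ε C.ε_injective).trans (LinearEquiv.ofEq _ _ C.exact_zero.symm)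
  let ι0 : (C.Z 0).carrier →ₗ[R] (C.X 0).carrier :=
    gkerι (C.X 0) (C.X 1) (C.d 0) (C.d_grHom 0)
  have hι0 : ∀ m, ι0 (e m) = C.ε m := fun m => rfl
  refine vanM_of_equiv a e (fun k m hm => C.ε_grHom k m hm) (fun k z hz => ?_) j g
  have hz' : ι0 z ∈ (C.X 0).gr k := hz
  have h1 : C.ε (e.symm z) = ι0 z := by
    rw [← hι0, e.apply_symm_apply]
  refine mem_piece_of_map_mem_piece ℳ (C.X 0).gr C.ε C.ε_grHom C.ε_injective ?_
  change C.ε (e.symm z) ∈ (C.X 0).gr k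
  rw [h1]
  exact hz'

variable (hM : ∀ (j : ℕ) (g : ι), VanM a ℳ (j + 1) g)
  (hC : ∀ (n j : ℕ) (g : ι), VanM a (C.X n).gr (j + 1) g)

include hM hC in
theorem vanM_Z (n : ℕ) : ∀ (j : ℕ) (g : ι), VanM a (C.Z n).gr (j + 1) g := by
  induction n with
  | zero =>
    intro j g
    rw [← vanM_Z_zero_iff]
    exact hM j g
  | succ n ih =>
    intro j g
    rw [← vanM_B_iff]
    exact les_right a (ses_ker_range (C.X n) (C.X (n + 1)) (C.d n) (C.d_grHom n)) (j + 1) g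
      (hC n j g) (ih (j + 1) g)

/-- Exactness of `Γ_a` at the first term (no acyclicity needed). -/
theorem exact_gam_zero (g : ι) (x : (C.X 0).carrier) (hxg : x ∈ (C.X 0).gr g)
    (hxt : x ∈ gam a.toIdeal (C.X 0).carrier) (hxd : C.d 0 x = 0) :
    ∃ m ∈ ℳ g, m ∈ gam a.toIdeal M ∧ C.ε m = x := by
  have hx : x ∈ LinearMap.ker (C.d 0) := hxd
  rw [C.exact_zero] at hx
  obtain ⟨m, rfl⟩ := hx
  refine ⟨m, mem_piece_of_map_mem_piece ℳ (C.X 0).gr C.ε C.ε_grHom C.ε_injective hxg, ?_, rfl⟩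
  obtain ⟨k, hk⟩ := hxt
  refine ⟨k, fun r hr => C.ε_injective ?_⟩
  rw [map_smul, hk r hr, map_zero]

/-- Ungraded form of `exact_gam_zero`. -/
theorem exact_gam_zero' (x : (C.X 0).carrier)
    (hxt : x ∈ gam a.toIdeal (C.X 0).carrier) (hxd : C.d 0 x = 0) :
    ∃ m ∈ gam a.toIdeal M, C.ε m = x := by
  have hx : x ∈ LinearMap.ker (C.d 0) := hxd
  rw [C.exact_zero] at hx
  obtain ⟨m, rfl⟩ := hx
  refine ⟨m, ?_, rfl⟩
  obtain ⟨k, hk⟩ := hxt
  refine ⟨k, fun r hr => C.ε_injective ?_⟩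
  rw [map_smul, hk r hr, map_zero]

include hM hC in
/-- `Γ_a` of an exact complex of acyclic graded modules is exact (graded form). -/
theorem exact_gam (n : ℕ) (g : ι) (x : (C.X (n + 1)).carrier) (hxg : x ∈ (C.X (n + 1)).gr g)
    (hxt : x ∈ gam a.toIdeal (C.X (n + 1)).carrier) (hxd : C.d (n + 1) x = 0) :
    ∃ y ∈ (C.X n).gr g, y ∈ gam a.toIdeal (C.X n).carrier ∧ C.d n y = x := by
  have hxr : x ∈ LinearMap.range (C.d n) := by
    rw [← C.exact_succ n]
    exact hxd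
  let m'' : (C.B n).carrier := ⟨x, hxr⟩
  have hm''g : m'' ∈ (C.B n).gr g := hxg
  have hm''t : m'' ∈ gam a.toIdeal (C.B n).carrier := by
    obtain ⟨k, hk⟩ := hxt
    exact ⟨k, fun r hr => Subtype.ext (hk r hr)⟩
  obtain ⟨y, hyg, hyt, hy⟩ := surj_of_vanM_one
    (ses_ker_range (C.X n) (C.X (n + 1)) (C.d n) (C.d_grHom n)) a g
    (vanM_Z C a hM hC n 0 g) m'' hm''g hm''t
  exact ⟨y, hyg, hyt, congrArg Subtype.val hy⟩

include hM hC in
/-- `Γ_a` of an exact complex of acyclic graded modules is exact (ungraded form). -/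
theorem exact_gam' (n : ℕ) (x : (C.X (n + 1)).carrier)
    (hxt : x ∈ gam a.toIdeal (C.X (n + 1)).carrier) (hxd : C.d (n + 1) x = 0) :
    ∃ y ∈ gam a.toIdeal (C.X n).carrier, C.d n y = x := by
  classical
  have hcomp : ∀ g : ι, ∃ y ∈ gam a.toIdeal (C.X n).carrier,
      C.d n y = (decompose (C.X (n + 1)).gr x g : (C.X (n + 1)).carrier) := by
    intro g
    have h1 : (decompose (C.X (n + 1)).gr x g : (C.X (n + 1)).carrier) ∈
        gam a.toIdeal (C.X (n + 1)).carrier := gam_isHomogeneous 𝒜 (C.X (n + 1)).gr a g hxt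
    have h2 : C.d (n + 1) (decompose (C.X (n + 1)).gr x g : (C.X (n + 1)).carrier) = 0 := by
      have := decompose_map_of_isGrHom (C.X (n + 1)).gr (C.X (n + 2)).gr (C.d (n + 1))
        (C.d_grHom (n + 1)) x g
      rw [hxd, decompose_zero, DirectSum.zero_apply, ZeroMemClass.coe_zero] at this
      exact this
    obtain ⟨y, _, hyt, hy⟩ := exact_gam C a hM hC n g _ (decompose (C.X (n + 1)).gr x g).2 h1 h2
    exact ⟨y, hyt, hy⟩
  choose y hyt hy using hcomp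
  refine ⟨∑ g ∈ (decompose (C.X (n + 1)).gr x).support, y g,
    Submodule.sum_mem _ (fun g _ => hyt g), ?_⟩
  rw [map_sum]
  simp only [hy]
  exact DirectSum.sum_support_decompose (C.X (n + 1)).gr x

end Res

end Groth.Agent.Lib.Helper8.GrAcyc
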