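import Groth.Agent.Lib.Helper8.GrAcycRes

/-!
# The comparison isomorphism for acyclic resolutions (mapping cone argument)
-/

set_option autoImplicit false
set_option linter.unusedSectionVars false
universe u

open DirectSum GrLC
open Groth.Agent.Lib.Helper30
open Groth.Agent.Lib.Helper8.GrLCBase Groth.Agent.Lib.Helper8.GrLCProd
open Groth.Agent.Lib.Helper8.GrLCLES
open Groth.Agent.Lib.Helper8.GrLCShift Groth.Agent.Lib.Helper8.GrLCFree
open Groth.Agent.Lib.Helper8.GrAcyc Groth.Agent.Lib.Helper8.GrAcycRes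

namespace Groth.Agent.Lib.Helper8.GrAcycMain

variable {ι : Type} [AddCommGroup ι] [DecidableEq ι]
variable {R : Type u} [CommRing R] {𝒜 : ι → AddSubgroup R} [GradedRing 𝒜]
variable {M : Type u} [AddCommGroup M] [Module R M] {ℳ : ι → AddSubgroup M}
  [DirectSum.Decomposition ℳ] [SetLike.GradedSMul 𝒜 ℳ]

variable (X : GrRes 𝒜 ℳ) (E : StarInjRes 𝒜 ℳ) (f : GMap X E)

/-- The terms of the mapping cone (from degree one on). -/
noncomputable def coneX (n : ℕ) : GMod.{u} 𝒜 := gprod (X.X (n + 1)) (E.X n)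

/-- The differential of the mapping cone. -/
noncomputable def coneD (n : ℕ) : (coneX X E n).carrier →ₗ[R] (coneX X E (n + 1)).carrier :=
  LinearMap.prod (-(X.d (n + 1) ∘ₗ LinearMap.fst R (X.X (n + 1)).carrier (E.X n).carrier))
    (f.φ (n + 1) ∘ₗ LinearMap.fst R (X.X (n + 1)).carrier (E.X n).carrier +
      E.d n ∘ₗ LinearMap.snd R (X.X (n + 1)).carrier (E.X n).carrier)

theorem coneD_apply (n : ℕ) (x : (X.X (n + 1)).carrier) (e : (E.X n).carrier) :
    coneD X E f n ((x, e) : (coneX X E n).carrier) =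
      ((-(X.d (n + 1) x), f.φ (n + 1) x + E.d n e) : (coneX X E (n + 1)).carrier) := rfl

/-- The augmentation of the mapping cone: the degree-zero term of the source. -/
noncomputable def coneε : (X.X 0).carrier →ₗ[R] (coneX X E 0).carrier :=
  LinearMap.prod (-(X.d 0)) (f.φ 0)

theorem coneε_apply (x : (X.X 0).carrier) :
    coneε X E f x = ((-(X.d 0 x), f.φ 0 x) : (coneX X E 0).carrier) := rfl

theorem coneD_gr (n : ℕ) : IsGrHom (coneX X E n).gr (coneX X E (n + 1)).gr (coneD X E f n) := by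
  rintro g ⟨x, e⟩ ⟨hx, he⟩
  rw [coneD_apply]
  exact ⟨AddSubgroup.neg_mem _ (X.d_grHom (n + 1) g x hx),
    AddSubgroup.add_mem _ (f.gr (n + 1) g x hx) (E.d_grHom n g e he)⟩

theorem coneε_gr : IsGrHom (X.X 0).gr (coneX X E 0).gr (coneε X E f) := by
  intro g x hx
  rw [coneε_apply]
  exact ⟨AddSubgroup.neg_mem _ (X.d_grHom 0 g x hx), f.gr 0 g x hx⟩

theorem coneε_inj : Function.Injective (coneε X E f) := by
  rw [injective_iff_map_eq_zero]
  intro x h
  rw [coneε_apply] at h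
  have h1 : -(X.d 0 x) = 0 := (Prod.mk.inj h).1
  have h2 : f.φ 0 x = 0 := (Prod.mk.inj h).2
  rw [neg_eq_zero] at h1
  have hx : x ∈ LinearMap.ker (X.d 0) := h1
  rw [X.exact_zero] at hx
  obtain ⟨m, rfl⟩ := hx
  rw [f.aug] at h2
  have hm : m = 0 := E.ε_injective (h2.trans (map_zero _).symm)
  rw [hm, map_zero]

theorem cone_exact_zero :
    LinearMap.ker (coneD X E f 0) = LinearMap.range (coneε X E f) := by
  apply le_antisymm
  · rintro ⟨x, e⟩ hw0
    have hw : coneD X E f 0 ((x, e) : (coneX X E 0).carrier) = 0 := hw0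
    rw [coneD_apply] at hw
    have h1 : -(X.d 1 x) = 0 := (Prod.mk.inj hw).1
    have h2 : f.φ 1 x + E.d 0 e = 0 := (Prod.mk.inj hw).2
    rw [neg_eq_zero] at h1
    have hx : x ∈ LinearMap.ker (X.d 1) := h1
    rw [X.exact_succ] at hx
    obtain ⟨x0, rfl⟩ := hx
    have he : E.d 0 (e + f.φ 0 x0) = 0 := by
      rw [map_add, ← f.comm, add_comm (E.d 0 e)]
      exact h2
    have hk : e + f.φ 0 x0 ∈ LinearMap.ker (E.d 0) := he
    rw [E.exact_zero] at hk
    obtain ⟨m, hm⟩ := hk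
    refine ⟨-x0 + X.ε m, ?_⟩
    rw [coneε_apply]
    refine Prod.ext ?_ ?_
    · change -(X.d 0 (-x0 + X.ε m)) = X.d 0 x0
      rw [map_add, map_neg, GrRes.d_comp_ε, add_zero, neg_neg]
    · change f.φ 0 (-x0 + X.ε m) = e
      rw [map_add, map_neg, f.aug, hm]
      abel
  · rintro _ ⟨x, rfl⟩
    rw [LinearMap.mem_ker, coneε_apply, coneD_apply]
    refine Prod.ext ?_ ?_
    · change -(X.d 1 (-(X.d 0 x))) = 0
      rw [map_neg, GrRes.d_comp_d, neg_zero, neg_zero]
    · change f.φ 1 (-(X.d 0 x)) + E.d 0 (f.φ 0 x) = 0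
      rw [map_neg, f.comm, neg_add_cancel]

theorem cone_exact_succ (n : ℕ) :
    LinearMap.ker (coneD X E f (n + 1)) = LinearMap.range (coneD X E f n) := by
  apply le_antisymm
  · rintro ⟨x, e⟩ hw0
    have hw : coneD X E f (n + 1) ((x, e) : (coneX X E (n + 1)).carrier) = 0 := hw0
    rw [coneD_apply] at hw
    have h1 : -(X.d (n + 2) x) = 0 := (Prod.mk.inj hw).1
    have h2 : f.φ (n + 2) x + E.d (n + 1) e = 0 := (Prod.mk.inj hw).2
    rw [neg_eq_zero] at h1
    have hx : x ∈ LinearMap.ker (X.d (n + 2)) := h1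
    rw [X.exact_succ] at hx
    obtain ⟨x0, rfl⟩ := hx
    have he : E.d (n + 1) (e + f.φ (n + 1) x0) = 0 := by
      rw [map_add, ← f.comm, add_comm (E.d (n + 1) e)]
      exact h2
    have hk : e + f.φ (n + 1) x0 ∈ LinearMap.ker (E.d (n + 1)) := he
    rw [E.exact_succ] at hk
    obtain ⟨e', he'⟩ := hk
    refine ⟨((-x0, e') : (coneX X E n).carrier), ?_⟩
    rw [coneD_apply]
    refine Prod.ext ?_ ?_
    · change -(X.d (n + 1) (-x0)) = X.d (n + 1) x0
      rw [map_neg, neg_neg]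
    · change f.φ (n + 1) (-x0) + E.d n e' = e
      rw [map_neg, he']
      abel
  · rintro _ ⟨⟨x, e⟩, rfl⟩
    rw [LinearMap.mem_ker, coneD_apply, coneD_apply]
    refine Prod.ext ?_ ?_
    · change -(X.d (n + 2) (-(X.d (n + 1) x))) = 0
      rw [map_neg, GrRes.d_comp_d, neg_zero, neg_zero]
    · change f.φ (n + 2) (-(X.d (n + 1) x)) + E.d (n + 1) (f.φ (n + 1) x + E.d n e) = 0
      rw [map_neg, map_add, f.comm, GrLCBase.d_comp_d, add_zero, neg_add_cancel]

/-- The mapping cone as a resolution of the degree-zero term of the source. -/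
noncomputable def coneRes : GrRes 𝒜 (X.X 0).gr where
  X := coneX X E
  d := coneD X E f
  ε := coneε X E f
  d_grHom := coneD_gr X E f
  ε_grHom := coneε_gr X E f
  ε_injective := coneε_inj X E f
  exact_zero := cone_exact_zero X E f
  exact_succ := cone_exact_succ X E f

variable (a : HomogeneousIdeal 𝒜)
  (hX : ∀ (n j : ℕ) (g : ι), VanM a (X.X n).gr (j + 1) g)

include hX in
theorem vanM_cone (n j : ℕ) (g : ι) : VanM a ((coneRes X E f).X n).gr (j + 1) g :=
  vanM_gprod a (X.X (n + 1)) (E.X n) (j + 1) g (hX (n + 1) j g)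
    (vanM_of_isStarInj a (E.starInj n) j g)

include hX in
theorem H_injective (n : ℕ) : Function.Injective (f.H a n) := by
  rw [injective_iff_map_eq_zero]
  intro y hy
  obtain ⟨z, rfl⟩ := Submodule.mkQ_surjective _ y
  change f.H a n (X.toH a.toIdeal n z) = 0 at hy
  rw [GMap.H_toH] at hy
  have hy' : (f.mapCocyc a n z : (E.X n).carrier) ∈ E.cobdy a n := by
    have := (Submodule.Quotient.mk_eq_zero _).mp hy
    exact this
  rw [GMap.mapCocyc_coe] at hy'
  change X.toH a.toIdeal n z = 0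
  rw [GrRes.toH_eq_zero_iff]
  have hzt : (z : (X.X n).carrier) ∈ gam a.toIdeal (X.X n).carrier := z.2.1
  have hzd : X.d n z = 0 := z.2.2
  cases n with
  | zero =>
    rw [GrLCBase.mem_cobdy_zero] at hy'
    rw [GrRes.mem_cobdy_zero]
    have h0 : coneε X E f (z : (X.X 0).carrier) = 0 := by
      rw [coneε_apply, hzd, neg_zero, hy']
      rfl
    exact coneε_inj X E f (h0.trans (map_zero _).symm)
  | succ n =>
    rw [GrLCBase.mem_cobdy_succ] at hy'
    obtain ⟨e', he't, he'⟩ := hy'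
    let w : (coneX X E n).carrier := ((z : (X.X (n + 1)).carrier), -e')
    have hwt : w ∈ gam a.toIdeal (coneX X E n).carrier :=
      (gam_prod_iff a.toIdeal _ _).mpr ⟨hzt, Submodule.neg_mem _ he't⟩
    have hwd : coneD X E f n w = 0 := by
      change coneD X E f n (((z : (X.X (n + 1)).carrier), -e') : (coneX X E n).carrier) = 0
      rw [coneD_apply]
      refine Prod.ext ?_ ?_
      · change -(X.d (n + 1) z) = 0
        rw [hzd, neg_zero]
      · change f.φ (n + 1) z + E.d n (-e') = 0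
        rw [map_neg, he', add_neg_cancel]
    rw [GrRes.mem_cobdy_succ]
    cases n with
    | zero =>
      obtain ⟨m, hmt, hm⟩ := exact_gam_zero' (coneRes X E f) a w hwt hwd
      have hm' : coneε X E f m = w := hm
      rw [coneε_apply] at hm'
      have h1 : -(X.d 0 m) = (z : (X.X 1).carrier) := (Prod.mk.inj hm').1
      exact ⟨-m, Submodule.neg_mem _ hmt, by rw [map_neg, h1]⟩
    | succ n =>
      obtain ⟨⟨x'', e''⟩, hyt, hyd⟩ := exact_gam' (coneRes X E f) a (hX 0) (vanM_cone X E f a hX)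
        n w hwt hwd
      have hyt' := (gam_prod_iff a.toIdeal x'' e'').mp hyt
      have hyd' : coneD X E f n ((x'', e'') : (coneX X E n).carrier) = w := hyd
      rw [coneD_apply] at hyd'
      have h1 : -(X.d (n + 1) x'') = (z : (X.X (n + 2)).carrier) := (Prod.mk.inj hyd').1
      exact ⟨-x'', Submodule.neg_mem _ hyt'.1, by rw [map_neg, h1]⟩

/-- A homogeneous element has at most one degree unless it is zero. -/
theorem degree_unique {Y : GMod.{u} 𝒜} {e : Y.carrier} (he0 : e ≠ 0) {g g' : ι}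
    (hg : e ∈ Y.gr g) (hg' : e ∈ Y.gr g') : g' = g := by
  by_contra hne
  apply he0
  have := DirectSum.decompose_of_mem_ne Y.gr hg' hne
  rw [DirectSum.decompose_of_mem_same Y.gr hg] at this
  exact this

include hX in
/-- Surjectivity with control of degrees. -/
theorem H_surjective_gr (n : ℕ) (e : (E.X n).carrier) (he : e ∈ E.cocyc a n) :
    ∃ x : ↥(X.cocyc a.toIdeal n), f.H a n (X.toH a.toIdeal n x) = E.toH a n ⟨e, he⟩ ∧
      ∀ g, e ∈ (E.X n).gr g → (x : (X.X n).carrier) ∈ (X.X n).gr g := by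
  classical
  have het : e ∈ gam a.toIdeal (E.X n).carrier := he.1
  have hed : E.d n e = 0 := he.2
  let w : (coneX X E n).carrier := ((0 : (X.X (n + 1)).carrier), e)
  have hwt : w ∈ gam a.toIdeal (coneX X E n).carrier :=
    (gam_prod_iff a.toIdeal _ _).mpr ⟨Submodule.zero_mem _, het⟩
  have hwd : coneD X E f n w = 0 := by
    change coneD X E f n (((0 : (X.X (n + 1)).carrier), e) : (coneX X E n).carrier) = 0
    rw [coneD_apply]
    refine Prod.ext ?_ ?_
    · change -(X.d (n + 1) 0) = 0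
      rw [map_zero, neg_zero]
    · change f.φ (n + 1) 0 + E.d n e = 0
      rw [map_zero, zero_add, hed]
  -- it suffices to find a cocycle `x` with `f x - e` a coboundary, homogeneous when `e` is
  suffices hex : ∃ x : (X.X n).carrier, x ∈ X.cocyc a.toIdeal n ∧ (f.φ n x - e) ∈ E.cobdy a n ∧
      ∀ g, e ∈ (E.X n).gr g → x ∈ (X.X n).gr g by
    obtain ⟨x, hxc, hxe, hxg⟩ := hex
    refine ⟨⟨x, hxc⟩, ?_, hxg⟩
    rw [GMap.H_toH, Submodule.mkQ_apply, Submodule.mkQ_apply, Submodule.Quotient.eq]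
    exact hxe
  by_cases he0 : e = 0
  · refine ⟨0, Submodule.zero_mem _, ?_, fun _ _ => zero_mem _⟩
    rw [map_zero, he0, sub_zero]
    exact Submodule.zero_mem _
  cases n with
  | zero =>
    by_cases hh : ∃ g, e ∈ (E.X 0).gr g
    · obtain ⟨g, hg⟩ := hh
      have hwg : w ∈ (coneX X E 0).gr g := ⟨zero_mem _, hg⟩
      obtain ⟨m, hmg, hmt, hm⟩ := exact_gam_zero (coneRes X E f) a g w hwg hwt hwd
      have hm' : coneε X E f m = w := hm
      rw [coneε_apply] at hm'
      have h1 : -(X.d 0 m) = 0 := (Prod.mk.inj hm').1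
      have h2 : f.φ 0 m = e := (Prod.mk.inj hm').2
      rw [neg_eq_zero] at h1
      refine ⟨m, ⟨hmt, h1⟩, ?_, fun g' hg' => ?_⟩
      · rw [h2, sub_self]
        exact Submodule.zero_mem _
      · rw [degree_unique he0 hg hg']
        exact hmg
    · obtain ⟨m, hmt, hm⟩ := exact_gam_zero' (coneRes X E f) a w hwt hwd
      have hm' : coneε X E f m = w := hm
      rw [coneε_apply] at hm'
      have h1 : -(X.d 0 m) = 0 := (Prod.mk.inj hm').1
      have h2 : f.φ 0 m = e := (Prod.mk.inj hm').2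
      rw [neg_eq_zero] at h1
      refine ⟨m, ⟨hmt, h1⟩, ?_, fun g hg => absurd ⟨g, hg⟩ hh⟩
      rw [h2, sub_self]
      exact Submodule.zero_mem _
  | succ n =>
    have hex : ∃ y : (coneX X E n).carrier, y ∈ gam a.toIdeal (coneX X E n).carrier ∧
        coneD X E f n y = w ∧ ∀ g, e ∈ (E.X (n + 1)).gr g → y ∈ (coneX X E n).gr g := by
      by_cases hh : ∃ g, e ∈ (E.X (n + 1)).gr g
      · obtain ⟨g, hg⟩ := hh
        have hwg : w ∈ (coneX X E (n + 1)).gr g := ⟨zero_mem _, hg⟩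
        obtain ⟨y, hyg, hyt, hyd⟩ :=
          exact_gam (coneRes X E f) a (hX 0) (vanM_cone X E f a hX) n g w hwg hwt hwd
        refine ⟨y, hyt, hyd, fun g' hg' => ?_⟩
        rw [degree_unique he0 hg hg']
        exact hyg
      · obtain ⟨y, hyt, hyd⟩ :=
          exact_gam' (coneRes X E f) a (hX 0) (vanM_cone X E f a hX) n w hwt hwd
        exact ⟨y, hyt, hyd, fun g hg => absurd ⟨g, hg⟩ hh⟩
    obtain ⟨⟨x', e'⟩, hyt, hyd, hyg⟩ := hex
    have hyt' := (gam_prod_iff a.toIdeal x' e').mp hyt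
    have hyd' : coneD X E f n ((x', e') : (coneX X E n).carrier) = w := hyd
    rw [coneD_apply] at hyd'
    have h1 : -(X.d (n + 1) x') = 0 := (Prod.mk.inj hyd').1
    have h2 : f.φ (n + 1) x' + E.d n e' = e := (Prod.mk.inj hyd').2
    rw [neg_eq_zero] at h1
    refine ⟨x', ⟨hyt'.1, h1⟩, ?_, fun g hg => (hyg g hg).1⟩
    rw [GrLCBase.mem_cobdy_succ]
    refine ⟨-e', Submodule.neg_mem _ hyt'.2, ?_⟩
    rw [map_neg, ← h2]
    abel

include hX f in
/-- **Acyclic resolutions compute graded local cohomology**: the comparison map is an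
isomorphism respecting the gradings in both directions. -/
theorem main (n : ℕ) :
    ∃ Ψ : X.H a.toIdeal n ≃ₗ[R] E.H a n, ∀ (g : ι) (x : X.H a.toIdeal n),
      x ∈ X.Hgr a.toIdeal n g ↔ Ψ x ∈ E.Hgr a n g := by
  have hinj := H_injective X E f a hX n
  have hsurj : Function.Surjective (f.H a n) := by
    intro y
    obtain ⟨e, rfl⟩ := Submodule.mkQ_surjective _ y
    obtain ⟨x, hx, _⟩ := H_surjective_gr X E f a hX n e.1 e.2
    exact ⟨X.toH a.toIdeal n x, hx⟩
  have hbij : Function.Bijective (f.H a n) := ⟨hinj, hsurj⟩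
  refine ⟨LinearEquiv.ofBijective (f.H a n) hbij, fun g x => ?_⟩
  change x ∈ X.Hgr a.toIdeal n g ↔ f.H a n x ∈ E.Hgr a n g
  constructor
  · rintro ⟨z, hzg, rfl⟩
    rw [GMap.H_toH]
    exact ⟨f.mapCocyc a n z, f.gr n g _ hzg, rfl⟩
  · rintro ⟨e, heg, he⟩
    obtain ⟨x', hx', hx'g⟩ := H_surjective_gr X E f a hX n e.1 e.2
    have : f.H a n (X.toH a.toIdeal n x') = f.H a n x := by
      rw [hx', ← he]
    rw [← hinj this]
    exact ⟨x', hx'g g heg, rfl⟩

/-- Version without a chosen chain map. -/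
theorem main' (X : GrRes 𝒜 ℳ) (E : StarInjRes 𝒜 ℳ) (a : HomogeneousIdeal 𝒜)
    (hX : ∀ (n j : ℕ) (g : ι), VanM a (X.X n).gr (j + 1) g) (n : ℕ) :
    ∃ Ψ : X.H a.toIdeal n ≃ₗ[R] E.H a n, ∀ (g : ι) (x : X.H a.toIdeal n),
      x ∈ X.Hgr a.toIdeal n g ↔ Ψ x ∈ E.Hgr a n g := by
  obtain ⟨f⟩ := exists_gmap X E
  exact main X E f a hX n

end Groth.Agent.Lib.Helper8.GrAcycMain
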