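import Groth.Agent.Lib.Helper8.GrAcyc

/-!
# Resolutions by `Γ_a`-acyclic graded modules compute graded local cohomology
-/

set_option autoImplicit false
set_option linter.unusedSectionVars false
universe u

open DirectSum GrLC
open Groth.Agent.Lib.Helper30
open Groth.Agent.Lib.Helper8.GrLCBase Groth.Agent.Lib.Helper8.GrLCProd
open Groth.Agent.Lib.Helper8.GrLCLES
open Groth.Agent.Lib.Helper8.GrLCShift Groth.Agent.Lib.Helper8.GrLCFree
open Groth.Agent.Lib.Helper8.GrAcyc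

namespace Groth.Agent.Lib.Helper8.GrAcyc

variable {ι : Type} [AddCommGroup ι] [DecidableEq ι]
variable {R : Type u} [CommRing R] {𝒜 : ι → AddSubgroup R} [GradedRing 𝒜]
variable {M : Type u} [AddCommGroup M] [Module R M] {ℳ : ι → AddSubgroup M}
  [DirectSum.Decomposition ℳ] [SetLike.GradedSMul 𝒜 ℳ]

namespace GrRes

variable (X : GrRes 𝒜 ℳ) (I : Ideal R)

def cocyc (i : ℕ) : Submodule R (X.X i).carrier :=
  gam I (X.X i).carrier ⊓ LinearMap.ker (X.d i)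

def cobdy : (i : ℕ) → Submodule R (X.X i).carrier
  | 0 => ⊥
  | n + 1 => (gam I (X.X n).carrier).map (X.d n)

abbrev H (i : ℕ) : Type u :=
  ↥(X.cocyc I i) ⧸ (X.cobdy I i).comap (X.cocyc I i).subtype

abbrev toH (i : ℕ) : ↥(X.cocyc I i) →ₗ[R] X.H I i :=
  ((X.cobdy I i).comap (X.cocyc I i).subtype).mkQ

/-- The homogeneous pieces of the cohomology of `Γ_a(X^•)`. -/
def Hgr (i : ℕ) (g : ι) : AddSubgroup (X.H I i) where
  carrier := {x | ∃ z : ↥(X.cocyc I i), (z : (X.X i).carrier) ∈ (X.X i).gr g ∧ X.toH I i z = x}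
  zero_mem' := ⟨0, zero_mem _, map_zero _⟩
  add_mem' := by
    rintro x y ⟨z, hz, rfl⟩ ⟨w, hw, rfl⟩
    exact ⟨z + w, add_mem hz hw, map_add _ _ _⟩
  neg_mem' := by
    rintro x ⟨z, hz, rfl⟩
    exact ⟨-z, neg_mem hz, map_neg _ _⟩

theorem mem_cobdy_zero (z : (X.X 0).carrier) : z ∈ X.cobdy I 0 ↔ z = 0 := by
  change z ∈ (⊥ : Submodule R (X.X 0).carrier) ↔ z = 0
  exact Submodule.mem_bot R

theorem mem_cobdy_succ (n : ℕ) (z : (X.X (n + 1)).carrier) :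
    z ∈ X.cobdy I (n + 1) ↔ ∃ y ∈ gam I (X.X n).carrier, X.d n y = z := by
  change z ∈ (gam I (X.X n).carrier).map (X.d n) ↔ _
  rw [Submodule.mem_map]

theorem d_comp_ε (m : M) : X.d 0 (X.ε m) = 0 := by
  have : X.ε m ∈ LinearMap.ker (X.d 0) := by
    rw [X.exact_zero]
    exact ⟨m, rfl⟩
  exact this

theorem d_comp_d (n : ℕ) (x : (X.X n).carrier) : X.d (n + 1) (X.d n x) = 0 := by
  have : X.d n x ∈ LinearMap.ker (X.d (n + 1)) := by
    rw [X.exact_succ]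
    exact ⟨x, rfl⟩
  exact this

theorem toH_eq_zero_iff (n : ℕ) (z : ↥(X.cocyc I n)) :
    X.toH I n z = 0 ↔ (z : (X.X n).carrier) ∈ X.cobdy I n := by
  rw [Submodule.mkQ_apply, Submodule.Quotient.mk_eq_zero]
  rfl

/-- The cohomology only depends on the ideal. -/
def Hcongr {I I' : Ideal R} (h : I = I') (i : ℕ) : X.H I i ≃ₗ[R] X.H I' i := by
  subst h
  exact LinearEquiv.refl _ _

theorem Hcongr_toH {I I' : Ideal R} (h : I = I') (i : ℕ) (z : (X.X i).carrier)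
    (hz : z ∈ X.cocyc I i) (hz' : z ∈ X.cocyc I' i) :
    X.Hcongr h i (X.toH I i ⟨z, hz⟩) = X.toH I' i ⟨z, hz'⟩ := by
  subst h
  rfl


end GrRes

end Groth.Agent.Lib.Helper8.GrAcyc

namespace Groth.Agent.Lib.Helper8.GrAcycRes

variable {ι : Type} [AddCommGroup ι] [DecidableEq ι]
variable {R : Type u} [CommRing R] {𝒜 : ι → AddSubgroup R} [GradedRing 𝒜]
variable {M : Type u} [AddCommGroup M] [Module R M] {ℳ : ι → AddSubgroup M}
  [DirectSum.Decomposition ℳ] [SetLike.GradedSMul 𝒜 ℳ]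



/-- A *injective resolution is in particular a resolution. -/
def toGrRes (E : StarInjRes 𝒜 ℳ) : GrRes 𝒜 ℳ where
  X := E.X
  d := E.d
  ε := E.ε
  d_grHom := E.d_grHom
  ε_grHom := E.ε_grHom
  ε_injective := E.ε_injective
  exact_zero := E.exact_zero
  exact_succ := E.exact_succ

/-- A homogeneous chain map from a resolution to a *injective resolution over the identity. -/
structure GMap (X : GrRes 𝒜 ℳ) (E : StarInjRes 𝒜 ℳ) where
  φ : ∀ n, (X.X n).carrier →ₗ[R] (E.X n).carrier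
  gr : ∀ n, IsGrHom (X.X n).gr (E.X n).gr (φ n)
  aug : ∀ m, φ 0 (X.ε m) = E.ε m
  comm : ∀ n x, φ (n + 1) (X.d n x) = E.d n (φ n x)

section Exists

variable (X : GrRes 𝒜 ℳ) (E : StarInjRes 𝒜 ℳ)

structure GStage (n : ℕ) where
  φ : (X.X n).carrier →ₗ[R] (E.X n).carrier
  ψ : (X.X (n + 1)).carrier →ₗ[R] (E.X (n + 1)).carrier
  φ_gr : IsGrHom (X.X n).gr (E.X n).gr φ
  ψ_gr : IsGrHom (X.X (n + 1)).gr (E.X (n + 1)).gr ψ
  comm : ∀ x, ψ (X.d n x) = E.d n (φ x)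

variable {X E}

theorem gstage_next_exists {n : ℕ} (s : GStage X E n) :
    ∃ χ : (X.X (n + 2)).carrier →ₗ[R] (E.X (n + 2)).carrier,
      IsGrHom (X.X (n + 2)).gr (E.X (n + 2)).gr χ ∧
        ∀ x, χ (X.d (n + 1) x) = E.d (n + 1) (s.ψ x) := by
  refine exists_extension (X.X (n + 1)).gr (X.X (n + 2)) (E.X (n + 2)) (E.starInj (n + 2))
    (X.d (n + 1)) (X.d_grHom (n + 1)) (E.d (n + 1) ∘ₗ s.ψ) ?_ ?_
  · intro k x hx
    exact E.d_grHom (n + 1) k _ (s.ψ_gr k x hx)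
  · rw [X.exact_succ]
    rintro _ ⟨x, rfl⟩
    rw [LinearMap.mem_ker, LinearMap.comp_apply, s.comm, GrLCBase.d_comp_d]

noncomputable def GStage.next {n : ℕ} (s : GStage X E n) : GStage X E (n + 1) where
  φ := s.ψ
  ψ := Classical.choose (gstage_next_exists s)
  φ_gr := s.ψ_gr
  ψ_gr := (Classical.choose_spec (gstage_next_exists s)).1
  comm := (Classical.choose_spec (gstage_next_exists s)).2

theorem gstage_zero_exists :
    ∃ s : GStage X E 0, ∀ m, s.φ (X.ε m) = E.ε m := by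
  obtain ⟨φ0, hφ0, h0⟩ := exists_extension ℳ (X.X 0) (E.X 0) (E.starInj 0)
    X.ε X.ε_grHom E.ε E.ε_grHom (by
      rw [LinearMap.ker_eq_bot.mpr X.ε_injective]
      exact bot_le)
  obtain ⟨φ1, hφ1, h1⟩ := exists_extension (X.X 0).gr (X.X 1) (E.X 1) (E.starInj 1)
    (X.d 0) (X.d_grHom 0) (E.d 0 ∘ₗ φ0) (fun k x hx => E.d_grHom 0 k _ (hφ0 k x hx)) (by
      rw [X.exact_zero]
      rintro _ ⟨m, rfl⟩
      rw [LinearMap.mem_ker, LinearMap.comp_apply, h0 m, GrLCBase.d_comp_ε])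
  exact ⟨⟨φ0, φ1, hφ0, hφ1, h1⟩, h0⟩

noncomputable def gseq (s0 : GStage X E 0) : ∀ n, GStage X E n
  | 0 => s0
  | n + 1 => (gseq s0 n).next

theorem gseq_succ_φ (s0 : GStage X E 0) (n : ℕ) : (gseq s0 (n + 1)).φ = (gseq s0 n).ψ := rfl

variable (X E)

theorem exists_gmap : Nonempty (GMap X E) := by
  obtain ⟨s0, hs0⟩ := gstage_zero_exists (X := X) (E := E)
  refine ⟨⟨fun n => (gseq s0 n).φ, fun n => (gseq s0 n).φ_gr, hs0, fun n x => ?_⟩⟩
  rw [gseq_succ_φ]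
  exact (gseq s0 n).comm x

end Exists

namespace GMap

variable {X : GrRes 𝒜 ℳ} {E : StarInjRes 𝒜 ℳ} (f : GMap X E) (a : HomogeneousIdeal 𝒜)

theorem map_cocyc (n : ℕ) {z : (X.X n).carrier} (hz : z ∈ X.cocyc a.toIdeal n) :
    f.φ n z ∈ E.cocyc a n := by
  refine ⟨gam_map _ _ hz.1, ?_⟩
  have h2 : X.d n z = 0 := hz.2
  change E.d n (f.φ n z) = 0
  rw [← f.comm, h2, map_zero]

theorem map_cobdy (n : ℕ) {z : (X.X n).carrier} (hz : z ∈ X.cobdy a.toIdeal n) :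
    f.φ n z ∈ E.cobdy a n := by
  cases n with
  | zero =>
    rw [GrRes.mem_cobdy_zero] at hz
    rw [GrLCBase.mem_cobdy_zero, hz, map_zero]
  | succ n =>
    rw [GrRes.mem_cobdy_succ] at hz
    rw [GrLCBase.mem_cobdy_succ]
    obtain ⟨y, hy, rfl⟩ := hz
    exact ⟨f.φ n y, gam_map _ _ hy, (f.comm n y).symm⟩

/-- The induced map on cocycles. -/
def mapCocyc (n : ℕ) : ↥(X.cocyc a.toIdeal n) →ₗ[R] ↥(E.cocyc a n) :=
  (f.φ n).restrict (fun _ hz => f.map_cocyc a n hz)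

theorem mapCocyc_coe (n : ℕ) (z : ↥(X.cocyc a.toIdeal n)) :
    ((f.mapCocyc a n z : ↥(E.cocyc a n)) : (E.X n).carrier) = f.φ n z := rfl

/-- The induced map on cohomology. -/
def H (n : ℕ) : X.H a.toIdeal n →ₗ[R] E.H a n :=
  Submodule.mapQ _ _ (f.mapCocyc a n) (by
    intro z hz
    exact f.map_cobdy a n hz)

theorem H_toH (n : ℕ) (z : ↥(X.cocyc a.toIdeal n)) :
    f.H a n (X.toH a.toIdeal n z) = E.toH a n (f.mapCocyc a n z) := rfl

end GMap

end Groth.Agent.Lib.Helper8.GrAcycRes
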