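import Groth.Agent.Lib.Helper8.GrLCEulerTors

/-!
# The Serre–Grothendieck formula

For a standard graded Noetherian ring `R` over an Artinian ring `R_0`, *local with *maximal ideal `m`,
and a finitely generated graded module `M`, the function
`F_M(n) = ℓ(M_n) - ∑_i (-1)^i ℓ(H^i_m(M)_n)` has vanishing `dim M`-th difference; consequently
it coincides with the Hilbert polynomial.
-/

set_option autoImplicit false
set_option linter.unusedSectionVars false
universe u

open DirectSum GrLC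
open Groth.Agent.Lib.Helper30
open Groth.Agent.Lib.Helper8.GrLCBase Groth.Agent.Lib.Helper8.GrLCLES
open Groth.Agent.Lib.Helper8.GrLCProd Groth.Agent.Lib.Helper8.GrLCSerre
open Groth.Agent.Lib.Helper8.GrLCShift Groth.Agent.Lib.Helper8.GrLCEulerLES
open Groth.Agent.Lib.Helper8.GrLCEulerInv Groth.Agent.Lib.Helper8.GrLCEulerAbs
open Groth.Agent.Lib.Helper8.GrLCTors Groth.Agent.Lib.Helper8.GrLCFin
open Groth.Agent.Lib.Helper8.GrLCPieces Groth.Agent.Lib.Helper8.GrLCFinArt
open Groth.Agent.Lib.Helper8.GrLCEulerTors Groth.Agent.Lib.Helper8.GrLCEulerInd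
open Groth.Agent.Lib.Helper8.GrLCGV

namespace Groth.Agent.Lib.Helper8.GrLCEulerMain

section Defs

variable {R : Type u} [CommRing R] [IsNoetherianRing R] (𝒜 : ℤ → AddSubgroup R) [GradedRing 𝒜]
variable {M : Type u} [AddCommGroup M] [Module R M] (ℳ : ℤ → AddSubgroup M)
  [DirectSum.Decomposition ℳ] [SetLike.GradedSMul 𝒜 ℳ]

/-- The Hilbert function. -/
noncomputable def hilb (g : ℤ) : ℚ := ((Module.length ↥(deg0 𝒜) ↥(comp 𝒜 ℳ g)).toNat : ℚ)

variable {𝒜 ℳ} in
/-- The Euler characteristic of the pieces of graded local cohomology, computed from `E`. -/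
noncomputable def chiE (a : HomogeneousIdeal 𝒜) (d : ℕ) (E : StarInjRes 𝒜 ℳ) (g : ℤ) : ℚ :=
  ∑ i ∈ Finset.range (d + 1),
    (-1 : ℚ) ^ i * ((Module.length ↥(deg0 𝒜) ↥(E.Hcomp a i g)).toNat : ℚ)

/-- Hilbert function minus the Euler characteristic of local cohomology. -/
noncomputable def F (a : HomogeneousIdeal 𝒜) (d : ℕ) : ℤ → ℚ :=
  fun g => hilb 𝒜 ℳ g - chiE a d (starInjRes 𝒜 ℳ) g

variable {𝒜 ℳ}
variable (a : HomogeneousIdeal 𝒜) (d : ℕ)

theorem chiE_eq_of_res (E E₁ : StarInjRes 𝒜 ℳ) (g : ℤ) : chiE a d E g = chiE a d E₁ g := by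
  unfold chiE
  apply Finset.sum_congr rfl
  intro i _
  rw [length_eq_of_res a E E₁ i g]

theorem chiE_tors (ht : gam a.toIdeal M = ⊤) (E : StarInjRes 𝒜 ℳ) (g : ℤ) :
    chiE a d E g = hilb 𝒜 ℳ g := by
  unfold chiE hilb
  rw [Finset.sum_range_succ']
  rw [length_H0_of_tors E a ht g]
  have : ∀ i ∈ Finset.range d,
      (-1 : ℚ) ^ (i + 1) * ((Module.length ↥(deg0 𝒜) ↥(E.Hcomp a (i + 1) g)).toNat : ℚ) = 0 := by
    intro i _
    rw [length_eq_zero_of_vanM E a (i + 1) g (vanM_of_tors a ht i g)]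
    simp
  rw [Finset.sum_eq_zero this]
  simp

theorem F_tors (ht : gam a.toIdeal M = ⊤) : F 𝒜 ℳ a d = 0 := by
  funext g
  simp only [F, Pi.zero_apply]
  rw [chiE_tors a d ht, sub_self]

theorem F_subsingleton [Subsingleton M] : F 𝒜 ℳ a d = 0 := by
  apply F_tors
  rw [eq_top_iff]
  intro y _
  exact ⟨0, fun r _ => Subsingleton.elim _ _⟩

theorem chiE_shift (E : StarInjRes 𝒜 ℳ) (k g : ℤ) :
    chiE a d (resShift E k) g = chiE a d E (g + k) := by
  unfold chiE
  apply Finset.sum_congr rfl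
  intro i _
  rw [length_resShift E a k i g]

theorem F_shift (k : ℤ) : F 𝒜 (shiftGr ℳ k) a d = sh k (F 𝒜 ℳ a d) := by
  funext g
  simp only [F, sh]
  rw [chiE_eq_of_res a d (starInjRes 𝒜 (shiftGr ℳ k)) (resShift (starInjRes 𝒜 ℳ) k) g,
    chiE_shift]
  rfl

end Defs

section SES

variable {R : Type u} [CommRing R] [IsNoetherianRing R] {𝒜 : ℤ → AddSubgroup R} [GradedRing 𝒜]
variable {M' : Type u} [AddCommGroup M'] [Module R M'] {ℳ' : ℤ → AddSubgroup M'}
  [DirectSum.Decomposition ℳ'] [SetLike.GradedSMul 𝒜 ℳ']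
variable {M : Type u} [AddCommGroup M] [Module R M] {ℳ : ℤ → AddSubgroup M}
  [DirectSum.Decomposition ℳ] [SetLike.GradedSMul 𝒜 ℳ]
variable {M'' : Type u} [AddCommGroup M''] [Module R M''] {ℳ'' : ℤ → AddSubgroup M''}
  [DirectSum.Decomposition ℳ''] [SetLike.GradedSMul 𝒜 ℳ'']
variable {i : M' →ₗ[R] M} {p : M →ₗ[R] M''}
variable (a : HomogeneousIdeal 𝒜) (d : ℕ)

theorem F_ses (S : SES ℳ' ℳ ℳ'' i p) (g : ℤ)
    (fc' : Module.length ↥(deg0 𝒜) ↥(comp 𝒜 ℳ' g) ≠ ⊤)
    (fc'' : Module.length ↥(deg0 𝒜) ↥(comp 𝒜 ℳ'' g) ≠ ⊤)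
    (fH' : ∀ (E : StarInjRes 𝒜 ℳ') (n : ℕ), Module.length ↥(deg0 𝒜) ↥(E.Hcomp a n g) ≠ ⊤)
    (fH : ∀ (E : StarInjRes 𝒜 ℳ) (n : ℕ), Module.length ↥(deg0 𝒜) ↥(E.Hcomp a n g) ≠ ⊤)
    (fH'' : ∀ (E : StarInjRes 𝒜 ℳ'') (n : ℕ), Module.length ↥(deg0 𝒜) ↥(E.Hcomp a n g) ≠ ⊤)
    (hv : VanM a ℳ' (d + 1) g) :
    F 𝒜 ℳ a d g = F 𝒜 ℳ' a d g + F 𝒜 ℳ'' a d g := by
  obtain ⟨D⟩ := exists_hsdata (E' := starInjRes 𝒜 ℳ') (E'' := starInjRes 𝒜 ℳ'') S
  have h1 : chiE a d (starInjRes 𝒜 ℳ) g =
      chiE a d (starInjRes 𝒜 ℳ') g + chiE a d (starInjRes 𝒜 ℳ'') g := by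
    rw [chiE_eq_of_res a d (starInjRes 𝒜 ℳ) (hs S D) g]
    exact euler_hs S D a g (fH' _) (fH _) (fH'' _) d
      (subsingleton_of_vanM (starInjRes 𝒜 ℳ') a (d + 1) g hv)
  have h2 : hilb 𝒜 ℳ g = hilb 𝒜 ℳ' g + hilb 𝒜 ℳ'' g := by
    unfold hilb
    rw [length_comp_ses S g, ENat.toNat_add fc' fc'']
    push_cast
    rfl
  simp only [F]
  rw [h1, h2]
  ring

end SES

section Dim

variable {R : Type u} [CommRing R]

/-- The dimension drops when dividing by a regular element. -/
theorem dim_lt_of_regular {X Z : Type u} [AddCommGroup X] [Module R X] [AddCommGroup Z]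
    [Module R Z] (x : R) (hreg : IsSMulRegular X x) (π : X →ₗ[R] Z) (hπ : Function.Surjective π)
    (hker : LinearMap.ker π = LinearMap.range (x • (LinearMap.id : X →ₗ[R] X))) (i : ℕ)
    (hi : ringKrullDim (R ⧸ Module.annihilator R X) < ((i + 1 : ℕ) : WithBot ℕ∞)) :
    ringKrullDim (R ⧸ Module.annihilator R Z) < ((i : ℕ) : WithBot ℕ∞) := by
  have hleZ : Module.annihilator R X ≤ Module.annihilator R Z := by
    intro r hr
    rw [Module.mem_annihilator] at hr ⊢
    intro y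
    obtain ⟨z, rfl⟩ := hπ y
    rw [← map_smul, hr, map_zero]
  have hxZ : x ∈ Module.annihilator R Z := by
    rw [Module.mem_annihilator]
    intro y
    obtain ⟨z, rfl⟩ := hπ y
    rw [← map_smul]
    have : x • z ∈ LinearMap.ker π := by
      rw [hker]
      exact ⟨z, rfl⟩
    exact this
  let A := R ⧸ Module.annihilator R X
  let xb : A := Ideal.Quotient.mk _ x
  have hxb : xb ∈ nonZeroDivisors A := by
    rw [mem_nonZeroDivisors_iff_right]
    intro yb hy
    obtain ⟨y, rfl⟩ := Ideal.Quotient.mk_surjective yb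
    rw [← map_mul, Ideal.Quotient.eq_zero_iff_mem, Module.mem_annihilator] at hy
    rw [Ideal.Quotient.eq_zero_iff_mem, Module.mem_annihilator]
    intro z
    apply hreg
    change x • y • z = x • 0
    rw [smul_zero, ← mul_smul, mul_comm]
    exact hy z
  have h1 := ringKrullDim_quotient_succ_le_of_nonZeroDivisor hxb
  have h2 : ringKrullDim (A ⧸ Ideal.span {xb}) < ((i : ℕ) : WithBot ℕ∞) :=
    dim_lt_of_succ_le h1 hi
  let f : A ⧸ Ideal.span {xb} →+* R ⧸ Module.annihilator R Z :=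
    Ideal.Quotient.lift (Ideal.span {xb}) (Ideal.Quotient.factor hleZ) (by
      intro y hy
      obtain ⟨c, rfl⟩ := Ideal.mem_span_singleton'.mp hy
      rw [map_mul]
      have : Ideal.Quotient.factor hleZ xb = 0 := by
        change Ideal.Quotient.factor hleZ (Ideal.Quotient.mk _ x) = 0
        rw [Ideal.Quotient.factor_mk, Ideal.Quotient.eq_zero_iff_mem]
        exact hxZ
      rw [this, mul_zero])
  have hf : Function.Surjective f :=
    Ideal.Quotient.lift_surjective_of_surjective _ _ (Ideal.Quotient.factor_surjective hleZ)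
  exact lt_of_le_of_lt (ringKrullDim_le_of_surjective f hf) h2

end Dim

section Main

variable {R : Type u} [CommRing R] [IsNoetherianRing R] {𝒜 : ℤ → AddSubgroup R} [GradedRing 𝒜]
variable (hpos : ∀ n : ℤ, n < 0 → 𝒜 n = ⊥)
  (hstd : Ideal.span (⋃ n ∈ Set.Ioi (0 : ℤ), (𝒜 n : Set R)) = Ideal.span ((𝒜 1 : AddSubgroup R) : Set R))
  [IsArtinianRing (GrLC.deg0 𝒜)] (m : HomogeneousIdeal 𝒜) (hm : GrLC.IsStarLocal 𝒜 m)

omit [IsNoetherianRing R] in
/-- Finiteness of the length of the pieces of a finitely generated graded module. -/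
theorem fin_comp {M : Type u} [AddCommGroup M] [Module R M] (ℳ : ℤ → AddSubgroup M)
    [DirectSum.Decomposition ℳ] [SetLike.GradedSMul 𝒜 ℳ] [IsNoetherian R M] (g : ℤ) :
    Module.length ↥(deg0 𝒜) ↥(comp 𝒜 ℳ g) ≠ ⊤ := by
  have h1 : IsNoetherian ↥(deg0 𝒜) ↥(comp 𝒜 ℳ g) := isNoetherian_comp (𝒜 := 𝒜) (ℳ := ℳ) g
  rw [Module.length_ne_top_iff]
  exact ((IsArtinianRing.tfae ↥(deg0 𝒜) ↥(comp 𝒜 ℳ g)).out 1 3).mp h1

include hpos hm in
/-- Finiteness of the length of the pieces of the graded local cohomology. -/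
theorem fin_H {M : Type u} [AddCommGroup M] [Module R M] (ℳ : ℤ → AddSubgroup M)
    [DirectSum.Decomposition ℳ] [SetLike.GradedSMul 𝒜 ℳ] [Module.Finite R M]
    (E : StarInjRes 𝒜 ℳ) (i : ℕ) (g : ℤ) :
    Module.length ↥(deg0 𝒜) ↥(E.Hcomp m i g) ≠ ⊤ := by
  have h1 : IsArtinian ↥(deg0 𝒜) ↥(E.Hcomp m i g) :=
    art_pieces hpos m hm (GMod.of 𝒜 M ℳ) (show Module.Finite R M from inferInstance) i g E
  rw [Module.length_ne_top_iff]
  exact ((IsArtinianRing.tfae ↥(deg0 𝒜) ↥(E.Hcomp m i g)).out 2 3).mp h1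

variable (d : ℕ) (hd : ringKrullDim R = d)

include hpos hstd hm hd in
/-- The main induction: the `r`-th difference of `F_X` vanishes when `dim X ≤ r`. -/
theorem Dl_F_eq_zero (X : GMod.{u} 𝒜) (hX : Module.Finite R X.carrier) :
    ∀ r : ℕ, ringKrullDim (R ⧸ Module.annihilator R X.carrier) < ((r + 1 : ℕ) : WithBot ℕ∞) →
      Dl^[r] (F 𝒜 X.gr m d) = 0 := by
  refine grInduction1 m (fun k _ => k = 1) (fun Y _ _ ht => exists_deg_one hpos hstd m hm Y ht)
    (fun X => ∀ r : ℕ,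
      ringKrullDim (R ⧸ Module.annihilator R X.carrier) < ((r + 1 : ℕ) : WithBot ℕ∞) →
      Dl^[r] (F 𝒜 X.gr m d) = 0) ?_ ?_ ?_ X hX
  · intro X _ ht r _
    rw [F_tors m d ht, Dl_iter_zero]
  · intro X' X X'' i p S hfin h' h'' r hr
    have := hfin
    have hN : IsNoetherian R X.carrier := isNoetherian_of_isNoetherianRing_of_finite R X.carrier
    have hfin' : Module.Finite R X'.carrier := Module.Finite.of_injective i S.inj
    have hfin'' : Module.Finite R X''.carrier := Module.Finite.of_surjective p S.surj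
    have hN' : IsNoetherian R X'.carrier := isNoetherian_of_isNoetherianRing_of_finite R X'.carrier
    have hN'' : IsNoetherian R X''.carrier :=
      isNoetherian_of_isNoetherianRing_of_finite R X''.carrier
    have hle' : Module.annihilator R X.carrier ≤ Module.annihilator R X'.carrier := by
      intro r hr
      rw [Module.mem_annihilator] at hr ⊢
      intro y
      apply S.inj
      rw [map_smul, hr, map_zero]
    have hle'' : Module.annihilator R X.carrier ≤ Module.annihilator R X''.carrier := by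
      intro r hr
      rw [Module.mem_annihilator] at hr ⊢
      intro y
      obtain ⟨z, rfl⟩ := S.surj y
      rw [← map_smul, hr, map_zero]
    have hd' := ringKrullDim_le_of_surjective _ (Ideal.Quotient.factor_surjective hle')
    have hd'' := ringKrullDim_le_of_surjective _ (Ideal.Quotient.factor_surjective hle'')
    have hF : F 𝒜 X.gr m d = F 𝒜 X'.gr m d + F 𝒜 X''.gr m d := by
      funext g
      rw [Pi.add_apply]
      exact F_ses m d S g (fin_comp X'.gr g) (fin_comp X''.gr g)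
        (fun E n => fin_H hpos m hm X'.gr E n g) (fun E n => fin_H hpos m hm X.gr E n g)
        (fun E n => fin_H hpos m hm X''.gr E n g)
        (vanM_of_dim_lt m X' hfin' d hd (d + 1) (Nat.lt_succ_self d) g)
    rw [hF, Dl_iter_add, h' r (lt_of_le_of_lt hd' hr), h'' r (lt_of_le_of_lt hd'' hr), add_zero]
  · intro X Z k x hk hxk hxa hreg π hπg hπ hker hfin hZ r hr
    have hk1 : k = 1 := hk
    subst hk1
    have := hfin
    have hN : IsNoetherian R X.carrier := isNoetherian_of_isNoetherianRing_of_finite R X.carrier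
    have hfinZ : Module.Finite R Z.carrier := Module.Finite.of_surjective π hπ
    have hNZ : IsNoetherian R Z.carrier := isNoetherian_of_isNoetherianRing_of_finite R Z.carrier
    have hdimZ := dim_lt_of_regular x hreg π hπ hker r hr
    -- the short exact sequence `0 → X(-1) → X → Z → 0`
    let μ : X.carrier →ₗ[R] X.carrier := x • (LinearMap.id : X.carrier →ₗ[R] X.carrier)
    have S : SES (shiftGr X.gr (-1)) X.gr Z.gr μ π :=
      { i_gr := by
          intro g y hy
          have hy' : y ∈ X.gr (g + -1) := hy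
          have h := SetLike.GradedSMul.smul_mem (A := 𝒜) (B := X.gr) hxk hy'
          rw [vadd_eq_add, show (1 : ℤ) + (g + -1) = g by ring] at h
          exact h
        p_gr := hπg
        inj := by
          intro y y' h
          exact hreg h
        surj := hπ
        exact := hker.symm }
    have hfinS : Module.Finite R (GMod.of 𝒜 X.carrier (shiftGr X.gr (-1))).carrier := hfin
    have hF : ∀ g, F 𝒜 X.gr m d g = F 𝒜 X.gr m d (g - 1) + F 𝒜 Z.gr m d g := by
      intro g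
      have h1 := F_ses m d S g (fin_comp (shiftGr X.gr (-1)) g) (fin_comp Z.gr g)
        (fun E n => fin_H hpos m hm (shiftGr X.gr (-1)) E n g)
        (fun E n => fin_H hpos m hm X.gr E n g)
        (fun E n => fin_H hpos m hm Z.gr E n g)
        (vanM_of_dim_lt m (GMod.of 𝒜 X.carrier (shiftGr X.gr (-1))) hfinS d hd (d + 1)
          (Nat.lt_succ_self d) g)
      rw [h1, F_shift m d (-1)]
      rfl
    have hDl : Dl (F 𝒜 X.gr m d) = F 𝒜 Z.gr m d := Dl_eq_of_rec _ _ hF
    cases r with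
    | zero =>
      have hsubZ : Subsingleton Z.carrier := subsingleton_of_dim_lt_zero Z.carrier hdimZ
      have hsurj : ∀ y : X.carrier, ∃ z : X.carrier, x • z = y := by
        intro y
        have hy : y ∈ LinearMap.ker π := by
          rw [LinearMap.mem_ker]
          exact Subsingleton.elim _ _
        rw [hker] at hy
        obtain ⟨z, hz⟩ := hy
        exact ⟨z, hz⟩
      have hsubX : Subsingleton X.carrier := subsingleton_of_surj hpos X.gr hxk hsurj
      rw [F_subsingleton m d]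
      rfl
    | succ r =>
      rw [Function.iterate_succ_apply, hDl]
      exact hZ r hdimZ

include hpos hstd hm hd in
/-- The Serre–Grothendieck formula. -/
theorem serre_formula {M : Type u} [AddCommGroup M] [Module R M] (ℳ : ℤ → AddSubgroup M)
    [DirectSum.Decomposition ℳ] [SetLike.GradedSMul 𝒜 ℳ] [Module.Finite R M]
    (E : StarInjRes 𝒜 ℳ) (P : Polynomial ℚ)
    (hP : ∃ N : ℤ, ∀ n : ℤ, N ≤ n → P.eval (n : ℚ) = hilb 𝒜 ℳ n) (n : ℤ) :
    hilb 𝒜 ℳ n - P.eval (n : ℚ) = chiE m d E n := by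
  have hD : Dl^[d] (F 𝒜 ℳ m d) = 0 := by
    apply Dl_F_eq_zero hpos hstd m hm d hd (GMod.of 𝒜 M ℳ) (show Module.Finite R M from inferInstance) d
    refine lt_of_le_of_lt (ringKrullDim_quotient_le _) ?_
    rw [hd]
    exact_mod_cast Nat.lt_succ_self d
  obtain ⟨N, hN⟩ := hP
  obtain ⟨N₁, hN₁⟩ := vanish_high hpos m (irrelevant_le_of_isStarLocal hpos m hm)
    (GMod.of 𝒜 M ℳ) (show Module.Finite R M from inferInstance)
  have hFP : ∀ k, max N N₁ ≤ k → F 𝒜 ℳ m d k = P.eval (k : ℚ) := by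
    intro k hk
    rw [hN k (le_trans (le_max_left _ _) hk)]
    simp only [F]
    have : chiE m d (starInjRes 𝒜 ℳ) k = 0 := by
      unfold chiE
      apply Finset.sum_eq_zero
      intro i _
      rw [length_eq_zero_of_vanM (starInjRes 𝒜 ℳ) m i k
        (hN₁ i k (le_trans (le_max_right _ _) hk))]
      simp
    rw [this, sub_zero]
  have h := eq_poly_of_Dl_iter d (F 𝒜 ℳ m d) P (max N N₁) hFP hD n
  simp only [F] at h
  rw [chiE_eq_of_res m d E (starInjRes 𝒜 ℳ) n]
  linarith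

end Main

end Groth.Agent.Lib.Helper8.GrLCEulerMain
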