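import Groth.Agent.Lib.Helper8.GrLCFinArt
import Mathlib.RingTheory.KrullDimension.NonZeroDivisors

set_option autoImplicit false
set_option linter.unusedSectionVars false
universe u

open DirectSum GrLC
open Groth.Agent.Lib.Helper30
open Groth.Agent.Lib.Helper8.GrLCBase Groth.Agent.Lib.Helper8.GrLCProd
open Groth.Agent.Lib.Helper8.GrLCLES Groth.Agent.Lib.Helper8.GrLCTors
open Groth.Agent.Lib.Helper8.GrLCShift Groth.Agent.Lib.Helper8.GrLCCone
open Groth.Agent.Lib.Helper8.GrLCInd Groth.Agent.Lib.Helper8.GrLCFin

namespace Groth.Agent.Lib.Helper8.GrLCGV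

section Dim

variable {R : Type u} [CommRing R]

theorem subsingleton_of_dim_lt_zero (Y : Type u) [AddCommGroup Y] [Module R Y]
    (h : ringKrullDim (R ⧸ Module.annihilator R Y) < ((0 : ℕ) : WithBot ℕ∞)) : Subsingleton Y := by
  have hs : Subsingleton (R ⧸ Module.annihilator R Y) := by
    by_contra hne
    rw [not_subsingleton_iff_nontrivial] at hne
    exact absurd (ringKrullDim_nonneg_of_nontrivial (R := R ⧸ Module.annihilator R Y))
      (not_le.mpr (by simpa using h))
  have htop : Module.annihilator R Y = ⊤ := Ideal.Quotient.subsingleton_iff.mp hs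
  refine ⟨fun y y' => ?_⟩
  have h1 : (1 : R) ∈ Module.annihilator R Y := by rw [htop]; trivial
  have h2 := Module.mem_annihilator.mp h1
  rw [← one_smul R y, ← one_smul R y', h2 y, h2 y']

theorem dim_lt_of_succ_le {a b : WithBot ℕ∞} {i : ℕ} (h1 : a + 1 ≤ b)
    (h2 : b < ((i + 1 : ℕ) : WithBot ℕ∞)) : a < ((i : ℕ) : WithBot ℕ∞) := by
  have h3 : a + 1 < ((i + 1 : ℕ) : WithBot ℕ∞) := lt_of_le_of_lt h1 h2
  induction a using WithBot.recBotCoe with
  | bot => exact WithBot.bot_lt_coe _
  | coe a' =>
    induction a' using ENat.recTopCoe with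
    | top =>
      exfalso
      have : ((⊤ : ℕ∞) : WithBot ℕ∞) + 1 = ((⊤ : ℕ∞) : WithBot ℕ∞) := rfl
      rw [this] at h3
      exact absurd h3 (not_lt.mpr (WithBot.coe_le_coe.mpr le_top))
    | coe n =>
      have h4 : (((n : ℕ∞) : WithBot ℕ∞)) + 1 = (((n + 1 : ℕ) : ℕ∞) : WithBot ℕ∞) := by
        push_cast
        rfl
      rw [h4] at h3
      have h5 : n + 1 < i + 1 := by exact_mod_cast h3
      have h6 : n < i := by omega
      exact_mod_cast h6

end Dim

section GV

variable {ι : Type} [AddCommGroup ι] [DecidableEq ι]
variable {R : Type u} [CommRing R] [IsNoetherianRing R] {𝒜 : ι → AddSubgroup R} [GradedRing 𝒜]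
variable (a : HomogeneousIdeal 𝒜)

/-- Grothendieck's vanishing theorem for graded local cohomology. -/
theorem grothendieck_vanishing (X : GMod.{u} 𝒜) (hX : Module.Finite R X.carrier) :
    ∀ i : ℕ, ringKrullDim (R ⧸ Module.annihilator R X.carrier) < ((i : ℕ) : WithBot ℕ∞) →
      ∀ g, VanM a X.gr i g := by
  refine grInduction a (fun X => ∀ i : ℕ,
    ringKrullDim (R ⧸ Module.annihilator R X.carrier) < ((i : ℕ) : WithBot ℕ∞) →
      ∀ g, VanM a X.gr i g) ?_ ?_ ?_ X hX
  · intro X _ ht i hi g
    cases i with
    | zero =>
      have := subsingleton_of_dim_lt_zero X.carrier hi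
      exact vanM_of_subsingleton a 0 g
    | succ i => exact vanM_of_tors_aux a i X ht g
  · intro X' X X'' i p S _ h' h'' j hj g
    have hle' : Module.annihilator R X.carrier ≤ Module.annihilator R X'.carrier := by
      intro r hr
      rw [Module.mem_annihilator] at hr ⊢
      intro y
      apply S.inj
      rw [map_smul, hr, map_zero]
    have hle'' : Module.annihilator R X.carrier ≤ Module.annihilator R X''.carrier := by
      intro r hr
      rw [Module.mem_annihilator] at hr ⊢
      intro y
      obtain ⟨z, rfl⟩ := S.surj y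
      rw [← map_smul, hr, map_zero]
    have hd' := ringKrullDim_le_of_surjective _ (Ideal.Quotient.factor_surjective hle')
    have hd'' := ringKrullDim_le_of_surjective _ (Ideal.Quotient.factor_surjective hle'')
    exact les_mid a S j g (h' j (lt_of_le_of_lt hd' hj) g) (h'' j (lt_of_le_of_lt hd'' hj) g)
  · intro X Z k x hxk hxa hreg π hπg hπ hker _ hZ i hi g
    cases i with
    | zero => exact vanM_zero_of_regular (ℳ := X.gr) a hreg hxa g
    | succ i =>
      have hleZ : Module.annihilator R X.carrier ≤ Module.annihilator R Z.carrier := by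
        intro r hr
        rw [Module.mem_annihilator] at hr ⊢
        intro y
        obtain ⟨z, rfl⟩ := hπ y
        rw [← map_smul, hr, map_zero]
      have hxZ : x ∈ Module.annihilator R Z.carrier := by
        rw [Module.mem_annihilator]
        intro y
        obtain ⟨z, rfl⟩ := hπ y
        rw [← map_smul]
        have : x • z ∈ LinearMap.ker π := by
          rw [hker]
          exact ⟨z, rfl⟩
        exact this
      let A := R ⧸ Module.annihilator R X.carrier
      let xb : A := Ideal.Quotient.mk _ x
      have hxb : xb ∈ nonZeroDivisors A := by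
        rw [mem_nonZeroDivisors_iff_right]
        intro yb hy
        obtain ⟨y, rfl⟩ := Ideal.Quotient.mk_surjective yb
        rw [← map_mul, Ideal.Quotient.eq_zero_iff_mem, Module.mem_annihilator] at hy
        rw [Ideal.Quotient.eq_zero_iff_mem, Module.mem_annihilator]
        intro z
        apply hreg
        change x • y • z = x • 0
        rw [smul_zero, ← mul_smul, mul_comm]
        exact hy z
      have h1 := ringKrullDim_quotient_succ_le_of_nonZeroDivisor hxb
      have h2 : ringKrullDim (A ⧸ Ideal.span {xb}) < ((i : ℕ) : WithBot ℕ∞) :=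
        dim_lt_of_succ_le h1 hi
      let f : A ⧸ Ideal.span {xb} →+* R ⧸ Module.annihilator R Z.carrier :=
        Ideal.Quotient.lift (Ideal.span {xb}) (Ideal.Quotient.factor hleZ) (by
          intro y hy
          obtain ⟨c, rfl⟩ := Ideal.mem_span_singleton'.mp hy
          rw [map_mul]
          have : Ideal.Quotient.factor hleZ xb = 0 := by
            change Ideal.Quotient.factor hleZ (Ideal.Quotient.mk _ x) = 0
            rw [Ideal.Quotient.factor_mk, Ideal.Quotient.eq_zero_iff_mem]
            exact hxZ
          rw [this, mul_zero])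
      have hf : Function.Surjective f :=
        Ideal.Quotient.lift_surjective_of_surjective _ _ (Ideal.Quotient.factor_surjective hleZ)
      have h3 : ringKrullDim (R ⧸ Module.annihilator R Z.carrier) < ((i : ℕ) : WithBot ℕ∞) :=
        lt_of_le_of_lt (ringKrullDim_le_of_surjective f hf) h2
      have := van_of_regular (ℳ := X.gr) (𝒩 := Z.gr) a hxk hreg π hπ hπg hker hxa i
        (fun _ => True) (fun _ _ => trivial) (fun g' _ => hZ i h3 g') (g + k) trivial
      rwa [add_neg_cancel_right] at this

/-- Vanishing of graded local cohomology above the Krull dimension of the ring. -/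
theorem vanM_of_dim_lt (X : GMod.{u} 𝒜) (hX : Module.Finite R X.carrier) (r : ℕ)
    (hr : ringKrullDim R = r) (i : ℕ) (hi : r < i) (g : ι) : VanM a X.gr i g := by
  apply grothendieck_vanishing a X hX i _ g
  refine lt_of_le_of_lt (ringKrullDim_quotient_le _) ?_
  rw [hr]
  exact_mod_cast hi

end GV

end Groth.Agent.Lib.Helper8.GrLCGV
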