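import Groth.Agent.Lib.Helper8.GrCanPolyLen
import Groth.Agent.Lib.Helper8.GrCanDual
import Groth.Agent.Lib.Helper8.GrLCTopQuot
import Groth.Agent.Lib.Helper8.GrLCGV
import Groth.Agent.Lib.Helper8.GrLCEulerMain
import Groth.Agent.Lib.Helper8.GrIrrelLocal

/-!
# The canonical module of a graded ring whose irrelevant ideal is generated by a regular sequence
-/

set_option autoImplicit false
set_option linter.unusedSectionVars false
universe u

open DirectSum GrLC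
open Groth.Agent.Lib.Helper30
open Groth.Agent.Lib.Helper8.GrLCBase Groth.Agent.Lib.Helper8.GrLCProd
open Groth.Agent.Lib.Helper8.GrLCLES Groth.Agent.Lib.Helper8.GrLCTors
open Groth.Agent.Lib.Helper8.GrLCShift Groth.Agent.Lib.Helper8.GrLCCone
open Groth.Agent.Lib.Helper8.GrLCSub Groth.Agent.Lib.Helper8.GrLCAinv
open Groth.Agent.Lib.Helper8.GrLCInd Groth.Agent.Lib.Helper8.GrLCEulerLES
open Groth.Agent.Lib.Helper8.GrLCEulerInv Groth.Agent.Lib.Helper8.GrLCEulerAbs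
open Groth.Agent.Lib.Helper8.GrLCFun Groth.Agent.Lib.Helper8.GrLCTopQuot
open Groth.Agent.Lib.Helper8.GrCanPolyLen Groth.Agent.Lib.Helper8.GrCanDual
open scoped Pointwise

namespace Groth.Agent.Lib.Helper8.GrCanPoly

section Top

variable {R : Type u} [CommRing R] [IsNoetherianRing R] {𝒜 : ℤ → AddSubgroup R} [GradedRing 𝒜]
variable (hpos : ∀ n : ℤ, n < 0 → 𝒜 n = ⊥) (m : HomogeneousIdeal 𝒜)
  (hmsp : m.toIdeal = Ideal.span (⋃ n ∈ Set.Ioi (0 : ℤ), (𝒜 n : Set R)))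
variable {N : ℕ} (f : Fin N → R) (deg : Fin N → ℤ) (hfdeg : ∀ i, f i ∈ 𝒜 (deg i))
  (hdeg : ∀ i, 0 < deg i) (hreg : RingTheory.Sequence.IsWeaklyRegular R (List.ofFn f))
  (hgen : m.toIdeal = Ideal.span (Set.range f))

include hmsp in
theorem mem_of_pos : ∀ n : ℤ, 0 < n → ∀ r ∈ 𝒜 n, r ∈ m.toIdeal := by
  intro n hn r hr
  rw [hmsp]
  apply Ideal.subset_span
  simp only [Set.mem_iUnion, Set.mem_Ioi, SetLike.mem_coe, exists_prop]
  exact ⟨n, hn, hr⟩

/-- The residue ring `R/m` as a graded module. -/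
noncomputable abbrev Qm : GMod.{u} 𝒜 := Q (XR (𝒜 := 𝒜)) m.toIdeal m.isHomogeneous

omit [IsNoetherianRing R] [GradedRing 𝒜] in
theorem gam_quot (J : Ideal R) : gam J (R ⧸ J) = ⊤ := by
  rw [eq_top_iff]
  intro y _
  refine ⟨1, fun s hs => ?_⟩
  rw [pow_one] at hs
  obtain ⟨p, rfl⟩ := Submodule.mkQ_surjective (J : Submodule R R) y
  rw [← map_smul]
  apply (Submodule.Quotient.mk_eq_zero _).mpr
  rw [smul_eq_mul]
  exact Ideal.mul_mem_right _ _ hs

theorem gam_Qm : gam m.toIdeal (Qm m).carrier = ⊤ := gam_quot m.toIdeal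

include hpos hmsp in
theorem quot_eq_zero {g : ℤ} (hg : g ≠ 0) {y : R ⧸ m.toIdeal}
    (hy : y ∈ quotGrMod 𝒜 (m.toIdeal : Submodule R R) g) : y = 0 := by
  obtain ⟨r, hr, rfl⟩ := hy
  have hr' : r ∈ 𝒜 g := hr
  apply (Submodule.Quotient.mk_eq_zero _).mpr
  rcases lt_or_gt_of_ne hg with h | h
  · rw [hpos g h, AddSubgroup.mem_bot] at hr'
    rw [hr']
    exact Submodule.zero_mem _
  · exact mem_of_pos m hmsp g h r hr'

include hpos hmsp in
theorem Qm_eq_zero {g : ℤ} (hg : g ≠ 0) {y : (Qm m).carrier} (hy : y ∈ (Qm m).gr g) : y = 0 :=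
  quot_eq_zero hpos m hmsp hg hy

include hpos hmsp hfdeg hdeg hreg hgen in
/-- The pieces of the top local cohomology are bounded by the shifted Hilbert function. -/
theorem top_le (I : StarInjRes 𝒜 𝒜) (g : ℤ) :
    Module.length ↥(deg0 𝒜) ↥(I.Hcomp m N g) ≤
      Module.length ↥(deg0 𝒜) ↥(comp 𝒜 𝒜 (-g - ∑ i, deg i)) := by
  have hk : LinearMap.ker (Qmk (XR (𝒜 := 𝒜)) m.toIdeal m.isHomogeneous) =
      Ideal.span (Set.range f) • (⊤ : Submodule R R) := by
    rw [← hgen]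
    have h1 : m.toIdeal • (⊤ : Submodule R R) = m.toIdeal := Ideal.mul_top _
    rw [h1]
    exact Submodule.ker_mkQ _
  have hN : ∀ (F : StarInjRes 𝒜 (Qm m).gr) (g : ℤ),
      Module.length ↥(deg0 𝒜) ↥(F.Hcomp m 0 g) ≤
        Module.length ↥(deg0 𝒜) ↥(comp 𝒜 (Qm m).gr (-g - 0)) := by
    intro F g
    rw [length_H0_of_tors F m (gam_Qm m) g, sub_zero]
    by_cases hg : g = 0
    · subst hg
      rw [neg_zero]
    · have : Subsingleton ↥(comp 𝒜 (Qm m).gr g) := by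
        constructor
        intro y y'
        apply Subtype.ext
        rw [Qm_eq_zero hpos m hmsp hg y.2, Qm_eq_zero hpos m hmsp hg y'.2]
      rw [Module.length_eq_zero]
      exact zero_le
  have h := seq_le hpos m (mem_of_pos m hmsp) N R 𝒜 (Qm m).carrier (Qm m).gr f deg hfdeg hdeg hreg
    (Qmk (XR (𝒜 := 𝒜)) m.toIdeal m.isHomogeneous) (Qmk_gr (X := XR (𝒜 := 𝒜)) m.isHomogeneous)
    (Qmk_surjective (X := XR (𝒜 := 𝒜)) m.isHomogeneous) hk 0 0 hN I g
  rw [zero_add, sub_zero] at h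
  exact h

include hpos hmsp hfdeg hdeg hreg hgen in
/-- The top local cohomology is nonzero in degree `-∑ deg`. -/
theorem top_ne [Nontrivial R] (I : StarInjRes 𝒜 𝒜) : I.Hcomp m N (-∑ i, deg i) ≠ ⊥ := by
  have hfa : ∀ i, f i ∈ m.toIdeal :=
    fun i => mem_of_pos m hmsp (deg i) (hdeg i) (f i) (hfdeg i)
  have hvan : ∀ i, i < N → ∀ g, VanM m 𝒜 i g :=
    vanM_of_weaklyRegular m N R 𝒜 f deg hfdeg hfa hreg
  have hk : LinearMap.ker (Qmk (XR (𝒜 := 𝒜)) m.toIdeal m.isHomogeneous) =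
      Ideal.span (Set.range f) • (⊤ : Submodule R R) := by
    rw [← hgen]
    have h1 : m.toIdeal • (⊤ : Submodule R R) = m.toIdeal := Ideal.mul_top _
    rw [h1]
    exact Submodule.ker_mkQ _
  obtain ⟨_, hshift⟩ := Groth.Agent.Lib.Helper8.GrLCAinvSeq.main m hpos N N le_rfl R 𝒜
    (Qm m).carrier (Qm m).gr f deg hfdeg hfa hreg
    (Qmk (XR (𝒜 := 𝒜)) m.toIdeal m.isHomogeneous) (Qmk_gr (X := XR (𝒜 := 𝒜)) m.isHomogeneous)
    (Qmk_surjective (X := XR (𝒜 := 𝒜)) m.isHomogeneous) hk hvan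
  rw [Nat.sub_self] at hshift
  intro hbot
  have h1 : ∀ g, -1 - ∑ i, deg i < g → VanM m 𝒜 N g := by
    intro g hg
    rw [vanM_iff_hcomp m I N g]
    by_cases hgd : g = -∑ i, deg i
    · rw [hgd]
      exact hbot
    · have hlt : -g - ∑ i, deg i < 0 := by omega
      have hle := top_le hpos m hmsp f deg hfdeg hdeg hreg hgen I g
      have hsub : Subsingleton ↥(comp 𝒜 𝒜 (-g - ∑ i, deg i)) := by
        constructor
        intro y y'
        apply Subtype.ext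
        have hy : (y : R) ∈ 𝒜 (-g - ∑ i, deg i) := y.2
        have hy' : (y' : R) ∈ 𝒜 (-g - ∑ i, deg i) := y'.2
        rw [hpos _ hlt, AddSubgroup.mem_bot] at hy hy'
        rw [hy, hy']
      have hz : Module.length ↥(deg0 𝒜) ↥(comp 𝒜 𝒜 (-g - ∑ i, deg i)) = 0 :=
        Module.length_eq_zero
      rw [hz, nonpos_iff_eq_zero, Module.length_eq_zero_iff] at hle
      haveI := hle
      exact Submodule.eq_bot_of_subsingleton
  have h2 := (hshift (-1)).mpr h1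
  have h3 := h2 0 (by norm_num)
  rw [vanM_zero_iff] at h3
  have h4 := h3 (Qmk (XR (𝒜 := 𝒜)) m.toIdeal m.isHomogeneous (1 : R))
    (Qmk_gr (X := XR (𝒜 := 𝒜)) m.isHomogeneous 0 (1 : R)
      (show (1 : R) ∈ 𝒜 0 from SetLike.GradedOne.one_mem))
    (by rw [gam_Qm]; exact Submodule.mem_top)
  have h5 : (1 : R) ∈ m.toIdeal := (Qmk_eq_zero (X := XR (𝒜 := 𝒜)) m.isHomogeneous (1 : R)).mp h4
  rw [hmsp] at h5
  have h6 := Groth.Agent.Lib.Helper8.GrLCPieces.eq_zero_of_mem_irrelevant hpos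
    (SetLike.GradedOne.one_mem (A := 𝒜)) le_rfl h5
  exact one_ne_zero h6

end Top

section Can

variable {R : Type u} [CommRing R] [IsNoetherianRing R] [IsDomain R] {𝒜 : ℤ → AddSubgroup R}
  [GradedRing 𝒜]
variable (hpos : ∀ n : ℤ, n < 0 → 𝒜 n = ⊥) (h0 : IsField (deg0 𝒜)) (m : HomogeneousIdeal 𝒜)
  (hmsp : m.toIdeal = Ideal.span (⋃ n ∈ Set.Ioi (0 : ℤ), (𝒜 n : Set R)))
variable {E' : Type u} [AddCommGroup E'] [Module R E'] (𝓔 : ℤ → AddSubgroup E')
  [DirectSum.Decomposition 𝓔] [SetLike.GradedSMul 𝒜 𝓔]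
  (e : (R ⧸ m.toIdeal) →ₗ[R] E') (he : IsStarInjHull 𝒜 (quotGr 𝒜 m) 𝓔 e)
variable {C : Type u} [AddCommGroup C] [Module R C] (𝒞 : ℤ → AddSubgroup C)
  [DirectSum.Decomposition 𝒞] [SetLike.GradedSMul 𝒜 𝒞] [Module.Finite R C]
variable {N : ℕ} (hdim : ringKrullDim R = N) (I : StarInjRes 𝒜 𝒜)
  (φC : (C →ₗ[R] E') ≃ₗ[R] I.H m N)
  (hφC : IsGrHom (fun d => (homDeg 𝒜 𝒞 𝓔 d).toAddSubgroup) (I.Hgr m N) φC.toLinearMap)
variable (f : Fin N → R) (deg : Fin N → ℤ) (hfdeg : ∀ i, f i ∈ 𝒜 (deg i))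
  (hdeg : ∀ i, 0 < deg i) (hreg : RingTheory.Sequence.IsWeaklyRegular R (List.ofFn f))
  (hgen : m.toIdeal = Ideal.span (Set.range f))

include hdim in
/-- An element of `C` killed by a nonzero homogeneous element of the ring pairs trivially with
the whole top local cohomology. -/
theorem pair_eq_zero {j : ℤ} {r : R} (hr : r ∈ 𝒜 j) (hr0 : r ≠ 0) {c : C} (hrc : r • c = 0)
    (h : I.H m N) : φC.symm h c = 0 := by
  classical
  let J : HomogeneousIdeal 𝒜 := ⟨Ideal.span {r}, Ideal.homogeneous_span 𝒜 {r} (by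
    rintro _ rfl
    exact ⟨j, hr⟩)⟩
  have hJ : J.toIdeal = Ideal.span {r} := rfl
  have hGV : ∀ Y : GMod.{u} 𝒜, Module.Finite R Y.carrier → ∀ g, VanM m Y.gr (N + 1) g :=
    fun Y hY g => Groth.Agent.Lib.Helper8.GrLCGV.vanM_of_dim_lt m Y hY N hdim (N + 1)
      (Nat.lt_succ_self N) g
  have hQ : ∀ g, VanM m (Q (XR (𝒜 := 𝒜)) J.toIdeal J.isHomogeneous).gr N g := by
    intro g
    haveI hRfin : Module.Finite R (XR (𝒜 := 𝒜)).carrier := inferInstanceAs (Module.Finite R R)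
    have hfin : Module.Finite R (Q (XR (𝒜 := 𝒜)) J.toIdeal J.isHomogeneous).carrier :=
      Module.Finite.of_surjective _ (Qmk_surjective (X := XR (𝒜 := 𝒜)) J.isHomogeneous)
    apply Groth.Agent.Lib.Helper8.GrLCGV.grothendieck_vanishing m _ hfin N _ g
    have hann : Module.annihilator R (Q (XR (𝒜 := 𝒜)) J.toIdeal J.isHomogeneous).carrier =
        Ideal.span {r} := Ideal.annihilator_quotient
    rw [hann]
    have h1 := ringKrullDim_quotient_succ_le_of_nonZeroDivisor (mem_nonZeroDivisors_of_ne_zero hr0)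
    apply Groth.Agent.Lib.Helper8.GrLCGV.dim_lt_of_succ_le h1
    rw [hdim]
    exact_mod_cast Nat.lt_succ_self N
  obtain ⟨t, x, cdeg, hh, hxJ, _, hsum⟩ := exists_sum_smul m N I J hGV hQ h
  rw [hsum, map_sum, LinearMap.sum_apply]
  apply Finset.sum_eq_zero
  intro b _
  obtain ⟨s, hs⟩ := Ideal.mem_span_singleton'.mp (hxJ b)
  rw [map_smul, LinearMap.smul_apply, ← map_smul, ← hs, mul_smul, hrc, smul_zero, map_zero]

include hpos hmsp he hφC hfdeg hdeg hreg hgen in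
/-- The canonical module has a nonzero element of degree `∑ deg`. -/
theorem exists_gen : ∃ c0 ∈ 𝒞 (∑ i, deg i), c0 ≠ 0 := by
  have hne := top_ne hpos m hmsp f deg hfdeg hdeg hreg hgen I
  obtain ⟨h, hh, hh0⟩ := (Submodule.ne_bot_iff _).mp hne
  have hf0 : φC.symm h ≠ 0 := by
    intro h'
    apply hh0
    have := congrArg φC h'
    rwa [LinearEquiv.apply_symm_apply, map_zero] at this
  have hdeg' : IsGrHomDeg 𝒞 𝓔 (φC.symm h) (-∑ i, deg i) :=
    symm_isGrHomDeg m 𝓔 𝒞 N I φC hφC hh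
  by_contra hcon
  push_neg at hcon
  apply hf0
  apply restrict_injective hpos m hmsp 𝓔 e he.toIsStarEss 𝒞 (-∑ i, deg i) _ hdeg'
  intro x hx
  rw [neg_neg] at hx
  rw [hcon x hx, map_zero]

include hpos h0 hmsp he hφC hdim in
/-- Multiplication on a nonzero homogeneous element of degree `∑ deg` of the canonical module is
injective. -/
theorem gen_injective {d : ℤ} {c0 : C} (hc0 : c0 ∈ 𝒞 d) (hne : c0 ≠ 0) :
    Function.Injective (rho c0 : R →ₗ[R] C) := by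
  classical
  rw [injective_iff_map_eq_zero]
  intro r hr
  by_contra hr0
  have hex : ∃ i, (decompose 𝒜 r i : R) ≠ 0 := by
    by_contra hcon
    push_neg at hcon
    apply hr0
    have hz : decompose 𝒜 r = 0 := by
      apply DFinsupp.ext
      intro i
      exact Subtype.ext (hcon i)
    apply (decompose 𝒜).injective
    rw [hz, decompose_zero]
  obtain ⟨i, hi⟩ := hex
  have h1 := decompose_map_of_isGrHomDeg 𝒜 𝒞 (rho c0) d (rho_deg hc0) r i
  rw [hr, decompose_zero, DirectSum.zero_apply, ZeroMemClass.coe_zero, rho_apply] at h1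
  have h2 := pair_eq_zero m hdim I φC (decompose 𝒜 r i).2 hi h1
  have hc0' : c0 ∈ 𝒞 (-(-d)) := by
    rw [neg_neg]
    exact hc0
  obtain ⟨h, _, hh⟩ := exists_pair_ne hpos h0 m hmsp 𝓔 e he 𝒞 N I φC hφC (-d) hc0' hne
  exact hh (h2 h)

include hpos h0 hmsp he hφC hdim hfdeg hdeg hreg hgen in
/-- Multiplication on the generator is onto each graded piece. -/
theorem gen_surj_piece {c0 : C} (hc0 : c0 ∈ 𝒞 (∑ i, deg i)) (hne : c0 ≠ 0) (j : ℤ) (c : C)
    (hc : c ∈ 𝒞 j) : ∃ r : R, r • c0 = c := by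
  classical
  letI : Field (deg0 𝒜) := h0.toField
  haveI : IsNoetherian R C := isNoetherian_of_isNoetherianRing_of_finite R C
  haveI hW : IsNoetherian (deg0 𝒜) ↥(comp 𝒜 𝒞 j) :=
    Groth.Agent.Lib.Helper8.GrLCPieces.isNoetherian_comp (𝒜 := 𝒜) (ℳ := 𝒞) j
  haveI : Module.Finite (deg0 𝒜) ↥(comp 𝒜 𝒞 j) := Module.IsNoetherian.finite _ _
  haveI hV : IsNoetherian (deg0 𝒜) ↥(comp 𝒜 𝒜 (j - ∑ i, deg i)) :=
    Groth.Agent.Lib.Helper8.GrLCPieces.isNoetherian_comp (𝒜 := 𝒜) (ℳ := 𝒜) (j - ∑ i, deg i)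
  haveI : Module.Finite (deg0 𝒜) ↥(comp 𝒜 𝒜 (j - ∑ i, deg i)) := Module.IsNoetherian.finite _ _
  -- the restricted multiplication map
  let Fj : ↥(comp 𝒜 𝒜 (j - ∑ i, deg i)) →ₗ[deg0 𝒜] ↥(comp 𝒜 𝒞 j) :=
    { toFun := fun v => ⟨(v : R) • c0, by
        have := smul_mem_piece 𝒜 𝒞 v.2 hc0
        rwa [sub_add_cancel] at this⟩
      map_add' := fun v w => Subtype.ext (by
        change ((v : R) + (w : R)) • c0 = _
        rw [add_smul]
        rfl)
      map_smul' := fun s v => Subtype.ext (by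
        change ((s : R) * (v : R)) • c0 = (s : R) • ((v : R) • c0)
        rw [mul_smul]) }
  have hFinj : Function.Injective Fj := by
    intro v w hvw
    apply Subtype.ext
    apply gen_injective hpos h0 m hmsp 𝓔 e he 𝒞 hdim I φC hφC hc0 hne
    exact congrArg Subtype.val hvw
  -- the dimension count
  have h1 := finrank_eq hpos h0 m hmsp 𝓔 e he 𝒞 N I φC hφC (-j)
  rw [neg_neg] at h1
  have h2 := top_le hpos m hmsp f deg hfdeg hdeg hreg hgen I (-j)
  rw [neg_neg] at h2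
  have hVfin : Module.length ↥(deg0 𝒜) ↥(comp 𝒜 𝒜 (j - ∑ i, deg i)) ≠ ⊤ := by
    rw [Module.length_ne_top_iff, isFiniteLength_iff_isNoetherian_isArtinian]
    exact ⟨hV, inferInstance⟩
  have hHfin : Module.length ↥(deg0 𝒜) ↥(I.Hcomp m N (-j)) ≠ ⊤ :=
    ne_top_of_le_ne_top hVfin h2
  haveI : Module.Finite (deg0 𝒜) ↥(I.Hcomp m N (-j)) := by
    rw [Module.length_ne_top_iff, isFiniteLength_iff_isNoetherian_isArtinian] at hHfin
    haveI := hHfin.1
    exact Module.IsNoetherian.finite _ _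
  rw [Module.length_eq_finrank, Module.length_eq_finrank, Nat.cast_le, h1] at h2
  have h3 : Module.finrank (deg0 𝒜) ↥(comp 𝒜 𝒜 (j - ∑ i, deg i)) =
      Module.finrank (deg0 𝒜) ↥(comp 𝒜 𝒞 j) :=
    le_antisymm (LinearMap.finrank_le_finrank_of_injective hFinj) h2
  have hsurj : Function.Surjective Fj :=
    (LinearMap.injective_iff_surjective_of_finrank_eq_finrank h3).mp hFinj
  obtain ⟨v, hv⟩ := hsurj ⟨c, hc⟩
  exact ⟨(v : R), congrArg Subtype.val hv⟩

include hpos h0 hmsp he hφC hdim hfdeg hdeg hreg hgen in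
/-- The canonical module of a graded ring over a field whose irrelevant ideal is generated by a
homogeneous regular sequence is the ring shifted by the sum of the degrees. -/
theorem main : ∃ F : R →ₗ[R] C, Function.Bijective F ∧ IsGrHomDeg 𝒜 𝒞 F (∑ i, deg i) := by
  classical
  obtain ⟨c0, hc0, hne⟩ := exists_gen hpos m hmsp 𝓔 e he 𝒞 I φC hφC f deg hfdeg hdeg hreg hgen
  refine ⟨rho c0, ⟨gen_injective hpos h0 m hmsp 𝓔 e he 𝒞 hdim I φC hφC hc0 hne, ?_⟩, rho_deg hc0⟩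
  intro c
  induction c using DirectSum.Decomposition.inductionOn 𝒞 with
  | zero => exact ⟨0, map_zero _⟩
  | @homogeneous j x =>
    obtain ⟨r, hr⟩ := gen_surj_piece hpos h0 m hmsp 𝓔 e he 𝒞 hdim I φC hφC f deg hfdeg hdeg hreg
      hgen hc0 hne j x x.2
    exact ⟨r, hr⟩
  | add x y hx hy =>
    obtain ⟨r, hr⟩ := hx
    obtain ⟨s, hs⟩ := hy
    exact ⟨r + s, by rw [map_add, hr, hs]⟩

end Can

end Groth.Agent.Lib.Helper8.GrCanPoly
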