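import Groth.Agent.Lib.Helper8.GrLCEulerLES
import Groth.Agent.Lib.Helper8.GrLCShift

/-!
# Lengths of the pieces of graded local cohomology: invariance properties
-/

set_option autoImplicit false
set_option linter.unusedSectionVars false
universe u

open DirectSum GrLC
open Groth.Agent.Lib.Helper30
open Groth.Agent.Lib.Helper8.GrLCBase Groth.Agent.Lib.Helper8.GrLCLES
open Groth.Agent.Lib.Helper8.GrLCProd Groth.Agent.Lib.Helper8.GrLCSerre
open Groth.Agent.Lib.Helper8.GrLCShift Groth.Agent.Lib.Helper8.GrLCEulerLES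

namespace Groth.Agent.Lib.Helper8.GrLCEulerInv

section Maps

variable {ι : Type} [AddCommGroup ι] [DecidableEq ι]
variable {R : Type u} [CommRing R] {𝒜 : ι → AddSubgroup R} [GradedRing 𝒜]
variable {M : Type u} [AddCommGroup M] [Module R M] {ℳ : ι → AddSubgroup M}
  [DirectSum.Decomposition ℳ] [SetLike.GradedSMul 𝒜 ℳ]
variable {N : Type u} [AddCommGroup N] [Module R N] {𝒩 : ι → AddSubgroup N}
  [DirectSum.Decomposition 𝒩] [SetLike.GradedSMul 𝒜 𝒩]
variable (E : StarInjRes 𝒜 ℳ) (E' : StarInjRes 𝒜 𝒩) (a : HomogeneousIdeal 𝒜)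

theorem exists_injective_of_retract (f : M →ₗ[R] N) (hf : IsGrHom ℳ 𝒩 f) (f' : N →ₗ[R] M)
    (hf' : IsGrHom 𝒩 ℳ f') (hff' : ∀ y, f (f' y) = y) (n : ℕ) (g : ι) :
    ∃ φ : ↥(E'.Hcomp a n g) →ₗ[deg0 𝒜] ↥(E.Hcomp a n g), Function.Injective φ := by
  obtain ⟨Φ⟩ := exists_cmap (E := E) (E' := E') f hf
  obtain ⟨Ψ⟩ := exists_cmap (E := E') (E' := E) f' hf'
  have hmem : ∀ z ∈ Zc E' a n g, Ψ.φ n z ∈ Zc E a n g := by
    rintro z ⟨h1, h2, h3⟩
    exact ⟨gam_map _ _ h1, by rw [← Ψ.comm, h2, map_zero], Ψ.gr n g z h3⟩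
  have hwd : ∀ z, pH E' a n g z = 0 →
      ((pH E a n g).comp (zmap E' E a (Ψ.φ n) hmem)) z = 0 := by
    intro z hz
    rw [LinearMap.comp_apply]
    rw [pH_eq_zero_iff] at hz ⊢
    rw [zmap_coe]
    cases n with
    | zero =>
      rw [mem_cobdy_zero] at hz ⊢
      rw [hz, map_zero]
    | succ n =>
      rw [mem_cobdy_succ] at hz ⊢
      obtain ⟨y, hy, hyz⟩ := hz
      exact ⟨Ψ.φ n y, gam_map _ _ hy, by rw [← Ψ.comm, hyz]⟩
  obtain ⟨φ, hφ⟩ := exists_lift (pH E' a n g) (pH_surjective E' a n g)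
    ((pH E a n g).comp (zmap E' E a (Ψ.φ n) hmem)) hwd
  refine ⟨φ, injective_of_lifts (pH E' a n g) (pH E a n g) (pH_surjective E' a n g)
    (zmap E' E a (Ψ.φ n) hmem) φ (fun z => by rw [hφ, LinearMap.comp_apply]) ?_⟩
  intro z hz
  rw [pH_eq_zero_iff] at hz ⊢
  rw [zmap_coe] at hz
  exact cobdy_of_retract E E' a f f' hff' Φ Ψ n z.1 z.2.1 z.2.2.1 hz

theorem length_le_of_retract (f : M →ₗ[R] N) (hf : IsGrHom ℳ 𝒩 f) (f' : N →ₗ[R] M)
    (hf' : IsGrHom 𝒩 ℳ f') (hff' : ∀ y, f (f' y) = y) (n : ℕ) (g : ι) :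
    Module.length ↥(deg0 𝒜) ↥(E'.Hcomp a n g) ≤ Module.length ↥(deg0 𝒜) ↥(E.Hcomp a n g) := by
  obtain ⟨φ, hφ⟩ := exists_injective_of_retract E E' a f hf f' hf' hff' n g
  exact Module.length_le_of_injective φ hφ

/-- The length of a piece of graded local cohomology does not depend on the resolution. -/
theorem length_eq_of_res (E E₁ : StarInjRes 𝒜 ℳ) (n : ℕ) (g : ι) :
    Module.length ↥(deg0 𝒜) ↥(E.Hcomp a n g) = Module.length ↥(deg0 𝒜) ↥(E₁.Hcomp a n g) :=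
  le_antisymm
    (length_le_of_retract E₁ E a LinearMap.id (fun _ _ h => h) LinearMap.id (fun _ _ h => h)
      (fun _ => rfl) n g)
    (length_le_of_retract E E₁ a LinearMap.id (fun _ _ h => h) LinearMap.id (fun _ _ h => h)
      (fun _ => rfl) n g)

/-- Invariance under graded isomorphisms. -/
theorem length_eq_of_equiv (e : M ≃ₗ[R] N) (he : IsGrHom ℳ 𝒩 e.toLinearMap)
    (he' : IsGrHom 𝒩 ℳ e.symm.toLinearMap) (n : ℕ) (g : ι) :
    Module.length ↥(deg0 𝒜) ↥(E.Hcomp a n g) = Module.length ↥(deg0 𝒜) ↥(E'.Hcomp a n g) :=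
  le_antisymm
    (length_le_of_retract E' E a e.symm.toLinearMap he' e.toLinearMap he
      (fun y => e.symm_apply_apply y) n g)
    (length_le_of_retract E E' a e.toLinearMap he e.symm.toLinearMap he'
      (fun y => e.apply_symm_apply y) n g)

theorem length_eq_zero_of_vanM (n : ℕ) (g : ι) (h : VanM a ℳ n g) :
    Module.length ↥(deg0 𝒜) ↥(E.Hcomp a n g) = 0 := by
  have hb : E.Hcomp a n g = ⊥ := (vanM_iff_hcomp a E n g).mp h
  rw [hb]
  exact Module.length_eq_zero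

theorem subsingleton_of_vanM (n : ℕ) (g : ι) (h : VanM a ℳ n g) :
    Subsingleton ↥(E.Hcomp a n g) := by
  have hb : E.Hcomp a n g = ⊥ := (vanM_iff_hcomp a E n g).mp h
  rw [hb]
  infer_instance

/-- Shifting the resolution shifts the pieces. -/
theorem length_resShift (k : ι) (n : ℕ) (g : ι) :
    Module.length ↥(deg0 𝒜) ↥((resShift E k).Hcomp a n g) =
      Module.length ↥(deg0 𝒜) ↥(E.Hcomp a n (g + k)) := by
  cases n with
  | zero => rfl
  | succ n => rfl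

/-- The pieces of the shifted module. -/
theorem length_comp_shift (k : ι) (g : ι) :
    Module.length ↥(deg0 𝒜) ↥(comp 𝒜 (shiftGr ℳ k) g) =
      Module.length ↥(deg0 𝒜) ↥(comp 𝒜 ℳ (g + k)) := rfl

/-- `H^0` of a torsion module. -/
theorem length_H0_of_tors (ht : gam a.toIdeal M = ⊤) (g : ι) :
    Module.length ↥(deg0 𝒜) ↥(E.Hcomp a 0 g) = Module.length ↥(deg0 𝒜) ↥(comp 𝒜 ℳ g) := by
  have hmem : ∀ m ∈ comp 𝒜 ℳ g, (E.ε.restrictScalars (deg0 𝒜)) m ∈ Zc E a 0 g := by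
    intro m h1
    refine ⟨gam_map _ _ (by rw [ht]; trivial), d_comp_ε E m, E.ε_grHom g m h1⟩
  let ψ : ↥(comp 𝒜 ℳ g) →ₗ[deg0 𝒜] ↥(Zc E a 0 g) := (E.ε.restrictScalars (deg0 𝒜)).restrict hmem
  let φ : ↥(comp 𝒜 ℳ g) →ₗ[deg0 𝒜] ↥(E.Hcomp a 0 g) := (pH E a 0 g).comp ψ
  have hinj : Function.Injective φ := by
    rw [← LinearMap.ker_eq_bot, eq_bot_iff]
    intro m hm
    rw [LinearMap.mem_ker] at hm
    have hm' : pH E a 0 g (ψ m) = 0 := hm
    rw [pH_eq_zero_iff, mem_cobdy_zero] at hm'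
    have h0 : E.ε (m : M) = 0 := hm'
    rw [Submodule.mem_bot]
    apply Subtype.ext
    apply E.ε_injective
    rw [h0]
    exact (map_zero E.ε).symm
  have hsurj : Function.Surjective φ := by
    intro x
    obtain ⟨⟨z, hz1, hz2, hz3⟩, rfl⟩ := pH_surjective E a 0 g x
    have hk : z ∈ LinearMap.ker (E.d 0) := hz2
    rw [E.exact_zero] at hk
    obtain ⟨m, rfl⟩ := hk
    have hmg : m ∈ ℳ g :=
      mem_piece_of_map_mem_piece ℳ (E.X 0).gr E.ε E.ε_grHom E.ε_injective hz3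
    exact ⟨⟨m, hmg⟩, rfl⟩
  exact (LinearEquiv.ofBijective φ ⟨hinj, hsurj⟩).length_eq.symm

end Maps

section SESPieces

variable {ι : Type} [AddCommGroup ι] [DecidableEq ι]
variable {R : Type u} [CommRing R] {𝒜 : ι → AddSubgroup R} [GradedRing 𝒜]
variable {M' : Type u} [AddCommGroup M'] [Module R M'] {ℳ' : ι → AddSubgroup M'}
  [DirectSum.Decomposition ℳ'] [SetLike.GradedSMul 𝒜 ℳ']
variable {M : Type u} [AddCommGroup M] [Module R M] {ℳ : ι → AddSubgroup M}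
  [DirectSum.Decomposition ℳ] [SetLike.GradedSMul 𝒜 ℳ]
variable {M'' : Type u} [AddCommGroup M''] [Module R M''] {ℳ'' : ι → AddSubgroup M''}
  [DirectSum.Decomposition ℳ''] [SetLike.GradedSMul 𝒜 ℳ'']
variable {i : M' →ₗ[R] M} {p : M →ₗ[R] M''}

/-- Additivity of the lengths of the pieces on short exact sequences. -/
theorem length_comp_ses (S : SES ℳ' ℳ ℳ'' i p) (g : ι) :
    Module.length ↥(deg0 𝒜) ↥(comp 𝒜 ℳ g) =
      Module.length ↥(deg0 𝒜) ↥(comp 𝒜 ℳ' g) + Module.length ↥(deg0 𝒜) ↥(comp 𝒜 ℳ'' g) := by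
  let ig : ↥(comp 𝒜 ℳ' g) →ₗ[deg0 𝒜] ↥(comp 𝒜 ℳ g) :=
    (i.restrictScalars (deg0 𝒜)).restrict (fun m hm => S.i_gr g m hm)
  let pg : ↥(comp 𝒜 ℳ g) →ₗ[deg0 𝒜] ↥(comp 𝒜 ℳ'' g) :=
    (p.restrictScalars (deg0 𝒜)).restrict (fun m hm => S.p_gr g m hm)
  refine Module.length_eq_add_of_exact ig pg ?_ ?_ ?_
  · intro x y hxy
    apply Subtype.ext
    apply S.inj
    exact congrArg Subtype.val hxy
  · rintro ⟨y, hy⟩
    obtain ⟨x, rfl⟩ := S.surj y
    refine ⟨⟨(decompose ℳ x g : M), (decompose ℳ x g).2⟩, ?_⟩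
    apply Subtype.ext
    change p (decompose ℳ x g : M) = p x
    rw [decompose_map_of_isGrHom ℳ ℳ'' p S.p_gr, decompose_of_mem_same ℳ'' hy]
  · intro x
    constructor
    · intro hx
      have hx' : p (x : M) = 0 := congrArg Subtype.val hx
      have : (x : M) ∈ LinearMap.range i := by
        rw [S.exact]
        exact hx'
      obtain ⟨m', hm'⟩ := this
      have hm'g : m' ∈ ℳ' g := by
        apply mem_piece_of_map_mem_piece ℳ' ℳ i S.i_gr S.inj
        rw [hm']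
        exact x.2
      exact ⟨⟨m', hm'g⟩, Subtype.ext hm'⟩
    · rintro ⟨m', rfl⟩
      apply Subtype.ext
      exact S.p_i (m' : M')

end SESPieces

end Groth.Agent.Lib.Helper8.GrLCEulerInv
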