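import Groth.Agent.Lib.Helper8.GrLCAinvSeq
import Groth.Agent.Lib.Helper8.GrLCEulerInv
import Groth.Agent.Lib.Helper8.GrLCFin

/-!
# Lengths of the pieces of local cohomology along a homogeneous regular sequence
-/

set_option autoImplicit false
set_option linter.unusedSectionVars false
universe u

open DirectSum GrLC
open Groth.Agent.Lib.Helper30
open Groth.Agent.Lib.Helper8.GrLCBase Groth.Agent.Lib.Helper8.GrLCProd
open Groth.Agent.Lib.Helper8.GrLCLES Groth.Agent.Lib.Helper8.GrLCTors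
open Groth.Agent.Lib.Helper8.GrLCShift Groth.Agent.Lib.Helper8.GrLCCone
open Groth.Agent.Lib.Helper8.GrLCSub Groth.Agent.Lib.Helper8.GrLCAinv
open Groth.Agent.Lib.Helper8.GrLCInd Groth.Agent.Lib.Helper8.GrLCEulerLES
open Groth.Agent.Lib.Helper8.GrLCEulerInv Groth.Agent.Lib.Helper8.GrLCEulerAbs
open scoped Pointwise

namespace Groth.Agent.Lib.Helper8.GrCanPolyLen

section LES

variable {ι : Type} [AddCommGroup ι] [DecidableEq ι]
variable {R : Type u} [CommRing R] {𝒜 : ι → AddSubgroup R} [GradedRing 𝒜]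
variable {M' : Type u} [AddCommGroup M'] [Module R M'] {ℳ' : ι → AddSubgroup M'}
  [DirectSum.Decomposition ℳ'] [SetLike.GradedSMul 𝒜 ℳ']
variable {M : Type u} [AddCommGroup M] [Module R M] {ℳ : ι → AddSubgroup M}
  [DirectSum.Decomposition ℳ] [SetLike.GradedSMul 𝒜 ℳ]
variable {M'' : Type u} [AddCommGroup M''] [Module R M''] {ℳ'' : ι → AddSubgroup M''}
  [DirectSum.Decomposition ℳ''] [SetLike.GradedSMul 𝒜 ℳ'']
variable {i : M' →ₗ[R] M} {p : M →ₗ[R] M''}

/-- The inequality of lengths coming from the exactness of the long exact sequence at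
`H^{n+1}(M')`. -/
theorem les_le (S : SES ℳ' ℳ ℳ'' i p) (a : HomogeneousIdeal 𝒜) (E' : StarInjRes 𝒜 ℳ')
    (E : StarInjRes 𝒜 ℳ) (E'' : StarInjRes 𝒜 ℳ'') (n : ℕ) (g : ι) :
    Module.length ↥(deg0 𝒜) ↥(E'.Hcomp a (n + 1) g) ≤
      Module.length ↥(deg0 𝒜) ↥(E''.Hcomp a n g) +
        Module.length ↥(deg0 𝒜) ↥(E.Hcomp a (n + 1) g) := by
  obtain ⟨D⟩ := exists_hsdata (E' := E') (E'' := E'') S
  rw [length_eq_of_res a E (hs S D) (n + 1) g, length_ker_add_range (α S D a g (n + 1)),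
    ← exact_δα S D a g n]
  refine add_le_add ?_ ?_
  · exact Module.length_le_of_surjective (δ D a g n).rangeRestrict
      (LinearMap.surjective_rangeRestrict _)
  · exact Module.length_le_of_injective (LinearMap.range (α S D a g (n + 1))).subtype
      (Submodule.subtype_injective _)

end LES

section Step

variable {R : Type u} [CommRing R] [IsNoetherianRing R] {𝒜 : ℤ → AddSubgroup R} [GradedRing 𝒜]
variable {M : Type u} [AddCommGroup M] [Module R M] {ℳ : ℤ → AddSubgroup M}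
  [DirectSum.Decomposition ℳ] [SetLike.GradedSMul 𝒜 ℳ]
variable {N : Type u} [AddCommGroup N] [Module R N] {𝒩 : ℤ → AddSubgroup N}
  [DirectSum.Decomposition 𝒩] [SetLike.GradedSMul 𝒜 𝒩]
variable (hpos : ∀ n : ℤ, n < 0 → 𝒜 n = ⊥) (a : HomogeneousIdeal 𝒜)
  (hRp : ∀ n : ℤ, 0 < n → ∀ r ∈ 𝒜 n, r ∈ a.toIdeal)
variable {x : R} {k : ℤ} (hx : x ∈ 𝒜 k) (hreg : IsSMulRegular M x)
  (π : M →ₗ[R] N) (hπ : Function.Surjective π) (hπg : IsGrHom ℳ 𝒩 π)
  (hker : LinearMap.ker π = LinearMap.range (x • (LinearMap.id : M →ₗ[R] M)))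

include hx hreg hπ hπg hker in
/-- One step of the long exact sequence of multiplication by a regular element. -/
theorem step_le_aux (E : StarInjRes 𝒜 ℳ) (F : StarInjRes 𝒜 𝒩) (n : ℕ) (g : ℤ) :
    Module.length ↥(deg0 𝒜) ↥(E.Hcomp a (n + 1) (g + -k)) ≤
      Module.length ↥(deg0 𝒜) ↥(F.Hcomp a n g) +
        Module.length ↥(deg0 𝒜) ↥(E.Hcomp a (n + 1) g) := by
  have h := les_le (ses_regular hx hreg π hπ hπg hker) a (resShift E (-k)) E F n g
  rwa [length_resShift] at h

include hx hreg hπ hπg hker in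
/-- The Hilbert functions of `M` and `M/xM`. -/
theorem hilb_step (s : ℤ) :
    Module.length ↥(deg0 𝒜) ↥(comp 𝒜 ℳ s) =
      Module.length ↥(deg0 𝒜) ↥(comp 𝒜 ℳ (s + -k)) + Module.length ↥(deg0 𝒜) ↥(comp 𝒜 𝒩 s) := by
  have h := length_comp_ses (𝒜 := 𝒜) (ses_regular (𝒜 := 𝒜) hx hreg π hπ hπg hker) s
  rwa [length_comp_shift] at h

include hpos hRp hx hreg hπ hπg hker in
/-- A bound for the top local cohomology of `M/xM` by a shift of its Hilbert function propagates
to `M`. -/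
theorem step_le [Module.Finite R M] (hk : 0 < k) (n : ℕ) (D : ℤ)
    (hN : ∀ (F : StarInjRes 𝒜 𝒩) (g : ℤ), Module.length ↥(deg0 𝒜) ↥(F.Hcomp a n g) ≤
      Module.length ↥(deg0 𝒜) ↥(comp 𝒜 𝒩 (-g - D)))
    (E : StarInjRes 𝒜 ℳ) (g : ℤ) :
    Module.length ↥(deg0 𝒜) ↥(E.Hcomp a (n + 1) g) ≤
      Module.length ↥(deg0 𝒜) ↥(comp 𝒜 ℳ (-g - D - k)) := by
  obtain ⟨r0, hr0⟩ := Groth.Agent.Lib.Helper8.GrLCFin.vanish_high hpos a hRp (GMod.of 𝒜 M ℳ)
    (inferInstanceAs (Module.Finite R M))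
  have key : ∀ (j : ℕ) (g : ℤ), r0 ≤ g + j * k →
      Module.length ↥(deg0 𝒜) ↥(E.Hcomp a (n + 1) g) ≤
        Module.length ↥(deg0 𝒜) ↥(comp 𝒜 ℳ (-g - D - k)) := by
    intro j
    induction j with
    | zero =>
      intro g hg
      rw [Nat.cast_zero, zero_mul, add_zero] at hg
      rw [length_eq_zero_of_vanM E a (n + 1) g (hr0 (n + 1) g hg)]
      exact zero_le
    | succ j ih =>
      intro g hg
      have h1 : r0 ≤ (g + k) + j * k := by
        push_cast at hg
        linarith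
      have h2 := ih (g + k) h1
      have h3 := step_le_aux a hx hreg π hπ hπg hker E (starInjRes 𝒜 𝒩) n (g + k)
      rw [add_neg_cancel_right] at h3
      have h4 := hN (starInjRes 𝒜 𝒩) (g + k)
      have h5 := hilb_step hx hreg π hπ hπg hker (-g - D - k)
      have e1 : -(g + k) - D = -g - D - k := by ring
      have e2 : -(g + k) - D - k = -g - D - k + -k := by ring
      rw [e1] at h4
      rw [e2] at h2
      calc Module.length ↥(deg0 𝒜) ↥(E.Hcomp a (n + 1) g)
          ≤ Module.length ↥(deg0 𝒜) ↥((starInjRes 𝒜 𝒩).Hcomp a n (g + k)) +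
              Module.length ↥(deg0 𝒜) ↥(E.Hcomp a (n + 1) (g + k)) := h3
        _ ≤ Module.length ↥(deg0 𝒜) ↥(comp 𝒜 𝒩 (-g - D - k)) +
              Module.length ↥(deg0 𝒜) ↥(comp 𝒜 ℳ (-g - D - k + -k)) := add_le_add h4 h2
        _ = Module.length ↥(deg0 𝒜) ↥(comp 𝒜 ℳ (-g - D - k)) := by
            rw [h5, add_comm]
  have hj : r0 ≤ g + ((r0 - g).toNat : ℤ) * k := by
    have h1 : (r0 - g) ≤ ((r0 - g).toNat : ℤ) := Int.self_le_toNat _
    have h2 : (0 : ℤ) ≤ ((r0 - g).toNat : ℤ) := Int.natCast_nonneg _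
    nlinarith
  exact key _ g hj

end Step

section Seq

variable {R : Type u} [CommRing R] [IsNoetherianRing R] {𝒜 : ℤ → AddSubgroup R} [GradedRing 𝒜]
variable (hpos : ∀ n : ℤ, n < 0 → 𝒜 n = ⊥) (a : HomogeneousIdeal 𝒜)
  (hRp : ∀ n : ℤ, 0 < n → ∀ r ∈ 𝒜 n, r ∈ a.toIdeal)

omit [IsNoetherianRing R] in
theorem length_comp_of_equiv {M : Type u} [AddCommGroup M] [Module R M] {ℳ : ℤ → AddSubgroup M}
    [DirectSum.Decomposition ℳ] [SetLike.GradedSMul 𝒜 ℳ]
    {N : Type u} [AddCommGroup N] [Module R N] {𝒩 : ℤ → AddSubgroup N}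
    [DirectSum.Decomposition 𝒩] [SetLike.GradedSMul 𝒜 𝒩] (e : M ≃ₗ[R] N)
    (he : IsGrHom ℳ 𝒩 e.toLinearMap) (he' : IsGrHom 𝒩 ℳ e.symm.toLinearMap) (s : ℤ) :
    Module.length ↥(deg0 𝒜) ↥(comp 𝒜 ℳ s) = Module.length ↥(deg0 𝒜) ↥(comp 𝒜 𝒩 s) := by
  let eg : ↥(comp 𝒜 ℳ s) ≃ₗ[deg0 𝒜] ↥(comp 𝒜 𝒩 s) :=
    { toFun := fun m => ⟨e m, he s m m.2⟩
      invFun := fun n => ⟨e.symm n, he' s n n.2⟩
      map_add' := fun m m' => Subtype.ext (by
        change e ((m : M) + (m' : M)) = e m + e m'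
        rw [map_add])
      map_smul' := fun r m => Subtype.ext (by
        change e ((r : R) • (m : M)) = (r : R) • e m
        rw [map_smul])
      left_inv := fun m => Subtype.ext (e.symm_apply_apply _)
      right_inv := fun n => Subtype.ext (e.apply_symm_apply _) }
  exact eg.length_eq

include hpos hRp in
/-- The bound along a homogeneous regular sequence of positive degrees. -/
theorem seq_le : ∀ (t : ℕ)
    (M : Type u) [AddCommGroup M] [Module R M] [Module.Finite R M] (ℳ : ℤ → AddSubgroup M)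
      [DirectSum.Decomposition ℳ] [SetLike.GradedSMul 𝒜 ℳ]
      (N : Type u) [AddCommGroup N] [Module R N] (𝒩 : ℤ → AddSubgroup N)
      [DirectSum.Decomposition 𝒩] [SetLike.GradedSMul 𝒜 𝒩]
      (f : Fin t → R) (deg : Fin t → ℤ), (∀ i, f i ∈ 𝒜 (deg i)) → (∀ i, 0 < deg i) →
      RingTheory.Sequence.IsWeaklyRegular M (List.ofFn f) →
      ∀ π : M →ₗ[R] N, IsGrHom ℳ 𝒩 π → Function.Surjective π →
      LinearMap.ker π = Ideal.span (Set.range f) • (⊤ : Submodule R M) →
      ∀ (n0 : ℕ) (D : ℤ),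
      (∀ (F : StarInjRes 𝒜 𝒩) (g : ℤ), Module.length ↥(deg0 𝒜) ↥(F.Hcomp a n0 g) ≤
        Module.length ↥(deg0 𝒜) ↥(comp 𝒜 𝒩 (-g - D))) →
      ∀ (E : StarInjRes 𝒜 ℳ) (g : ℤ), Module.length ↥(deg0 𝒜) ↥(E.Hcomp a (n0 + t) g) ≤
        Module.length ↥(deg0 𝒜) ↥(comp 𝒜 ℳ (-g - D - ∑ i, deg i)) := by
  intro t
  induction t with
  | zero =>
    intro M _ _ _ ℳ _ _ N _ _ 𝒩 _ _ f deg _ _ _ π hπg hπs hπk n0 D hN E g
    have hker : LinearMap.ker π = ⊥ := by
      rw [hπk]
      have : Set.range f = ∅ := Set.range_eq_empty f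
      rw [this, Ideal.span_empty, Submodule.bot_smul]
    have hinj : Function.Injective π := LinearMap.ker_eq_bot.mp hker
    let e : M ≃ₗ[R] N := LinearEquiv.ofBijective π ⟨hinj, hπs⟩
    have he : IsGrHom ℳ 𝒩 e.toLinearMap := hπg
    have he' : IsGrHom 𝒩 ℳ e.symm.toLinearMap := by
      intro g y hy
      apply mem_piece_of_map_mem_piece ℳ 𝒩 π hπg hinj
      have : π (e.symm y) = y := e.apply_symm_apply y
      change π (e.symm y) ∈ 𝒩 g
      rw [this]
      exact hy
    rw [Finset.univ_eq_empty, Finset.sum_empty, sub_zero, add_zero,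
      length_eq_of_equiv E (starInjRes 𝒜 𝒩) a e he he' n0 g,
      length_comp_of_equiv e he he' (-g - D)]
    exact hN _ g
  | succ t ih =>
    intro M _ _ _ ℳ _ _ N _ _ 𝒩 _ _ f deg hfdeg hdeg hreg π hπg hπs hπk n0 D hN E g
    set x : R := f 0 with hx
    set k : ℤ := deg 0 with hkdef
    have hxk : x ∈ 𝒜 k := hfdeg 0
    rw [List.ofFn_succ, RingTheory.Sequence.isWeaklyRegular_cons_iff] at hreg
    obtain ⟨hreg0, hreg'⟩ := hreg
    let mx : M →ₗ[R] M := x • (LinearMap.id : M →ₗ[R] M)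
    let B : Submodule R M := LinearMap.range mx
    have hmx : IsGrHomDeg ℳ ℳ mx k := by
      intro g m hm
      have := smul_mem_piece 𝒜 ℳ hxk hm
      rw [add_comm] at this
      exact this
    have hB : B.IsHomogeneous ℳ := range_isHomogeneous_of_isGrHomDeg ℳ ℳ mx k hmx
    have hBeq : x • (⊤ : Submodule R M) = B := by
      ext y
      rw [Submodule.mem_smul_pointwise_iff_exists]
      constructor
      · rintro ⟨m, -, rfl⟩
        exact ⟨m, rfl⟩
      · rintro ⟨m, rfl⟩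
        exact ⟨m, trivial, rfl⟩
    let Y : GMod.{u} 𝒜 := gmodQuot 𝒜 ℳ B hB
    let π₁ : M →ₗ[R] Y.carrier := B.mkQ
    have hπ₁g : IsGrHom ℳ Y.gr π₁ := isGrHom_mkQ ℳ B
    have hπ₁s : Function.Surjective π₁ := B.mkQ_surjective
    have hπ₁0 : ∀ m, π₁ m = 0 ↔ m ∈ B := fun m => Submodule.Quotient.mk_eq_zero B
    have hπ₁k : LinearMap.ker π₁ = LinearMap.range (x • (LinearMap.id : M →ₗ[R] M)) :=
      Submodule.ker_mkQ B
    have hBle : B ≤ LinearMap.ker π := by
      rintro _ ⟨m, rfl⟩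
      rw [hπk]
      exact Submodule.smul_mem_smul (Ideal.subset_span ⟨0, rfl⟩) (Submodule.mem_top)
    let π' : Y.carrier →ₗ[R] N := B.liftQ π hBle
    have hπ'π : ∀ m, π' (π₁ m) = π m := fun m => Submodule.liftQ_apply B π m
    have hπ'g : IsGrHom Y.gr 𝒩 π' := by
      rintro g y ⟨m, hm, rfl⟩
      exact hπg g m hm
    have hπ's : Function.Surjective π' := by
      intro n
      obtain ⟨m, rfl⟩ := hπs n
      exact ⟨π₁ m, hπ'π m⟩
    have hπ'k : LinearMap.ker π' =
        Ideal.span (Set.range (fun i : Fin t => f i.succ)) • (⊤ : Submodule R Y.carrier) := by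
      apply le_antisymm
      · intro y hy
        obtain ⟨m, rfl⟩ := hπ₁s y
        rw [LinearMap.mem_ker, hπ'π] at hy
        have hm : m ∈ Ideal.span (Set.range f) • (⊤ : Submodule R M) := by
          rw [← hπk]; exact hy
        refine Submodule.smul_induction_on hm ?_ ?_
        · intro r hr m' _
          rw [Groth.Agent.Lib.Helper8.GrLCAinvSeq.range_succ, Ideal.span_insert] at hr
          obtain ⟨r₁, hr₁, r₂, hr₂, rfl⟩ := Submodule.mem_sup.mp hr
          obtain ⟨c, rfl⟩ := Ideal.mem_span_singleton'.mp hr₁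
          rw [add_smul, map_add]
          have h0 : π₁ ((c * f 0) • m') = 0 := by
            rw [hπ₁0]
            refine ⟨c • m', ?_⟩
            change x • (c • m') = (c * f 0) • m'
            rw [hx, smul_smul, mul_comm]
          rw [h0, zero_add, map_smul]
          exact Submodule.smul_mem_smul hr₂ trivial
        · intro y y' hy hy'
          rw [map_add]
          exact Submodule.add_mem _ hy hy'
      · rw [Submodule.smul_le]
        intro r hr y _
        obtain ⟨m, rfl⟩ := hπ₁s y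
        rw [LinearMap.mem_ker, ← map_smul, hπ'π]
        have : r • m ∈ LinearMap.ker π := by
          rw [hπk]
          refine Submodule.smul_mem_smul (Ideal.span_mono ?_ hr) (Submodule.mem_top)
          rintro _ ⟨i, rfl⟩
          exact ⟨i.succ, rfl⟩
        exact this
    have hreg'' : RingTheory.Sequence.IsWeaklyRegular Y.carrier
        (List.ofFn (fun i : Fin t => f i.succ)) := by
      have e : QuotSMulTop x M ≃ₗ[R] Y.carrier := Submodule.quotEquivOfEq _ _ hBeq
      exact (e.isWeaklyRegular_congr _).mp hreg'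
    haveI hYfin : Module.Finite R Y.carrier := Module.Finite.of_surjective π₁ hπ₁s
    have hY := ih Y.carrier Y.gr N 𝒩 (fun i => f i.succ) (fun i => deg i.succ)
      (fun i => hfdeg i.succ) (fun i => hdeg i.succ) hreg'' π' hπ'g hπ's hπ'k n0 D hN
    have hY' : ∀ (F : StarInjRes 𝒜 Y.gr) (g : ℤ),
        Module.length ↥(deg0 𝒜) ↥(F.Hcomp a (n0 + t) g) ≤
          Module.length ↥(deg0 𝒜) ↥(comp 𝒜 Y.gr (-g - (D + ∑ i : Fin t, deg i.succ))) := by
      intro F g
      have e1 : -g - (D + ∑ i : Fin t, deg i.succ) = -g - D - ∑ i : Fin t, deg i.succ := by ring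
      rw [e1]
      exact hY F g
    have hfin := step_le (ℳ := ℳ) (𝒩 := Y.gr) hpos a hRp hxk hreg0 π₁ hπ₁s hπ₁g hπ₁k (hdeg 0)
      (n0 + t) (D + ∑ i : Fin t, deg i.succ) hY' E g
    have e2 : -g - (D + ∑ i : Fin t, deg i.succ) - k = -g - D - ∑ i : Fin (t + 1), deg i := by
      rw [Fin.sum_univ_succ]
      ring
    rw [e2] at hfin
    exact hfin

end Seq

section Depth

variable {R : Type u} [CommRing R] {𝒜 : ℤ → AddSubgroup R} [GradedRing 𝒜]
variable (a : HomogeneousIdeal 𝒜)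

/-- Local cohomology vanishes below the length of a homogeneous regular sequence in the ideal. -/
theorem vanM_of_weaklyRegular : ∀ (t : ℕ)
    (M : Type u) [AddCommGroup M] [Module R M] (ℳ : ℤ → AddSubgroup M)
      [DirectSum.Decomposition ℳ] [SetLike.GradedSMul 𝒜 ℳ]
      (f : Fin t → R) (deg : Fin t → ℤ), (∀ i, f i ∈ 𝒜 (deg i)) → (∀ i, f i ∈ a.toIdeal) →
      RingTheory.Sequence.IsWeaklyRegular M (List.ofFn f) →
      ∀ i, i < t → ∀ g, VanM a ℳ i g := by
  intro t
  induction t with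
  | zero =>
    intro M _ _ ℳ _ _ f deg _ _ _ i hi
    omega
  | succ t ih =>
    intro M _ _ ℳ _ _ f deg hfdeg hfa hreg i hi g
    set x : R := f 0 with hx
    set k : ℤ := deg 0 with hkdef
    have hxk : x ∈ 𝒜 k := hfdeg 0
    have hxa : x ∈ a.toIdeal := hfa 0
    rw [List.ofFn_succ, RingTheory.Sequence.isWeaklyRegular_cons_iff] at hreg
    obtain ⟨hreg0, hreg'⟩ := hreg
    cases i with
    | zero => exact vanM_zero_of_regular a hreg0 hxa g
    | succ i =>
      let mx : M →ₗ[R] M := x • (LinearMap.id : M →ₗ[R] M)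
      let B : Submodule R M := LinearMap.range mx
      have hmx : IsGrHomDeg ℳ ℳ mx k := by
        intro g m hm
        have := smul_mem_piece 𝒜 ℳ hxk hm
        rw [add_comm] at this
        exact this
      have hB : B.IsHomogeneous ℳ := range_isHomogeneous_of_isGrHomDeg ℳ ℳ mx k hmx
      have hBeq : x • (⊤ : Submodule R M) = B := by
        ext y
        rw [Submodule.mem_smul_pointwise_iff_exists]
        constructor
        · rintro ⟨m, -, rfl⟩
          exact ⟨m, rfl⟩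
        · rintro ⟨m, rfl⟩
          exact ⟨m, trivial, rfl⟩
      let Y : GMod.{u} 𝒜 := gmodQuot 𝒜 ℳ B hB
      let π₁ : M →ₗ[R] Y.carrier := B.mkQ
      have hπ₁g : IsGrHom ℳ Y.gr π₁ := isGrHom_mkQ ℳ B
      have hπ₁s : Function.Surjective π₁ := B.mkQ_surjective
      have hπ₁k : LinearMap.ker π₁ = LinearMap.range (x • (LinearMap.id : M →ₗ[R] M)) :=
        Submodule.ker_mkQ B
      have hreg'' : RingTheory.Sequence.IsWeaklyRegular Y.carrier
          (List.ofFn (fun i : Fin t => f i.succ)) := by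
        have e : QuotSMulTop x M ≃ₗ[R] Y.carrier := Submodule.quotEquivOfEq _ _ hBeq
        exact (e.isWeaklyRegular_congr _).mp hreg'
      have hY := ih Y.carrier Y.gr (fun i => f i.succ) (fun i => deg i.succ)
        (fun i => hfdeg i.succ) (fun i => hfa i.succ) hreg'' i (by omega)
      have := van_of_regular (ℳ := ℳ) (𝒩 := Y.gr) a hxk hreg0 π₁ hπ₁s hπ₁g hπ₁k hxa i
        (fun _ => True) (fun _ _ => trivial) (fun g' _ => hY g') (g + k) trivial
      rwa [add_neg_cancel_right] at this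

end Depth

end Groth.Agent.Lib.Helper8.GrCanPolyLen
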