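import Groth.Agent.Lib.Helper93.GrDual
import Groth.Agent.Lib.Helper93.Segre
import Groth.Agent.Lib.Helper8.GrLCPieces

set_option autoImplicit false
set_option linter.unusedSectionVars false
universe u

open DirectSum

namespace Groth.Agent.Lib.Helper8.GrDualMatlis

open Groth.Agent.Lib.Helper93
open Groth.Agent.Lib.Helper8.GrLCPieces

section Melkersson

variable {A : Type*} [CommRing A]

/-- The common kernel of a list of ring elements acting on a module. -/
def comKer (H : Type*) [AddCommGroup H] [Module A H] (xs : List A) : Submodule A H where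
  carrier := {h | ∀ x ∈ xs, x • h = 0}
  add_mem' := by
    intro a b ha hb x hx
    rw [smul_add, ha x hx, hb x hx, add_zero]
  zero_mem' := by
    intro x _
    exact smul_zero x
  smul_mem' := by
    intro c a ha x hx
    rw [smul_comm, ha x hx, smul_zero]

theorem mem_comKer {H : Type*} [AddCommGroup H] [Module A H] {xs : List A} {h : H} :
    h ∈ comKer H xs ↔ ∀ x ∈ xs, x • h = 0 := Iff.rfl

theorem smul_eq_zero_of_mem_comKer {H : Type*} [AddCommGroup H] [Module A H] {xs : List A}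
    {h : H} (hh : h ∈ comKer H xs) {r : A} (hr : r ∈ Ideal.span {x | x ∈ xs}) : r • h = 0 := by
  induction hr using Submodule.span_induction with
  | mem x hx => exact hh x hx
  | zero => exact zero_smul _ _
  | add a b _ _ ha hb => rw [add_smul, ha, hb, add_zero]
  | smul a b _ hb => rw [smul_eq_mul, mul_smul, hb, smul_zero]

/-- Melkersson's lemma for finitely many elements. -/
theorem artinian_of_torsion_of_comKer (xs : List A) :
    ∀ (H : Type u) [AddCommGroup H] [Module A H],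
      (∀ x ∈ xs, ∀ h : H, ∃ n : ℕ, x ^ n • h = 0) → IsArtinian A ↥(comKer H xs) →
      IsArtinian A H := by
  induction xs with
  | nil =>
    intro H _ _ _ hker
    have htop : comKer (A := A) H [] = ⊤ := by
      rw [eq_top_iff]
      intro h _ x hx
      simp at hx
    rw [htop] at hker
    exact isArtinian_of_linearEquiv (Submodule.topEquiv (R := A) (M := H))
  | cons x xs ih =>
    intro H _ _ htors hker
    let N : Submodule A H := LinearMap.ker (LinearMap.lsmul A H x)
    have hN : IsArtinian A ↥N := by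
      apply ih ↥N
      · intro y hy h
        obtain ⟨n, hn⟩ := htors y (List.mem_cons_of_mem _ hy) (h : H)
        exact ⟨n, Subtype.ext hn⟩
      · let f : ↥(comKer ↥N xs) →ₗ[A] ↥(comKer H (x :: xs)) :=
          { toFun := fun h => ⟨((h : ↥N) : H), by
              intro y hy
              rcases List.mem_cons.mp hy with rfl | hy
              · exact (h : ↥N).2
              · have := h.2 y hy
                exact congrArg Subtype.val this⟩
            map_add' := fun a b => rfl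
            map_smul' := fun c a => rfl }
        have hf : Function.Injective f := by
          intro a b hab
          apply Subtype.ext
          apply Subtype.ext
          exact congrArg (fun z : ↥(comKer H (x :: xs)) => (z : H)) hab
        exact isArtinian_of_injective f hf
    exact artinian_of_torsion_of_ker x (fun h => htors x List.mem_cons_self h) hN

end Melkersson


section DualArtinian

variable {k : Type u} [Field k] {R : Type u} [CommRing R] [Algebra k R]
  (𝒜 : ℤ → Submodule k R) [GradedAlgebra 𝒜]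
  {M : Type u} [AddCommGroup M] [Module R M] [Module k M] [IsScalarTower k R M]
  {D : Type u} [AddCommGroup D] [Module R D] [Module k D] [IsScalarTower k R D]
  {τ : Type u} [SetLike τ M] [AddSubgroupClass τ M]
  (ℳ : ℤ → τ) [DirectSum.Decomposition ℳ]
  (𝒟 : ℤ → AddSubgroup D) [DirectSum.Decomposition 𝒟]
  (hDs : ∀ (i j : ℤ) (a : R) (x : D), a ∈ 𝒜 i → x ∈ 𝒟 j → a • x ∈ 𝒟 (i + j))
  {β : D →ₗ[k] M →ₗ[k] k} (hD : GrSeg.IsGDual R ℳ 𝒟 β)

include hD in
theorem dual_bounded_above (hlow : ∃ n0 : ℤ, ∀ j : ℤ, j < n0 → ∀ x ∈ ℳ j, x = 0) :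
    ∃ n1 : ℤ, ∀ j : ℤ, n1 < j → ∀ d ∈ 𝒟 j, d = 0 := by
  obtain ⟨n0, h⟩ := hlow
  refine ⟨-n0, fun j hj d hd => hD.eq_zero j d hd (fun x hx => ?_)⟩
  rw [h (-j) (by omega) x hx, map_zero]

include hDs in
theorem exists_pow_smul_eq_zero (hup : ∃ n1 : ℤ, ∀ j : ℤ, n1 < j → ∀ d ∈ 𝒟 j, d = 0)
    {i : ℤ} (hi : 0 < i) {x : R} (hx : x ∈ 𝒜 i) (d : D) : ∃ n : ℕ, x ^ n • d = 0 := by
  classical
  obtain ⟨n1, hn1⟩ := hup
  induction d using DirectSum.Decomposition.inductionOn 𝒟 with
  | zero => exact ⟨0, smul_zero _⟩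
  | add a b ha hb =>
    obtain ⟨na, hna⟩ := ha
    obtain ⟨nb, hnb⟩ := hb
    refine ⟨na + nb, ?_⟩
    rw [smul_add]
    nth_rewrite 1 [add_comm na nb]
    rw [pow_add, pow_add, mul_smul, mul_smul, hna, hnb, smul_zero, smul_zero, add_zero]
  | homogeneous d =>
    rename_i j
    refine ⟨(n1 - j).toNat + 1, ?_⟩
    have h1 : x ^ ((n1 - j).toNat + 1) ∈ 𝒜 (((n1 - j).toNat + 1) • i) :=
      SetLike.pow_mem_graded _ hx
    have h2 := hDs _ j _ (d : D) h1 d.2
    apply hn1 _ _ _ h2
    have h3 : (((n1 - j).toNat + 1) • i : ℤ) = (((n1 - j).toNat + 1 : ℕ) : ℤ) * i := by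
      rw [nsmul_eq_mul]
    rw [h3]
    have h4 : n1 - j ≤ ((n1 - j).toNat : ℤ) := Int.self_le_toNat _
    have h5 : (((n1 - j).toNat + 1 : ℕ) : ℤ) ≤ (((n1 - j).toNat + 1 : ℕ) : ℤ) * i := by
      apply le_mul_of_one_le_right
      · positivity
      · omega
    push_cast at h5 ⊢
    omega

theorem exists_pos_gens [IsNoetherianRing R] :
    ∃ s : Finset R, (∀ x ∈ s, ∃ i : ℤ, 0 < i ∧ x ∈ 𝒜 i) ∧
      Ideal.span (⋃ n ∈ Set.Ioi (0 : ℤ), (𝒜 n : Set R)) = Ideal.span (s : Set R) := by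
  have hfg : (Ideal.span (⋃ n ∈ Set.Ioi (0 : ℤ), (𝒜 n : Set R))).FG :=
    IsNoetherian.noetherian _
  obtain ⟨s, hs, hspan⟩ := (Submodule.fg_span_iff_fg_span_finset_subset _).mp hfg
  refine ⟨s, fun x hx => ?_, hspan⟩
  have h := hs hx
  simp only [Set.mem_iUnion] at h
  obtain ⟨i, hi, hxi⟩ := h
  exact ⟨i, hi, hxi⟩

include hD in
theorem isArtinian_socle [Module.Finite R M] (hpos : ∀ n : ℤ, n < 0 → 𝒜 n = ⊥)
    (h0 : 𝒜 0 = Submodule.span k {(1 : R)}) (xs : List R)
    (hxs : Ideal.span {x | x ∈ xs} = Ideal.span (⋃ n ∈ Set.Ioi (0 : ℤ), (𝒜 n : Set R))) :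
    IsArtinian R ↥(comKer D xs) := by
  classical
  obtain ⟨s, hs⟩ := Module.finite_def.mp (inferInstance : Module.Finite R M)
  let S : Submodule R D := comKer D xs
  let g : ↥S →ₗ[k] (↥s → k) :=
    LinearMap.pi (fun m => (β.flip (m : M)) ∘ₗ (S.subtype.restrictScalars k))
  have hg : ∀ (d : ↥S) (m : ↥s), g d m = β (d : D) (m : M) := fun d m => rfl
  have hginj : Function.Injective g := by
    rw [injective_iff_map_eq_zero]
    intro d hd
    apply Subtype.ext
    apply GrDual.beta_eq_zero ℳ 𝒟 hD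
    intro m
    have hm : m ∈ Submodule.span R (s : Set M) := by rw [hs]; trivial
    induction hm using Submodule.span_induction with
    | mem m hm =>
      have := congrFun hd ⟨m, hm⟩
      rw [hg] at this
      exact this
    | zero => exact map_zero _
    | add a b _ _ ha hb => rw [map_add, ha, hb, add_zero]
    | smul r m _ hm =>
      rw [← hD.map_smul]
      obtain ⟨c, hc⟩ := GrDual.exists_sub_mem_irrelevant 𝒜 hxs hpos h0 r
      have h1 : (r - algebraMap k R c) • (d : D) = 0 := smul_eq_zero_of_mem_comKer d.2 hc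
      rw [sub_smul, sub_eq_zero, algebraMap_smul] at h1
      rw [h1, map_smul, LinearMap.smul_apply, hm, smul_zero]
  have hk : IsArtinian k ↥S := isArtinian_of_injective g hginj
  exact isArtinian_of_tower k hk

include hD hDs in
theorem isArtinian_dual [IsNoetherianRing R] [Module.Finite R M]
    (hpos : ∀ n : ℤ, n < 0 → 𝒜 n = ⊥) (h0 : 𝒜 0 = Submodule.span k {(1 : R)})
    (hlow : ∃ n0 : ℤ, ∀ j : ℤ, j < n0 → ∀ x ∈ ℳ j, x = 0) : IsArtinian R D := by
  classical
  obtain ⟨s, hs, hspan⟩ := exists_pos_gens 𝒜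
  have hset : {x | x ∈ s.toList} = (s : Set R) := by
    ext x
    simp
  apply artinian_of_torsion_of_comKer s.toList D
  · intro x hx d
    rw [Finset.mem_toList] at hx
    obtain ⟨i, hi, hxi⟩ := hs x hx
    exact exists_pow_smul_eq_zero 𝒜 𝒟 hDs (dual_bounded_above ℳ 𝒟 hD hlow) hi hxi d
  · apply isArtinian_socle 𝒜 ℳ 𝒟 hD hpos h0
    rw [hset, hspan]

end DualArtinian


section Flip

variable {k : Type u} [Field k] {R : Type u} [CommRing R] [Algebra k R]
  (𝒜 : ℤ → Submodule k R) [GradedAlgebra 𝒜]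
  {M : Type u} [AddCommGroup M] [Module R M] [Module k M] [IsScalarTower k R M]
  {D : Type u} [AddCommGroup D] [Module R D] [Module k D] [IsScalarTower k R D]
  (ℳ : ℤ → AddSubgroup M) [DirectSum.Decomposition ℳ]
  (𝒟 : ℤ → AddSubgroup D) [DirectSum.Decomposition 𝒟]
  (hM : ∀ (i j : ℤ) (a : R) (x : M), a ∈ 𝒜 i → x ∈ ℳ j → a • x ∈ ℳ (i + j))
  (hDs : ∀ (i j : ℤ) (a : R) (x : D), a ∈ 𝒜 i → x ∈ 𝒟 j → a • x ∈ 𝒟 (i + j))
  {β : D →ₗ[k] M →ₗ[k] k} (hD : GrSeg.IsGDual R ℳ 𝒟 β)

include hM in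
theorem finite_piece_of_finite [IsNoetherianRing R] [Module.Finite R M]
    (hpos : ∀ n : ℤ, n < 0 → 𝒜 n = ⊥) (h0 : 𝒜 0 = Submodule.span k {(1 : R)}) (n : ℤ) :
    FiniteDimensional k ↥(GrDual.pieceSub 𝒜 ℳ hM n) := by
  classical
  obtain ⟨s, hs1, hs2⟩ := GrDual.exists_finset_span_piece 𝒜 ℳ hM hpos h0 n
  have hVs : GrDual.pieceSub 𝒜 ℳ hM n = Submodule.span k (s : Set M) := by
    apply le_antisymm
    · intro x hx
      exact hs2 x hx
    · rw [Submodule.span_le]
      intro y hy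
      exact hs1 y hy
  rw [hVs]
  exact FiniteDimensional.span_finset k s

include hM in
/-- An element of the `R`-span of a `k`-subspace `L` of the degree-`n` piece which is itself
homogeneous of degree `n` lies in `L`. -/
theorem mem_of_mem_span_of_mem (h0 : 𝒜 0 = Submodule.span k {(1 : R)}) (n : ℤ)
    (L : Submodule k M) (hL : ∀ x ∈ L, x ∈ ℳ n) (m : M)
    (hm : m ∈ Submodule.span R (L : Set M)) (hmn : m ∈ ℳ n) : m ∈ L := by
  classical
  obtain ⟨t, c, y, rfl⟩ := Submodule.mem_span_set'.mp hm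
  have h1 := DirectSum.decompose_of_mem_same ℳ hmn
  rw [← h1, DirectSum.decompose_sum, DFinsupp.finsetSum_apply, AddSubmonoidClass.coe_finsetSum]
  apply Submodule.sum_mem
  intro i _
  have hyi : ((y i : M)) ∈ L := (y i).2
  have h2 := Segre.decompose_smul_of_mem 𝒜 ℳ hM (hL _ hyi) (c i) 0
  rw [zero_add] at h2
  rw [h2]
  have h3 : ∀ z : R, z ∈ 𝒜 0 → ∃ a : k, a • (1 : R) = z := by
    intro z hz
    rw [h0, Submodule.mem_span_singleton] at hz
    exact hz
  obtain ⟨a, ha⟩ := h3 _ (SetLike.coe_mem ((DirectSum.decompose 𝒜 (c i)) 0))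
  rw [← ha, smul_assoc, one_smul]
  exact Submodule.smul_mem _ _ hyi

include hM in
theorem finite_piece_of_artinian [IsArtinian R M]
    (h0 : 𝒜 0 = Submodule.span k {(1 : R)}) (n : ℤ) :
    FiniteDimensional k ↥(GrDual.pieceSub 𝒜 ℳ hM n) := by
  classical
  set V : Submodule k M := GrDual.pieceSub 𝒜 ℳ hM n with hV
  let up : Submodule k ↥V → Submodule R M :=
    fun L => Submodule.span R ((L.map V.subtype : Submodule k M) : Set M)
  have hup : StrictMono up := by
    intro L₁ L₂ h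
    refine lt_of_le_of_ne (Submodule.span_mono (Submodule.map_mono h.le)) (fun heq => ?_)
    apply h.not_ge
    intro y hy
    have h1 : (y : M) ∈ up L₂ := Submodule.subset_span ⟨y, hy, rfl⟩
    rw [← heq] at h1
    have hL : ∀ x ∈ (L₁.map V.subtype : Submodule k M), x ∈ ℳ n := by
      rintro x ⟨w, _, rfl⟩
      exact w.2
    obtain ⟨w, hw, hwy⟩ := mem_of_mem_span_of_mem 𝒜 ℳ hM h0 n _ hL (y : M) h1 y.2
    have : w = y := Subtype.ext hwy
    rwa [← this]
  have hart : IsArtinian k ↥V := hup.wellFoundedLT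
  have : IsNoetherian k ↥V := IsSemiprimaryRing.isNoetherian_iff_isArtinian.mpr hart
  infer_instance

include hM hDs hD in
theorem flip_exists_eq_of_finite (n : ℤ) [FiniteDimensional k ↥(GrDual.pieceSub 𝒜 ℳ hM n)]
    (G : D →ₗ[k] k) : ∃ x ∈ ℳ n, ∀ d ∈ 𝒟 (-n), β d x = G d := by
  classical
  set V : Submodule k M := GrDual.pieceSub 𝒜 ℳ hM n with hV
  set W : Submodule k D := GrDual.pieceSub 𝒜 𝒟 hDs (-n) with hW
  let ψ : W →ₗ[k] Module.Dual k V := V.subtype.dualMap ∘ₗ β ∘ₗ W.subtype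
  have hψ : ∀ (d : W) (x : V), ψ d x = β d x := fun d x => rfl
  have hψinj : Function.Injective ψ := by
    rw [injective_iff_map_eq_zero]
    intro d hd
    apply Subtype.ext
    apply hD.eq_zero (-n) d d.2
    intro x hx
    rw [neg_neg] at hx
    have h1 := LinearMap.congr_fun hd ⟨x, hx⟩
    exact h1
  have hψsurj : Function.Surjective ψ := by
    intro l
    obtain ⟨g, hg⟩ := LinearMap.exists_extend l
    obtain ⟨d, hd, hdg⟩ := hD.exists_eq (-n) g
    refine ⟨⟨d, hd⟩, ?_⟩
    apply LinearMap.ext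
    intro x
    rw [hψ]
    have hx : (x : M) ∈ ℳ (- -n) := by rw [neg_neg]; exact x.2
    rw [hdg x hx, ← hg]
    rfl
  let eψ : W ≃ₗ[k] Module.Dual k V := LinearEquiv.ofBijective ψ ⟨hψinj, hψsurj⟩
  have : FiniteDimensional k W := LinearEquiv.finiteDimensional eψ.symm
  have hdim : Module.finrank k V = Module.finrank k (Module.Dual k W) := by
    rw [Subspace.dual_finrank_eq, eψ.finrank_eq, Subspace.dual_finrank_eq]
  let θ : V →ₗ[k] Module.Dual k W := W.subtype.dualMap ∘ₗ β.flip ∘ₗ V.subtype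
  have hθ : ∀ (x : V) (d : W), θ x d = β d x := fun x d => rfl
  have hθinj : Function.Injective θ := by
    rw [injective_iff_map_eq_zero]
    intro x hx
    apply Subtype.ext
    apply GrDual.flip_eq_zero ℳ 𝒟 hD x.2
    intro d hd
    exact LinearMap.congr_fun hx ⟨d, hd⟩
  have hθsurj : Function.Surjective θ :=
    (LinearMap.injective_iff_surjective_of_finrank_eq_finrank hdim).mp hθinj
  obtain ⟨x, hx⟩ := hθsurj (G ∘ₗ W.subtype)
  refine ⟨x, x.2, fun d hd => ?_⟩
  have h1 := LinearMap.congr_fun hx ⟨d, hd⟩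
  exact h1

include hM hDs hD in
theorem isGDual_flip (hfd : ∀ n : ℤ, FiniteDimensional k ↥(GrDual.pieceSub 𝒜 ℳ hM n)) :
    GrSeg.IsGDual R 𝒟 ℳ β.flip where
  map_smul := by
    intro r x d
    change β d (r • x) = β (r • d) x
    exact (hD.map_smul r d x).symm
  vanish := by
    intro n x hx m hm d hd
    change β d x = 0
    exact hD.vanish m d hd n (fun h => hm (by omega)) x hx
  eq_zero := by
    intro n x hx h
    exact GrDual.flip_eq_zero ℳ 𝒟 hD hx h
  exists_eq := by
    intro n G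
    have := hfd n
    exact flip_exists_eq_of_finite 𝒜 ℳ 𝒟 hM hDs hD n G

end Flip


section DualFinite

variable {k : Type u} [Field k] {R : Type u} [CommRing R] [Algebra k R]
  (𝒜 : ℤ → Submodule k R) [GradedAlgebra 𝒜]
  {M : Type u} [AddCommGroup M] [Module R M] [Module k M] [IsScalarTower k R M]
  {D : Type u} [AddCommGroup D] [Module R D] [Module k D] [IsScalarTower k R D]
  (ℳ : ℤ → AddSubgroup M) [DirectSum.Decomposition ℳ]
  (𝒟 : ℤ → AddSubgroup D) [DirectSum.Decomposition 𝒟]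
  (hM : ∀ (i j : ℤ) (a : R) (x : M), a ∈ 𝒜 i → x ∈ ℳ j → a • x ∈ ℳ (i + j))
  (hDs : ∀ (i j : ℤ) (a : R) (x : D), a ∈ 𝒜 i → x ∈ 𝒟 j → a • x ∈ 𝒟 (i + j))
  {β : D →ₗ[k] M →ₗ[k] k} (hD : GrSeg.IsGDual R ℳ 𝒟 β)

include hDs in
/-- The span of a set of homogeneous elements is a homogeneous submodule. -/
theorem decompose_mem_span (s : Set D) (hs : ∀ y ∈ s, ∃ n : ℤ, y ∈ 𝒟 n) (d : D)
    (hd : d ∈ Submodule.span R s) (n : ℤ) :
    ((DirectSum.decompose 𝒟 d) n : D) ∈ Submodule.span R s := by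
  classical
  obtain ⟨t, c, y, rfl⟩ := Submodule.mem_span_set'.mp hd
  rw [DirectSum.decompose_sum, DFinsupp.finsetSum_apply, AddSubmonoidClass.coe_finsetSum]
  apply Submodule.sum_mem
  intro i _
  obtain ⟨j, hj⟩ := hs _ (y i).2
  have h2 := Segre.decompose_smul_of_mem 𝒜 𝒟 hDs hj (c i) (n - j)
  rw [sub_add_cancel] at h2
  rw [h2]
  exact Submodule.smul_mem _ _ (Submodule.subset_span (y i).2)

/-- The orthogonal of a submodule of `D` under the pairing. -/
def perp (β : D →ₗ[k] M →ₗ[k] k) (hms : ∀ (r : R) (d : D) (x : M), β (r • d) x = β d (r • x))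
    (P : Submodule R D) : Submodule R M where
  carrier := {x | ∀ d ∈ P, β d x = 0}
  add_mem' := by
    intro a b ha hb d hd
    rw [map_add, ha d hd, hb d hd, add_zero]
  zero_mem' := by
    intro d _
    exact map_zero _
  smul_mem' := by
    intro r x hx d hd
    rw [← hms]
    exact hx _ (P.smul_mem r hd)

include hM hDs hD in
theorem finite_dual_of_artinian [IsArtinian R M] (h0 : 𝒜 0 = Submodule.span k {(1 : R)}) :
    Module.Finite R D := by
  classical
  have hfd := fun n => finite_piece_of_artinian 𝒜 ℳ hM h0 n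
  let 𝒮 : Set (Submodule R M) := {N | ∃ s : Finset D, (∀ y ∈ s, ∃ n : ℤ, y ∈ 𝒟 n) ∧
    N = perp β hD.map_smul (Submodule.span R (s : Set D))}
  have hne : 𝒮.Nonempty := ⟨_, ∅, fun y hy => by simp at hy, rfl⟩
  obtain ⟨N, ⟨s, hs, rfl⟩, hmin⟩ := IsArtinian.set_has_minimal 𝒮 hne
  suffices h : Submodule.span R (s : Set D) = ⊤ from Module.finite_def.mpr ⟨s, h⟩
  by_contra hne
  obtain ⟨n, d, hdn, hdP⟩ : ∃ (n : ℤ) (d : D), d ∈ 𝒟 n ∧ d ∉ Submodule.span R (s : Set D) := by
    by_contra hall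
    push Not at hall
    apply hne
    rw [eq_top_iff]
    intro d _
    rw [← DirectSum.sum_support_decompose 𝒟 d]
    exact Submodule.sum_mem _ (fun i _ => hall i _ (SetLike.coe_mem _))
  let W : Submodule k D := GrDual.pieceSub 𝒜 𝒟 hDs n
  let Q : Submodule k D := (Submodule.span R (s : Set D)).restrictScalars k ⊓ W
  have hdQ : d ∉ Q := fun h => hdP h.1
  obtain ⟨G, hGd, hGQ⟩ := Submodule.exists_dual_map_eq_bot_of_notMem hdQ inferInstance
  have := hfd (-n)
  obtain ⟨x, hx, hxG⟩ := flip_exists_eq_of_finite 𝒜 ℳ 𝒟 hM hDs hD (-n) G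
  rw [neg_neg] at hxG
  have hxP : x ∈ perp β hD.map_smul (Submodule.span R (s : Set D)) := by
    intro d' hd'
    rw [GrDual.beta_decompose_left ℳ 𝒟 hD hx d', hxG _ (SetLike.coe_mem _)]
    have h1 : ((DirectSum.decompose 𝒟 d') n : D) ∈ Q :=
      ⟨decompose_mem_span 𝒜 𝒟 hDs _ hs d' hd' n, SetLike.coe_mem _⟩
    have h2 : G ((DirectSum.decompose 𝒟 d') n : D) ∈ Q.map G := ⟨_, h1, rfl⟩
    rw [hGQ] at h2
    exact (Submodule.mem_bot k).mp h2
  have hs' : perp β hD.map_smul (Submodule.span R ((insert d s : Finset D) : Set D)) ∈ 𝒮 := by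
    refine ⟨insert d s, fun y hy => ?_, rfl⟩
    rcases Finset.mem_insert.mp hy with rfl | hy
    · exact ⟨n, hdn⟩
    · exact hs y hy
  have hle : perp β hD.map_smul (Submodule.span R ((insert d s : Finset D) : Set D)) ≤
      perp β hD.map_smul (Submodule.span R (s : Set D)) := by
    intro z hz d' hd'
    apply hz
    refine Submodule.span_mono ?_ hd'
    intro w hw
    exact Finset.mem_insert_of_mem hw
  refine hmin _ hs' (lt_of_le_of_ne hle (fun heq => ?_))
  rw [← heq] at hxP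
  have h3 := hxP d (Submodule.subset_span (Finset.mem_insert_self d s))
  rw [hxG d hdn] at h3
  exact hGd h3

end DualFinite


section Embed

variable {k : Type u} [Field k] {R : Type u} [CommRing R] [Algebra k R]
  (𝒜 : ℤ → Submodule k R) [GradedAlgebra 𝒜]
  {D : Type u} [AddCommGroup D] [Module R D] [Module k D] [IsScalarTower k R D]
  (𝒟 : ℤ → AddSubgroup D) [DirectSum.Decomposition 𝒟]
  {β : D →ₗ[k] R →ₗ[k] k} (hD : GrSeg.IsGDual R 𝒜 𝒟 β)
  {M : Type u} [AddCommGroup M] [Module R M] [Module k M] [IsScalarTower k R M]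
  (ℳ : ℤ → AddSubgroup M) [DirectSum.Decomposition ℳ]
  (hM : ∀ (i j : ℤ) (a : R) (x : M), a ∈ 𝒜 i → x ∈ ℳ j → a • x ∈ ℳ (i + j))

/-- A linear map shifting degrees by `s` commutes with taking homogeneous components. -/
theorem decompose_map_shift (φ : M →ₗ[R] D) (s : ℤ)
    (hφ : ∀ (g : ℤ) (m : M), m ∈ ℳ g → φ m ∈ 𝒟 (g + s)) (m : M) (j : ℤ) :
    ((DirectSum.decompose 𝒟 (φ m)) (j + s) : D) = φ ((DirectSum.decompose ℳ m) j : M) := by
  classical
  induction m using DirectSum.Decomposition.inductionOn ℳ with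
  | zero => simp
  | add x y hx hy =>
    rw [map_add, DirectSum.decompose_add, DirectSum.add_apply, AddSubgroup.coe_add, hx, hy,
      DirectSum.decompose_add, DirectSum.add_apply, AddSubgroup.coe_add, map_add]
  | homogeneous x =>
    rename_i g
    have h1 : φ x ∈ 𝒟 (g + s) := hφ g x x.2
    by_cases hgj : g = j
    · subst hgj
      rw [DirectSum.decompose_of_mem_same 𝒟 h1, DirectSum.decompose_of_mem_same ℳ x.2]
    · have hne : g + s ≠ j + s := fun h => hgj (by omega)
      rw [DirectSum.decompose_of_mem_ne 𝒟 h1 hne, DirectSum.decompose_of_mem_ne ℳ x.2 hgj,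
        map_zero]

include hD hM in
/-- A nonzero homogeneous element of a graded module is detected by a graded homomorphism to
a shift of the graded dual of the ring. -/
theorem exists_grHom_ne_zero {j : ℤ} {x : M} (hx : x ∈ ℳ j) (hx0 : x ≠ 0) :
    ∃ φ : M →ₗ[R] D, (∀ (g : ℤ) (m : M), m ∈ ℳ g → φ m ∈ 𝒟 (g + -j)) ∧ φ x ≠ 0 := by
  classical
  have h1 : ¬ ∀ f : Module.Dual k M, f x = 0 := by
    rw [Module.forall_dual_apply_eq_zero_iff k x]
    exact hx0
  push Not at h1
  obtain ⟨l₀, hl₀⟩ := h1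
  let πj : M →ₗ[k] M :=
    { toFun := fun m => ((DirectSum.decompose ℳ m) j : M)
      map_add' := by
        intro a b
        rw [DirectSum.decompose_add, DirectSum.add_apply, AddSubgroup.coe_add]
      map_smul' := by
        intro c m
        have h := Segre.decompose_smul_of_left_mem 𝒜 ℳ hM (SetLike.algebraMap_mem_graded 𝒜 c) m j
        rw [zero_add, algebraMap_smul, algebraMap_smul] at h
        exact h }
  let l : M →ₗ[k] k := l₀ ∘ₗ πj
  have hl : ∀ m, l m = l₀ ((DirectSum.decompose ℳ m) j : M) := fun m => rfl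
  have hex' : ∀ (g : ℤ) (m : M), m ∈ ℳ g → ∃ e ∈ 𝒟 (g + -j), ∀ r : R, β e r = l (r • m) := by
    intro g m hm
    let lm : R →ₗ[k] k := l ∘ₗ ((LinearMap.toSpanSingleton R M m).restrictScalars k)
    have hlm : ∀ r, lm r = l (r • m) := fun r => rfl
    obtain ⟨e, he, heβ⟩ := GrDual.exists_dual 𝒜 𝒟 hD (g + -j) lm
    refine ⟨e, he, fun r => ?_⟩
    rw [heβ r, hlm, hl, hl]
    have e1 : -(g + -j) = j - g := by ring
    rw [e1]
    have h2 := Segre.decompose_smul_of_mem 𝒜 ℳ hM hm r (j - g)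
    rw [sub_add_cancel] at h2
    rw [h2]
    have h3 : ((DirectSum.decompose 𝒜 r) (j - g) : R) • m ∈ ℳ j := by
      have := hM (j - g) g _ m (SetLike.coe_mem ((DirectSum.decompose 𝒜 r) (j - g))) hm
      rwa [sub_add_cancel] at this
    rw [DirectSum.decompose_of_mem_same ℳ h3]
  have hex : ∀ m : M, ∃ e : D, ∀ r : R, β e r = l (r • m) := by
    intro m
    induction m using DirectSum.Decomposition.inductionOn ℳ with
    | zero => exact ⟨0, fun r => by simp⟩
    | add x1 x2 h1 h2 =>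
      obtain ⟨e1, he1⟩ := h1
      obtain ⟨e2, he2⟩ := h2
      exact ⟨e1 + e2, fun r => by
        rw [map_add, LinearMap.add_apply, he1, he2, smul_add, map_add]⟩
    | homogeneous m =>
      rename_i g
      obtain ⟨e, _, he⟩ := hex' g m m.2
      exact ⟨e, he⟩
  choose h hh using hex
  have huniq : ∀ (m : M) (e : D), (∀ r : R, β e r = l (r • m)) → h m = e := by
    intro m e he
    rw [← sub_eq_zero]
    apply GrDual.beta_eq_zero 𝒜 𝒟 hD
    intro r
    rw [map_sub, LinearMap.sub_apply, hh m r, he r, sub_self]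
  let φ : M →ₗ[R] D :=
    { toFun := h
      map_add' := by
        intro x1 x2
        apply huniq
        intro r
        rw [map_add, LinearMap.add_apply, hh x1 r, hh x2 r, smul_add, map_add]
      map_smul' := by
        intro a m
        apply huniq
        intro r
        rw [RingHom.id_apply, hD.map_smul, hh m, smul_eq_mul, mul_smul, smul_comm] }
  refine ⟨φ, ?_, ?_⟩
  · intro g m hm
    obtain ⟨e, he, heβ⟩ := hex' g m hm
    change h m ∈ 𝒟 (g + -j)
    rw [huniq m e heβ]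
    exact he
  · intro h0
    apply hl₀
    have h4 := hh x 1
    change φ x = 0 at h0
    change β (φ x) 1 = l ((1 : R) • x) at h4
    rw [h0, one_smul, hl, DirectSum.decompose_of_mem_same ℳ hx] at h4
    rw [← h4]
    simp

include hD hM in
theorem exists_embedding [IsArtinian R M] :
    ∃ (t : ℕ) (sh : Fin t → ℤ) (f : M →ₗ[R] (Fin t → D)), Function.Injective f ∧
      ∀ (i : Fin t) (g : ℤ) (x : M), x ∈ ℳ g → f x i ∈ 𝒟 (g + sh i) := by
  classical
  let 𝒮 : Set (Submodule R M) := {K | ∃ (t : ℕ) (sh : Fin t → ℤ) (f : M →ₗ[R] (Fin t → D)),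
    (∀ (i : Fin t) (g : ℤ) (x : M), x ∈ ℳ g → f x i ∈ 𝒟 (g + sh i)) ∧ K = LinearMap.ker f}
  have hne : 𝒮.Nonempty :=
    ⟨_, 0, fun i => i.elim0, 0, fun i => i.elim0, rfl⟩
  obtain ⟨K, ⟨t, sh, f, hf, rfl⟩, hmin⟩ := IsArtinian.set_has_minimal 𝒮 hne
  refine ⟨t, sh, f, ?_, hf⟩
  rw [← LinearMap.ker_eq_bot]
  by_contra hker
  -- the kernel is homogeneous
  have hhom : ∀ m ∈ LinearMap.ker f, ∀ j : ℤ, ((DirectSum.decompose ℳ m) j : M) ∈
      LinearMap.ker f := by
    intro m hm j
    rw [LinearMap.mem_ker] at hm ⊢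
    funext i
    have h1 := decompose_map_shift 𝒟 ℳ (LinearMap.proj i ∘ₗ f) (sh i)
      (fun g m hm => hf i g m hm) m j
    change ((DirectSum.decompose 𝒟 (f m i)) (j + sh i) : D) = f _ i at h1
    rw [← h1, hm]
    simp
  obtain ⟨m, hm, hm0⟩ := (Submodule.ne_bot_iff _).mp hker
  obtain ⟨j, hj⟩ : ∃ j : ℤ, ((DirectSum.decompose ℳ m) j : M) ≠ 0 := by
    by_contra hall
    push Not at hall
    exact hm0 (GrDual.eq_zero_of_decompose_eq_zero ℳ hall)
  obtain ⟨φ, hφ, hφx⟩ := exists_grHom_ne_zero 𝒜 𝒟 hD ℳ hM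
    (SetLike.coe_mem ((DirectSum.decompose ℳ m) j)) hj
  let f' : M →ₗ[R] (Fin (t + 1) → D) :=
    LinearMap.pi (Fin.cons (α := fun _ => M →ₗ[R] D) φ (fun i => LinearMap.proj i ∘ₗ f))
  have hf'0 : ∀ y, f' y 0 = φ y := fun y => rfl
  have hf's : ∀ y (i : Fin t), f' y i.succ = f y i := fun y i => by
    change (Fin.cons (α := fun _ => M →ₗ[R] D) φ (fun i => LinearMap.proj i ∘ₗ f)) i.succ y = _
    rw [Fin.cons_succ]
    rfl
  have hmem : LinearMap.ker f' ∈ 𝒮 := by
    refine ⟨t + 1, Fin.cons (-j) sh, f', ?_, rfl⟩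
    intro i
    refine Fin.cases ?_ ?_ i
    · intro g y hy
      rw [hf'0, Fin.cons_zero]
      exact hφ g y hy
    · intro i g y hy
      rw [hf's, Fin.cons_succ]
      exact hf i g y hy
  refine hmin _ hmem (lt_of_le_of_ne ?_ ?_)
  · intro y hy
    rw [LinearMap.mem_ker] at hy ⊢
    funext i
    rw [← hf's, hy]
    rfl
  · intro heq
    have h2 : ((DirectSum.decompose ℳ m) j : M) ∈ LinearMap.ker f' := by
      rw [heq]
      exact hhom m hm j
    rw [LinearMap.mem_ker] at h2
    apply hφx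
    rw [← hf'0, h2]
    rfl

end Embed

end Groth.Agent.Lib.Helper8.GrDualMatlis
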