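import Groth.Agent.Lib.Helper8.GrLCFreeFun
import Groth.Agent.Lib.Helper8.GrDualMatlis

set_option autoImplicit false
set_option linter.unusedSectionVars false
universe u

open DirectSum GrLC
open Groth.Agent.Lib.Helper30
open Groth.Agent.Lib.Helper8.GrLCBase Groth.Agent.Lib.Helper8.GrLCProd
open Groth.Agent.Lib.Helper8.GrLCLES Groth.Agent.Lib.Helper8.GrLCTors
open Groth.Agent.Lib.Helper8.GrLCShift Groth.Agent.Lib.Helper8.GrLCFree
open Groth.Agent.Lib.Helper8.GrLCFun Groth.Agent.Lib.Helper8.GrLCFreeFun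
open Groth.Agent.Lib.Helper93

namespace Groth.Agent.Lib.Helper8.GrDualLocal

section Rep

variable {k : Type u} [Field k] {R : Type u} [CommRing R] [Algebra k R]
  {H : Type u} [AddCommGroup H] [Module R H] [Module k H] [IsScalarTower k R H]
  {D : Type u} [AddCommGroup D] [Module R D] [Module k D] [IsScalarTower k R D]
  (ℋ : ℤ → AddSubgroup H) [DirectSum.Decomposition ℋ]
  (𝒟 : ℤ → AddSubgroup D) [DirectSum.Decomposition 𝒟]
  {β : D →ₗ[k] H →ₗ[k] k} (hD : GrSeg.IsGDual R ℋ 𝒟 β)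

include hD in
/-- A functional supported in a single degree is represented by a homogeneous element of the
graded dual. -/
theorem rep_of_supported (l : H →ₗ[k] k) (e : ℤ)
    (hl : ∀ g : ℤ, g ≠ -e → ∀ y ∈ ℋ g, l y = 0) : ∃ d ∈ 𝒟 e, ∀ y, β d y = l y := by
  classical
  obtain ⟨d, hd, hdl⟩ := GrDual.exists_dual ℋ 𝒟 hD e l
  refine ⟨d, hd, fun y => ?_⟩
  rw [hdl y]
  induction y using DirectSum.Decomposition.inductionOn ℋ with
  | zero => simp
  | add y y' h h' =>
    rw [DirectSum.decompose_add, DirectSum.add_apply, AddSubgroup.coe_add, map_add, h, h',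
      map_add]
  | homogeneous y =>
    rename_i g
    by_cases hg : g = -e
    · subst hg
      rw [DirectSum.decompose_of_mem_same ℋ y.2]
    · rw [DirectSum.decompose_of_mem_ne ℋ y.2 hg, map_zero, hl g hg y y.2]

include hD in
/-- A functional supported in finitely many degrees is represented by an element of the graded
dual. -/
theorem rep_of_finite_support (l : H →ₗ[k] k) (S : Finset ℤ)
    (hl : ∀ g : ℤ, g ∉ S → ∀ y ∈ ℋ g, l y = 0) : ∃ d : D, ∀ y, β d y = l y := by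
  classical
  have hex : ∀ g : ℤ, ∃ d ∈ 𝒟 (-g), ∀ y, β d y = l ((DirectSum.decompose ℋ y) g : H) := by
    intro g
    obtain ⟨d, hd, hdl⟩ := GrDual.exists_dual ℋ 𝒟 hD (-g) l
    refine ⟨d, hd, fun y => ?_⟩
    rw [hdl y, neg_neg]
  choose dg _ hdg using hex
  refine ⟨∑ g ∈ S, dg g, fun y => ?_⟩
  rw [map_sum, LinearMap.sum_apply]
  simp only [hdg]
  induction y using DirectSum.Decomposition.inductionOn ℋ with
  | zero => simp
  | add y y' h h' =>
    simp only [DirectSum.decompose_add, DirectSum.add_apply, AddSubgroup.coe_add, map_add]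
    rw [Finset.sum_add_distrib, h, h']
  | homogeneous y =>
    rename_i g0
    by_cases hg0 : g0 ∈ S
    · rw [Finset.sum_eq_single g0]
      · rw [DirectSum.decompose_of_mem_same ℋ y.2]
      · intro g _ hg
        rw [DirectSum.decompose_of_mem_ne ℋ y.2 (Ne.symm hg), map_zero]
      · intro h
        exact absurd hg0 h
    · rw [hl g0 hg0 y y.2]
      apply Finset.sum_eq_zero
      intro g hg
      have hne : g0 ≠ g := fun h => hg0 (h ▸ hg)
      rw [DirectSum.decompose_of_mem_ne ℋ y.2 hne, map_zero]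

end Rep


section Main

variable {k : Type u} [Field k] {R : Type u} [CommRing R] [Algebra k R] [IsNoetherianRing R]
  {𝒜 : ℤ → AddSubgroup R} [GradedRing 𝒜]
  (a : HomogeneousIdeal 𝒜) (n : ℕ)
  (hGV : ∀ Y : GMod.{u} 𝒜, Module.Finite R Y.carrier → ∀ g, VanM a Y.gr (n + 1) g)
  (I : StarInjRes 𝒜 𝒜) [Module k (I.H a n)] [IsScalarTower k R (I.H a n)]
  [DirectSum.Decomposition (I.Hgr a n)]
  {K : Type u} [AddCommGroup K] [Module R K] [Module k K] [IsScalarTower k R K]
  (𝒦 : ℤ → AddSubgroup K) [DirectSum.Decomposition 𝒦]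
  {βK : K →ₗ[k] I.H a n →ₗ[k] k} (hK : GrSeg.IsGDual R (I.Hgr a n) 𝒦 βK)
  {M : Type u} [AddCommGroup M] [Module R M] (ℳ : ℤ → AddSubgroup M)
  [DirectSum.Decomposition ℳ] [SetLike.GradedSMul 𝒜 ℳ]
  (EM : StarInjRes 𝒜 ℳ) [Module k (EM.H a n)] [IsScalarTower k R (EM.H a n)]
  [DirectSum.Decomposition (EM.Hgr a n)]
  {D : Type u} [AddCommGroup D] [Module R D] [Module k D] [IsScalarTower k R D]
  (𝒟 : ℤ → AddSubgroup D) [DirectSum.Decomposition 𝒟]
  {βD : D →ₗ[k] EM.H a n →ₗ[k] k} (hD : GrSeg.IsGDual R (EM.Hgr a n) 𝒟 βD)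

/-- The functional `h ↦ βD d (μ_x h)` on the top local cohomology of the ring. -/
noncomputable def lfun (βD : D →ₗ[k] EM.H a n →ₗ[k] k) (d : D) (x : M) : I.H a n →ₗ[k] k :=
  (βD d) ∘ₗ ((mu EM I a n x).restrictScalars k)

theorem lfun_apply (d : D) (x : M) (h : I.H a n) :
    lfun a n I ℳ EM βD d x h = βD d (mu EM I a n x h) := rfl

include hK hD in
theorem exK_hom {e j : ℤ} {d : D} (hd : d ∈ 𝒟 e) {x : M} (hx : x ∈ ℳ j) :
    ∃ κ ∈ 𝒦 (j + e), ∀ h, βK κ h = βD d (mu EM I a n x h) := by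
  apply rep_of_supported (I.Hgr a n) 𝒦 hK (lfun a n I ℳ EM βD d x) (j + e)
  intro g hg y hy
  rw [lfun_apply]
  exact hD.vanish e d hd (g + j) (fun h => hg (by omega)) _ (mu_mem EM I a n hx g y hy)

include hK hD in
theorem exK (d : D) (x : M) : ∃ κ : K, ∀ h, βK κ h = βD d (mu EM I a n x h) := by
  classical
  induction d using DirectSum.Decomposition.inductionOn 𝒟 with
  | zero => exact ⟨0, fun h => by simp⟩
  | add d d' hd hd' =>
    obtain ⟨κ, hκ⟩ := hd
    obtain ⟨κ', hκ'⟩ := hd'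
    exact ⟨κ + κ', fun h => by
      rw [map_add, LinearMap.add_apply, hκ, hκ', map_add, LinearMap.add_apply]⟩
  | homogeneous d =>
    rename_i e
    induction x using DirectSum.Decomposition.inductionOn ℳ with
    | zero => exact ⟨0, fun h => by simp⟩
    | add x x' hx hx' =>
      obtain ⟨κ, hκ⟩ := hx
      obtain ⟨κ', hκ'⟩ := hx'
      exact ⟨κ + κ', fun h => by
        rw [map_add, LinearMap.add_apply, hκ, hκ', map_add, LinearMap.add_apply, map_add]⟩
    | homogeneous x =>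
      rename_i j
      obtain ⟨κ, _, hκ⟩ := exK_hom a n I 𝒦 hK ℳ EM 𝒟 hD d.2 x.2
      exact ⟨κ, hκ⟩

/-- The value `ε(d)(x)`. -/
noncomputable def epsFun (hK : GrSeg.IsGDual R (I.Hgr a n) 𝒦 βK)
    (hD : GrSeg.IsGDual R (EM.Hgr a n) 𝒟 βD) (d : D) (x : M) : K :=
  Classical.choose (exK a n I 𝒦 hK ℳ EM 𝒟 hD d x)

theorem epsFun_spec (d : D) (x : M) (h : I.H a n) :
    βK (epsFun a n I 𝒦 ℳ EM 𝒟 hK hD d x) h = βD d (mu EM I a n x h) :=
  Classical.choose_spec (exK a n I 𝒦 hK ℳ EM 𝒟 hD d x) h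

theorem epsFun_uniq (d : D) (x : M) (κ : K) (hκ : ∀ h, βK κ h = βD d (mu EM I a n x h)) :
    epsFun a n I 𝒦 ℳ EM 𝒟 hK hD d x = κ := by
  rw [← sub_eq_zero]
  apply GrDual.beta_eq_zero (I.Hgr a n) 𝒦 hK
  intro h
  rw [map_sub, LinearMap.sub_apply, epsFun_spec, hκ, sub_self]

/-- `ε(d) : M → K` as a linear map. -/
noncomputable def epsLin (d : D) : M →ₗ[R] K where
  toFun := epsFun a n I 𝒦 ℳ EM 𝒟 hK hD d
  map_add' x x' := by
    apply epsFun_uniq
    intro h
    rw [map_add, LinearMap.add_apply, epsFun_spec, epsFun_spec, map_add, LinearMap.add_apply,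
      map_add]
  map_smul' r x := by
    apply epsFun_uniq
    intro h
    rw [RingHom.id_apply, hK.map_smul, epsFun_spec, mu_smul, LinearMap.smul_apply, map_smul]

theorem epsLin_apply (d : D) (x : M) :
    epsLin a n I 𝒦 hK ℳ EM 𝒟 hD d x = epsFun a n I 𝒦 ℳ EM 𝒟 hK hD d x := rfl

/-- The duality map `ε : D → Hom_R(M, K)`. -/
noncomputable def eps : D →ₗ[R] (M →ₗ[R] K) where
  toFun := epsLin a n I 𝒦 hK ℳ EM 𝒟 hD
  map_add' d d' := by
    apply LinearMap.ext
    intro x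
    rw [LinearMap.add_apply, epsLin_apply, epsLin_apply, epsLin_apply]
    apply epsFun_uniq
    intro h
    rw [map_add, LinearMap.add_apply, epsFun_spec, epsFun_spec, map_add, LinearMap.add_apply]
  map_smul' r d := by
    apply LinearMap.ext
    intro x
    rw [RingHom.id_apply, LinearMap.smul_apply, epsLin_apply, epsLin_apply]
    apply epsFun_uniq
    intro h
    rw [hK.map_smul, epsFun_spec, map_smul, hD.map_smul]

theorem eps_spec (d : D) (x : M) (h : I.H a n) :
    βK (eps a n I 𝒦 hK ℳ EM 𝒟 hD d x) h = βD d (mu EM I a n x h) :=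
  epsFun_spec a n I 𝒦 hK ℳ EM 𝒟 hD d x h

theorem eps_deg {e : ℤ} {d : D} (hd : d ∈ 𝒟 e) :
    IsGrHomDeg ℳ 𝒦 (eps a n I 𝒦 hK ℳ EM 𝒟 hD d) e := by
  intro j x hx
  obtain ⟨κ, hκ, hκβ⟩ := exK_hom a n I 𝒦 hK ℳ EM 𝒟 hD hd hx
  have : eps a n I 𝒦 hK ℳ EM 𝒟 hD d x = κ := epsFun_uniq a n I 𝒦 hK ℳ EM 𝒟 hD d x κ hκβ
  rw [this]
  exact hκ

end Main


section Bij

variable {k : Type u} [Field k] {R : Type u} [CommRing R] [Algebra k R] [IsNoetherianRing R]
  {𝒜 : ℤ → AddSubgroup R} [GradedRing 𝒜]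
  (a : HomogeneousIdeal 𝒜) (n : ℕ)
  (hGV : ∀ Y : GMod.{u} 𝒜, Module.Finite R Y.carrier → ∀ g, VanM a Y.gr (n + 1) g)
  (I : StarInjRes 𝒜 𝒜) [Module k (I.H a n)] [IsScalarTower k R (I.H a n)]
  [DirectSum.Decomposition (I.Hgr a n)]
  {K : Type u} [AddCommGroup K] [Module R K] [Module k K] [IsScalarTower k R K]
  (𝒦 : ℤ → AddSubgroup K) [DirectSum.Decomposition 𝒦]
  {βK : K →ₗ[k] I.H a n →ₗ[k] k} (hK : GrSeg.IsGDual R (I.Hgr a n) 𝒦 βK)
  {M : Type u} [AddCommGroup M] [Module R M] [Module.Finite R M] (ℳ : ℤ → AddSubgroup M)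
  [DirectSum.Decomposition ℳ] [SetLike.GradedSMul 𝒜 ℳ]
  (EM : StarInjRes 𝒜 ℳ) [Module k (EM.H a n)] [IsScalarTower k R (EM.H a n)]
  [DirectSum.Decomposition (EM.Hgr a n)]
  {D : Type u} [AddCommGroup D] [Module R D] [Module k D] [IsScalarTower k R D]
  (𝒟 : ℤ → AddSubgroup D) [DirectSum.Decomposition 𝒟]
  {βD : D →ₗ[k] EM.H a n →ₗ[k] k} (hD : GrSeg.IsGDual R (EM.Hgr a n) 𝒟 βD)

include hGV in
theorem eps_injective : Function.Injective (eps a n I 𝒦 hK ℳ EM 𝒟 hD) := by
  rw [injective_iff_map_eq_zero]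
  intro d hd
  apply GrDual.beta_eq_zero (EM.Hgr a n) 𝒟 hD
  intro y
  obtain ⟨t, x, c, hx, hspan⟩ := span_mu I a n ℳ ‹_› EM hGV
  obtain ⟨h, rfl⟩ := hspan y
  rw [map_sum]
  apply Finset.sum_eq_zero
  intro b _
  have h1 := eps_spec a n I 𝒦 hK ℳ EM 𝒟 hD d (x b) (h b)
  rw [hd, LinearMap.zero_apply, map_zero, LinearMap.zero_apply] at h1
  exact h1.symm

include hGV in
theorem eps_surjective : Function.Surjective (eps a n I 𝒦 hK ℳ EM 𝒟 hD) := by
  classical
  intro φ
  obtain ⟨t, c, p, EF, L, q, EL, hp, hps, hLfin, hq, hpq, hsurj, hex⟩ :=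
    exists_cover a n ℳ ‹_› EM hGV
  let x : Fin t → M := fun b => p (Pi.single b 1)
  have hx : ∀ b, x b ∈ ℳ (c b) := fun b => hp _ _ (single_mem c b)
  have hpv : ∀ v : Fin t → R, p v = ∑ b, v b • x b := by
    intro v
    have h1 := LinearMap.congr_fun (sum_rho_proj (R := R) (t := t)) v
    rw [LinearMap.sum_apply, LinearMap.id_apply] at h1
    conv_lhs => rw [← h1]
    rw [map_sum]
    apply Finset.sum_congr rfl
    intro b _
    rw [LinearMap.comp_apply, rho_apply, LinearMap.proj_apply, map_smul]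
  let P : Fin t → EF.H a n →ₗ[R] I.H a n :=
    fun b => Hf EF I a n (LinearMap.proj b : (Fin t → R) →ₗ[R] R) (-c b)
  let ΛF : EF.H a n →+ k :=
    ∑ b, ((βK (φ (x b))).toAddMonoidHom.comp (P b).toAddMonoidHom)
  have hΛF : ∀ y, ΛF y = ∑ b, βK (φ (x b)) (P b y) := by
    intro y
    change (∑ b, ((βK (φ (x b))).toAddMonoidHom.comp (P b).toAddMonoidHom)) y = _
    rw [AddMonoidHom.finsetSum_apply]
    rfl
  -- the key formula
  have key : ∀ (e : ℤ) (v : Fin t → R), v ∈ freeGr 𝒜 c e → ∀ h : I.H a n,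
      ΛF (mu EF I a n v h) = βK (φ (p v)) h := by
    intro e v hv h
    rw [hΛF, hpv v, map_sum, map_sum, LinearMap.sum_apply]
    apply Finset.sum_congr rfl
    intro b _
    change βK (φ (x b)) (Hf EF I a n (LinearMap.proj b : (Fin t → R) →ₗ[R] R) (-c b)
      (mu EF I a n v h)) = _
    rw [free_proj_mu c EF I a n hv b h, ← hK.map_smul, φ.map_smul]
  -- vanishing on the kernel
  have hker : ∀ y, Hf EF EM a n p 0 y = 0 → ΛF y = 0 := by
    intro y hy
    obtain ⟨y', rfl⟩ := hex y hy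
    obtain ⟨t', w, c', hw, hspan'⟩ := span_mu I a n L.gr hLfin EL hGV
    obtain ⟨h', rfl⟩ := hspan' y'
    rw [map_sum, map_sum]
    apply Finset.sum_eq_zero
    intro b' _
    have h1 := mu_nat EL EF I a n q hq (w b')
    have h2 : Hf EL EF a n q 0 (mu EL I a n (w b') (h' b')) =
        mu EF I a n (q (w b')) (h' b') := by
      rw [h1, LinearMap.comp_apply]
    rw [h2, key (c' b') (q (w b')) (hq _ _ (hw b')) (h' b'), hpq, map_zero, map_zero,
      LinearMap.zero_apply]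
  -- well-definedness
  have hwd : ∀ yF yF', Hf EF EM a n p 0 yF = Hf EF EM a n p 0 yF' → ΛF yF = ΛF yF' := by
    intro yF yF' h
    have h0 : Hf EF EM a n p 0 (yF - yF') = 0 := by rw [map_sub, h, sub_self]
    have := hker _ h0
    rw [map_sub, sub_eq_zero] at this
    exact this
  let sec : EM.H a n → EF.H a n := Function.surjInv hsurj
  have hsec : ∀ y, Hf EF EM a n p 0 (sec y) = y := Function.surjInv_eq hsurj
  let Λ : EM.H a n →ₗ[k] k :=
    { toFun := fun y => ΛF (sec y)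
      map_add' := by
        intro y y'
        rw [← map_add]
        apply hwd
        rw [map_add, hsec, hsec, hsec]
      map_smul' := by
        intro r y
        have h1 : ΛF (sec (r • y)) = ΛF (algebraMap k R r • sec y) := by
          apply hwd
          rw [map_smul, hsec, hsec, algebraMap_smul]
        rw [h1, hΛF, hΛF, RingHom.id_apply, Finset.smul_sum]
        apply Finset.sum_congr rfl
        intro b _
        rw [map_smul, algebraMap_smul, map_smul] }
  have hΛ : ∀ yF, Λ (Hf EF EM a n p 0 yF) = ΛF yF := by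
    intro yF
    change ΛF (sec (Hf EF EM a n p 0 yF)) = ΛF yF
    apply hwd
    rw [hsec]
  -- Λ (μ_x h) = βK (φ x) h for homogeneous x
  have hΛmu : ∀ (j : ℤ) (x0 : M), x0 ∈ ℳ j → ∀ h, Λ (mu EM I a n x0 h) = βK (φ x0) h := by
    intro j x0 hx0 h
    obtain ⟨v0, hv0⟩ := hps x0
    let v : Fin t → R := ((decompose (freeGr 𝒜 c) v0) j : Fin t → R)
    have hv : v ∈ freeGr 𝒜 c j := SetLike.coe_mem _
    have hpvx : p v = x0 := by
      change p ((decompose (freeGr 𝒜 c) v0) j : Fin t → R) = x0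
      rw [decompose_map_of_isGrHom (freeGr 𝒜 c) ℳ p hp, hv0, decompose_of_mem_same ℳ hx0]
    have h1 := mu_nat EF EM I a n p hp v
    rw [hpvx] at h1
    rw [h1, LinearMap.comp_apply, hΛ, key j v hv h, hpvx]
  -- finite support
  let S : Finset ℤ := Finset.univ.biUnion (fun b : Fin t =>
    (DFinsupp.support (decompose 𝒦 (φ (x b)))).image (fun e => c b - e))
  have hS : ∀ g : ℤ, g ∉ S → ∀ y ∈ EM.Hgr a n g, Λ y = 0 := by
    intro g hg y hy
    have h1 : y = ∑ b, mu EM I a n (x b) (P b (sec y)) := by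
      conv_lhs => rw [← hsec y, free_decomp c EF I a n (sec y), map_sum]
      apply Finset.sum_congr rfl
      intro b _
      have h2 := mu_nat EF EM I a n p hp (Pi.single b 1)
      rw [h2, LinearMap.comp_apply]
    have h3 : y = ∑ b, mu EM I a n (x b)
        ((decompose (I.Hgr a n) (P b (sec y))) (g - c b) : I.H a n) := by
      have h4 := decompose_of_mem_same (EM.Hgr a n) hy
      conv_lhs => rw [← h4, h1]
      rw [decompose_sum, DFinsupp.finsetSum_apply, AddSubmonoidClass.coe_finsetSum]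
      apply Finset.sum_congr rfl
      intro b _
      have h5 := Groth.Agent.Lib.Helper8.GrDualMatlis.decompose_map_shift (EM.Hgr a n)
        (I.Hgr a n) (mu EM I a n (x b)) (c b)
        (fun g' m hm => mu_mem EM I a n (hx b) g' m hm) (P b (sec y)) (g - c b)
      rw [sub_add_cancel] at h5
      exact h5
    rw [h3, map_sum]
    apply Finset.sum_eq_zero
    intro b _
    rw [hΛmu (c b) (x b) (hx b)]
    have hmem : ((decompose (I.Hgr a n) (P b (sec y))) (g - c b) : I.H a n) ∈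
        I.Hgr a n (-(c b - g)) := by
      rw [neg_sub]
      exact SetLike.coe_mem _
    rw [GrDual.beta_decompose_left (I.Hgr a n) 𝒦 hK hmem (φ (x b))]
    have hzero : ((decompose 𝒦 (φ (x b))) (c b - g) : K) = 0 := by
      by_contra hne
      apply hg
      rw [Finset.mem_biUnion]
      refine ⟨b, Finset.mem_univ _, ?_⟩
      rw [Finset.mem_image]
      refine ⟨c b - g, ?_, by ring⟩
      rw [DFinsupp.mem_support_toFun]
      intro h0
      apply hne
      rw [h0]
      rfl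
    rw [hzero, map_zero, LinearMap.zero_apply]
  obtain ⟨d, hd⟩ := rep_of_finite_support (EM.Hgr a n) 𝒟 hD Λ S hS
  refine ⟨d, ?_⟩
  apply LinearMap.ext
  intro x0
  induction x0 using DirectSum.Decomposition.inductionOn ℳ with
  | zero => simp
  | add x1 x2 h1 h2 => rw [map_add, map_add, h1, h2]
  | homogeneous x0 =>
    rename_i j
    apply epsFun_uniq a n I 𝒦 hK ℳ EM 𝒟 hD d (x0 : M) (φ x0)
    intro h
    rw [hd, hΛmu j x0 x0.2]

include hGV hK hD in
/-- Graded local duality: the graded dual of the top local cohomology of `M` is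
`Hom_R(M, K)` where `K` is the graded dual of the top local cohomology of the ring. -/
theorem local_duality :
    ∃ ε : D ≃ₗ[R] (M →ₗ[R] K), ∀ (e : ℤ) (d : D), d ∈ 𝒟 e → IsGrHomDeg ℳ 𝒦 (ε d) e :=
  ⟨LinearEquiv.ofBijective (eps a n I 𝒦 hK ℳ EM 𝒟 hD)
    ⟨eps_injective a n hGV I 𝒦 hK ℳ EM 𝒟 hD, eps_surjective a n hGV I 𝒦 hK ℳ EM 𝒟 hD⟩,
    fun _ _ hd => eps_deg a n I 𝒦 hK ℳ EM 𝒟 hD hd⟩

end Bij

end Groth.Agent.Lib.Helper8.GrDualLocal
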