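import Groth.Agent.Lib.Helper8.GrInjComp
import Groth.Agent.Lib.Helper30.GradedGam

/-!
# Divisibility in *injective modules modulo torsion
-/

set_option autoImplicit false
set_option linter.unusedSectionVars false
universe u

open DirectSum GrLC
open Groth.Agent.Lib.Helper30
open Groth.Agent.Lib.Helper8.GrInjComp

namespace Groth.Agent.Lib.Helper8.GrInjDiv

variable {ι : Type} [AddCommGroup ι] [DecidableEq ι]
variable {R : Type u} [CommRing R] {𝒜 : ι → AddSubgroup R} [GradedRing 𝒜]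
variable {E : Type u} [AddCommGroup E] [Module R E] (𝓔 : ι → AddSubgroup E)
  [DirectSum.Decomposition 𝓔] [SetLike.GradedSMul 𝒜 𝓔]

/-- In a *injective module over a Noetherian graded ring, a `b`-torsion element is divisible by a
homogeneous element `x` inside the `b`-torsion, up to `x`-torsion. -/
theorem exists_div [IsNoetherianRing R] (hE : IsStarInj 𝒜 𝓔) (b : HomogeneousIdeal 𝒜) {i : ι}
    {x : R} (hx : x ∈ 𝒜 i) (e : E) (he : e ∈ gam b.toIdeal E) :
    ∃ e' ∈ gam b.toIdeal E, ∃ c : ℕ, x ^ c • (x • e' - e) = 0 := by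
  classical
  obtain ⟨N, hN⟩ := he
  -- the colon chain
  let col : ℕ →o Submodule R R :=
    { toFun := fun j => Submodule.comap (LinearMap.mulRight R (x ^ j)) (b.toIdeal ^ N : Ideal R)
      monotone' := by
        intro j j' hjj' r hr
        rw [Submodule.mem_comap, LinearMap.mulRight_apply] at hr ⊢
        obtain ⟨d, rfl⟩ := Nat.exists_eq_add_of_le hjj'
        rw [pow_add, ← mul_assoc]
        exact Ideal.mul_mem_right _ _ hr }
  obtain ⟨c, hc⟩ := (monotone_stabilizes_iff_noetherian (R := R) (M := R)).mpr inferInstance col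
  have hcol : ∀ r : R, r * x ^ (c + 1) ∈ b.toIdeal ^ N → r * x ^ c ∈ b.toIdeal ^ N := by
    intro r hr
    have h1 : r ∈ col (c + 1) := by
      change r ∈ Submodule.comap (LinearMap.mulRight R (x ^ (c + 1))) (b.toIdeal ^ N : Ideal R)
      rw [Submodule.mem_comap, LinearMap.mulRight_apply]
      exact hr
    rw [← hc (c + 1) (Nat.le_succ c)] at h1
    change r ∈ Submodule.comap (LinearMap.mulRight R (x ^ c)) (b.toIdeal ^ N : Ideal R) at h1
    rw [Submodule.mem_comap, LinearMap.mulRight_apply] at h1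
    exact h1
  -- the homogeneous ideal `b ^ N + (x ^ (c + 1))`
  have hhom : ((b.toIdeal ^ N) ⊔ Ideal.span {x ^ (c + 1)}).IsHomogeneous 𝒜 := by
    apply Ideal.IsHomogeneous.sup (pow_isHomogeneous 𝒜 b N)
    apply Ideal.homogeneous_span
    intro y hy
    rw [Set.mem_singleton_iff] at hy
    rw [hy]
    exact ⟨_, SetLike.pow_mem_graded (c + 1) hx⟩
  let J : HomogeneousIdeal 𝒜 := ⟨(b.toIdeal ^ N) ⊔ Ideal.span {x ^ (c + 1)}, hhom⟩
  -- the presentation of `J`
  let φ : (↥(b.toIdeal ^ N) × R) →ₗ[R] R :=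
    (b.toIdeal ^ N).subtype.coprod (LinearMap.mulRight R (x ^ (c + 1)))
  have hφ : ∀ p : ↥(b.toIdeal ^ N) × R, φ p = (p.1 : R) + p.2 * x ^ (c + 1) := fun p => rfl
  let h' : (↥(b.toIdeal ^ N) × R) →ₗ[R] E :=
    (LinearMap.toSpanSingleton R E (x ^ c • e)) ∘ₗ (LinearMap.snd R _ R)
  have hh' : ∀ p : ↥(b.toIdeal ^ N) × R, h' p = p.2 • (x ^ c • e) := fun p => rfl
  have hker : LinearMap.ker φ ≤ LinearMap.ker h' := by
    intro p hp
    rw [LinearMap.mem_ker, hφ] at hp
    rw [LinearMap.mem_ker, hh']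
    have h1 : p.2 * x ^ (c + 1) ∈ b.toIdeal ^ N := by
      have : p.2 * x ^ (c + 1) = -(p.1 : R) := by
        rw [eq_neg_iff_add_eq_zero, add_comm]
        exact hp
      rw [this]
      exact neg_mem p.1.2
    have h2 := hcol _ h1
    rw [← mul_smul]
    exact hN _ h2
  have hrange : LinearMap.range φ = J.toIdeal := by
    apply le_antisymm
    · rintro _ ⟨p, rfl⟩
      rw [hφ]
      apply Submodule.add_mem_sup p.1.2
      rw [mul_comm]
      exact Ideal.mul_mem_right _ _ (Ideal.subset_span rfl)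
    · change (b.toIdeal ^ N) ⊔ Ideal.span {x ^ (c + 1)} ≤ _
      rw [sup_le_iff]
      constructor
      · intro r hr
        exact ⟨(⟨r, hr⟩, 0), by rw [hφ]; simp⟩
      · rw [Ideal.span_le]
        intro y hy
        rw [Set.mem_singleton_iff] at hy
        rw [hy]
        exact ⟨(0, 1), by rw [hφ]; simp⟩
  let hq : ↥J.toIdeal →ₗ[R] E :=
    ((LinearMap.ker φ).liftQ h' hker) ∘ₗ
      ((LinearMap.quotKerEquivRange φ).symm.toLinearMap ∘ₗ
        (LinearEquiv.ofEq _ _ hrange).symm.toLinearMap)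
  have hhq : ∀ (p : ↥(b.toIdeal ^ N) × R) (y : ↥J.toIdeal), (y : R) = φ p → hq y = h' p := by
    intro p y hy
    change (LinearMap.ker φ).liftQ h' hker ((LinearMap.quotKerEquivRange φ).symm
      ((LinearEquiv.ofEq _ _ hrange).symm y)) = h' p
    have h1 : (LinearEquiv.ofEq _ _ hrange).symm y = ⟨φ p, ⟨p, rfl⟩⟩ := by
      apply Subtype.ext
      exact hy
    rw [h1]
    have h2 : (LinearMap.quotKerEquivRange φ).symm ⟨φ p, ⟨p, rfl⟩⟩ =
        (LinearMap.ker φ).mkQ p := by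
      rw [LinearEquiv.symm_apply_eq]
      rfl
    rw [h2]
    rfl
  obtain ⟨z, hz⟩ := exists_smul_eq 𝓔 hE J hq
  refine ⟨z, ⟨N, fun r hr => ?_⟩, c, ?_⟩
  · have hrJ : r ∈ J.toIdeal := Ideal.mem_sup_left hr
    have h1 := hz ⟨r, hrJ⟩
    rw [hhq (⟨r, hr⟩, 0) ⟨r, hrJ⟩ (by rw [hφ]; simp), hh'] at h1
    change 0 • _ = r • z at h1
    rw [zero_smul] at h1
    exact h1.symm
  · have hxJ : x ^ (c + 1) ∈ J.toIdeal := Ideal.mem_sup_right (Ideal.subset_span rfl)
    have h1 := hz ⟨x ^ (c + 1), hxJ⟩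
    rw [hhq (0, 1) ⟨x ^ (c + 1), hxJ⟩ (by rw [hφ]; simp), hh'] at h1
    change (1 : R) • _ = x ^ (c + 1) • z at h1
    rw [one_smul] at h1
    rw [smul_sub, ← mul_smul, ← pow_succ, ← h1, sub_self]

end Groth.Agent.Lib.Helper8.GrInjDiv
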