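import Mathlib

/-!
# Twisting modules over a `ℤ`-graded ring by a `ℤ`-action

Let `R` be a `ℤ`-graded ring and `N` an `R`-module with a `ℤ`-action `τ` by `R`-linear maps.
The twisted module `Tw 𝒜 t` has the same underlying group and `r ∈ R_i` acts as `x ↦ r • τ_i x`.
-/

set_option autoImplicit false
set_option linter.unusedSectionVars false
universe u v w

open DirectSum

namespace Groth.Agent.Lib.Helper8.GrInjTw

/-- A `ℤ`-action on a module by linear endomorphisms. -/
structure Twist (R : Type u) [CommRing R] (N : Type v) [AddCommGroup N] [Module R N] where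
  τ : ℤ → Module.End R N
  zero : τ 0 = 1
  add : ∀ i j, τ (i + j) = τ i * τ j

variable {R : Type u} [CommRing R] (𝒜 : ℤ → AddSubgroup R) [GradedRing 𝒜]
variable {N : Type v} [AddCommGroup N] [Module R N] (t : Twist R N)

/-- The action of the degree `i` piece. -/
def twPiece (i : ℤ) : 𝒜 i →+ Module.End R N where
  toFun a := (a : R) • t.τ i
  map_zero' := by simp
  map_add' a b := by simp [add_smul]

/-- The twisted action as a ring homomorphism. -/
noncomputable def twRing : R →+* Module.End R N :=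
  (DirectSum.toSemiring (twPiece 𝒜 t)
    (by
      change ((1 : R) : R) • t.τ 0 = 1
      rw [one_smul, t.zero])
    (by
      intro i j a b
      change ((a : R) * (b : R)) • t.τ (i + j) = ((a : R) • t.τ i) * ((b : R) • t.τ j)
      rw [t.add, smul_mul_smul_comm])).comp (DirectSum.decomposeRingEquiv 𝒜).toRingHom

theorem twRing_of_mem {i : ℤ} {r : R} (hr : r ∈ 𝒜 i) : twRing 𝒜 t r = r • t.τ i := by
  unfold twRing
  rw [RingHom.comp_apply]
  change (DirectSum.toSemiring (twPiece 𝒜 t) _ _) (DirectSum.decompose 𝒜 r) = _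
  rw [DirectSum.decompose_of_mem 𝒜 hr, DirectSum.toSemiring_of]
  rfl

/-- The twisted module. -/
def Tw (_𝒜 : ℤ → AddSubgroup R) (_t : Twist R N) : Type v := N

instance : AddCommGroup (Tw 𝒜 t) := inferInstanceAs (AddCommGroup N)

noncomputable instance : Module R (Tw 𝒜 t) := Module.compHom N (twRing 𝒜 t)

/-- The identity map to the twisted module. -/
def toTw : N ≃+ Tw 𝒜 t := AddEquiv.refl N

/-- The identity map from the twisted module. -/
def ofTw : Tw 𝒜 t ≃+ N := AddEquiv.refl N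

@[simp] theorem ofTw_toTw (x : N) : ofTw 𝒜 t (toTw 𝒜 t x) = x := rfl
@[simp] theorem toTw_ofTw (x : Tw 𝒜 t) : toTw 𝒜 t (ofTw 𝒜 t x) = x := rfl

theorem ofTw_smul (r : R) (x : Tw 𝒜 t) : ofTw 𝒜 t (r • x) = twRing 𝒜 t r (ofTw 𝒜 t x) := rfl

theorem ofTw_smul_of_mem {i : ℤ} {r : R} (hr : r ∈ 𝒜 i) (x : Tw 𝒜 t) :
    ofTw 𝒜 t (r • x) = r • t.τ i (ofTw 𝒜 t x) := by
  rw [ofTw_smul, twRing_of_mem 𝒜 t hr]
  rfl

theorem smul_toTw_of_mem {i : ℤ} {r : R} (hr : r ∈ 𝒜 i) (x : N) :
    r • toTw 𝒜 t x = toTw 𝒜 t (r • t.τ i x) := by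
  apply (ofTw 𝒜 t).injective
  rw [ofTw_smul_of_mem 𝒜 t hr]
  rfl

/-- To check compatibility with scalar multiplication it suffices to treat homogeneous
scalars. -/
theorem smul_induction {P : Type w} [AddCommGroup P] (f g : R →+ P)
    (h : ∀ (i : ℤ) (r : R), r ∈ 𝒜 i → f r = g r) (r : R) : f r = g r := by
  classical
  induction r using DirectSum.Decomposition.inductionOn 𝒜 with
  | zero => rw [map_zero, map_zero]
  | homogeneous a => exact h _ a a.2
  | add a b ha hb => rw [map_add, map_add, ha, hb]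

section Maps

variable {N' : Type w} [AddCommGroup N'] [Module R N'] (t' : Twist R N')

/-- A linear map intertwining the actions induces a linear map of twisted modules. -/
noncomputable def Tw.map (φ : N →ₗ[R] N') (hφ : ∀ i x, φ (t.τ i x) = t'.τ i (φ x)) :
    Tw 𝒜 t →ₗ[R] Tw 𝒜 t' where
  toFun x := toTw 𝒜 t' (φ (ofTw 𝒜 t x))
  map_add' x y := by
    rw [map_add, map_add, map_add]
  map_smul' r x := by
    rw [RingHom.id_apply]
    apply (ofTw 𝒜 t').injective
    rw [ofTw_toTw]
    let f : R →+ N' :=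
      { toFun := fun r => φ (ofTw 𝒜 t (r • x))
        map_zero' := by rw [zero_smul, map_zero, map_zero]
        map_add' := fun a b => by rw [add_smul, map_add, map_add] }
    let g : R →+ N' :=
      { toFun := fun r => ofTw 𝒜 t' (r • toTw 𝒜 t' (φ (ofTw 𝒜 t x)))
        map_zero' := by rw [zero_smul, map_zero]
        map_add' := fun a b => by rw [add_smul, map_add] }
    change f r = g r
    apply smul_induction 𝒜 f g
    intro i a ha
    change φ (ofTw 𝒜 t (a • x)) = ofTw 𝒜 t' (a • toTw 𝒜 t' (φ (ofTw 𝒜 t x)))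
    rw [ofTw_smul_of_mem 𝒜 t ha, ofTw_smul_of_mem 𝒜 t' ha, map_smul, hφ, ofTw_toTw]

@[simp] theorem Tw.map_apply (φ : N →ₗ[R] N') (hφ : ∀ i x, φ (t.τ i x) = t'.τ i (φ x))
    (x : Tw 𝒜 t) : Tw.map 𝒜 t t' φ hφ x = toTw 𝒜 t' (φ (ofTw 𝒜 t x)) := rfl

end Maps

section ToPlain

variable {P : Type w} [AddCommGroup P] [Module R P]

/-- A linear map from a twisted module to an ordinary module. -/
noncomputable def Tw.toPlain (φ : N →+ P)
    (hφ : ∀ (i : ℤ) (a : R), a ∈ 𝒜 i → ∀ x, φ (a • t.τ i x) = a • φ x) : Tw 𝒜 t →ₗ[R] P where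
  toFun x := φ (ofTw 𝒜 t x)
  map_add' x y := by rw [map_add, map_add]
  map_smul' r x := by
    rw [RingHom.id_apply]
    let f : R →+ P :=
      { toFun := fun r => φ (ofTw 𝒜 t (r • x))
        map_zero' := by rw [zero_smul, map_zero, map_zero]
        map_add' := fun a b => by rw [add_smul, map_add, map_add] }
    let g : R →+ P :=
      { toFun := fun r => r • φ (ofTw 𝒜 t x)
        map_zero' := by rw [zero_smul]
        map_add' := fun a b => by rw [add_smul] }
    change f r = g r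
    apply smul_induction 𝒜 f g
    intro i a ha
    change φ (ofTw 𝒜 t (a • x)) = a • φ (ofTw 𝒜 t x)
    rw [ofTw_smul_of_mem 𝒜 t ha, hφ i a ha]

@[simp] theorem Tw.toPlain_apply (φ : N →+ P)
    (hφ : ∀ (i : ℤ) (a : R), a ∈ 𝒜 i → ∀ x, φ (a • t.τ i x) = a • φ x) (x : Tw 𝒜 t) :
    Tw.toPlain 𝒜 t φ hφ x = φ (ofTw 𝒜 t x) := rfl

/-- A linear map from an ordinary module to a twisted module. -/
noncomputable def Tw.ofPlain (φ : P →+ N)
    (hφ : ∀ (i : ℤ) (a : R), a ∈ 𝒜 i → ∀ x, φ (a • x) = a • t.τ i (φ x)) : P →ₗ[R] Tw 𝒜 t where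
  toFun x := toTw 𝒜 t (φ x)
  map_add' x y := by rw [map_add, map_add]
  map_smul' r x := by
    rw [RingHom.id_apply]
    apply (ofTw 𝒜 t).injective
    rw [ofTw_toTw]
    let f : R →+ N :=
      { toFun := fun r => φ (r • x)
        map_zero' := by rw [zero_smul, map_zero]
        map_add' := fun a b => by rw [add_smul, map_add] }
    let g : R →+ N :=
      { toFun := fun r => ofTw 𝒜 t (r • toTw 𝒜 t (φ x))
        map_zero' := by rw [zero_smul, map_zero]
        map_add' := fun a b => by rw [add_smul, map_add] }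
    change f r = g r
    apply smul_induction 𝒜 f g
    intro i a ha
    change φ (a • x) = ofTw 𝒜 t (a • toTw 𝒜 t (φ x))
    rw [ofTw_smul_of_mem 𝒜 t ha, hφ i a ha, ofTw_toTw]

@[simp] theorem Tw.ofPlain_apply (φ : P →+ N)
    (hφ : ∀ (i : ℤ) (a : R), a ∈ 𝒜 i → ∀ x, φ (a • x) = a • t.τ i (φ x)) (x : P) :
    Tw.ofPlain 𝒜 t φ hφ x = toTw 𝒜 t (φ x) := rfl

end ToPlain

end Groth.Agent.Lib.Helper8.GrInjTw
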