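import Groth.Agent.Lib.Helper8.GrInjTwFin

/-!
# The coinduced module `C(X) = (ℤ → X)` with twisted action, and its injectivity
-/

set_option autoImplicit false
set_option linter.unusedSectionVars false
universe u

open DirectSum GrLC

namespace Groth.Agent.Lib.Helper8.GrInjTwCo

open Groth.Agent.Lib.Helper8.GrInjTw Groth.Agent.Lib.Helper8.GrInjTwFin

section FinsuppInj

variable {R : Type u} [CommRing R] [IsNoetherianRing R]

/-- Over a Noetherian ring, `ι →₀ E` is injective when `E` is. -/
theorem finsupp_injective {ι : Type} (E : Type u) [AddCommGroup E] [Module R E]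
    (hE : Module.Injective R E) : Module.Injective R (ι →₀ E) := by
  classical
  apply Module.Baer.injective
  intro J g
  obtain ⟨s, hs⟩ := (IsNoetherian.noetherian J : J.FG)
  have hsJ : ∀ x ∈ s, x ∈ J := fun x hx => hs ▸ Submodule.subset_span hx
  let S : Finset ι := s.attach.biUnion fun x => (g ⟨x.1, hsJ x.1 x.2⟩).support
  have hS : ∀ (x : R) (hx : x ∈ J) (i : ι), i ∉ S → (g ⟨x, hx⟩) i = 0 := by
    intro x hx i hi
    have hx' : x ∈ Submodule.span R (s : Set R) := hs ▸ hx
    have key : ∀ (y : R) (hy : y ∈ Submodule.span R (s : Set R)),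
        (g ⟨y, hs ▸ hy⟩) i = 0 := by
      intro y hy
      induction hy using Submodule.span_induction with
      | mem y hy =>
        by_contra hne
        apply hi
        rw [Finset.mem_biUnion]
        exact ⟨⟨y, hy⟩, Finset.mem_attach _ _, Finsupp.mem_support_iff.mpr hne⟩
      | zero =>
        have : (⟨0, hs ▸ Submodule.zero_mem _⟩ : J) = 0 := rfl
        rw [this, map_zero]
        rfl
      | add y z hy hz ihy ihz =>
        have : (⟨y + z, hs ▸ Submodule.add_mem _ hy hz⟩ : J) =
            ⟨y, hs ▸ hy⟩ + ⟨z, hs ▸ hz⟩ := rfl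
        rw [this, map_add, Finsupp.add_apply, ihy, ihz, add_zero]
      | smul a y hy ihy =>
        have : (⟨a • y, hs ▸ Submodule.smul_mem _ a hy⟩ : J) = a • ⟨y, hs ▸ hy⟩ := rfl
        rw [this, map_smul, Finsupp.smul_apply, ihy, smul_zero]
    exact key x hx'
  have hB : Module.Baer R E := Module.Baer.of_injective hE
  choose h hh using fun i => hB J ((Finsupp.lapply i : (ι →₀ E) →ₗ[R] E) ∘ₗ g)
  refine ⟨∑ i ∈ S, (Finsupp.lsingle i : E →ₗ[R] (ι →₀ E)) ∘ₗ h i, ?_⟩
  intro x hx
  apply Finsupp.ext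
  intro j
  rw [LinearMap.sum_apply, Finsupp.finsetSum_apply]
  simp only [LinearMap.comp_apply, hh _ x hx, Finsupp.lsingle_apply, Finsupp.lapply_apply]
  by_cases hj : j ∈ S
  · rw [Finset.sum_eq_single j]
    · rw [Finsupp.single_eq_same]
    · intro i _ hij
      rw [Finsupp.single_eq_of_ne hij.symm]
    · intro h'
      exact absurd hj h'
  · rw [hS x hx j hj]
    apply Finset.sum_eq_zero
    intro i hi
    have : i ≠ j := fun h' => hj (h' ▸ hi)
    rw [Finsupp.single_eq_of_ne this.symm]

end FinsuppInj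

section Co

variable {R : Type u} [CommRing R] (𝒜 : ℤ → AddSubgroup R) [GradedRing 𝒜]
variable (X : Type u) [AddCommGroup X] [Module R X]

/-- The translation action on `ℤ → X`. -/
def coTw : Twist R (ℤ → X) where
  τ i :=
    { toFun := fun v k => v (k + i)
      map_add' := fun _ _ => rfl
      map_smul' := fun _ _ => rfl }
  zero := by
    apply LinearMap.ext
    intro v
    funext k
    change v (k + 0) = v k
    rw [add_zero]
  add i j := by
    apply LinearMap.ext
    intro v
    funext k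
    change v (k + (i + j)) = v (k + i + j)
    rw [add_assoc]

theorem coTw_apply (i : ℤ) (v : ℤ → X) (k : ℤ) : (coTw (R := R) X).τ i v k = v (k + i) := rfl

/-- The coinduced module. -/
abbrev Co : Type u := Tw 𝒜 (coTw (R := R) X)

/-- The opposite action. -/
def negTw {N : Type u} [AddCommGroup N] [Module R N] (t : Twist R N) : Twist R N where
  τ i := t.τ (-i)
  zero := by rw [neg_zero, t.zero]
  add i j := by rw [neg_add, t.add]

theorem ofTw_smul_Co {i : ℤ} {a : R} (ha : a ∈ 𝒜 i) (v : Co 𝒜 X) (k : ℤ) :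
    ofTw 𝒜 (coTw (R := R) X) (a • v) k = a • ofTw 𝒜 (coTw (R := R) X) v (k + i) := by
  rw [ofTw_smul_of_mem 𝒜 _ ha]
  rfl

variable [IsNoetherianRing R]

/-- The coinduced module of an injective module is injective. -/
theorem co_injective (hX : Module.Injective R X) : Module.Injective R (Co 𝒜 X) := by
  classical
  apply Module.Baer.injective
  intro J h
  -- the source: `⨁_k J t^k` with the opposite twist
  let tJ : Twist R (ℤ →₀ ↥J) := negTw (shiftTw (R := R) ↥J)
  let tR : Twist R (ℤ →₀ R) := negTw (shiftTw (R := R) R)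
  let φ : (ℤ →₀ ↥J) →+ X := Finsupp.liftAddHom (fun k : ℤ =>
    ({ toFun := fun a => ofTw 𝒜 (coTw (R := R) X) (h a) k
       map_zero' := by rw [map_zero]; rfl
       map_add' := fun a b => by rw [map_add]; rfl } : ↥J →+ X))
  have hφs : ∀ (k : ℤ) (b : ↥J), φ (Finsupp.single k b) = ofTw 𝒜 (coTw (R := R) X) (h b) k := by
    intro k b
    change (Finsupp.liftAddHom _) (Finsupp.single k b) = _
    rw [Finsupp.liftAddHom_apply_single]
    rfl
  have hφ : ∀ (i : ℤ) (a : R), a ∈ 𝒜 i → ∀ x, φ (a • tJ.τ i x) = a • φ x := by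
    intro i a ha x
    induction x using Finsupp.induction_linear with
    | zero => simp
    | add x y hx hy => rw [map_add, smul_add, map_add, hx, hy, map_add, smul_add]
    | single k b =>
      have e1 : tJ.τ i (Finsupp.single k b) = Finsupp.single (k + -i) b :=
        shiftTw_single (R := R) ↥J (-i) k b
      rw [e1, Finsupp.smul_single, hφs, hφs, map_smul, ofTw_smul_Co 𝒜 X ha]
      have e2 : k + -i + i = k := by ring
      rw [e2]
  let ψ : Tw 𝒜 tJ →ₗ[R] X := Tw.toPlain 𝒜 tJ φ hφ
  let ιJ : Tw 𝒜 tJ →ₗ[R] Tw 𝒜 tR := Tw.map 𝒜 tJ tR (Finsupp.mapRange.linearMap J.subtype) (by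
    intro i x
    change Finsupp.mapRange J.subtype (map_zero _) (Finsupp.mapDomain (fun n => n + -i) x) =
      Finsupp.mapDomain (fun n => n + -i) (Finsupp.mapRange J.subtype (map_zero _) x)
    exact (Finsupp.mapDomain_mapRange (fun n => n + -i) x J.subtype (map_zero _)
      (fun a b => map_add _ a b)).symm)
  have hιJ : Function.Injective ιJ := by
    intro x y hxy
    have : Finsupp.mapRange J.subtype (map_zero _) (ofTw 𝒜 tJ x) =
        Finsupp.mapRange J.subtype (map_zero _) (ofTw 𝒜 tJ y) := hxy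
    exact (ofTw 𝒜 tJ).injective
      (Finsupp.mapRange_injective _ (map_zero _) (Submodule.subtype_injective J) this)
  obtain ⟨Ψ, hΨ⟩ := hX.out ιJ hιJ ψ
  let z : ℤ → X := fun k => Ψ (toTw 𝒜 tR (Finsupp.single k 1))
  refine ⟨LinearMap.toSpanSingleton R (Co 𝒜 X) (toTw 𝒜 (coTw (R := R) X) z), fun a ha => ?_⟩
  rw [LinearMap.toSpanSingleton_apply]
  apply (ofTw 𝒜 (coTw (R := R) X)).injective
  funext k
  -- the right hand side
  have e1 : ofTw 𝒜 (coTw (R := R) X) (h ⟨a, ha⟩) k = Ψ (toTw 𝒜 tR (Finsupp.single k a)) := by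
    rw [← hφs]
    have : ιJ (toTw 𝒜 tJ (Finsupp.single k ⟨a, ha⟩)) = toTw 𝒜 tR (Finsupp.single k a) := by
      change toTw 𝒜 tR (Finsupp.mapRange J.subtype (map_zero _) (Finsupp.single k ⟨a, ha⟩)) = _
      rw [Finsupp.mapRange_single]
      rfl
    rw [← this, hΨ]
    rfl
  rw [e1]
  -- both sides are additive in `a`
  let f : R →+ X :=
    { toFun := fun a => ofTw 𝒜 (coTw (R := R) X) (a • toTw 𝒜 (coTw (R := R) X) z) k
      map_zero' := by rw [zero_smul]; rfl
      map_add' := fun a b => by rw [add_smul]; rfl }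
  let g : R →+ X :=
    { toFun := fun a => Ψ (toTw 𝒜 tR (Finsupp.single k a))
      map_zero' := by rw [Finsupp.single_zero, map_zero, map_zero]
      map_add' := fun a b => by rw [Finsupp.single_add, map_add, map_add] }
  change f a = g a
  apply smul_induction 𝒜 f g
  intro i b hb
  change ofTw 𝒜 (coTw (R := R) X) (b • toTw 𝒜 (coTw (R := R) X) z) k =
    Ψ (toTw 𝒜 tR (Finsupp.single k b))
  rw [ofTw_smul_Co 𝒜 X hb]
  have e2 : toTw 𝒜 tR (Finsupp.single k b) = b • toTw 𝒜 tR (Finsupp.single (k + i) 1) := by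
    rw [smul_toTw_of_mem 𝒜 tR hb]
    have e3 : tR.τ i (Finsupp.single (k + i) (1 : R)) = Finsupp.single (k + i + -i) 1 :=
      shiftTw_single (R := R) R (-i) (k + i) 1
    rw [e3, Finsupp.smul_single, smul_eq_mul, mul_one]
    have e4 : k + i + -i = k := by ring
    rw [e4]
  rw [e2, map_smul]
  rfl

end Co

end Groth.Agent.Lib.Helper8.GrInjTwCo
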