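import Groth.Agent.Lib.Helper8.GrInjTw
import Groth.Prelude.Def_GrLC

/-!
# The graded module `F(E) = ⨁_n E t^n` attached to an arbitrary module `E`
-/

set_option autoImplicit false
set_option linter.unusedSectionVars false
universe u

open DirectSum GrLC

namespace Groth.Agent.Lib.Helper8.GrInjTwFin

open Groth.Agent.Lib.Helper8.GrInjTw

variable {R : Type u} [CommRing R] (𝒜 : ℤ → AddSubgroup R) [GradedRing 𝒜]
variable (E : Type u) [AddCommGroup E] [Module R E]

/-- The shift action on `ℤ →₀ E`. -/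
noncomputable def shiftTw : Twist R (ℤ →₀ E) where
  τ i := Finsupp.lmapDomain E R (fun n => n + i)
  zero := by
    apply LinearMap.ext
    intro x
    simp only [add_zero]
    exact Finsupp.mapDomain_id
  add i j := by
    apply LinearMap.ext
    intro x
    change Finsupp.mapDomain (fun n => n + (i + j)) x =
      Finsupp.mapDomain (fun n => n + i) (Finsupp.mapDomain (fun n => n + j) x)
    rw [← Finsupp.mapDomain_comp]
    congr 1
    funext n
    simp only [Function.comp_apply]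
    ring

theorem shiftTw_single (i n : ℤ) (e : E) :
    (shiftTw (R := R) E).τ i (Finsupp.single n e) = Finsupp.single (n + i) e := by
  change Finsupp.mapDomain (fun n => n + i) (Finsupp.single n e) = _
  rw [Finsupp.mapDomain_single]

/-- The graded module `F(E)`. -/
abbrev FE : Type u := Tw 𝒜 (shiftTw (R := R) E)

/-- The pieces of `F(E)`. -/
noncomputable def grFE (n : ℤ) : AddSubgroup (FE 𝒜 E) :=
  AddMonoidHom.range ((toTw 𝒜 (shiftTw (R := R) E)).toAddMonoidHom.comp (Finsupp.singleAddHom n))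

theorem mem_grFE (n : ℤ) (x : FE 𝒜 E) :
    x ∈ grFE 𝒜 E n ↔ ∃ e : E, toTw 𝒜 (shiftTw (R := R) E) (Finsupp.single n e) = x := Iff.rfl

/-- The decomposition map. -/
noncomputable def decFE : FE 𝒜 E →+ ⨁ n, grFE 𝒜 E n :=
  (Finsupp.liftAddHom (fun n : ℤ =>
    (DirectSum.of (fun n => grFE 𝒜 E n) n).comp
      (((toTw 𝒜 (shiftTw (R := R) E)).toAddMonoidHom.comp
        (Finsupp.singleAddHom n)).rangeRestrict))).comp
    (ofTw 𝒜 (shiftTw (R := R) E)).toAddMonoidHom

theorem decFE_single (n : ℤ) (e : E) :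
    decFE 𝒜 E (toTw 𝒜 (shiftTw (R := R) E) (Finsupp.single n e)) =
      DirectSum.of (fun n => grFE 𝒜 E n) n
        ⟨toTw 𝒜 (shiftTw (R := R) E) (Finsupp.single n e), ⟨e, rfl⟩⟩ := by
  unfold decFE
  rw [AddMonoidHom.comp_apply]
  change (Finsupp.liftAddHom _) (Finsupp.single n e) = _
  rw [Finsupp.liftAddHom_apply_single]
  rfl

noncomputable instance decompositionFE : DirectSum.Decomposition (grFE 𝒜 E) :=
  DirectSum.Decomposition.ofAddHom (grFE 𝒜 E) (decFE 𝒜 E)
    (by
      have h : ((DirectSum.coeAddMonoidHom (grFE 𝒜 E)).comp (decFE 𝒜 E)).comp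
          (toTw 𝒜 (shiftTw (R := R) E)).toAddMonoidHom =
          (toTw 𝒜 (shiftTw (R := R) E)).toAddMonoidHom := by
        apply Finsupp.addHom_ext
        intro n e
        simp only [AddMonoidHom.comp_apply]
        change (DirectSum.coeAddMonoidHom (grFE 𝒜 E))
          (decFE 𝒜 E (toTw 𝒜 (shiftTw (R := R) E) (Finsupp.single n e))) = _
        rw [decFE_single, DirectSum.coeAddMonoidHom_of]
        rfl
      apply AddMonoidHom.ext
      intro x
      have := DFunLike.congr_fun h (ofTw 𝒜 (shiftTw (R := R) E) x)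
      exact this)
    (by
      apply DirectSum.addHom_ext
      rintro n ⟨_, ⟨e, rfl⟩⟩
      rw [AddMonoidHom.comp_apply, DirectSum.coeAddMonoidHom_of, AddMonoidHom.id_apply]
      exact decFE_single 𝒜 E n e)

instance gradedSMulFE : SetLike.GradedSMul 𝒜 (grFE 𝒜 E) where
  smul_mem := by
    rintro i n a _ ha ⟨e, rfl⟩
    refine ⟨a • e, ?_⟩
    change toTw 𝒜 (shiftTw (R := R) E) (Finsupp.single (i + n) (a • e)) =
      a • toTw 𝒜 (shiftTw (R := R) E) (Finsupp.single n e)
    rw [smul_toTw_of_mem 𝒜 _ ha, shiftTw_single, Finsupp.smul_single, add_comm]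

/-- `F(E)` as a bundled graded module. -/
noncomputable def gmodFE : GMod.{u} 𝒜 := GMod.of 𝒜 (FE 𝒜 E) (grFE 𝒜 E)

section Unit

variable {M : Type u} [AddCommGroup M] [Module R M] (ℳ : ℤ → AddSubgroup M)
  [DirectSum.Decomposition ℳ] [SetLike.GradedSMul 𝒜 ℳ] (j : M →ₗ[R] E)

/-- The additive map `x ↦ ∑ j(x_n) t^n`. -/
noncomputable def etaAdd : M →+ (ℤ →₀ E) :=
  (DirectSum.toAddMonoid (fun n : ℤ =>
    (Finsupp.singleAddHom n).comp (j.toAddMonoidHom.comp (ℳ n).subtype))).comp
    (DirectSum.decomposeAddEquiv ℳ).toAddMonoidHom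

theorem etaAdd_of_mem {n : ℤ} {x : M} (hx : x ∈ ℳ n) :
    etaAdd E ℳ j x = Finsupp.single n (j x) := by
  change (DirectSum.toAddMonoid _) (DirectSum.decompose ℳ x) = _
  rw [DirectSum.decompose_of_mem ℳ hx, DirectSum.toAddMonoid_of]
  rfl

theorem etaAdd_apply (x : M) (n : ℤ) : etaAdd E ℳ j x n = j (decompose ℳ x n : M) := by
  classical
  induction x using DirectSum.Decomposition.inductionOn ℳ with
  | zero => simp
  | homogeneous y =>
    rename_i g
    rw [etaAdd_of_mem E ℳ j y.2]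
    by_cases hgn : g = n
    · subst hgn
      rw [Finsupp.single_eq_same, decompose_of_mem_same ℳ y.2]
    · rw [Finsupp.single_eq_of_ne (Ne.symm hgn), decompose_of_mem_ne ℳ y.2 hgn, map_zero]
  | add y z hy hz =>
    rw [map_add, Finsupp.add_apply, hy, hz, decompose_add, DirectSum.add_apply,
      AddSubgroup.coe_add, map_add]

/-- The unit `M → F(E)` attached to a linear map `M → E`. -/
noncomputable def eta : M →ₗ[R] FE 𝒜 E :=
  Tw.ofPlain 𝒜 (shiftTw (R := R) E) (etaAdd E ℳ j) (by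
    classical
    intro i a ha x
    induction x using DirectSum.Decomposition.inductionOn ℳ with
    | zero => simp
    | homogeneous y =>
      rename_i g
      have hay : a • (y : M) ∈ ℳ (i + g) := by
        have := SetLike.GradedSMul.smul_mem (A := 𝒜) (B := ℳ) ha y.2
        rwa [vadd_eq_add] at this
      rw [etaAdd_of_mem E ℳ j hay, etaAdd_of_mem E ℳ j y.2, shiftTw_single, Finsupp.smul_single,
        map_smul, add_comm]
    | add y z hy hz =>
      rw [smul_add, map_add, hy, hz, map_add, map_add, smul_add])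

theorem eta_apply (x : M) : eta 𝒜 E ℳ j x = toTw 𝒜 (shiftTw (R := R) E) (etaAdd E ℳ j x) := rfl

theorem eta_isGrHom : IsGrHom ℳ (grFE 𝒜 E) (eta 𝒜 E ℳ j) := by
  intro n x hx
  rw [eta_apply, etaAdd_of_mem E ℳ j hx]
  exact ⟨j x, rfl⟩

theorem eta_injective (hj : Function.Injective j) : Function.Injective (eta 𝒜 E ℳ j) := by
  classical
  rw [injective_iff_map_eq_zero]
  intro x hx
  have h0 : etaAdd E ℳ j x = 0 := hx
  have h1 : ∀ n, (decompose ℳ x n : M) = 0 := by
    intro n
    apply hj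
    rw [← etaAdd_apply, h0, map_zero]
    rfl
  rw [← DirectSum.sum_support_decompose ℳ x]
  exact Finset.sum_eq_zero (fun n _ => h1 n)

/-- A *injective module is a direct summand of `F(E)` for any embedding into a module `E`. -/
theorem exists_retraction (hM : IsStarInj 𝒜 ℳ) (hj : Function.Injective j) :
    ∃ ρ : FE 𝒜 E →ₗ[R] M, ρ ∘ₗ eta 𝒜 E ℳ j = LinearMap.id := by
  have h1 : IsGrHom ℳ (grFE 𝒜 E) (eta 𝒜 E ℳ j) := eta_isGrHom 𝒜 E ℳ j
  have h2 : Function.Injective (eta 𝒜 E ℳ j) := eta_injective 𝒜 E ℳ j hj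
  have h3 : IsGrHom ℳ ℳ (LinearMap.id : M →ₗ[R] M) := fun _ _ hx => hx
  let f : M →ₗ[R] FE 𝒜 E := eta 𝒜 E ℳ j
  obtain ⟨h, -, hh⟩ := hM (GMod.of 𝒜 M ℳ) (gmodFE 𝒜 E) f h1 h2 LinearMap.id h3
  exact ⟨h, hh⟩

end Unit

end Groth.Agent.Lib.Helper8.GrInjTwFin
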