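import Groth.Agent.Lib.Helper8.GrLCCone
import Groth.Agent.Lib.Helper8.GrLCSub

/-!
# a-invariants under quotients by regular homogeneous elements
-/

set_option autoImplicit false
set_option linter.unusedSectionVars false
universe u

open DirectSum GrLC
open Groth.Agent.Lib.Helper30
open Groth.Agent.Lib.Helper8.GrLCBase Groth.Agent.Lib.Helper8.GrLCProd
open Groth.Agent.Lib.Helper8.GrLCLES Groth.Agent.Lib.Helper8.GrLCTors
open Groth.Agent.Lib.Helper8.GrLCShift Groth.Agent.Lib.Helper8.GrLCCone
open Groth.Agent.Lib.Helper8.GrLCSub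

namespace Groth.Agent.Lib.Helper8.GrLCAinv

section General

variable {ι : Type} [AddCommGroup ι] [DecidableEq ι]
variable {R : Type u} [CommRing R] {𝒜 : ι → AddSubgroup R} [GradedRing 𝒜]
variable {M : Type u} [AddCommGroup M] [Module R M] {ℳ : ι → AddSubgroup M}
  [DirectSum.Decomposition ℳ] [SetLike.GradedSMul 𝒜 ℳ]
variable {N : Type u} [AddCommGroup N] [Module R N] {𝒩 : ι → AddSubgroup N}
  [DirectSum.Decomposition 𝒩] [SetLike.GradedSMul 𝒜 𝒩]
variable (a : HomogeneousIdeal 𝒜) {x : R} {k : ι} (hx : x ∈ 𝒜 k) (hreg : IsSMulRegular M x)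
  (π : M →ₗ[R] N) (hπ : Function.Surjective π) (hπg : IsGrHom ℳ 𝒩 π)
  (hker : LinearMap.ker π = LinearMap.range (x • (LinearMap.id : M →ₗ[R] M)))

include hx hreg hπ hπg hker in
/-- The short exact sequence `0 → M(-k) → M → M/xM → 0`. -/
theorem ses_regular : SES (shiftGr ℳ (-k)) ℳ 𝒩 (x • (LinearMap.id : M →ₗ[R] M)) π where
  i_gr := by
    intro g m hm
    rw [mem_shiftGr] at hm
    have := smul_mem_piece 𝒜 ℳ hx hm
    rw [add_neg_cancel_comm_assoc] at this
    exact this
  p_gr := hπg
  inj := fun m m' h => hreg h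
  surj := hπ
  exact := hker.symm

include hx hreg hπ hπg hker in
/-- Vanishing for the quotient from vanishing for the module. -/
theorem van_quot (i : ℕ) (g : ι) (h : VanM a ℳ i g) (h' : VanM a ℳ (i + 1) (g + -k)) :
    VanM a 𝒩 i g :=
  les_right a (ses_regular hx hreg π hπ hπg hker) i g h
    ((vanM_shift (ℳ := ℳ) a (-k) (i + 1) g).mpr h')

end General

section Z

variable {R : Type u} [CommRing R] {𝒜 : ℤ → AddSubgroup R} [GradedRing 𝒜]
variable {M : Type u} [AddCommGroup M] [Module R M] {ℳ : ℤ → AddSubgroup M}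
  [DirectSum.Decomposition ℳ] [SetLike.GradedSMul 𝒜 ℳ]
variable {N : Type u} [AddCommGroup N] [Module R N] {𝒩 : ℤ → AddSubgroup N}
  [DirectSum.Decomposition 𝒩] [SetLike.GradedSMul 𝒜 𝒩]
variable (a : HomogeneousIdeal 𝒜) {x : R} {k : ℤ} (hx : x ∈ 𝒜 k) (hreg : IsSMulRegular M x)
  (π : M →ₗ[R] N) (hπ : Function.Surjective π) (hπg : IsGrHom ℳ 𝒩 π)
  (hker : LinearMap.ker π = LinearMap.range (x • (LinearMap.id : M →ₗ[R] M)))

theorem eq_of_forall_le_iff (u v : WithBot (WithTop ℤ))
    (h : ∀ ρ : ℤ, u ≤ ((ρ : WithTop ℤ) : WithBot (WithTop ℤ)) ↔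
      v ≤ ((ρ : WithTop ℤ) : WithBot (WithTop ℤ))) : u = v := by
  induction u using WithBot.recBotCoe with
  | bot =>
    induction v using WithBot.recBotCoe with
    | bot => rfl
    | coe v =>
      induction v using WithTop.recTopCoe with
      | top =>
        have := (h 0).mp bot_le
        rw [WithBot.coe_le_coe] at this
        simp at this
      | coe n =>
        have := (h (n - 1)).mp bot_le
        rw [WithBot.coe_le_coe, WithTop.coe_le_coe] at this
        omega
  | coe u =>
    induction u using WithTop.recTopCoe with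
    | top =>
      induction v using WithBot.recBotCoe with
      | bot =>
        have := (h 0).mpr bot_le
        rw [WithBot.coe_le_coe] at this
        simp at this
      | coe v =>
        induction v using WithTop.recTopCoe with
        | top => rfl
        | coe n =>
          have := (h n).mpr le_rfl
          rw [WithBot.coe_le_coe] at this
          simp at this
    | coe m =>
      induction v using WithBot.recBotCoe with
      | bot =>
        have := (h (m - 1)).mpr bot_le
        rw [WithBot.coe_le_coe, WithTop.coe_le_coe] at this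
        omega
      | coe v =>
        induction v using WithTop.recTopCoe with
        | top =>
          have := (h m).mp le_rfl
          rw [WithBot.coe_le_coe] at this
          simp at this
        | coe n =>
          have h1 := (h m).mp le_rfl
          have h2 := (h n).mpr le_rfl
          rw [WithBot.coe_le_coe, WithTop.coe_le_coe] at h1 h2
          have : m = n := le_antisymm h2 h1
          rw [this]

include hx hreg hπ hπg hker in
/-- `a(M/xM) = a(M) + deg x` in cohomological degree `i` vs `i+1`, when `H^i_a(M) = 0`. -/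
theorem endDeg_quot (hk : 0 ≤ k) (hxa : x ∈ a.toIdeal) (E : StarInjRes 𝒜 ℳ) (F : StarInjRes 𝒜 𝒩)
    (i : ℕ) (hvan : ∀ g, VanM a ℳ i g) :
    GrLC.endDeg (F.Hgr a i) =
      GrLC.endDeg (E.Hgr a (i + 1)) + ((k : WithTop ℤ) : WithBot (WithTop ℤ)) := by
  apply eq_of_forall_le_iff
  intro ρ
  rw [add_coe_le_iff, endDeg_le_iff, endDeg_le_iff]
  have hF : ∀ t, F.Hgr a i t = ⊥ ↔ VanM a 𝒩 i t := fun t => by
    rw [hgr_eq_bot_iff, vanM_iff_hcomp a F]
  have hE : ∀ t, E.Hgr a (i + 1) t = ⊥ ↔ VanM a ℳ (i + 1) t := fun t => by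
    rw [hgr_eq_bot_iff, vanM_iff_hcomp a E]
  constructor
  · intro h t ht
    rw [hE]
    have := van_of_regular (ℳ := ℳ) (𝒩 := 𝒩) a hx hreg π hπ hπg hker hxa i (fun g => ρ < g)
      (fun g hg => by omega) (fun g hg => (hF g).mp (h g hg)) (t + k) (by omega)
    rwa [add_neg_cancel_right] at this
  · intro h t ht
    rw [hF]
    apply van_quot a hx hreg π hπ hπg hker i t (hvan t)
    rw [← hE]
    exact h _ (by omega)

end Z

end Groth.Agent.Lib.Helper8.GrLCAinv
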