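import Groth.Agent.Lib.Helper8.GrLCAinv
import Groth.Agent.Lib.Helper8.GrLCInd
import Mathlib.RingTheory.Regular.RegularSequence

/-!
# a-invariants under quotients by homogeneous regular sequences
-/

set_option autoImplicit false
set_option linter.unusedSectionVars false
universe u

open DirectSum GrLC
open Groth.Agent.Lib.Helper30
open Groth.Agent.Lib.Helper8.GrLCBase Groth.Agent.Lib.Helper8.GrLCProd
open Groth.Agent.Lib.Helper8.GrLCLES Groth.Agent.Lib.Helper8.GrLCTors
open Groth.Agent.Lib.Helper8.GrLCShift Groth.Agent.Lib.Helper8.GrLCCone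
open Groth.Agent.Lib.Helper8.GrLCSub Groth.Agent.Lib.Helper8.GrLCAinv
open Groth.Agent.Lib.Helper8.GrLCInd
open scoped Pointwise

namespace Groth.Agent.Lib.Helper8.GrLCAinvSeq

variable {R : Type u} [CommRing R] {𝒜 : ℤ → AddSubgroup R} [GradedRing 𝒜]
variable (a : HomogeneousIdeal 𝒜)

/-- The vanishing ranges of `H^j(N)` and `H^{j'}(M)` differ by the shift `K`. -/
def Shift {M : Type u} [AddCommGroup M] [Module R M] (ℳ : ℤ → AddSubgroup M)
    [DirectSum.Decomposition ℳ] [SetLike.GradedSMul 𝒜 ℳ]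
    {N : Type u} [AddCommGroup N] [Module R N] (𝒩 : ℤ → AddSubgroup N)
    [DirectSum.Decomposition 𝒩] [SetLike.GradedSMul 𝒜 𝒩] (j j' : ℕ) (K : ℤ) : Prop :=
  ∀ ρ : ℤ, (∀ g, ρ < g → VanM a 𝒩 j g) ↔ (∀ g, ρ - K < g → VanM a ℳ j' g)

section Step

variable {M : Type u} [AddCommGroup M] [Module R M] {ℳ : ℤ → AddSubgroup M}
  [DirectSum.Decomposition ℳ] [SetLike.GradedSMul 𝒜 ℳ]
variable {N : Type u} [AddCommGroup N] [Module R N] {𝒩 : ℤ → AddSubgroup N}
  [DirectSum.Decomposition 𝒩] [SetLike.GradedSMul 𝒜 𝒩]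
variable {x : R} {k : ℤ} (hx : x ∈ 𝒜 k) (hreg : IsSMulRegular M x)
  (π : M →ₗ[R] N) (hπ : Function.Surjective π) (hπg : IsGrHom ℳ 𝒩 π)
  (hker : LinearMap.ker π = LinearMap.range (x • (LinearMap.id : M →ₗ[R] M)))

include hx hreg hπ hπg hker in
theorem shift_quot (hk : 0 ≤ k) (hxa : x ∈ a.toIdeal) (i : ℕ) (hvan : ∀ g, VanM a ℳ i g) :
    Shift a ℳ 𝒩 i (i + 1) k := by
  intro ρ
  constructor
  · intro h t ht
    have := van_of_regular (ℳ := ℳ) (𝒩 := 𝒩) a hx hreg π hπ hπg hker hxa i (fun g => ρ < g)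
      (fun g hg => by omega) (fun g hg => h g hg) (t + k) (by omega)
    rwa [add_neg_cancel_right] at this
  · intro h t ht
    exact van_quot a hx hreg π hπ hπg hker i t (hvan t) (h _ (by omega))

theorem shift_of_equiv (e : M ≃ₗ[R] N)
    (he : IsGrHom ℳ 𝒩 e.toLinearMap) (he' : IsGrHom 𝒩 ℳ e.symm.toLinearMap) (j : ℕ) :
    Shift a ℳ 𝒩 j j 0 := by
  intro ρ
  rw [sub_zero]
  constructor
  · intro h g hg
    exact (vanM_of_equiv a e he he' j g).mpr (h g hg)
  · intro h g hg
    exact (vanM_of_equiv a e he he' j g).mp (h g hg)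

end Step

theorem Shift.trans {M : Type u} [AddCommGroup M] [Module R M] {ℳ : ℤ → AddSubgroup M}
    [DirectSum.Decomposition ℳ] [SetLike.GradedSMul 𝒜 ℳ]
    {M₁ : Type u} [AddCommGroup M₁] [Module R M₁] {ℳ₁ : ℤ → AddSubgroup M₁}
    [DirectSum.Decomposition ℳ₁] [SetLike.GradedSMul 𝒜 ℳ₁]
    {N : Type u} [AddCommGroup N] [Module R N] {𝒩 : ℤ → AddSubgroup N}
    [DirectSum.Decomposition 𝒩] [SetLike.GradedSMul 𝒜 𝒩] {j₀ j₁ j₂ : ℕ} {K₁ K₂ : ℤ}
    (h1 : Shift a ℳ ℳ₁ j₁ j₀ K₁) (h2 : Shift a ℳ₁ 𝒩 j₂ j₁ K₂) :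
    Shift a ℳ 𝒩 j₂ j₀ (K₁ + K₂) := by
  intro ρ
  rw [h2 ρ, h1 (ρ - K₂)]
  have e : ρ - K₂ - K₁ = ρ - (K₁ + K₂) := by ring
  rw [e]

theorem endDeg_of_shift {M : Type u} [AddCommGroup M] [Module R M] {ℳ : ℤ → AddSubgroup M}
    [DirectSum.Decomposition ℳ] [SetLike.GradedSMul 𝒜 ℳ]
    {N : Type u} [AddCommGroup N] [Module R N] {𝒩 : ℤ → AddSubgroup N}
    [DirectSum.Decomposition 𝒩] [SetLike.GradedSMul 𝒜 𝒩] {j j' : ℕ} {K : ℤ}
    (h : Shift a ℳ 𝒩 j j' K) (E : StarInjRes 𝒜 ℳ) (F : StarInjRes 𝒜 𝒩) :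
    GrLC.endDeg (F.Hgr a j) =
      GrLC.endDeg (E.Hgr a j') + ((K : WithTop ℤ) : WithBot (WithTop ℤ)) := by
  apply Groth.Agent.Lib.Helper8.GrLCAinv.eq_of_forall_le_iff
  intro ρ
  rw [add_coe_le_iff, endDeg_le_iff, endDeg_le_iff]
  have hF : ∀ t, F.Hgr a j t = ⊥ ↔ VanM a 𝒩 j t := fun t => by
    rw [hgr_eq_bot_iff, vanM_iff_hcomp a F]
  have hE : ∀ t, E.Hgr a j' t = ⊥ ↔ VanM a ℳ j' t := fun t => by
    rw [hgr_eq_bot_iff, vanM_iff_hcomp a E]
  constructor
  · intro h1 t ht
    rw [hE]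
    exact (h ρ).mp (fun g hg => (hF g).mp (h1 g hg)) t ht
  · intro h1 t ht
    rw [hF]
    exact (h ρ).mpr (fun g hg => (hE g).mp (h1 g hg)) t ht

section Main

variable (hpos : ∀ n : ℤ, n < 0 → 𝒜 n = ⊥)

theorem range_succ {t : ℕ} (f : Fin (t + 1) → R) :
    Set.range f = insert (f 0) (Set.range (fun i : Fin t => f i.succ)) := by
  ext y
  simp only [Set.mem_range, Set.mem_insert_iff]
  rw [Fin.exists_fin_succ]
  constructor
  · rintro (h | h)
    · exact Or.inl h.symm
    · exact Or.inr h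
  · rintro (h | h)
    · exact Or.inl h.symm
    · exact Or.inr h

include hpos in
theorem main : ∀ (t n' : ℕ), t ≤ n' →
    ∀ (M : Type u) [AddCommGroup M] [Module R M] (ℳ : ℤ → AddSubgroup M)
      [DirectSum.Decomposition ℳ] [SetLike.GradedSMul 𝒜 ℳ]
      (N : Type u) [AddCommGroup N] [Module R N] (𝒩 : ℤ → AddSubgroup N)
      [DirectSum.Decomposition 𝒩] [SetLike.GradedSMul 𝒜 𝒩]
      (f : Fin t → R) (deg : Fin t → ℤ), (∀ i, f i ∈ 𝒜 (deg i)) → (∀ i, f i ∈ a.toIdeal) →
      RingTheory.Sequence.IsWeaklyRegular M (List.ofFn f) →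
      ∀ π : M →ₗ[R] N, IsGrHom ℳ 𝒩 π → Function.Surjective π →
      LinearMap.ker π = Ideal.span (Set.range f) • (⊤ : Submodule R M) →
      (∀ i, i < n' → ∀ g, VanM a ℳ i g) →
      (∀ i, i < n' - t → ∀ g, VanM a 𝒩 i g) ∧ Shift a ℳ 𝒩 (n' - t) n' (∑ i, deg i) := by
  intro t
  induction t with
  | zero =>
    intro n' _ M _ _ ℳ _ _ N _ _ 𝒩 _ _ f deg _ _ _ π hπg hπs hπk hvan
    have hker : LinearMap.ker π = ⊥ := by
      rw [hπk]
      have : Set.range f = ∅ := Set.range_eq_empty f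
      rw [this, Ideal.span_empty, Submodule.bot_smul]
    have hinj : Function.Injective π := LinearMap.ker_eq_bot.mp hker
    let e : M ≃ₗ[R] N := LinearEquiv.ofBijective π ⟨hinj, hπs⟩
    have he : IsGrHom ℳ 𝒩 e.toLinearMap := hπg
    have he' : IsGrHom 𝒩 ℳ e.symm.toLinearMap := by
      intro g y hy
      apply mem_piece_of_map_mem_piece ℳ 𝒩 π hπg hinj
      have : π (e.symm y) = y := e.apply_symm_apply y
      change π (e.symm y) ∈ 𝒩 g
      rw [this]
      exact hy
    refine ⟨fun i hi g => (vanM_of_equiv a e he he' i g).mp (hvan i (by omega) g), ?_⟩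
    have := shift_of_equiv a e he he' n'
    simpa using this
  | succ t ih =>
    intro n' htn M _ _ ℳ _ _ N _ _ 𝒩 _ _ f deg hfdeg hfa hreg π hπg hπs hπk hvan
    by_cases hk : 0 ≤ deg 0
    · -- main case
      obtain ⟨n'', rfl⟩ : ∃ n'', n' = n'' + 1 := ⟨n' - 1, by omega⟩
      set x : R := f 0 with hx
      set k : ℤ := deg 0 with hkdef
      have hxk : x ∈ 𝒜 k := hfdeg 0
      have hxa : x ∈ a.toIdeal := hfa 0
      rw [List.ofFn_succ, RingTheory.Sequence.isWeaklyRegular_cons_iff] at hreg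
      obtain ⟨hreg0, hreg'⟩ := hreg
      let mx : M →ₗ[R] M := x • (LinearMap.id : M →ₗ[R] M)
      let B : Submodule R M := LinearMap.range mx
      have hmx : IsGrHomDeg ℳ ℳ mx k := by
        intro g m hm
        have := smul_mem_piece 𝒜 ℳ hxk hm
        rw [add_comm] at this
        exact this
      have hB : B.IsHomogeneous ℳ := range_isHomogeneous_of_isGrHomDeg ℳ ℳ mx k hmx
      have hBeq : x • (⊤ : Submodule R M) = B := by
        ext y
        rw [Submodule.mem_smul_pointwise_iff_exists]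
        constructor
        · rintro ⟨m, -, rfl⟩
          exact ⟨m, rfl⟩
        · rintro ⟨m, rfl⟩
          exact ⟨m, trivial, rfl⟩
      let Y : GMod.{u} 𝒜 := gmodQuot 𝒜 ℳ B hB
      let π₁ : M →ₗ[R] Y.carrier := B.mkQ
      have hπ₁g : IsGrHom ℳ Y.gr π₁ := isGrHom_mkQ ℳ B
      have hπ₁s : Function.Surjective π₁ := B.mkQ_surjective
      have hπ₁0 : ∀ m, π₁ m = 0 ↔ m ∈ B := fun m => Submodule.Quotient.mk_eq_zero B
      have hπ₁k : LinearMap.ker π₁ = LinearMap.range (x • (LinearMap.id : M →ₗ[R] M)) :=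
        Submodule.ker_mkQ B
      have hBle : B ≤ LinearMap.ker π := by
        rintro _ ⟨m, rfl⟩
        rw [hπk]
        exact Submodule.smul_mem_smul (Ideal.subset_span ⟨0, rfl⟩) (Submodule.mem_top)
      let π' : Y.carrier →ₗ[R] N := B.liftQ π hBle
      have hπ'π : ∀ m, π' (π₁ m) = π m := fun m => Submodule.liftQ_apply B π m
      have hπ'g : IsGrHom Y.gr 𝒩 π' := by
        rintro g y ⟨m, hm, rfl⟩
        exact hπg g m hm
      have hπ's : Function.Surjective π' := by
        intro n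
        obtain ⟨m, rfl⟩ := hπs n
        exact ⟨π₁ m, hπ'π m⟩
      have hπ'k : LinearMap.ker π' =
          Ideal.span (Set.range (fun i : Fin t => f i.succ)) • (⊤ : Submodule R Y.carrier) := by
        apply le_antisymm
        · intro y hy
          obtain ⟨m, rfl⟩ := hπ₁s y
          rw [LinearMap.mem_ker, hπ'π] at hy
          have hm : m ∈ Ideal.span (Set.range f) • (⊤ : Submodule R M) := by
            rw [← hπk]; exact hy
          refine Submodule.smul_induction_on hm ?_ ?_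
          · intro r hr m' _
            rw [range_succ, Ideal.span_insert] at hr
            obtain ⟨r₁, hr₁, r₂, hr₂, rfl⟩ := Submodule.mem_sup.mp hr
            obtain ⟨c, rfl⟩ := Ideal.mem_span_singleton'.mp hr₁
            rw [add_smul, map_add]
            have h0 : π₁ ((c * f 0) • m') = 0 := by
              rw [hπ₁0]
              refine ⟨c • m', ?_⟩
              change x • (c • m') = (c * f 0) • m'
              rw [hx, smul_smul, mul_comm]
            rw [h0, zero_add, map_smul]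
            exact Submodule.smul_mem_smul hr₂ trivial
          · intro y y' hy hy'
            rw [map_add]
            exact Submodule.add_mem _ hy hy'
        · rw [Submodule.smul_le]
          intro r hr y _
          obtain ⟨m, rfl⟩ := hπ₁s y
          rw [LinearMap.mem_ker, ← map_smul, hπ'π]
          have : r • m ∈ LinearMap.ker π := by
            rw [hπk]
            refine Submodule.smul_mem_smul (Ideal.span_mono ?_ hr) (Submodule.mem_top)
            rintro _ ⟨i, rfl⟩
            exact ⟨i.succ, rfl⟩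
          exact this
      have hreg'' : RingTheory.Sequence.IsWeaklyRegular Y.carrier
          (List.ofFn (fun i : Fin t => f i.succ)) := by
        have e : QuotSMulTop x M ≃ₗ[R] Y.carrier := Submodule.quotEquivOfEq _ _ hBeq
        exact (e.isWeaklyRegular_congr _).mp hreg'
      -- vanishing for the first quotient
      have hvan₁ : ∀ i, i < n'' → ∀ g, VanM a Y.gr i g := by
        intro i hi g
        exact van_quot a hxk hreg0 π₁ hπ₁s hπ₁g hπ₁k i g (hvan i (by omega) g)
          (hvan (i + 1) (by omega) _)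
      have hshift₁ : Shift a ℳ Y.gr n'' (n'' + 1) k :=
        shift_quot a hxk hreg0 π₁ hπ₁s hπ₁g hπ₁k hk hxa n'' (fun g => hvan n'' (by omega) g)
      obtain ⟨hvanN, hshiftN⟩ := ih n'' (by omega) Y.carrier Y.gr N 𝒩 (fun i => f i.succ)
        (fun i => deg i.succ) (fun i => hfdeg i.succ) (fun i => hfa i.succ) hreg'' π' hπ'g hπ's
        hπ'k hvan₁
      have hsub : n'' + 1 - (t + 1) = n'' - t := by omega
      rw [hsub, Fin.sum_univ_succ]
      exact ⟨hvanN, hshift₁.trans a hshiftN⟩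
    · -- degenerate case: `f 0 = 0` is regular, so everything vanishes
      have hx0 : f 0 = 0 := by
        have := hfdeg 0
        rw [hpos _ (by omega), AddSubgroup.mem_bot] at this
        exact this
      rw [List.ofFn_succ, RingTheory.Sequence.isWeaklyRegular_cons_iff] at hreg
      have hreg0 := hreg.1
      have hM : Subsingleton M := by
        constructor
        intro m m'
        apply hreg0
        simp [hx0]
      have hN : Subsingleton N := by
        constructor
        intro n n'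
        obtain ⟨m, rfl⟩ := hπs n
        obtain ⟨m', rfl⟩ := hπs n'
        rw [Subsingleton.elim m m']
      refine ⟨fun i _ g => vanM_of_subsingleton a i g, fun ρ => ?_⟩
      exact ⟨fun _ g _ => vanM_of_subsingleton a _ g, fun _ g _ => vanM_of_subsingleton a _ g⟩

end Main

end Groth.Agent.Lib.Helper8.GrLCAinvSeq
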