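import Groth.Agent.Lib.Helper30.GradedShift
import Groth.Agent.Lib.Helper30.GradedGam

set_option autoImplicit false
set_option linter.unusedSectionVars false
universe u

open DirectSum GrLC
open Groth.Agent.Lib.Helper30

namespace Groth.Agent.Lib.Helper8.GrLCBase

variable {ι : Type} [AddCommGroup ι] [DecidableEq ι]
variable {R : Type u} [CommRing R] {𝒜 : ι → AddSubgroup R} [GradedRing 𝒜]

section Ext

theorem exists_extension {X : Type u} [AddCommGroup X] [Module R X] (𝒳 : ι → AddSubgroup X)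
    [DirectSum.Decomposition 𝒳] [SetLike.GradedSMul 𝒜 𝒳] (Y J : GMod.{u} 𝒜)
    (hJ : IsStarInj 𝒜 J.gr)
    (u : X →ₗ[R] Y.carrier) (hu : IsGrHom 𝒳 Y.gr u)
    (g : X →ₗ[R] J.carrier) (hg : IsGrHom 𝒳 J.gr g)
    (hker : LinearMap.ker u ≤ LinearMap.ker g) :
    ∃ h : Y.carrier →ₗ[R] J.carrier, IsGrHom Y.gr J.gr h ∧ ∀ x, h (u x) = g x := by
  have hK : (LinearMap.ker u).IsHomogeneous 𝒳 := ker_isHomogeneous 𝒳 Y.gr u hu
  let A : GMod.{u} 𝒜 := gmodQuot 𝒜 𝒳 (LinearMap.ker u) hK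
  let ubar : A.carrier →ₗ[R] Y.carrier := (LinearMap.ker u).liftQ u le_rfl
  let gbar : A.carrier →ₗ[R] J.carrier := (LinearMap.ker u).liftQ g hker
  have hubar : IsGrHom A.gr Y.gr ubar := by
    rintro k y ⟨x, hx, rfl⟩
    exact hu k x hx
  have hgbar : IsGrHom A.gr J.gr gbar := by
    rintro k y ⟨x, hx, rfl⟩
    exact hg k x hx
  have hinj : Function.Injective ubar := by
    rw [← LinearMap.ker_eq_bot]
    exact Submodule.ker_liftQ_eq_bot _ _ _ le_rfl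
  obtain ⟨h, hh, hcomp⟩ := hJ A Y ubar hubar hinj gbar hgbar
  refine ⟨h, hh, fun x => ?_⟩
  have := LinearMap.congr_fun hcomp ((LinearMap.ker u).mkQ x)
  exact this

theorem exists_extension' {X : Type u} [AddCommGroup X] [Module R X] (𝒳 : ι → AddSubgroup X)
    [DirectSum.Decomposition 𝒳] [SetLike.GradedSMul 𝒜 𝒳]
    {Y : Type u} [AddCommGroup Y] [Module R Y] (𝒴 : ι → AddSubgroup Y)
    [DirectSum.Decomposition 𝒴] [SetLike.GradedSMul 𝒜 𝒴] (J : GMod.{u} 𝒜)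
    (hJ : IsStarInj 𝒜 J.gr)
    (u : X →ₗ[R] Y) (hu : IsGrHom 𝒳 𝒴 u)
    (g : X →ₗ[R] J.carrier) (hg : IsGrHom 𝒳 J.gr g)
    (hker : LinearMap.ker u ≤ LinearMap.ker g) :
    ∃ h : Y →ₗ[R] J.carrier, IsGrHom 𝒴 J.gr h ∧ ∀ x, h (u x) = g x :=
  exists_extension 𝒳 (GMod.of 𝒜 Y 𝒴) J hJ u hu g hg hker

end Ext

section Basic

variable {M : Type u} [AddCommGroup M] [Module R M] {ℳ : ι → AddSubgroup M}
  [DirectSum.Decomposition ℳ] [SetLike.GradedSMul 𝒜 ℳ]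
variable (E : StarInjRes 𝒜 ℳ) (a : HomogeneousIdeal 𝒜)

theorem d_comp_ε (m : M) : E.d 0 (E.ε m) = 0 := by
  have : E.ε m ∈ LinearMap.ker (E.d 0) := by
    rw [E.exact_zero]
    exact ⟨m, rfl⟩
  exact this

theorem d_comp_d (n : ℕ) (x : (E.X n).carrier) : E.d (n + 1) (E.d n x) = 0 := by
  have : E.d n x ∈ LinearMap.ker (E.d (n + 1)) := by
    rw [E.exact_succ]
    exact ⟨x, rfl⟩
  exact this

theorem gam_map {X Y : Type u} [AddCommGroup X] [Module R X] [AddCommGroup Y] [Module R Y]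
    (I : Ideal R) (f : X →ₗ[R] Y) {x : X} (hx : x ∈ gam I X) : f x ∈ gam I Y := by
  obtain ⟨n, hn⟩ := hx
  exact ⟨n, fun r hr => by rw [← map_smul, hn r hr, map_zero]⟩

theorem mem_cobdy_zero (z : (E.X 0).carrier) : z ∈ E.cobdy a 0 ↔ z = 0 := by
  change z ∈ (⊥ : Submodule R (E.X 0).carrier) ↔ z = 0
  exact Submodule.mem_bot R

theorem mem_cobdy_succ (n : ℕ) (z : (E.X (n + 1)).carrier) :
    z ∈ E.cobdy a (n + 1) ↔ ∃ y ∈ gam a.toIdeal (E.X n).carrier, E.d n y = z := by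
  change z ∈ (gam a.toIdeal (E.X n).carrier).map (E.d n) ↔ _
  rw [Submodule.mem_map]

/-- Vanishing of the degree `g` piece of the `n`-th cohomology, at the level of cocycles. -/
def Van (n : ℕ) (g : ι) : Prop :=
  ∀ z : (E.X n).carrier, z ∈ gam a.toIdeal (E.X n).carrier → E.d n z = 0 →
    z ∈ (E.X n).gr g → z ∈ E.cobdy a n

theorem hcomp_eq_bot_iff (n : ℕ) (g : ι) : E.Hcomp a n g = ⊥ ↔ Van E a n g := by
  constructor
  · intro h z hz hdz hzg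
    have hzc : z ∈ E.cocyc a n := ⟨hz, hdz⟩
    have hmem : E.toH a n ⟨z, hzc⟩ ∈ E.Hcomp a n g := ⟨⟨z, hzc⟩, hzg, rfl⟩
    rw [h, Submodule.mem_bot] at hmem
    have := (Submodule.Quotient.mk_eq_zero _).mp hmem
    exact this
  · intro h
    rw [eq_bot_iff]
    rintro x ⟨z, hzg, rfl⟩
    rw [Submodule.mem_bot]
    apply (Submodule.Quotient.mk_eq_zero _).mpr
    exact h z.1 z.2.1 z.2.2 hzg

end Basic

section Compare

variable {M : Type u} [AddCommGroup M] [Module R M] {ℳ : ι → AddSubgroup M}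
  [DirectSum.Decomposition ℳ] [SetLike.GradedSMul 𝒜 ℳ]
variable {N : Type u} [AddCommGroup N] [Module R N] {𝒩 : ι → AddSubgroup N}
  [DirectSum.Decomposition 𝒩] [SetLike.GradedSMul 𝒜 𝒩]

/-- A homogeneous chain map between two resolutions lying over `f`. -/
structure CMap (E : StarInjRes 𝒜 ℳ) (E' : StarInjRes 𝒜 𝒩) (f : M →ₗ[R] N) where
  φ : ∀ n, (E.X n).carrier →ₗ[R] (E'.X n).carrier
  gr : ∀ n, IsGrHom (E.X n).gr (E'.X n).gr (φ n)
  aug : ∀ m, φ 0 (E.ε m) = E'.ε (f m)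
  comm : ∀ n x, φ (n + 1) (E.d n x) = E'.d n (φ n x)

variable (E : StarInjRes 𝒜 ℳ) (E' : StarInjRes 𝒜 𝒩)

structure CStage (n : ℕ) where
  φ : (E.X n).carrier →ₗ[R] (E'.X n).carrier
  ψ : (E.X (n + 1)).carrier →ₗ[R] (E'.X (n + 1)).carrier
  φ_gr : IsGrHom (E.X n).gr (E'.X n).gr φ
  ψ_gr : IsGrHom (E.X (n + 1)).gr (E'.X (n + 1)).gr ψ
  comm : ∀ x, ψ (E.d n x) = E'.d n (φ x)

variable {E E'}

theorem cstage_next_exists {n : ℕ} (s : CStage E E' n) :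
    ∃ χ : (E.X (n + 2)).carrier →ₗ[R] (E'.X (n + 2)).carrier,
      IsGrHom (E.X (n + 2)).gr (E'.X (n + 2)).gr χ ∧
        ∀ x, χ (E.d (n + 1) x) = E'.d (n + 1) (s.ψ x) := by
  refine exists_extension (E.X (n + 1)).gr (E.X (n + 2)) (E'.X (n + 2)) (E'.starInj (n + 2))
    (E.d (n + 1)) (E.d_grHom (n + 1)) (E'.d (n + 1) ∘ₗ s.ψ) ?_ ?_
  · intro k x hx
    exact E'.d_grHom (n + 1) k _ (s.ψ_gr k x hx)
  · rw [E.exact_succ]
    rintro _ ⟨x, rfl⟩
    rw [LinearMap.mem_ker, LinearMap.comp_apply, s.comm, d_comp_d]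

noncomputable def CStage.next {n : ℕ} (s : CStage E E' n) : CStage E E' (n + 1) where
  φ := s.ψ
  ψ := Classical.choose (cstage_next_exists s)
  φ_gr := s.ψ_gr
  ψ_gr := (Classical.choose_spec (cstage_next_exists s)).1
  comm := (Classical.choose_spec (cstage_next_exists s)).2

theorem cstage_zero_exists (f : M →ₗ[R] N) (hf : IsGrHom ℳ 𝒩 f) :
    ∃ s : CStage E E' 0, ∀ m, s.φ (E.ε m) = E'.ε (f m) := by
  obtain ⟨φ0, hφ0, h0⟩ := exists_extension ℳ (E.X 0) (E'.X 0) (E'.starInj 0)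
    E.ε E.ε_grHom (E'.ε ∘ₗ f) (fun k x hx => E'.ε_grHom k _ (hf k x hx)) (by
      rw [LinearMap.ker_eq_bot.mpr E.ε_injective]
      exact bot_le)
  obtain ⟨φ1, hφ1, h1⟩ := exists_extension (E.X 0).gr (E.X 1) (E'.X 1) (E'.starInj 1)
    (E.d 0) (E.d_grHom 0) (E'.d 0 ∘ₗ φ0) (fun k x hx => E'.d_grHom 0 k _ (hφ0 k x hx)) (by
      rw [E.exact_zero]
      rintro _ ⟨m, rfl⟩
      rw [LinearMap.mem_ker, LinearMap.comp_apply, h0 m, LinearMap.comp_apply, d_comp_ε])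
  exact ⟨⟨φ0, φ1, hφ0, hφ1, h1⟩, h0⟩

noncomputable def cseq (s0 : CStage E E' 0) : ∀ n, CStage E E' n
  | 0 => s0
  | n + 1 => (cseq s0 n).next

theorem exists_cmap (f : M →ₗ[R] N) (hf : IsGrHom ℳ 𝒩 f) : Nonempty (CMap E E' f) := by
  obtain ⟨s0, h0⟩ := cstage_zero_exists (E := E) (E' := E') f hf
  exact ⟨{ φ := fun n => (cseq s0 n).φ
           gr := fun n => (cseq s0 n).φ_gr
           aug := h0
           comm := fun n x => (cseq s0 n).comm x }⟩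

/-- Null-homotopy data for a family of maps. -/
structure HStage (χ : ∀ n, (E.X n).carrier →ₗ[R] (E'.X n).carrier) (n : ℕ) where
  h : (E.X (n + 1)).carrier →ₗ[R] (E'.X n).carrier
  h_gr : IsGrHom (E.X (n + 1)).gr (E'.X n).gr h
  inv : ∀ x, χ (n + 1) (E.d n x) = E'.d n (h (E.d n x))

variable {χ : ∀ n, (E.X n).carrier →ₗ[R] (E'.X n).carrier}
  (hχ_gr : ∀ n, IsGrHom (E.X n).gr (E'.X n).gr (χ n))
  (hχ_comm : ∀ n x, χ (n + 1) (E.d n x) = E'.d n (χ n x))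

include hχ_gr hχ_comm in
theorem hstage_next_exists {n : ℕ} (s : HStage χ n) :
    ∃ h' : (E.X (n + 2)).carrier →ₗ[R] (E'.X (n + 1)).carrier,
      IsGrHom (E.X (n + 2)).gr (E'.X (n + 1)).gr h' ∧
        ∀ x, h' (E.d (n + 1) x) = χ (n + 1) x - E'.d n (s.h x) := by
  refine exists_extension (E.X (n + 1)).gr (E.X (n + 2)) (E'.X (n + 1)) (E'.starInj (n + 1))
    (E.d (n + 1)) (E.d_grHom (n + 1)) (χ (n + 1) - E'.d n ∘ₗ s.h) ?_ ?_
  · intro k x hx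
    exact sub_mem (hχ_gr (n + 1) k x hx) (E'.d_grHom n k _ (s.h_gr k x hx))
  · rw [E.exact_succ]
    rintro _ ⟨x, rfl⟩
    rw [LinearMap.mem_ker, LinearMap.sub_apply, LinearMap.comp_apply, s.inv, sub_self]

noncomputable def HStage.next {n : ℕ} (s : HStage χ n) : HStage χ (n + 1) where
  h := Classical.choose (hstage_next_exists hχ_gr hχ_comm s)
  h_gr := (Classical.choose_spec (hstage_next_exists hχ_gr hχ_comm s)).1
  inv := by
    intro x
    rw [(Classical.choose_spec (hstage_next_exists hχ_gr hχ_comm s)).2, map_sub, d_comp_d,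
      sub_zero, hχ_comm]

theorem HStage.next_spec {n : ℕ} (s : HStage χ n) (x : (E.X (n + 1)).carrier) :
    (s.next hχ_gr hχ_comm).h (E.d (n + 1) x) = χ (n + 1) x - E'.d n (s.h x) :=
  (Classical.choose_spec (hstage_next_exists hχ_gr hχ_comm s)).2 x

noncomputable def hseq (s0 : HStage χ 0) : ∀ n, HStage χ n
  | 0 => s0
  | n + 1 => (hseq s0 n).next hχ_gr hχ_comm

include hχ_gr hχ_comm in
theorem exists_homotopy (hχ0 : ∀ m, χ 0 (E.ε m) = 0) :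
    ∃ h : ∀ n, (E.X (n + 1)).carrier →ₗ[R] (E'.X n).carrier,
      (∀ x, χ 0 x = h 0 (E.d 0 x)) ∧
        ∀ n x, χ (n + 1) x = E'.d n (h n x) + h (n + 1) (E.d (n + 1) x) := by
  obtain ⟨h0, hh0, h0spec⟩ := exists_extension (E.X 0).gr (E.X 1) (E'.X 0) (E'.starInj 0)
    (E.d 0) (E.d_grHom 0) (χ 0) (hχ_gr 0) (by
      rw [E.exact_zero]
      rintro _ ⟨m, rfl⟩
      exact hχ0 m)
  let s0 : HStage χ 0 := ⟨h0, hh0, fun x => by rw [hχ_comm, h0spec]⟩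
  refine ⟨fun n => (hseq hχ_gr hχ_comm s0 n).h, fun x => (h0spec x).symm, fun n x => ?_⟩
  have := HStage.next_spec hχ_gr hχ_comm (hseq hχ_gr hχ_comm s0 n) x
  change (hseq hχ_gr hχ_comm s0 (n + 1)).h (E.d (n + 1) x) = _ at this
  rw [this]
  abel

end Compare

section Retract

variable {M : Type u} [AddCommGroup M] [Module R M] {ℳ : ι → AddSubgroup M}
  [DirectSum.Decomposition ℳ] [SetLike.GradedSMul 𝒜 ℳ]
variable {N : Type u} [AddCommGroup N] [Module R N] {𝒩 : ι → AddSubgroup N}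
  [DirectSum.Decomposition 𝒩] [SetLike.GradedSMul 𝒜 𝒩]

theorem van_of_retract (E : StarInjRes 𝒜 ℳ) (E' : StarInjRes 𝒜 𝒩) (a : HomogeneousIdeal 𝒜)
    (f : M →ₗ[R] N) (hf : IsGrHom ℳ 𝒩 f) (f' : N →ₗ[R] M) (hf' : IsGrHom 𝒩 ℳ f')
    (hff' : ∀ y, f (f' y) = y) (n : ℕ) (g : ι) (hE : Van E a n g) : Van E' a n g := by
  obtain ⟨Φ⟩ := exists_cmap (E := E) (E' := E') f hf
  obtain ⟨Ψ⟩ := exists_cmap (E := E') (E' := E) f' hf'
  let χ : ∀ n, (E'.X n).carrier →ₗ[R] (E'.X n).carrier := fun n => Φ.φ n ∘ₗ Ψ.φ n - LinearMap.id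
  have hχ_gr : ∀ n, IsGrHom (E'.X n).gr (E'.X n).gr (χ n) := by
    intro n k x hx
    exact sub_mem (Φ.gr n k _ (Ψ.gr n k x hx)) hx
  have hχ_comm : ∀ n x, χ (n + 1) (E'.d n x) = E'.d n (χ n x) := by
    intro n x
    simp only [χ, LinearMap.sub_apply, LinearMap.comp_apply, LinearMap.id_apply, map_sub]
    rw [Ψ.comm, Φ.comm]
  have hχ0 : ∀ m, χ 0 (E'.ε m) = 0 := by
    intro m
    simp only [χ, LinearMap.sub_apply, LinearMap.comp_apply, LinearMap.id_apply]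
    rw [Ψ.aug, Φ.aug, hff', sub_self]
  obtain ⟨h, h0, hS⟩ := exists_homotopy hχ_gr hχ_comm hχ0
  intro z hz hdz hzg
  have hψz : Ψ.φ n z ∈ gam a.toIdeal (E.X n).carrier := gam_map _ _ hz
  cases n with
  | zero =>
    have hd : E.d 0 (Ψ.φ 0 z) = 0 := by
      rw [← Ψ.comm, hdz, map_zero]
    have h1 := hE (Ψ.φ 0 z) hψz hd (Ψ.gr 0 g z hzg)
    rw [mem_cobdy_zero] at h1 ⊢
    have h2 := h0 z
    rw [hdz, map_zero] at h2
    simp only [χ, LinearMap.sub_apply, LinearMap.comp_apply, LinearMap.id_apply] at h2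
    rw [h1, map_zero, zero_sub, neg_eq_zero] at h2
    exact h2
  | succ n =>
    have hd : E.d (n + 1) (Ψ.φ (n + 1) z) = 0 := by
      rw [← Ψ.comm, hdz, map_zero]
    have h1 := hE (Ψ.φ (n + 1) z) hψz hd (Ψ.gr (n + 1) g z hzg)
    rw [mem_cobdy_succ] at h1 ⊢
    obtain ⟨y, hy, hyz⟩ := h1
    have h2 := hS n z
    rw [hdz, map_zero, add_zero] at h2
    simp only [χ, LinearMap.sub_apply, LinearMap.comp_apply, LinearMap.id_apply] at h2
    refine ⟨Φ.φ n y - h n z, ?_, ?_⟩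
    · exact Submodule.sub_mem _ (gam_map _ _ hy) (gam_map _ _ hz)
    · rw [map_sub, ← Φ.comm, hyz, ← h2]
      abel

theorem van_indep (E E' : StarInjRes 𝒜 ℳ) (a : HomogeneousIdeal 𝒜) (n : ℕ) (g : ι)
    (hE : Van E a n g) : Van E' a n g :=
  van_of_retract E E' a LinearMap.id (fun _ _ h => h) LinearMap.id (fun _ _ h => h)
    (fun _ => rfl) n g hE

end Retract

end Groth.Agent.Lib.Helper8.GrLCBase
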