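import Groth.Agent.Lib.Helper8.GrLCFun

/-!
# A bijective homogeneous element of the ideal kills all local cohomology
-/

set_option autoImplicit false
set_option linter.unusedSectionVars false
universe u

open DirectSum GrLC
open Groth.Agent.Lib.Helper30
open Groth.Agent.Lib.Helper8.GrLCBase Groth.Agent.Lib.Helper8.GrLCProd
open Groth.Agent.Lib.Helper8.GrLCLES Groth.Agent.Lib.Helper8.GrLCFun

namespace Groth.Agent.Lib.Helper8.GrLCBij

variable {ι : Type} [AddCommGroup ι] [DecidableEq ι]
variable {R : Type u} [CommRing R] {𝒜 : ι → AddSubgroup R} [GradedRing 𝒜]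
variable {M : Type u} [AddCommGroup M] [Module R M] {ℳ : ι → AddSubgroup M}
  [DirectSum.Decomposition ℳ] [SetLike.GradedSMul 𝒜 ℳ]

/-- If `t • x` is homogeneous of degree `g` and `t` is homogeneous of degree `i` and injective on
`M` then `x` is homogeneous of degree `g - i`. -/
theorem mem_of_smul_mem {i : ι} {t : R} (ht : t ∈ 𝒜 i)
    (hinj : Function.Injective (fun x : M => t • x)) {g : ι} {x : M} (hx : t • x ∈ ℳ g) :
    x ∈ ℳ (g - i) := by
  classical
  have hzero : ∀ j : ι, j ≠ g - i → ((decompose ℳ x) j : M) = 0 := by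
    intro j hj
    apply hinj
    change t • ((decompose ℳ x) j : M) = t • (0 : M)
    rw [smul_zero, ← decompose_smul_of_mem 𝒜 ℳ ht x j]
    apply decompose_of_mem_ne ℳ hx
    intro h
    apply hj
    rw [h]
    abel
  have h3 : x = ((decompose ℳ x) (g - i) : M) := by
    conv_lhs => rw [← DirectSum.sum_support_decompose ℳ x]
    rw [Finset.sum_eq_single (g - i)]
    · intro j _ hj
      exact hzero j hj
    · intro h'
      simpa using h'
  rw [h3]
  exact SetLike.coe_mem _

theorem vanM_of_bijective (a : HomogeneousIdeal 𝒜) {i : ι} {t : R} (ht : t ∈ 𝒜 i)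
    (hta : t ∈ a.toIdeal) (hbij : Function.Bijective (fun x : M => t • x)) (n : ℕ) (g : ι) :
    VanM a ℳ n g := by
  classical
  set E := starInjRes 𝒜 ℳ with hE
  rw [vanM_iff a E]
  set f : M →ₗ[R] M := t • (LinearMap.id : M →ₗ[R] M) with hf
  have hfb : Function.Bijective f := hbij
  set fe : M ≃ₗ[R] M := LinearEquiv.ofBijective f hfb with hfe
  have hfdeg : IsGrHomDeg ℳ ℳ f i := by
    intro g' m hm
    have := SetLike.GradedSMul.smul_mem (A := 𝒜) (B := ℳ) ht hm
    rw [vadd_eq_add, add_comm] at this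
    exact this
  have hinvdeg : IsGrHomDeg ℳ ℳ fe.symm.toLinearMap (-i) := by
    intro g' m hm
    have h1 : t • (fe.symm m) = m := fe.apply_symm_apply m
    have h2 : t • (fe.symm m) ∈ ℳ g' := by rw [h1]; exact hm
    have := mem_of_smul_mem (𝒜 := 𝒜) (ℳ := ℳ) ht hbij.1 h2
    rw [sub_eq_add_neg] at this
    exact this
  have hcomp : fe.symm.toLinearMap ∘ₗ f = LinearMap.id := by
    ext m
    exact fe.symm_apply_apply m
  have h1 := Hf_comp (E := E) (E' := E) (E'' := E) a n hfdeg hinvdeg
  rw [hcomp, add_neg_cancel, Hf_id, hf, Hf_smul_id a n ht] at h1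
  -- `t` acts injectively on cohomology
  have hinjH : ∀ y : E.H a n, t • y = 0 → y = 0 := by
    intro y hy
    have := congrArg (fun φ : E.H a n →ₗ[R] E.H a n => φ y) h1
    simp only [LinearMap.id_coe, id_eq, LinearMap.comp_apply, LinearMap.smul_apply] at this
    rw [this, hy, map_zero]
  have hpow : ∀ (k : ℕ) (y : E.H a n), t ^ k • y = 0 → y = 0 := by
    intro k
    induction k with
    | zero => intro y hy; simpa using hy
    | succ k ih =>
      intro y hy
      apply ih
      apply hinjH
      rw [← mul_smul, ← pow_succ']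
      exact hy
  intro z hz hdz hzg
  have hzc : z ∈ E.cocyc a n := ⟨hz, hdz⟩
  obtain ⟨k, hk⟩ := hz
  have h0 : E.toH a n ⟨z, hzc⟩ = 0 := by
    apply hpow k
    rw [← map_smul]
    have : t ^ k • (⟨z, hzc⟩ : ↥(E.cocyc a n)) = 0 := by
      apply Subtype.ext
      exact hk _ (Ideal.pow_mem_pow hta k)
    rw [this, map_zero]
  have := (Submodule.Quotient.mk_eq_zero _).mp h0
  exact this

end Groth.Agent.Lib.Helper8.GrLCBij
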