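import Groth.Agent.Lib.Helper92.LocCohSeq
import Groth.Agent.Lib.Helper92.LocCohH0
import Groth.Prelude.Def_GrLC
import Groth.Prelude.Def_Wider

/-!
# Comparison: cohomology of `Γ_I` of an acyclic resolution vs Mathlib's local cohomology
-/

set_option autoImplicit false
universe u

open CategoryTheory Groth.Agent.Lib.Helper92.LC

namespace Groth.Agent.Lib.Helper8.GrLCCompare

variable {R : Type u} [CommRing R] (I : Ideal R)

section Abstract

variable (X : ℕ → Type u) [∀ n, AddCommGroup (X n)] [∀ n, Module R (X n)]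
  (d : ∀ n, X n →ₗ[R] X (n + 1))
  (hex : ∀ n, LinearMap.ker (d (n + 1)) = LinearMap.range (d n))

/-- the target model of `H^{n+1}`. -/
abbrev Hq (n : ℕ) : Type u :=
  ↥(GrLC.gam I (X (n + 1)) ⊓ LinearMap.ker (d (n + 1))) ⧸
    ((GrLC.gam I (X n)).map (d n)).comap (GrLC.gam I (X (n + 1)) ⊓ LinearMap.ker (d (n + 1))).subtype

include hex in
theorem d_comp (n : ℕ) (x : X n) : d (n + 1) (d n x) = 0 := by
  have : d n x ∈ LinearMap.ker (d (n + 1)) := by
    rw [hex]; exact ⟨x, rfl⟩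
  exact this

/-- corestriction of `d n` to the kernel of `d (n+1)`. -/
def dZ (n : ℕ) : X n →ₗ[R] ↥(LinearMap.ker (d (n + 1))) :=
  (d n).codRestrict _ (fun x => d_comp X d hex n x)

theorem dZ_coe (n : ℕ) (x : X n) : ((dZ X d hex n x : ↥(LinearMap.ker (d (n + 1)))) : X (n + 1)) = d n x := rfl

theorem dZ_surjective (n : ℕ) : Function.Surjective (dZ X d hex n) := by
  rintro ⟨y, hy⟩
  rw [hex] at hy
  obtain ⟨x, rfl⟩ := hy
  exact ⟨x, rfl⟩

/-- the short exact sequence `0 → Z_n → X_n → Z_{n+1} → 0`. -/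
noncomputable abbrev ses (n : ℕ) : ShortComplex (ModuleCat.{u} R) :=
  ModuleCat.shortComplexOfCompEqZero (LinearMap.ker (d n)).subtype (dZ X d hex n) (by
    ext ⟨x, hx⟩
    exact hx)

theorem ses_shortExact (n : ℕ) : (ses X d hex n).ShortExact := by
  refine ModuleCat.shortComplex_shortExact _ ?_ (Submodule.injective_subtype _) (dZ_surjective X d hex n)
  intro x
  constructor
  · intro hx
    have hx' : d n x = 0 := congrArg Subtype.val hx
    exact ⟨⟨x, hx'⟩, rfl⟩
  · rintro ⟨⟨y, hy⟩, rfl⟩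
    apply Subtype.ext
    exact hy

variable (hacyc : ∀ n j, Subsingleton ((localCohomology I (j + 1)).obj (ModuleCat.of R (X n))))

/-- the model of `H^j` of the `n`-th cocycle module. -/
abbrev HZ (j n : ℕ) : Type u := (localCohomology I j).obj (ModuleCat.of R ↥(LinearMap.ker (d n)))

include hex hacyc in
/-- dimension shifting. -/
theorem shift (n j : ℕ) : Nonempty (HZ I X d (j + 1) (n + 1) ≃ₗ[R] HZ I X d (j + 2) n) := by
  have hS := ses_shortExact X d hex n
  refine ⟨LinearEquiv.ofBijective (δ I (j + 1) hS) ⟨?_, ?_⟩⟩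
  · rw [← LinearMap.ker_eq_bot, LinearMap.ker_eq_bot']
    intro z hz
    obtain ⟨y, rfl⟩ := (exact_Hmap_g_δ I (j + 1) (hS := hS) z).1 hz
    have : Subsingleton ((localCohomology I (j + 1)).obj (ses X d hex n).X₂) := hacyc n j
    rw [Subsingleton.elim y 0, map_zero]
  · intro x
    have : Subsingleton ((localCohomology I (j + 1 + 1)).obj (ses X d hex n).X₂) := hacyc n (j + 1)
    exact (exact_δ_Hmap_f I (j + 1) (hS := hS) x).1 (Subsingleton.elim _ _)

/-- torsion cocycles to `Γ_I` of the cocycle module. -/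
def theta (n : ℕ) : ↥(GrLC.gam I (X n) ⊓ LinearMap.ker (d n)) →ₗ[R]
    ↥(DRing.torsionSub I ↥(LinearMap.ker (d n))) where
  toFun z := ⟨⟨z.1, z.2.2⟩, by
    obtain ⟨k, hk⟩ := z.2.1
    exact ⟨k, fun r hr => Subtype.ext (hk r hr)⟩⟩
  map_add' _ _ := rfl
  map_smul' _ _ := rfl

theorem theta_surjective (n : ℕ) : Function.Surjective (theta I X d n) := by
  rintro ⟨⟨c, hc⟩, k, hk⟩
  refine ⟨⟨c, ⟨k, fun r hr => ?_⟩, hc⟩, rfl⟩
  exact congrArg Subtype.val (hk r hr)

/-- the map from torsion cocycles of degree `n+1` onto `H^1` of `Z_n`. -/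
noncomputable def phi (n : ℕ) : ↥(GrLC.gam I (X (n + 1)) ⊓ LinearMap.ker (d (n + 1))) →ₗ[R]
    HZ I X d 1 n :=
  (δ I 0 (ses_shortExact X d hex n)) ∘ₗ
    ((γEquiv I (ModuleCat.of R ↥(LinearMap.ker (d (n + 1))))).symm.toLinearMap ∘ₗ theta I X d (n + 1))

include hacyc in
theorem phi_surjective (n : ℕ) : Function.Surjective (phi I X d hex n) := by
  have hS := ses_shortExact X d hex n
  have hδ : Function.Surjective (δ I 0 hS) := by
    intro x
    have : Subsingleton ((localCohomology I (0 + 1)).obj (ses X d hex n).X₂) := hacyc n 0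
    exact (exact_δ_Hmap_f I 0 (hS := hS) x).1 (Subsingleton.elim _ _)
  intro x
  obtain ⟨z, rfl⟩ := hδ x
  obtain ⟨w, hw⟩ := theta_surjective I X d (n + 1)
    ((γEquiv I (ModuleCat.of R ↥(LinearMap.ker (d (n + 1))))) z)
  refine ⟨w, ?_⟩
  change δ I 0 hS ((γEquiv I _).symm (theta I X d (n + 1) w)) = _
  rw [hw, LinearEquiv.symm_apply_apply]

theorem ker_phi (n : ℕ) : LinearMap.ker (phi I X d hex n) =
    ((GrLC.gam I (X n)).map (d n)).comap
      (GrLC.gam I (X (n + 1)) ⊓ LinearMap.ker (d (n + 1))).subtype := by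
  have hS := ses_shortExact X d hex n
  ext z
  rw [LinearMap.mem_ker, Submodule.mem_comap, Submodule.mem_map]
  change δ I 0 hS ((γEquiv I _).symm (theta I X d (n + 1) z)) = 0 ↔ _
  rw [exact_Hmap_g_δ I 0 (hS := hS)]
  constructor
  · rintro ⟨y, hy⟩
    have h1 := congrArg (γ I) hy
    rw [γ_naturality] at h1
    have h2 : γ I ((γEquiv I (ModuleCat.of R ↥(LinearMap.ker (d (n + 1))))).symm
        (theta I X d (n + 1) z)) = (theta I X d (n + 1) z).1 := by
      have := LinearEquiv.apply_symm_apply (γEquiv I (ModuleCat.of R ↥(LinearMap.ker (d (n + 1)))))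
        (theta I X d (n + 1) z)
      exact congrArg Subtype.val this
    rw [h2] at h1
    refine ⟨γ I y, γ_mem I y, ?_⟩
    exact congrArg Subtype.val h1
  · rintro ⟨b, hb, hbz⟩
    obtain ⟨y, hy⟩ := exists_γ_eq I (M := ModuleCat.of R (X n)) b hb
    refine ⟨y, ?_⟩
    apply γ_injective I
    rw [γ_naturality, hy]
    have h2 : γ I ((γEquiv I (ModuleCat.of R ↥(LinearMap.ker (d (n + 1))))).symm
        (theta I X d (n + 1) z)) = (theta I X d (n + 1) z).1 := by
      have := LinearEquiv.apply_symm_apply (γEquiv I (ModuleCat.of R ↥(LinearMap.ker (d (n + 1)))))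
        (theta I X d (n + 1) z)
      exact congrArg Subtype.val this
    rw [h2]
    apply Subtype.ext
    exact hbz

include hex hacyc in
/-- base of the dimension shifting. -/
theorem base (n : ℕ) : Nonempty (HZ I X d 1 n ≃ₗ[R] Hq I X d n) := by
  have e1 := LinearMap.quotKerEquivOfSurjective (phi I X d hex n) (phi_surjective I X d hex hacyc n)
  have e2 := Submodule.quotEquivOfEq _ _ (ker_phi I X d hex n)
  exact ⟨e1.symm.trans e2⟩

theorem hq_cast (k k' : ℕ) (h : k = k') : Nonempty (Hq I X d k ≃ₗ[R] Hq I X d k') := by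
  subst h
  exact ⟨LinearEquiv.refl _ _⟩

include hex hacyc in
theorem main_aux (j : ℕ) : ∀ n, Nonempty (HZ I X d (j + 1) n ≃ₗ[R] Hq I X d (n + j)) := by
  induction j with
  | zero => intro n; exact base I X d hex hacyc n
  | succ j ih =>
    intro n
    obtain ⟨e1⟩ := shift I X d hex hacyc n j
    obtain ⟨e2⟩ := ih (n + 1)
    obtain ⟨e3⟩ := hq_cast I X d (n + 1 + j) (n + (j + 1)) (by omega)
    exact ⟨e1.symm.trans (e2.trans e3)⟩

variable {M : Type u} [AddCommGroup M] [Module R M] (ε : M →ₗ[R] X 0)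
  (hε : Function.Injective ε) (h0 : LinearMap.ker (d 0) = LinearMap.range ε)

/-- torsion elements of `M` to torsion cocycles of degree 0. -/
def psi : ↥(DRing.torsionSub I M) →ₗ[R] ↥(GrLC.gam I (X 0) ⊓ LinearMap.ker (d 0)) where
  toFun m := ⟨ε m.1, by
    obtain ⟨k, hk⟩ := m.2
    exact ⟨k, fun r hr => by rw [← map_smul, hk r hr, map_zero]⟩, by
    rw [h0]; exact ⟨m.1, rfl⟩⟩
  map_add' x y := Subtype.ext (map_add ε x.1 y.1)
  map_smul' r x := Subtype.ext (map_smul ε r x.1)

include hε in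
theorem psi_bijective : Function.Bijective (psi I X d ε h0) := by
  constructor
  · intro x y hxy
    apply Subtype.ext
    apply hε
    exact congrArg Subtype.val hxy
  · rintro ⟨z, ⟨k, hk⟩, hz⟩
    rw [h0] at hz
    obtain ⟨m, rfl⟩ := hz
    refine ⟨⟨m, k, fun r hr => ?_⟩, rfl⟩
    apply hε
    rw [map_smul, hk r hr, map_zero]

include hε h0 in
theorem zero_case : Nonempty ((localCohomology I 0).obj (ModuleCat.of R M) ≃ₗ[R]
    (↥(GrLC.gam I (X 0) ⊓ LinearMap.ker (d 0)) ⧸
      (⊥ : Submodule R (X 0)).comap (GrLC.gam I (X 0) ⊓ LinearMap.ker (d 0)).subtype)) := by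
  have e0 := γEquiv I (ModuleCat.of R M)
  have e1 := LinearEquiv.ofBijective (psi I X d ε h0) (psi_bijective I X d ε hε h0)
  have hb : (⊥ : Submodule R (X 0)).comap (GrLC.gam I (X 0) ⊓ LinearMap.ker (d 0)).subtype = ⊥ := by
    rw [Submodule.comap_bot, Submodule.ker_subtype]
  have e2 := Submodule.quotEquivOfEqBot _ hb
  exact ⟨e0.trans (e1.trans e2.symm)⟩

include hε h0 hex hacyc in
theorem succ_case (j : ℕ) : Nonempty ((localCohomology I (j + 1)).obj (ModuleCat.of R M) ≃ₗ[R]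
    Hq I X d j) := by
  have eM : M ≃ₗ[R] ↥(LinearMap.ker (d 0)) :=
    (LinearEquiv.ofInjective ε hε).trans (LinearEquiv.ofEq _ _ h0.symm)
  have e0 : (localCohomology I (j + 1)).obj (ModuleCat.of R M) ≃ₗ[R] HZ I X d (j + 1) 0 :=
    ((localCohomology I (j + 1)).mapIso eM.toModuleIso).toLinearEquiv
  obtain ⟨e1⟩ := main_aux I X d hex hacyc j 0
  obtain ⟨e2⟩ := hq_cast I X d (0 + j) j (by omega)
  exact ⟨e0.trans (e1.trans e2)⟩

end Abstract

end Groth.Agent.Lib.Helper8.GrLCCompare
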