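import Mathlib

/-!
# Abstract lemmas for Euler characteristics and finite differences

* additivity of the length along a long exact sequence, in the form of an alternating sum;
* the backward difference operator on functions `ℤ → ℚ`.
-/

set_option autoImplicit false
universe u

namespace Groth.Agent.Lib.Helper8.GrLCEulerAbs

section Length

variable {A : Type*} [Ring A]

theorem length_ker_add_range {M N : Type*} [AddCommGroup M] [AddCommGroup N] [Module A M]
    [Module A N] (f : M →ₗ[A] N) :
    Module.length A M = Module.length A ↥(LinearMap.ker f) + Module.length A ↥(LinearMap.range f) :=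
  Module.length_eq_add_of_exact (LinearMap.ker f).subtype f.rangeRestrict
    (Submodule.subtype_injective _) f.surjective_rangeRestrict (by
      intro m
      constructor
      · intro h
        have h' : f m = 0 := congrArg Subtype.val h
        exact ⟨⟨m, h'⟩, rfl⟩
      · rintro ⟨k, rfl⟩
        apply Subtype.ext
        exact k.2)

theorem toNat_length_eq {M N : Type*} [AddCommGroup M] [AddCommGroup N] [Module A M]
    [Module A N] (f : M →ₗ[A] N) (hM : Module.length A M ≠ ⊤) :
    (Module.length A M).toNat = (Module.length A ↥(LinearMap.ker f)).toNat +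
      (Module.length A ↥(LinearMap.range f)).toNat := by
  have h := length_ker_add_range f
  have h1 : Module.length A ↥(LinearMap.ker f) ≠ ⊤ := by
    intro h1
    rw [h1, top_add] at h
    exact hM h
  have h2 : Module.length A ↥(LinearMap.range f) ≠ ⊤ := by
    intro h2
    rw [h2, add_top] at h
    exact hM h
  rw [h, ENat.toNat_add h1 h2]

variable {HA HB HC : ℕ → Type*} [∀ n, AddCommGroup (HA n)] [∀ n, AddCommGroup (HB n)]
  [∀ n, AddCommGroup (HC n)] [∀ n, Module A (HA n)] [∀ n, Module A (HB n)] [∀ n, Module A (HC n)]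

/-- Additivity of the Euler characteristic along a long exact sequence. -/
theorem euler_les (α : ∀ n, HA n →ₗ[A] HB n) (β : ∀ n, HB n →ₗ[A] HC n)
    (δ : ∀ n, HC n →ₗ[A] HA (n + 1))
    (h0 : Function.Injective (α 0))
    (h1 : ∀ n, LinearMap.range (α n) = LinearMap.ker (β n))
    (h2 : ∀ n, LinearMap.range (β n) = LinearMap.ker (δ n))
    (h3 : ∀ n, LinearMap.range (δ n) = LinearMap.ker (α (n + 1)))
    (fA : ∀ n, Module.length A (HA n) ≠ ⊤) (fB : ∀ n, Module.length A (HB n) ≠ ⊤)
    (fC : ∀ n, Module.length A (HC n) ≠ ⊤) (d : ℕ) (hd : Subsingleton (HA (d + 1))) :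
    ∑ n ∈ Finset.range (d + 1), (-1 : ℚ) ^ n * ((Module.length A (HB n)).toNat : ℚ) =
      ∑ n ∈ Finset.range (d + 1), (-1 : ℚ) ^ n * ((Module.length A (HA n)).toNat : ℚ) +
      ∑ n ∈ Finset.range (d + 1), (-1 : ℚ) ^ n * ((Module.length A (HC n)).toNat : ℚ) := by
  set rα : ℕ → ℕ := fun n => (Module.length A ↥(LinearMap.range (α n))).toNat with hrα
  set rβ : ℕ → ℕ := fun n => (Module.length A ↥(LinearMap.range (β n))).toNat with hrβ
  set rδ : ℕ → ℕ := fun n => (Module.length A ↥(LinearMap.range (δ n))).toNat with hrδ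
  have ea0 : (Module.length A (HA 0)).toNat = rα 0 := by
    have h := toNat_length_eq (α 0) (fA 0)
    have hk : LinearMap.ker (α 0) = ⊥ := LinearMap.ker_eq_bot.mpr h0
    rw [hk] at h
    have : Module.length A ↥(⊥ : Submodule A (HA 0)) = 0 := Module.length_eq_zero
    rw [this] at h
    simpa using h
  have ea : ∀ n, (Module.length A (HA (n + 1))).toNat = rδ n + rα (n + 1) := by
    intro n
    have h := toNat_length_eq (α (n + 1)) (fA (n + 1))
    rw [← h3 n] at h
    exact h
  have eb : ∀ n, (Module.length A (HB n)).toNat = rα n + rβ n := by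
    intro n
    have h := toNat_length_eq (β n) (fB n)
    rw [← h1 n] at h
    exact h
  have ec : ∀ n, (Module.length A (HC n)).toNat = rβ n + rδ n := by
    intro n
    have h := toNat_length_eq (δ n) (fC n)
    rw [← h2 n] at h
    exact h
  have hδd : rδ d = 0 := by
    have hle : Module.length A ↥(LinearMap.range (δ d)) ≤ Module.length A (HA (d + 1)) :=
      Module.length_le_of_injective (LinearMap.range (δ d)).subtype (Submodule.subtype_injective _)
    have hz : Module.length A (HA (d + 1)) = 0 := Module.length_eq_zero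
    rw [hz] at hle
    have : Module.length A ↥(LinearMap.range (δ d)) = 0 := le_antisymm hle zero_le
    simp only [hrδ]
    rw [this]
    rfl
  have key : ∀ k : ℕ,
      ∑ n ∈ Finset.range (k + 1), (-1 : ℚ) ^ n * ((Module.length A (HA n)).toNat : ℚ) +
      ∑ n ∈ Finset.range (k + 1), (-1 : ℚ) ^ n * ((Module.length A (HC n)).toNat : ℚ) -
      ∑ n ∈ Finset.range (k + 1), (-1 : ℚ) ^ n * ((Module.length A (HB n)).toNat : ℚ) =
      (-1 : ℚ) ^ k * (rδ k : ℚ) := by
    intro k
    induction k with
    | zero =>
      simp only [zero_add, Finset.range_one, Finset.sum_singleton, pow_zero, one_mul]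
      rw [ea0, eb 0, ec 0]
      push_cast
      ring
    | succ k ih =>
      rw [Finset.sum_range_succ _ (k + 1), Finset.sum_range_succ _ (k + 1),
        Finset.sum_range_succ _ (k + 1)]
      rw [ea k, eb (k + 1), ec (k + 1)]
      push_cast
      have e : (-1 : ℚ) ^ (k + 1) = - (-1 : ℚ) ^ k := by rw [pow_succ]; ring
      rw [e] at *
      linarith
  have hk := key d
  rw [hδd] at hk
  simp only [Nat.cast_zero, mul_zero] at hk
  linarith

end Length

section Diff

/-- The backward difference operator. -/
def Dl (f : ℤ → ℚ) : ℤ → ℚ := fun n => f n - f (n - 1)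

theorem Dl_apply (f : ℤ → ℚ) (n : ℤ) : Dl f n = f n - f (n - 1) := rfl

theorem Dl_add (f g : ℤ → ℚ) : Dl (f + g) = Dl f + Dl g := by
  funext n
  simp only [Dl_apply, Pi.add_apply]
  ring

theorem Dl_sub (f g : ℤ → ℚ) : Dl (f - g) = Dl f - Dl g := by
  funext n
  simp only [Dl_apply, Pi.sub_apply]
  ring

theorem Dl_zero : Dl 0 = 0 := by
  funext n
  simp [Dl_apply]

theorem Dl_iter_add (r : ℕ) (f g : ℤ → ℚ) : Dl^[r] (f + g) = Dl^[r] f + Dl^[r] g := by
  induction r generalizing f g with
  | zero => rfl
  | succ r ih => rw [Function.iterate_succ_apply, Function.iterate_succ_apply,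
      Function.iterate_succ_apply, Dl_add, ih]

theorem Dl_iter_sub (r : ℕ) (f g : ℤ → ℚ) : Dl^[r] (f - g) = Dl^[r] f - Dl^[r] g := by
  induction r generalizing f g with
  | zero => rfl
  | succ r ih => rw [Function.iterate_succ_apply, Function.iterate_succ_apply,
      Function.iterate_succ_apply, Dl_sub, ih]

theorem Dl_iter_zero (r : ℕ) : Dl^[r] 0 = 0 := by
  induction r with
  | zero => rfl
  | succ r ih => rw [Function.iterate_succ_apply, Dl_zero, ih]

/-- Shift of a function. -/
def sh (k : ℤ) (f : ℤ → ℚ) : ℤ → ℚ := fun n => f (n + k)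

theorem Dl_sh (k : ℤ) (f : ℤ → ℚ) : Dl (sh k f) = sh k (Dl f) := by
  funext n
  simp only [Dl_apply, sh]
  congr 2
  ring

theorem Dl_iter_sh (r : ℕ) (k : ℤ) (f : ℤ → ℚ) : Dl^[r] (sh k f) = sh k (Dl^[r] f) := by
  induction r generalizing f with
  | zero => rfl
  | succ r ih => rw [Function.iterate_succ_apply, Function.iterate_succ_apply, Dl_sh, ih]

theorem Dl_eq_of_rec (f g : ℤ → ℚ) (h : ∀ n, f n = f (n - 1) + g n) : Dl f = g := by
  funext n
  rw [Dl_apply, h n]
  ring

/-- If `f` vanishes from `N` on, then `Δ^r f` vanishes from `N + r` on. -/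
theorem Dl_iter_eventually (r : ℕ) (f : ℤ → ℚ) (N : ℤ) (h : ∀ n, N ≤ n → f n = 0) :
    ∀ n, N + r ≤ n → Dl^[r] f n = 0 := by
  induction r generalizing f N with
  | zero =>
    intro n hn
    exact h n (by simpa using hn)
  | succ r ih =>
    intro n hn
    rw [Function.iterate_succ_apply]
    apply ih (Dl f) (N + 1)
    · intro k hk
      rw [Dl_apply, h k (by omega), h (k - 1) (by omega), sub_zero]
    · push_cast at hn
      omega

/-- A function with vanishing `r`-th difference which vanishes from some point on is zero. -/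
theorem eq_zero_of_Dl_iter (r : ℕ) (f : ℤ → ℚ) (N : ℤ) (h : ∀ n, N ≤ n → f n = 0)
    (hD : Dl^[r] f = 0) : f = 0 := by
  induction r generalizing f N with
  | zero => exact hD
  | succ r ih =>
    rw [Function.iterate_succ_apply] at hD
    have hDf : Dl f = 0 := by
      apply ih (Dl f) (N + 1) _ hD
      intro k hk
      rw [Dl_apply, h k (by omega), h (k - 1) (by omega), sub_zero]
    have hstep : ∀ n, f (n - 1) = f n := by
      intro n
      have := congrFun hDf n
      rw [Dl_apply] at this
      simp only [Pi.zero_apply] at this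
      linarith
    have hdown : ∀ k : ℕ, f (N - k) = 0 := by
      intro k
      induction k with
      | zero => simpa using h N le_rfl
      | succ k ihk =>
        have := hstep (N - k)
        rw [ihk] at this
        push_cast
        rw [← this]
        congr 1
        ring
    funext n
    by_cases hn : N ≤ n
    · exact h n hn
    · have : n = N - ((N - n).toNat : ℤ) := by
        rw [Int.toNat_of_nonneg (by omega)]
        ring
      rw [this]
      exact hdown _

/-- The difference of a polynomial function is a polynomial function. -/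
theorem Dl_poly (P : Polynomial ℚ) :
    Dl (fun n : ℤ => P.eval (n : ℚ)) =
      fun n : ℤ => (P - P.comp (Polynomial.X - Polynomial.C 1)).eval (n : ℚ) := by
  funext n
  rw [Dl_apply]
  simp only [Polynomial.eval_sub, Polynomial.eval_comp, Polynomial.eval_X, Polynomial.eval_C]
  push_cast
  rfl

theorem Dl_iter_poly (r : ℕ) (P : Polynomial ℚ) :
    ∃ Q : Polynomial ℚ, Dl^[r] (fun n : ℤ => P.eval (n : ℚ)) = fun n : ℤ => Q.eval (n : ℚ) := by
  induction r generalizing P with
  | zero => exact ⟨P, rfl⟩
  | succ r ih =>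
    rw [Function.iterate_succ_apply, Dl_poly]
    exact ih _

/-- A polynomial function on `ℤ` vanishing from some point on is zero everywhere. -/
theorem poly_eq_zero_of_eventually (Q : Polynomial ℚ) (N : ℤ)
    (h : ∀ n : ℤ, N ≤ n → Q.eval (n : ℚ) = 0) : Q = 0 := by
  apply Polynomial.eq_zero_of_infinite_isRoot
  have hinj : Function.Injective (fun k : ℕ => ((N + k : ℤ) : ℚ)) := by
    intro a b hab
    have hab' : ((N + a : ℤ) : ℚ) = ((N + b : ℤ) : ℚ) := hab
    have : (N + a : ℤ) = N + b := by exact_mod_cast hab'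
    omega
  refine Set.infinite_of_injective_forall_mem hinj ?_
  intro k
  exact h (N + k) (by omega)

/-- Main finite difference lemma: if `Δ^r F = 0`, and `F` agrees with a polynomial function `P`
from some point on, then `F = P` everywhere. -/
theorem eq_poly_of_Dl_iter (r : ℕ) (F : ℤ → ℚ) (P : Polynomial ℚ) (N : ℤ)
    (h : ∀ n, N ≤ n → F n = P.eval (n : ℚ)) (hD : Dl^[r] F = 0) (n : ℤ) :
    F n = P.eval (n : ℚ) := by
  set G : ℤ → ℚ := F - fun n : ℤ => P.eval (n : ℚ) with hG
  have hG0 : ∀ n, N ≤ n → G n = 0 := by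
    intro k hk
    simp only [hG, Pi.sub_apply]
    rw [h k hk, sub_self]
  obtain ⟨Q, hQ⟩ := Dl_iter_poly r P
  have hDG : Dl^[r] G = fun n : ℤ => (-Q).eval (n : ℚ) := by
    rw [hG, Dl_iter_sub, hD, hQ]
    funext k
    simp
  have hQ0 : -Q = 0 := by
    apply poly_eq_zero_of_eventually (-Q) (N + r)
    intro k hk
    have := Dl_iter_eventually r G N hG0 k hk
    rw [hDG] at this
    exact this
  have hDG0 : Dl^[r] G = 0 := by
    rw [hDG, hQ0]
    funext k
    simp
  have := eq_zero_of_Dl_iter r G N hG0 hDG0
  have h2 := congrFun this n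
  simp only [hG, Pi.sub_apply, Pi.zero_apply] at h2
  linarith

end Diff

end Groth.Agent.Lib.Helper8.GrLCEulerAbs
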