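import Groth.Agent.Lib.Helper8.GrLCEulerMain

/-!
# The `a`-invariant and the Hilbert function
-/

set_option autoImplicit false
set_option linter.unusedSectionVars false
universe u

open DirectSum GrLC
open Groth.Agent.Lib.Helper30
open Groth.Agent.Lib.Helper8.GrLCLES
open Groth.Agent.Lib.Helper8.GrLCEulerInv Groth.Agent.Lib.Helper8.GrLCEulerAbs
open Groth.Agent.Lib.Helper8.GrLCEulerMain

namespace Groth.Agent.Lib.Helper8.GrLCEulerAinv

section Diff

theorem const_of_Dl_zero (f : ℤ → ℚ) (h : Dl f = 0) (a n : ℤ) : f n = f a := by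
  have hstep : ∀ k, f k = f (k - 1) := by
    intro k
    have := congrFun h k
    rw [Dl_apply] at this
    simp only [Pi.zero_apply] at this
    linarith
  rcases le_total a n with hn | hn
  · refine Int.leInduction (m := a) (motive := fun k _ => f k = f a) rfl ?_ n hn
    intro k _ hk
    rw [hstep (k + 1), add_sub_cancel_right]
    exact hk
  · refine Int.leInductionDown (m := a) (motive := fun k _ => f k = f a) rfl ?_ n hn
    intro k _ hk
    rw [← hstep k]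
    exact hk

/-- A function with vanishing `d`-th difference which vanishes at `d` consecutive integers is
zero. -/
theorem eq_zero_of_Dl_iter_of_window (d : ℕ) (f : ℤ → ℚ) (a : ℤ)
    (h : ∀ n, a ≤ n → n < a + d → f n = 0) (hD : Dl^[d] f = 0) : f = 0 := by
  induction d generalizing f a with
  | zero => exact hD
  | succ d ih =>
    rw [Function.iterate_succ_apply] at hD
    have hDf : Dl f = 0 := by
      apply ih (Dl f) (a + 1) _ hD
      intro n hn1 hn2
      rw [Dl_apply, h n (by omega) (by push_cast; omega), h (n - 1) (by omega) (by push_cast; omega),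
        sub_zero]
    funext n
    rw [const_of_Dl_zero f hDf a n]
    exact h a le_rfl (by push_cast; omega)

end Diff

section Ainv

variable {R : Type u} [CommRing R] [IsNoetherianRing R] {𝒜 : ℤ → AddSubgroup R} [GradedRing 𝒜]

omit [IsNoetherianRing R] in
theorem hgr_eq_bot_iff_length {M : Type u} [AddCommGroup M] [Module R M] {ℳ : ℤ → AddSubgroup M}
    [DirectSum.Decomposition ℳ] [SetLike.GradedSMul 𝒜 ℳ] (E : StarInjRes 𝒜 ℳ)
    (a : HomogeneousIdeal 𝒜) (i : ℕ) (n : ℤ) :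
    E.Hgr a i n = ⊥ ↔ Module.length ↥(deg0 𝒜) ↥(E.Hcomp a i n) = 0 := by
  rw [Module.length_eq_zero_iff]
  constructor
  · intro h
    refine ⟨fun x y => ?_⟩
    have hx : (x : E.H a i) ∈ E.Hgr a i n := x.2
    have hy : (y : E.H a i) ∈ E.Hgr a i n := y.2
    rw [h, AddSubgroup.mem_bot] at hx hy
    exact Subtype.ext (hx.trans hy.symm)
  · intro h
    rw [eq_bot_iff]
    intro x hx
    rw [AddSubgroup.mem_bot]
    have hx' : x ∈ E.Hcomp a i n := hx
    have := Subsingleton.elim (⟨x, hx'⟩ : ↥(E.Hcomp a i n)) 0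
    exact congrArg Subtype.val this

omit [IsNoetherianRing R] in
theorem chiE_top {M : Type u} [AddCommGroup M] [Module R M] {ℳ : ℤ → AddSubgroup M}
    [DirectSum.Decomposition ℳ] [SetLike.GradedSMul 𝒜 ℳ] (E : StarInjRes 𝒜 ℳ)
    (a : HomogeneousIdeal 𝒜) (d : ℕ) (g : ℤ) (hv : ∀ i, i < d → VanM a ℳ i g) :
    chiE a d E g = (-1 : ℚ) ^ d * ((Module.length ↥(deg0 𝒜) ↥(E.Hcomp a d g)).toNat : ℚ) := by
  unfold chiE
  rw [Finset.sum_range_succ, Finset.sum_eq_zero, zero_add]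
  intro i hi
  rw [length_eq_zero_of_vanM E a i g (hv i (Finset.mem_range.mp hi))]
  simp

variable (hpos : ∀ n : ℤ, n < 0 → 𝒜 n = ⊥)
  (hstd : Ideal.span (⋃ n ∈ Set.Ioi (0 : ℤ), (𝒜 n : Set R)) = Ideal.span ((𝒜 1 : AddSubgroup R) : Set R))
  [IsArtinianRing (GrLC.deg0 𝒜)] (m : HomogeneousIdeal 𝒜) (hm : GrLC.IsStarLocal 𝒜 m)
  (d : ℕ) (hd : ringKrullDim R = d)

include hpos in
omit [IsNoetherianRing R] [IsArtinianRing (GrLC.deg0 𝒜)] in
theorem hilb_neg (n : ℤ) (hn : n < 0) : hilb 𝒜 𝒜 n = 0 := by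
  unfold hilb
  have hsub : Subsingleton ↥(comp 𝒜 𝒜 n) := by
    refine ⟨fun x y => Subtype.ext ?_⟩
    have hx : (x : R) ∈ 𝒜 n := x.2
    have hy : (y : R) ∈ 𝒜 n := y.2
    rw [hpos n hn, AddSubgroup.mem_bot] at hx hy
    rw [hx, hy]
  rw [Module.length_eq_zero]
  rfl

include hm in
theorem hilb_zero_ne : hilb 𝒜 𝒜 0 ≠ 0 := by
  unfold hilb
  have hnt : Nontrivial R := by
    by_contra hne
    rw [not_nontrivial_iff_subsingleton] at hne
    apply hm.1.1
    apply HomogeneousIdeal.toIdeal_injective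
    exact Subsingleton.elim _ _
  have hnt' : Nontrivial ↥(comp 𝒜 𝒜 0) := by
    have h1m : (1 : R) ∈ comp 𝒜 𝒜 0 := (SetLike.GradedOne.one_mem : (1 : R) ∈ 𝒜 0)
    refine ⟨⟨⟨1, h1m⟩, 0, fun h => ?_⟩⟩
    have := congrArg Subtype.val h
    exact one_ne_zero this
  have h1 : Module.length ↥(deg0 𝒜) ↥(comp 𝒜 𝒜 0) ≠ 0 := by
    rw [Ne, Module.length_eq_zero_iff, not_subsingleton_iff_nontrivial]
    exact hnt'
  have h2 : Module.length ↥(deg0 𝒜) ↥(comp 𝒜 𝒜 0) ≠ ⊤ := fin_comp (𝒜 := 𝒜) 𝒜 0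
  intro h
  rw [Nat.cast_eq_zero, ENat.toNat_eq_zero] at h
  rcases h with h | h
  · exact h1 h
  · exact h2 h

include hpos hstd hm hd in
/-- If `H^i_m(R) = 0` for `i < d = dim R` (e.g. `R` Cohen–Macaulay), then `a(R) ≥ -d`. -/
theorem neg_dim_le_endDeg (hv : ∀ i, i < d → ∀ g, VanM m 𝒜 i g) (I : StarInjRes 𝒜 𝒜) :
    (((-(d : ℤ) : ℤ) : WithTop ℤ) : WithBot (WithTop ℤ)) ≤ GrLC.endDeg (I.Hgr m d) := by
  by_contra hcon
  have hvan : ∀ n : ℤ, -(d : ℤ) ≤ n → I.Hgr m d n = ⊥ := by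
    intro n hn
    by_contra hne
    apply hcon
    have h1 : ((n : WithTop ℤ) : WithBot (WithTop ℤ)) ≤ GrLC.endDeg (I.Hgr m d) :=
      le_iSup₂ (f := fun (k : ℤ) (_ : I.Hgr m d k ≠ ⊥) => ((k : WithTop ℤ) : WithBot (WithTop ℤ)))
        n hne
    refine le_trans ?_ h1
    exact_mod_cast hn
  have hD : Dl^[d] (F 𝒜 𝒜 m d) = 0 := by
    apply Dl_F_eq_zero hpos hstd m hm d hd (GMod.of 𝒜 R 𝒜) (show Module.Finite R R from inferInstance) d
    refine lt_of_le_of_lt (ringKrullDim_quotient_le _) ?_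
    rw [hd]
    exact_mod_cast Nat.lt_succ_self d
  have hF : ∀ n : ℤ, -(d : ℤ) ≤ n → F 𝒜 𝒜 m d n = hilb 𝒜 𝒜 n := by
    intro n hn
    simp only [F]
    rw [chiE_eq_of_res m d (starInjRes 𝒜 𝒜) I n, chiE_top I m d n (fun i hi => hv i hi n),
      (hgr_eq_bot_iff_length I m d n).mp (hvan n hn)]
    simp
  have hF0 : F 𝒜 𝒜 m d = 0 := by
    apply eq_zero_of_Dl_iter_of_window d (F 𝒜 𝒜 m d) (-(d : ℤ)) _ hD
    intro n hn1 hn2
    rw [hF n hn1]
    exact hilb_neg hpos n (by omega)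
  have h0 := congrFun hF0 0
  rw [hF 0 (by omega)] at h0
  exact hilb_zero_ne m hm h0

end Ainv

end Groth.Agent.Lib.Helper8.GrLCEulerAinv
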