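import Groth.Agent.Lib.Helper8.GrLCPieces

set_option autoImplicit false
set_option linter.unusedSectionVars false
universe u

open DirectSum GrLC
open Groth.Agent.Lib.Helper30
open Groth.Agent.Lib.Helper8.GrLCBase Groth.Agent.Lib.Helper8.GrLCProd
open Groth.Agent.Lib.Helper8.GrLCLES Groth.Agent.Lib.Helper8.GrLCTors
open Groth.Agent.Lib.Helper8.GrLCShift Groth.Agent.Lib.Helper8.GrLCCone
open Groth.Agent.Lib.Helper8.GrLCInd Groth.Agent.Lib.Helper8.GrLCFin
open Groth.Agent.Lib.Helper8.GrLCSerre Groth.Agent.Lib.Helper8.GrLCSerreCone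
open Groth.Agent.Lib.Helper8.GrLCPieces

namespace Groth.Agent.Lib.Helper8.GrLCFinArt

variable {R : Type u} [CommRing R] [IsNoetherianRing R] {𝒜 : ℤ → AddSubgroup R} [GradedRing 𝒜]
variable (hpos : ∀ n : ℤ, n < 0 → 𝒜 n = ⊥) (a : HomogeneousIdeal 𝒜)
  (hRp : ∀ n : ℤ, 0 < n → ∀ r ∈ 𝒜 n, r ∈ a.toIdeal)
variable (𝒮 : SerreClass ↥(deg0 𝒜))

include hpos hRp in
/-- The regular element step for an element of positive degree. -/
theorem reg_step_pos (X Z : GMod.{u} 𝒜) (hX : Module.Finite R X.carrier) {k : ℤ} {x : R}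
    (hxk : x ∈ 𝒜 k) (hk : 0 < k) (hreg : IsSMulRegular X.carrier x)
    (π : X.carrier →ₗ[R] Z.carrier) (hπg : IsGrHom X.gr Z.gr π) (hπ : Function.Surjective π)
    (hker : LinearMap.ker π = LinearMap.range (x • (LinearMap.id : X.carrier →ₗ[R] X.carrier)))
    (hZ : ∀ (i : ℕ) (g : ℤ), PM 𝒮 a Z.gr i g) (i : ℕ) (g : ℤ) : PM 𝒮 a X.gr (i + 1) g := by
  intro E
  obtain ⟨D⟩ := exists_cdata E hxk hreg
  obtain ⟨r, hr⟩ := vanish_high hpos a hRp X hX
  have key : ∀ (t : ℕ) (g : ℤ), r - g ≤ t → 𝒮.P ↥(E.Hcomp a (i + 1) g) := by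
    intro t
    induction t with
    | zero =>
      intro g hg
      exact pM_of_vanM 𝒮 a (i + 1) g (hr (i + 1) g (by simpa using hg)) E
    | succ t ih =>
      intro g hg
      by_cases hrg : r ≤ g
      · exact pM_of_vanM 𝒮 a (i + 1) g (hr (i + 1) g hrg) E
      · refine cone_P a D hxk π hπ hπg hker 𝒮 i (g + k) g (by ring)
          (hZ i (g + k) (coneRes D π hπ hπg hker hxk)) (ih (g + k) ?_)
        push_cast at hg
        omega
  exact key (r - g).toNat g (Int.self_le_toNat _)

include hpos in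
/-- Finiteness of the pieces of the graded local cohomology with respect to the irrelevant
ideal. -/
theorem noeth_pieces (ha : a.toIdeal = Ideal.span (⋃ n ∈ Set.Ioi (0 : ℤ), (𝒜 n : Set R)))
    (X : GMod.{u} 𝒜) (hX : Module.Finite R X.carrier) :
    ∀ (i : ℕ) (g : ℤ), PM (SerreClass.noeth ↥(deg0 𝒜)) a X.gr i g := by
  have hRp : ∀ n : ℤ, 0 < n → ∀ r ∈ 𝒜 n, r ∈ a.toIdeal := by
    intro n hn r hr
    rw [ha]
    apply Ideal.subset_span
    simp only [Set.mem_iUnion, Set.mem_Ioi, SetLike.mem_coe, exists_prop]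
    exact ⟨n, hn, hr⟩
  refine grInduction a (fun X => ∀ (i : ℕ) (g : ℤ), PM (SerreClass.noeth ↥(deg0 𝒜)) a X.gr i g)
    ?_ ?_ ?_ X hX
  · intro X hfin ht i g
    have := hfin
    have hN : IsNoetherian R X.carrier := isNoetherian_of_isNoetherianRing_of_finite R X.carrier
    cases i with
    | zero =>
      intro E
      exact pH_zero _ a E g (isNoetherian_comp (𝒜 := 𝒜) (ℳ := X.gr) g)
    | succ i => exact pM_of_vanM _ a (i + 1) g (vanM_of_tors_aux a i X ht g)
  · intro X' X X'' i p S _ h' h'' j g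
    exact les_mid_P _ a S j g (h' j g) (h'' j g)
  · intro X Z k x hxk hxa hreg π hπg hπ hker hfin hZ i g
    cases i with
    | zero => exact pM_of_vanM _ a 0 g (vanM_zero_of_regular (ℳ := X.gr) a hreg hxa g)
    | succ i =>
      by_cases hk : 0 < k
      · exact reg_step_pos hpos a hRp _ X Z hfin hxk hk hreg π hπg hπ hker hZ i g
      · have hx0 : x = 0 := eq_zero_of_mem_irrelevant hpos hxk (not_lt.mp hk) (ha ▸ hxa)
        have hsub : Subsingleton X.carrier := by
          refine ⟨fun y y' => hreg ?_⟩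
          change x • y = x • y'
          rw [hx0, zero_smul, zero_smul]
        exact pM_of_vanM _ a (i + 1) g (vanM_of_subsingleton a (i + 1) g)

include hpos in
/-- Artinianness of the pieces of the graded local cohomology with respect to the homogeneous
maximal ideal. -/
theorem art_pieces (m : HomogeneousIdeal 𝒜) (hm : IsStarLocal 𝒜 m)
    (X : GMod.{u} 𝒜) (hX : Module.Finite R X.carrier) :
    ∀ (i : ℕ) (g : ℤ), PM (SerreClass.art ↥(deg0 𝒜)) m X.gr i g := by
  have hRp := irrelevant_le_of_isStarLocal hpos m hm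
  have hmax : m.toIdeal.IsMaximal := isMaximal_of_isStarLocal hpos m hm
  refine grInduction m (fun X => ∀ (i : ℕ) (g : ℤ), PM (SerreClass.art ↥(deg0 𝒜)) m X.gr i g)
    ?_ ?_ ?_ X hX
  · intro X hfin ht i g
    have := hfin
    cases i with
    | zero =>
      intro E
      obtain ⟨t, ht'⟩ := exists_pow_kill_of_fg m.toIdeal (⊤ : Submodule R X.carrier)
        Module.Finite.fg_top (fun n _ => by rw [ht]; trivial)
      have hA : IsArtinian R X.carrier :=
        artinian_of_killed_pow m.toIdeal t X.carrier (fun r hr y => ht' r hr y trivial)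
      exact pH_zero _ m E g (isArtinian_comp (𝒜 := 𝒜) (ℳ := X.gr) g)
    | succ i => exact pM_of_vanM _ m (i + 1) g (vanM_of_tors_aux m i X ht g)
  · intro X' X X'' i p S _ h' h'' j g
    exact les_mid_P _ m S j g (h' j g) (h'' j g)
  · intro X Z k x hxk hxa hreg π hπg hπ hker hfin hZ i g
    cases i with
    | zero => exact pM_of_vanM _ m 0 g (vanM_zero_of_regular (ℳ := X.gr) m hreg hxa g)
    | succ i =>
      rcases lt_trichotomy k 0 with hk | hk | hk
      · have hx0 : x = 0 := by
          rw [hpos k hk, AddSubgroup.mem_bot] at hxk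
          exact hxk
        have hsub : Subsingleton X.carrier := by
          refine ⟨fun y y' => hreg ?_⟩
          change x • y = x • y'
          rw [hx0, zero_smul, zero_smul]
        exact pM_of_vanM _ m (i + 1) g (vanM_of_subsingleton m (i + 1) g)
      · subst hk
        intro E
        obtain ⟨D⟩ := exists_cdata E hxk hreg
        obtain ⟨f', g'', hg'', hfg⟩ := cone_exact m D hxk π hπ hπg hker i g g (by simp)
        let x₀ : ↥(deg0 𝒜) := ⟨x, hxk⟩
        have hZi : IsArtinian ↥(deg0 𝒜) ↥((coneRes D π hπ hπg hker hxk).Hcomp m i g) :=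
          hZ i g (coneRes D π hπ hπg hker hxk)
        have hg''x : g'' = LinearMap.lsmul ↥(deg0 𝒜) ↥(E.Hcomp m (i + 1) g) x₀ := by
          apply LinearMap.ext
          intro h
          obtain ⟨z, rfl⟩ := pH_surjective E m (i + 1) g h
          rw [hg'', LinearMap.lsmul_apply, ← map_smul]
          rfl
        have hkerA : IsArtinian ↥(deg0 𝒜)
            ↥(LinearMap.ker (LinearMap.lsmul ↥(deg0 𝒜) ↥(E.Hcomp m (i + 1) g) x₀)) := by
          rw [← hg''x, ← hfg]
          infer_instance
        refine artinian_of_torsion_of_ker x₀ ?_ hkerA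
        intro h
        obtain ⟨z, rfl⟩ := pH_surjective E m (i + 1) g h
        obtain ⟨n, hn⟩ := z.2.1
        refine ⟨n, ?_⟩
        rw [← map_smul]
        have hz0 : x₀ ^ n • z = 0 := by
          apply Subtype.ext
          change ((x₀ ^ n : ↥(deg0 𝒜)) : R) • (z : (E.X (i + 1)).carrier) = 0
          rw [SubmonoidClass.coe_pow]
          exact hn _ (Ideal.pow_mem_pow hxa n)
        rw [hz0, map_zero]
      · exact reg_step_pos hpos m hRp _ X Z hfin hxk hk hreg π hπg hπ hker hZ i g

end Groth.Agent.Lib.Helper8.GrLCFinArt
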