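import Groth.Agent.Lib.Helper8.GrLCRows
import Groth.Agent.Lib.Helper30.GradedHomComp

set_option autoImplicit false
set_option linter.unusedSectionVars false
universe u

open DirectSum GrLC
open Groth.Agent.Lib.Helper30
open Groth.Agent.Lib.Helper8.GrLCBase Groth.Agent.Lib.Helper8.GrLCProd
open Groth.Agent.Lib.Helper8.GrLCLES Groth.Agent.Lib.Helper8.GrLCTors
open Groth.Agent.Lib.Helper8.GrLCShift Groth.Agent.Lib.Helper8.GrLCKos
open Groth.Agent.Lib.Helper8.GrLCRows

namespace Groth.Agent.Lib.Helper8.GrLCRows2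

section Z

variable {R : Type u} [CommRing R] {𝒜 : ℤ → AddSubgroup R} [GradedRing 𝒜]
variable {M : Type u} [AddCommGroup M] [Module R M] {ℳ : ℤ → AddSubgroup M}
  [DirectSum.Decomposition ℳ] [SetLike.GradedSMul 𝒜 ℳ]

theorem bounded_below (hpos : ∀ n : ℤ, n < 0 → 𝒜 n = ⊥) [Module.Finite R M] :
    ∃ e₀ : ℤ, ∀ e : ℤ, e < e₀ → ℳ e = ⊥ := by
  classical
  obtain ⟨T, hT, hspan⟩ := exists_finset_homogeneous_span_eq_top (R := R) ℳ
  choose! deg hdeg using hT
  by_cases hne : T.Nonempty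
  · refine ⟨(T.image deg).min' (hne.image deg), fun e he => ?_⟩
    rw [eq_bot_iff]
    intro x hx
    rw [AddSubgroup.mem_bot]
    have hxs : x ∈ Submodule.span R (T : Set M) := by rw [hspan]; trivial
    obtain ⟨c, hc⟩ := Submodule.mem_span_finset'.mp hxs
    have h1 : (decompose ℳ x e : M) = x := decompose_of_mem_same ℳ hx
    rw [← h1, ← hc, decompose_sum, DFinsupp.finsetSum_apply, AddSubmonoidClass.coe_finsetSum]
    apply Finset.sum_eq_zero
    intro t _
    have ht : deg t.1 ∈ T.image deg := Finset.mem_image_of_mem deg t.2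
    have hle : (T.image deg).min' (hne.image deg) ≤ deg t.1 := Finset.min'_le _ _ ht
    have h2 := decompose_smul_of_mem_right 𝒜 ℳ (hdeg t.1 t.2) (c t) (e - deg t.1)
    rw [sub_add_cancel] at h2
    rw [h2]
    have h3 : ∀ r : R, r ∈ 𝒜 (e - deg t.1) → r = 0 := by
      intro r hr
      rw [hpos _ (by omega), AddSubgroup.mem_bot] at hr
      exact hr
    rw [h3 _ (decompose 𝒜 (c t) _).2, zero_smul]
  · rw [Finset.not_nonempty_iff_eq_empty] at hne
    subst hne
    refine ⟨0, fun e _ => ?_⟩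
    rw [eq_bot_iff]
    intro x _
    rw [AddSubgroup.mem_bot]
    have hxs : x ∈ Submodule.span R ((∅ : Finset M) : Set M) := by rw [hspan]; trivial
    simpa using hxs

theorem decompose_mem_of_mem_smul (s : Set R) (hs : ∀ x ∈ s, x ∈ 𝒜 1) (N : Submodule R M) (e : ℤ)
    (hN : ∀ y ∈ ℳ (e - 1), y ∈ N) (m : M)
    (hm : m ∈ (Ideal.span s) • (⊤ : Submodule R M)) : (decompose ℳ m e : M) ∈ N := by
  have key : ∀ r ∈ Ideal.span s, ∀ n : M, (decompose ℳ (r • n) e : M) ∈ N := by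
    intro r hr
    refine Submodule.span_induction ?_ ?_ ?_ ?_ hr
    · intro x hx n
      have h := decompose_smul_of_mem 𝒜 ℳ (hs x hx) n (e - 1)
      rw [add_sub_cancel] at h
      rw [h]
      exact N.smul_mem _ (hN _ (decompose ℳ n (e - 1)).2)
    · intro n
      simp
    · intro x y _ _ hx hy n
      rw [add_smul, decompose_add, DirectSum.add_apply, AddSubgroup.coe_add]
      exact N.add_mem (hx n) (hy n)
    · intro c x _ hx n
      rw [smul_eq_mul, mul_comm, mul_smul]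
      exact hx (c • n)
  refine Submodule.smul_induction_on hm ?_ ?_
  · intro r hr n _
    exact key r hr n
  · intro x y hx hy
    rw [decompose_add, DirectSum.add_apply, AddSubgroup.coe_add]
    exact N.add_mem hx hy

variable [IsNoetherianRing R] (a : HomogeneousIdeal 𝒜)
  (hhom : a.toIdeal = Ideal.span ((𝒜 1 : AddSubgroup R) : Set R))

include hhom in
theorem generated_of_van (hpos : ∀ n : ℤ, n < 0 → 𝒜 n = ⊥) [Module.Finite R M] (P : ℤ → Prop)
    (hvan : ∀ e : ℤ, ¬ P e → VanM a ℳ 0 e ∧ ∀ p : ℕ, VanM a ℳ (1 + p) (e + (p + 1) • (-1))) :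
    Submodule.span R (⋃ (n : ℤ) (_ : P n), (ℳ n : Set M)) = ⊤ := by
  classical
  obtain ⟨s, hs, ha⟩ := exists_gens a hhom
  obtain ⟨e₀, he₀⟩ := bounded_below (𝒜 := 𝒜) (ℳ := ℳ) hpos
  set N := Submodule.span R (⋃ (n : ℤ) (_ : P n), (ℳ n : Set M)) with hN
  have main : ∀ (n : ℕ) (e : ℤ), e < e₀ + n → ∀ y ∈ ℳ e, y ∈ N := by
    intro n
    induction n with
    | zero =>
      intro e he y hy
      rw [he₀ e (by simpa using he), AddSubgroup.mem_bot] at hy
      rw [hy]
      exact N.zero_mem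
    | succ n ih =>
      intro e he y hy
      by_cases hP : P e
      · apply Submodule.subset_span
        simp only [Set.mem_iUnion, SetLike.mem_coe, exists_prop]
        exact ⟨e, hP, hy⟩
      · obtain ⟨h0, h1⟩ := hvan e hP
        have hmem := gen_step a 1 s hs ha e h0 h1 y hy
        rw [ha] at hmem
        have := decompose_mem_of_mem_smul (𝒜 := 𝒜) (ℳ := ℳ) (s : Set R) hs N e
          (ih (e - 1) (by push_cast at he; omega)) y hmem
        rwa [decompose_of_mem_same ℳ hy] at this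
  rw [eq_top_iff]
  intro x _
  rw [← sum_support_decompose ℳ x]
  apply Submodule.sum_mem
  intro g _
  have hlt : g < e₀ + ((g - e₀).toNat + 1 : ℕ) := by
    push_cast
    have := Int.self_le_toNat (g - e₀)
    omega
  exact main _ g hlt _ (decompose ℳ x g).2

theorem hgr_eq_bot_of_not_le_reg (E : StarInjRes 𝒜 ℳ) (e : ℤ)
    (he : ¬ (((e : WithTop ℤ) : WithBot (WithTop ℤ)) ≤
      ⨆ i : ℕ, GrLC.endDeg (E.Hgr a i) + ((i : ℤ) : WithTop ℤ))) (i : ℕ) (g : ℤ) (hg : e ≤ g + i) :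
    E.Hgr a i g = ⊥ := by
  by_contra hne
  apply he
  have h1 : ((g : WithTop ℤ) : WithBot (WithTop ℤ)) ≤ GrLC.endDeg (E.Hgr a i) :=
    le_iSup₂ (f := fun (n : ℤ) (_ : E.Hgr a i n ≠ ⊥) => ((n : WithTop ℤ) : WithBot (WithTop ℤ))) g hne
  have h2 : ((e : WithTop ℤ) : WithBot (WithTop ℤ)) ≤
      ((g : WithTop ℤ) : WithBot (WithTop ℤ)) + (((i : ℤ) : WithTop ℤ) : WithBot (WithTop ℤ)) := by
    rw [← WithBot.coe_add, ← WithTop.coe_add, WithBot.coe_le_coe, WithTop.coe_le_coe]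
    exact hg
  refine le_trans h2 (le_trans ?_ (le_iSup _ i))
  exact add_le_add_left h1 _

theorem vanM_of_not_le_reg (E : StarInjRes 𝒜 ℳ) (e : ℤ)
    (he : ¬ (((e : WithTop ℤ) : WithBot (WithTop ℤ)) ≤
      ⨆ i : ℕ, GrLC.endDeg (E.Hgr a i) + ((i : ℤ) : WithTop ℤ))) (i : ℕ) (g : ℤ) (hg : e ≤ g + i) :
    VanM a ℳ i g := by
  rw [vanM_iff_hcomp a E]
  have h := hgr_eq_bot_of_not_le_reg a E e he i g hg
  unfold StarInjRes.Hgr at h
  rw [eq_bot_iff]
  intro x hx
  have : x ∈ (E.Hcomp a i g).toAddSubgroup := hx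
  rw [h, AddSubgroup.mem_bot] at this
  rw [this]
  exact Submodule.zero_mem _

end Z

end Groth.Agent.Lib.Helper8.GrLCRows2
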