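import Groth.Agent.Lib.Helper8.GrLCSerre
import Groth.Agent.Lib.Helper8.GrLCEulerAbs

/-!
# The long exact sequence of graded local cohomology on homogeneous pieces

For a short exact sequence of graded modules and the horseshoe resolution of the middle term, we
construct the maps of the long exact sequence on the homogeneous pieces (as modules over the degree
zero subring), and prove exactness everywhere.
-/

set_option autoImplicit false
set_option linter.unusedSectionVars false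
universe u

open DirectSum GrLC
open Groth.Agent.Lib.Helper30
open Groth.Agent.Lib.Helper8.GrLCBase Groth.Agent.Lib.Helper8.GrLCLES
open Groth.Agent.Lib.Helper8.GrLCProd Groth.Agent.Lib.Helper8.GrLCSerre

namespace Groth.Agent.Lib.Helper8.GrLCEulerLES

section Abstract

variable {A : Type*} [CommRing A]

theorem range_eq_ker_of_lifts {ZA ZB ZC HA HB HC : Type*} [AddCommGroup ZA] [AddCommGroup ZB]
    [AddCommGroup ZC] [AddCommGroup HA] [AddCommGroup HB] [AddCommGroup HC]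
    [Module A ZA] [Module A ZB] [Module A ZC] [Module A HA] [Module A HB] [Module A HC]
    (pA : ZA →ₗ[A] HA) (pB : ZB →ₗ[A] HB) (pC : ZC →ₗ[A] HC)
    (hA : Function.Surjective pA) (hB : Function.Surjective pB)
    (f : ZA →ₗ[A] ZB) (g : ZB →ₗ[A] ZC) (f' : HA →ₗ[A] HB) (g' : HB →ₗ[A] HC)
    (hf' : ∀ z, f' (pA z) = pB (f z)) (hg' : ∀ z, g' (pB z) = pC (g z))
    (hgf : ∀ z, pC (g (f z)) = 0) (hex : ∀ z, pC (g z) = 0 → ∃ w, pB z = pB (f w)) :
    LinearMap.range f' = LinearMap.ker g' := by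
  apply le_antisymm
  · rintro _ ⟨y, rfl⟩
    obtain ⟨z, rfl⟩ := hA y
    rw [LinearMap.mem_ker, hf', hg']
    exact hgf z
  · intro b hb
    obtain ⟨z, rfl⟩ := hB b
    rw [LinearMap.mem_ker, hg'] at hb
    obtain ⟨w, hw⟩ := hex z hb
    exact ⟨pA w, by rw [hf', hw]⟩

theorem injective_of_lifts {ZA ZB HA HB : Type*} [AddCommGroup ZA] [AddCommGroup ZB]
    [AddCommGroup HA] [AddCommGroup HB]
    [Module A ZA] [Module A ZB] [Module A HA] [Module A HB]
    (pA : ZA →ₗ[A] HA) (pB : ZB →ₗ[A] HB) (hA : Function.Surjective pA)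
    (f : ZA →ₗ[A] ZB) (f' : HA →ₗ[A] HB) (hf' : ∀ z, f' (pA z) = pB (f z))
    (hinj : ∀ z, pB (f z) = 0 → pA z = 0) : Function.Injective f' := by
  rw [← LinearMap.ker_eq_bot, eq_bot_iff]
  intro y hy
  obtain ⟨z, rfl⟩ := hA y
  rw [LinearMap.mem_ker, hf'] at hy
  rw [Submodule.mem_bot]
  exact hinj z hy

end Abstract

section LES

variable {ι : Type} [AddCommGroup ι] [DecidableEq ι]
variable {R : Type u} [CommRing R] {𝒜 : ι → AddSubgroup R} [GradedRing 𝒜]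
variable {M' : Type u} [AddCommGroup M'] [Module R M'] {ℳ' : ι → AddSubgroup M'}
  [DirectSum.Decomposition ℳ'] [SetLike.GradedSMul 𝒜 ℳ']
variable {M : Type u} [AddCommGroup M] [Module R M] {ℳ : ι → AddSubgroup M}
  [DirectSum.Decomposition ℳ] [SetLike.GradedSMul 𝒜 ℳ]
variable {M'' : Type u} [AddCommGroup M''] [Module R M''] {ℳ'' : ι → AddSubgroup M''}
  [DirectSum.Decomposition ℳ''] [SetLike.GradedSMul 𝒜 ℳ'']
variable {i : M' →ₗ[R] M} {p : M →ₗ[R] M''}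
variable {E' : StarInjRes 𝒜 ℳ'} {E'' : StarInjRes 𝒜 ℳ''}
variable (S : SES ℳ' ℳ ℳ'' i p) (D : HSData E' E'' i p ℳ) (a : HomogeneousIdeal 𝒜) (g : ι)

theorem inl_mem (n : ℕ) : ∀ z ∈ Zc E' a n g,
    (LinearMap.inl R (E'.X n).carrier (E''.X n).carrier : (E'.X n).carrier →ₗ[R]
      ((hs S D).X n).carrier) z ∈ Zc (hs S D) a n g := by
  rintro z ⟨h1, h2, h3⟩
  refine ⟨(gam_prod_iff a.toIdeal z 0).mpr ⟨h1, Submodule.zero_mem _⟩, ?_, ⟨h3, zero_mem _⟩⟩
  change (E'.d n z + D.θ n 0, E''.d n 0) = 0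
  rw [h2, map_zero, map_zero, add_zero]
  rfl

theorem snd_mem (n : ℕ) : ∀ z ∈ Zc (hs S D) a n g,
    (LinearMap.snd R (E'.X n).carrier (E''.X n).carrier : ((hs S D).X n).carrier →ₗ[R]
      (E''.X n).carrier) z ∈ Zc E'' a n g := by
  rintro ⟨x', x''⟩ ⟨h1, h2, h3⟩
  have h2' : (E'.d n x' + D.θ n x'', E''.d n x'') = 0 := h2
  exact ⟨((gam_prod_iff a.toIdeal x' x'').mp h1).2, (Prod.mk_eq_zero.mp h2').2, h3.2⟩

theorem θ_mem (n : ℕ) : ∀ z ∈ Zc E'' a n g, D.θ n z ∈ Zc E' a (n + 1) g := by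
  rintro z ⟨h1, h2, h3⟩
  refine ⟨gam_map _ _ h1, ?_, D.θ_gr n g z h3⟩
  have h := D.h3 n z
  rw [h2, map_zero] at h
  exact neg_eq_zero.mp h.symm

/-- The map `x' ↦ (x', 0)` on homogeneous cocycles. -/
noncomputable def zα (n : ℕ) : ↥(Zc E' a n g) →ₗ[deg0 𝒜] ↥(Zc (hs S D) a n g) :=
  zmap E' (hs S D) a _ (inl_mem S D a g n)

/-- The map `(x', x'') ↦ x''` on homogeneous cocycles. -/
noncomputable def zβ (n : ℕ) : ↥(Zc (hs S D) a n g) →ₗ[deg0 𝒜] ↥(Zc E'' a n g) :=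
  zmap (hs S D) E'' a _ (snd_mem S D a g n)

/-- The twisting map on homogeneous cocycles. -/
noncomputable def zδ (n : ℕ) : ↥(Zc E'' a n g) →ₗ[deg0 𝒜] ↥(Zc E' a (n + 1) g) :=
  zmap E'' E' a (D.θ n) (θ_mem D a g n)

theorem zα_coe (n : ℕ) (z : ↥(Zc E' a n g)) :
    ((zα S D a g n z : ↥(Zc (hs S D) a n g)) : ((hs S D).X n).carrier) =
      ((z : (E'.X n).carrier), (0 : (E''.X n).carrier)) := rfl

theorem zδ_coe (n : ℕ) (z : ↥(Zc E'' a n g)) :
    ((zδ D a g n z : ↥(Zc E' a (n + 1) g)) : (E'.X (n + 1)).carrier) = D.θ n z := rfl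

theorem zα_wd (n : ℕ) (z : ↥(Zc E' a n g)) (hz : pH E' a n g z = 0) :
    pH (hs S D) a n g (zα S D a g n z) = 0 := by
  rw [pH_eq_zero_iff] at hz ⊢
  cases n with
  | zero =>
    rw [mem_cobdy_zero] at hz
    refine (mem_cobdy_zero (hs S D) a _).mpr ?_
    rw [zα_coe, hz]
    rfl
  | succ n =>
    rw [mem_cobdy_succ] at hz
    refine (mem_cobdy_succ (hs S D) a n _).mpr ?_
    obtain ⟨y, hy, hyz⟩ := hz
    refine ⟨(y, 0), (gam_prod_iff a.toIdeal y 0).mpr ⟨hy, Submodule.zero_mem _⟩, ?_⟩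
    change (E'.d n y + D.θ n 0, E''.d n 0) = (z.1, 0)
    rw [hyz, map_zero, map_zero, add_zero]

theorem zβ_wd (n : ℕ) (z : ↥(Zc (hs S D) a n g)) (hz : pH (hs S D) a n g z = 0) :
    pH E'' a n g (zβ S D a g n z) = 0 := by
  obtain ⟨⟨x', x''⟩, hx⟩ := z
  rw [pH_eq_zero_iff] at hz ⊢
  change x'' ∈ E''.cobdy a n
  cases n with
  | zero =>
    have hz' := (mem_cobdy_zero (hs S D) a _).mp hz
    rw [mem_cobdy_zero]
    exact (Prod.mk_eq_zero.mp hz').2
  | succ n =>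
    have hz' := (mem_cobdy_succ (hs S D) a n _).mp hz
    rw [mem_cobdy_succ]
    obtain ⟨⟨u', u''⟩, hu, hud⟩ := hz'
    have hud' : (E'.d n u' + D.θ n u'', E''.d n u'') = (x', x'') := hud
    exact ⟨u'', ((gam_prod_iff a.toIdeal u' u'').mp hu).2, (Prod.mk.inj hud').2⟩

theorem zδ_wd (n : ℕ) (z : ↥(Zc E'' a n g)) (hz : pH E'' a n g z = 0) :
    pH E' a (n + 1) g (zδ D a g n z) = 0 := by
  rw [pH_eq_zero_iff] at hz ⊢
  rw [zδ_coe]
  cases n with
  | zero =>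
    rw [mem_cobdy_zero] at hz
    rw [hz, map_zero]
    exact Submodule.zero_mem _
  | succ n =>
    rw [mem_cobdy_succ] at hz
    obtain ⟨y, hy, hyz⟩ := hz
    refine (mem_cobdy_succ E' a (n + 1) _).mpr
      ⟨-(D.θ n y), Submodule.neg_mem _ (gam_map _ _ hy), ?_⟩
    rw [map_neg, ← D.h3, hyz]

/-- `H^n(M')_g → H^n(M)_g`. -/
noncomputable def α (n : ℕ) : ↥(E'.Hcomp a n g) →ₗ[deg0 𝒜] ↥((hs S D).Hcomp a n g) :=
  Classical.choose (exists_lift (pH E' a n g) (pH_surjective E' a n g)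
    ((pH (hs S D) a n g).comp (zα S D a g n)) (zα_wd S D a g n))

theorem α_pH (n : ℕ) (z : ↥(Zc E' a n g)) :
    α S D a g n (pH E' a n g z) = pH (hs S D) a n g (zα S D a g n z) :=
  Classical.choose_spec (exists_lift (pH E' a n g) (pH_surjective E' a n g)
    ((pH (hs S D) a n g).comp (zα S D a g n)) (zα_wd S D a g n)) z

/-- `H^n(M)_g → H^n(M'')_g`. -/
noncomputable def β (n : ℕ) : ↥((hs S D).Hcomp a n g) →ₗ[deg0 𝒜] ↥(E''.Hcomp a n g) :=
  Classical.choose (exists_lift (pH (hs S D) a n g) (pH_surjective (hs S D) a n g)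
    ((pH E'' a n g).comp (zβ S D a g n)) (zβ_wd S D a g n))

theorem β_pH (n : ℕ) (z : ↥(Zc (hs S D) a n g)) :
    β S D a g n (pH (hs S D) a n g z) = pH E'' a n g (zβ S D a g n z) :=
  Classical.choose_spec (exists_lift (pH (hs S D) a n g) (pH_surjective (hs S D) a n g)
    ((pH E'' a n g).comp (zβ S D a g n)) (zβ_wd S D a g n)) z

/-- The connecting map `H^n(M'')_g → H^{n+1}(M')_g`. -/
noncomputable def δ (n : ℕ) : ↥(E''.Hcomp a n g) →ₗ[deg0 𝒜] ↥(E'.Hcomp a (n + 1) g) :=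
  Classical.choose (exists_lift (pH E'' a n g) (pH_surjective E'' a n g)
    ((pH E' a (n + 1) g).comp (zδ D a g n)) (zδ_wd D a g n))

theorem δ_pH (n : ℕ) (z : ↥(Zc E'' a n g)) :
    δ D a g n (pH E'' a n g z) = pH E' a (n + 1) g (zδ D a g n z) :=
  Classical.choose_spec (exists_lift (pH E'' a n g) (pH_surjective E'' a n g)
    ((pH E' a (n + 1) g).comp (zδ D a g n)) (zδ_wd D a g n)) z

theorem exact_αβ (n : ℕ) :
    LinearMap.range (α S D a g n) = LinearMap.ker (β S D a g n) := by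
  refine range_eq_ker_of_lifts (pH E' a n g) (pH (hs S D) a n g) (pH E'' a n g)
    (pH_surjective E' a n g) (pH_surjective (hs S D) a n g) (zα S D a g n) (zβ S D a g n) _ _
    (α_pH S D a g n) (β_pH S D a g n) ?_ ?_
  · intro z
    rw [pH_eq_zero_iff]
    change (0 : (E''.X n).carrier) ∈ E''.cobdy a n
    exact Submodule.zero_mem _
  · rintro ⟨⟨x', x''⟩, hx⟩ hz
    rw [pH_eq_zero_iff] at hz
    change x'' ∈ E''.cobdy a n at hz
    obtain ⟨h1, h2, h3⟩ := hx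
    have hz' := (gam_prod_iff a.toIdeal x' x'').mp h1
    have hdz' : (E'.d n x' + D.θ n x'', E''.d n x'') = 0 := h2
    rw [Prod.mk_eq_zero] at hdz'
    have hzg' : x' ∈ (E'.X n).gr g ∧ x'' ∈ (E''.X n).gr g := h3
    cases n with
    | zero =>
      rw [mem_cobdy_zero] at hz
      subst hz
      have hd1 := hdz'.1
      rw [map_zero, add_zero] at hd1
      refine ⟨⟨x', hz'.1, hd1, hzg'.1⟩, ?_⟩
      rfl
    | succ n =>
      obtain ⟨y'', hy'', hy''g, rfl⟩ := cobdy_homog E'' a hz hzg'.2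
      have hd1 := hdz'.1
      rw [D.h3, ← sub_eq_add_neg, ← map_sub] at hd1
      refine ⟨⟨x' - D.θ n y'', Submodule.sub_mem _ hz'.1 (gam_map _ _ hy''), hd1,
        sub_mem hzg'.1 (D.θ_gr n g y'' hy''g)⟩, ?_⟩
      rw [← sub_eq_zero, ← map_sub, pH_eq_zero_iff]
      refine (mem_cobdy_succ (hs S D) a n _).mpr
        ⟨(0, y''), (gam_prod_iff a.toIdeal 0 y'').mpr ⟨Submodule.zero_mem _, hy''⟩, ?_⟩
      change (E'.d n 0 + D.θ n y'', E''.d n y'') = (x' - (x' - D.θ n y''), E''.d n y'' - 0)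
      rw [map_zero, zero_add, sub_sub_cancel, sub_zero]

theorem exact_βδ (n : ℕ) :
    LinearMap.range (β S D a g n) = LinearMap.ker (δ D a g n) := by
  refine range_eq_ker_of_lifts (pH (hs S D) a n g) (pH E'' a n g) (pH E' a (n + 1) g)
    (pH_surjective (hs S D) a n g) (pH_surjective E'' a n g) (zβ S D a g n) (zδ D a g n) _ _
    (β_pH S D a g n) (δ_pH D a g n) ?_ ?_
  · rintro ⟨⟨x', x''⟩, hx⟩
    rw [pH_eq_zero_iff]
    change D.θ n x'' ∈ E'.cobdy a (n + 1)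
    obtain ⟨h1, h2, h3⟩ := hx
    have hz' := (gam_prod_iff a.toIdeal x' x'').mp h1
    have hdz' : (E'.d n x' + D.θ n x'', E''.d n x'') = 0 := h2
    rw [Prod.mk_eq_zero] at hdz'
    refine (mem_cobdy_succ E' a n _).mpr ⟨-x', Submodule.neg_mem _ hz'.1, ?_⟩
    rw [map_neg]
    exact neg_eq_of_add_eq_zero_right hdz'.1
  · intro z hz
    rw [pH_eq_zero_iff, zδ_coe] at hz
    obtain ⟨y', hy', hy'g, hy'z⟩ := cobdy_homog E' a hz (D.θ_gr n g z.1 z.2.2.2)
    have hmem : ((-y', (z : (E''.X n).carrier)) : ((hs S D).X n).carrier) ∈ Zc (hs S D) a n g := by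
      refine ⟨(gam_prod_iff a.toIdeal (-y') z.1).mpr ⟨Submodule.neg_mem _ hy', z.2.1⟩, ?_,
        ⟨AddSubgroup.neg_mem _ hy'g, z.2.2.2⟩⟩
      change (E'.d n (-y') + D.θ n z.1, E''.d n z.1) = 0
      rw [map_neg, hy'z, neg_add_cancel, z.2.2.1]
      rfl
    refine ⟨⟨_, hmem⟩, ?_⟩
    rfl

theorem exact_δα (n : ℕ) :
    LinearMap.range (δ D a g n) = LinearMap.ker (α S D a g (n + 1)) := by
  refine range_eq_ker_of_lifts (pH E'' a n g) (pH E' a (n + 1) g) (pH (hs S D) a (n + 1) g)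
    (pH_surjective E'' a n g) (pH_surjective E' a (n + 1) g) (zδ D a g n) (zα S D a g (n + 1)) _ _
    (δ_pH D a g n) (α_pH S D a g (n + 1)) ?_ ?_
  · intro z
    rw [pH_eq_zero_iff]
    refine (mem_cobdy_succ (hs S D) a n _).mpr
      ⟨(0, z.1), (gam_prod_iff a.toIdeal 0 z.1).mpr ⟨Submodule.zero_mem _, z.2.1⟩, ?_⟩
    change (E'.d n 0 + D.θ n z.1, E''.d n z.1) = (D.θ n z.1, 0)
    rw [map_zero, zero_add, z.2.2.1]
  · intro z hz
    rw [pH_eq_zero_iff] at hz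
    have hzg : (((z : (E'.X (n + 1)).carrier), (0 : (E''.X (n + 1)).carrier)) :
        ((hs S D).X (n + 1)).carrier) ∈ ((hs S D).X (n + 1)).gr g := ⟨z.2.2.2, zero_mem _⟩
    obtain ⟨⟨u', u''⟩, hu, hug, hud⟩ := cobdy_homog (hs S D) a hz hzg
    have hu' := (gam_prod_iff a.toIdeal u' u'').mp hu
    have hud' : (E'.d n u' + D.θ n u'', E''.d n u'') = (z.1, 0) := hud
    have hud1 := (Prod.mk.inj hud').1
    have hud2 := (Prod.mk.inj hud').2
    have hug' : u' ∈ (E'.X n).gr g ∧ u'' ∈ (E''.X n).gr g := hug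
    refine ⟨⟨u'', hu'.2, hud2, hug'.2⟩, ?_⟩
    rw [← sub_eq_zero, ← map_sub, pH_eq_zero_iff]
    refine (mem_cobdy_succ E' a n _).mpr ⟨u', hu'.1, ?_⟩
    change E'.d n u' = z.1 - D.θ n u''
    rw [← hud1]
    abel

theorem α_zero_injective : Function.Injective (α S D a g 0) := by
  refine injective_of_lifts (pH E' a 0 g) (pH (hs S D) a 0 g) (pH_surjective E' a 0 g)
    (zα S D a g 0) _ (α_pH S D a g 0) ?_
  intro z hz
  rw [pH_eq_zero_iff] at hz
  have hz' := (mem_cobdy_zero (hs S D) a _).mp hz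
  rw [zα_coe] at hz'
  rw [pH_eq_zero_iff, mem_cobdy_zero]
  exact (Prod.mk_eq_zero.mp hz').1

/-- Additivity of the Euler characteristic of the pieces of graded local cohomology for the
horseshoe resolution. -/
theorem euler_hs
    (fA : ∀ n, Module.length ↥(deg0 𝒜) ↥(E'.Hcomp a n g) ≠ ⊤)
    (fB : ∀ n, Module.length ↥(deg0 𝒜) ↥((hs S D).Hcomp a n g) ≠ ⊤)
    (fC : ∀ n, Module.length ↥(deg0 𝒜) ↥(E''.Hcomp a n g) ≠ ⊤) (d : ℕ)
    (hd : Subsingleton ↥(E'.Hcomp a (d + 1) g)) :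
    ∑ n ∈ Finset.range (d + 1),
        (-1 : ℚ) ^ n * ((Module.length ↥(deg0 𝒜) ↥((hs S D).Hcomp a n g)).toNat : ℚ) =
      ∑ n ∈ Finset.range (d + 1),
        (-1 : ℚ) ^ n * ((Module.length ↥(deg0 𝒜) ↥(E'.Hcomp a n g)).toNat : ℚ) +
      ∑ n ∈ Finset.range (d + 1),
        (-1 : ℚ) ^ n * ((Module.length ↥(deg0 𝒜) ↥(E''.Hcomp a n g)).toNat : ℚ) :=
  GrLCEulerAbs.euler_les (A := ↥(deg0 𝒜)) (HA := fun n => ↥(E'.Hcomp a n g))
    (HB := fun n => ↥((hs S D).Hcomp a n g)) (HC := fun n => ↥(E''.Hcomp a n g))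
    (fun n => α S D a g n) (fun n => β S D a g n) (fun n => δ D a g n)
    (α_zero_injective S D a g) (exact_αβ S D a g) (exact_βδ S D a g) (exact_δα S D a g)
    fA fB fC d hd

end LES

end Groth.Agent.Lib.Helper8.GrLCEulerLES
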