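import Groth.Agent.Lib.Helper8.GrLCEulerInd

/-!
# Standard graded rings over an Artinian ring: torsion criterion and Nakayama
-/

set_option autoImplicit false
set_option linter.unusedSectionVars false
universe u

open DirectSum GrLC
open Groth.Agent.Lib.Helper30
open Groth.Agent.Lib.Helper8.GrLCFin Groth.Agent.Lib.Helper8.GrLCPieces

namespace Groth.Agent.Lib.Helper8.GrLCEulerTors

variable {R : Type u} [CommRing R] [IsNoetherianRing R] {𝒜 : ℤ → AddSubgroup R} [GradedRing 𝒜]
variable (hpos : ∀ n : ℤ, n < 0 → 𝒜 n = ⊥)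
  (hstd : Ideal.span (⋃ n ∈ Set.Ioi (0 : ℤ), (𝒜 n : Set R)) = Ideal.span ((𝒜 1 : AddSubgroup R) : Set R))
  [IsArtinianRing (GrLC.deg0 𝒜)] (m : HomogeneousIdeal 𝒜) (hm : GrLC.IsStarLocal 𝒜 m)

include hm in
/-- Degree zero elements of the *maximal ideal are nilpotent when `R_0` is Artinian. -/
theorem nilpotent_of_mem_deg0 {x : R} (hx0 : x ∈ 𝒜 0) (hxm : x ∈ m.toIdeal) : IsNilpotent x := by
  let x₀ : ↥(deg0 𝒜) := ⟨x, hx0⟩
  obtain ⟨n, c, hc⟩ := IsArtinian.exists_pow_succ_smul_dvd x₀ (1 : ↥(deg0 𝒜))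
  -- x^(n+1) * c = x^n
  have hc' : x ^ (n + 1) * (c : R) = x ^ n := by
    have := congrArg (Subtype.val : ↥(deg0 𝒜) → R) hc
    simpa [x₀, smul_eq_mul] using this
  set u : R := 1 - x * (c : R) with hu
  have hu0 : u ∈ 𝒜 0 := by
    refine sub_mem SetLike.GradedOne.one_mem ?_
    have := SetLike.GradedMul.mul_mem hx0 c.2
    rwa [add_zero] at this
  have hum : u ∉ m.toIdeal := by
    intro h
    have h1 : (1 : R) ∈ m.toIdeal := by
      have : (1 : R) = u + x * (c : R) := by rw [hu]; ring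
      rw [this]
      exact Ideal.add_mem _ h (Ideal.mul_mem_right _ _ hxm)
    apply hm.1.1
    apply HomogeneousIdeal.toIdeal_injective
    rw [(Ideal.eq_top_iff_one _).mpr h1]
    rfl
  have hJh : (Ideal.span {u}).IsHomogeneous 𝒜 := by
    apply Ideal.homogeneous_span
    intro y hy
    rw [Set.mem_singleton_iff] at hy
    subst hy
    exact ⟨0, hu0⟩
  let J : HomogeneousIdeal 𝒜 := ⟨Ideal.span {u}, hJh⟩
  have hJtop : J.toIdeal = ⊤ := by
    by_contra hne
    have hle := Groth.Agent.Lib.Helper8.GrHeight.le_of_isStarLocal 𝒜 m hm J hne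
    exact hum (_root_.toIdeal_le_toIdeal_iff.mpr hle (Ideal.mem_span_singleton_self u))
  have h1 : (1 : R) ∈ Ideal.span {u} := by
    change (1 : R) ∈ J.toIdeal
    rw [hJtop]
    trivial
  obtain ⟨v, hv⟩ := Ideal.mem_span_singleton'.mp h1
  refine ⟨n, ?_⟩
  have h2 : x ^ n * u = 0 := by
    rw [hu, mul_sub, mul_one, ← mul_assoc, ← pow_succ, hc', sub_self]
  calc x ^ n = x ^ n * (v * u) := by rw [hv, mul_one]
    _ = v * (x ^ n * u) := by ring
    _ = 0 := by rw [h2, mul_zero]

include hpos hstd hm in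
/-- A module killed by the degree one elements is torsion with respect to the *maximal ideal. -/
theorem gam_eq_top_of_killed (Y : Type u) [AddCommGroup Y] [Module R Y]
    (hY : ∀ x ∈ 𝒜 1, ∀ y : Y, x • y = 0) : gam m.toIdeal Y = ⊤ := by
  classical
  have hRp := irrelevant_le_of_isStarLocal hpos m hm
  -- the irrelevant ideal kills `Y`
  have hirr : ∀ r ∈ Ideal.span (⋃ n ∈ Set.Ioi (0 : ℤ), (𝒜 n : Set R)), ∀ y : Y, r • y = 0 := by
    intro r hr y
    rw [hstd] at hr
    refine Submodule.span_induction ?_ ?_ ?_ ?_ hr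
    · intro x hx
      exact hY x hx y
    · exact zero_smul _ _
    · intro x x' _ _ h h'
      rw [add_smul, h, h', add_zero]
    · intro c x _ h
      rw [smul_eq_mul, mul_smul, h, smul_zero]
  have hle : m.toIdeal ≤ (Module.annihilator R Y).radical := by
    intro r hr
    rw [← DirectSum.sum_support_decompose 𝒜 r]
    apply Ideal.sum_mem
    intro i _
    have hri : (decompose 𝒜 r i : R) ∈ m.toIdeal := m.isHomogeneous i hr
    rcases lt_trichotomy i 0 with hi | hi | hi
    · have hz : ∀ y : R, y ∈ 𝒜 i → y = 0 := by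
        intro y hy
        rw [hpos i hi, AddSubgroup.mem_bot] at hy
        exact hy
      rw [hz _ (decompose 𝒜 r i).2]
      exact Ideal.zero_mem _
    · subst hi
      obtain ⟨n, hn⟩ := nilpotent_of_mem_deg0 m hm (decompose 𝒜 r 0).2 hri
      exact ⟨n, by rw [hn]; exact Ideal.zero_mem _⟩
    · apply Ideal.le_radical
      rw [Module.mem_annihilator]
      intro y
      apply hirr
      apply Ideal.subset_span
      simp only [Set.mem_iUnion, Set.mem_Ioi, SetLike.mem_coe, exists_prop]
      exact ⟨i, hi, (decompose 𝒜 r i).2⟩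
  obtain ⟨k, hk⟩ := Ideal.exists_pow_le_of_le_radical_of_fg hle (IsNoetherian.noetherian _)
  rw [eq_top_iff]
  intro y _
  exact ⟨k, fun r hr => Module.mem_annihilator.mp (hk hr) y⟩

include hpos hstd hm in
/-- A module which is not torsion is not killed by some degree one element. -/
theorem exists_deg_one (Y : Type u) [AddCommGroup Y] [Module R Y]
    (ht : gam m.toIdeal Y ≠ ⊤) :
    ∃ (k : ℤ) (x : R), k = 1 ∧ x ∈ 𝒜 k ∧ x ∈ m.toIdeal ∧ ∃ y : Y, x • y ≠ 0 := by
  by_contra hcon
  push Not at hcon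
  apply ht
  apply gam_eq_top_of_killed hpos hstd m hm Y
  intro x hx y
  exact hcon 1 x rfl hx (irrelevant_le_of_isStarLocal hpos m hm 1 one_pos x hx) y

omit [IsNoetherianRing R] [IsArtinianRing (GrLC.deg0 𝒜)] in
include hpos in
/-- Graded Nakayama: a finitely generated graded module on which a degree one element acts
surjectively is zero. -/
theorem subsingleton_of_surj {M : Type u} [AddCommGroup M] [Module R M] (ℳ : ℤ → AddSubgroup M)
    [DirectSum.Decomposition ℳ] [SetLike.GradedSMul 𝒜 ℳ] [Module.Finite R M] {x : R}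
    (hx : x ∈ 𝒜 1) (hs : ∀ y : M, ∃ z : M, x • z = y) : Subsingleton M := by
  classical
  obtain ⟨e₀, he₀⟩ := Groth.Agent.Lib.Helper8.GrLCRows2.bounded_below (𝒜 := 𝒜) (ℳ := ℳ) hpos
  have main : ∀ (n : ℕ) (e : ℤ), e < e₀ + n → ∀ y ∈ ℳ e, y = 0 := by
    intro n
    induction n with
    | zero =>
      intro e he y hy
      rw [he₀ e (by simpa using he), AddSubgroup.mem_bot] at hy
      exact hy
    | succ n ih =>
      intro e he y hy
      obtain ⟨z, hz⟩ := hs y
      have h1 := decompose_smul_of_mem 𝒜 ℳ hx z (e - 1)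
      rw [show (1 : ℤ) + (e - 1) = e by ring, hz, decompose_of_mem_same ℳ hy] at h1
      rw [h1, ih (e - 1) (by push_cast at he; omega) _ (decompose ℳ z (e - 1)).2, smul_zero]
  refine ⟨fun y y' => ?_⟩
  have hz : ∀ y : M, y = 0 := by
    intro y
    rw [← DirectSum.sum_support_decompose ℳ y]
    apply Finset.sum_eq_zero
    intro e _
    exact main (e - e₀ + 1).toNat e (by
      have := Int.self_le_toNat (e - e₀ + 1)
      omega) _ (decompose ℳ y e).2
  rw [hz y, hz y']

end Groth.Agent.Lib.Helper8.GrLCEulerTors
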