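import Groth.Agent.Lib.Helper8.GrLCCone

set_option autoImplicit false
set_option linter.unusedSectionVars false
universe u

open DirectSum GrLC
open Groth.Agent.Lib.Helper30
open Groth.Agent.Lib.Helper8.GrLCBase Groth.Agent.Lib.Helper8.GrLCProd
open Groth.Agent.Lib.Helper8.GrLCLES Groth.Agent.Lib.Helper8.GrLCTors
open Groth.Agent.Lib.Helper8.GrLCShift

namespace Groth.Agent.Lib.Helper8.GrLCFree

section Proj

variable {ι : Type} [DecidableEq ι] {X : Type u} [AddCommGroup X]

theorem isInternal_of_proj (A : ι → AddSubgroup X) (proj : ι → X →+ X)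
    (h1 : ∀ i x, proj i x ∈ A i) (h2 : ∀ i x, x ∈ A i → proj i x = x)
    (h3 : ∀ i j x, i ≠ j → x ∈ A j → proj i x = 0)
    (h4 : ∀ x, ∃ s : Finset ι, x = ∑ i ∈ s, proj i x) : DirectSum.IsInternal A := by
  have key : ∀ (y : ⨁ i, A i) (j : ι), proj j (DirectSum.coeAddMonoidHom A y) = (y j : X) := by
    intro y j
    induction y using DirectSum.induction_on with
    | zero => simp
    | of i a =>
      rw [DirectSum.coeAddMonoidHom_of]
      by_cases hij : i = j
      · subst hij
        rw [DirectSum.of_eq_same, h2 i _ a.2]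
      · rw [DirectSum.of_eq_of_ne _ _ _ (Ne.symm hij), h3 j i _ (Ne.symm hij) a.2]
        rfl
    | add y y' hy hy' =>
      rw [map_add, map_add, hy, hy', DirectSum.add_apply, AddSubgroup.coe_add]
  constructor
  · rw [injective_iff_map_eq_zero]
    intro y hy
    apply DFinsupp.ext
    intro j
    apply Subtype.ext
    rw [← key y j, hy, map_zero]
    rfl
  · intro x
    obtain ⟨s, hs⟩ := h4 x
    refine ⟨∑ i ∈ s, DirectSum.of (fun i => A i) i ⟨proj i x, h1 i x⟩, ?_⟩
    rw [map_sum]
    conv_rhs => rw [hs]
    apply Finset.sum_congr rfl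
    intro i _
    rw [DirectSum.coeAddMonoidHom_of]

end Proj

section FreeGr

variable {ι : Type} [AddCommGroup ι] [DecidableEq ι]
variable {R : Type u} [CommRing R] (𝒜 : ι → AddSubgroup R) [GradedRing 𝒜]

/-- The pieces of the graded free module with basis degrees `c`. -/
def freeGr {n : ℕ} (c : Fin n → ι) : ι → AddSubgroup (Fin n → R) := fun e =>
  { carrier := {v | ∀ b, v b ∈ 𝒜 (e - c b)}
    zero_mem' := fun _ => zero_mem _
    add_mem' := fun hv hw b => add_mem (hv b) (hw b)
    neg_mem' := fun hv b => neg_mem (hv b) }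

theorem mem_freeGr {n : ℕ} (c : Fin n → ι) (e : ι) (v : Fin n → R) :
    v ∈ freeGr 𝒜 c e ↔ ∀ b, v b ∈ 𝒜 (e - c b) := Iff.rfl

/-- The homogeneous projection. -/
noncomputable def freeProj {n : ℕ} (c : Fin n → ι) (e : ι) : (Fin n → R) →+ (Fin n → R) where
  toFun v := fun b => (decompose 𝒜 (v b) (e - c b) : R)
  map_zero' := by
    funext b
    simp
  map_add' v w := by
    funext b
    simp [decompose_add]

theorem freeProj_apply {n : ℕ} (c : Fin n → ι) (e : ι) (v : Fin n → R) (b : Fin n) :
    freeProj 𝒜 c e v b = (decompose 𝒜 (v b) (e - c b) : R) := rfl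

theorem isInternal_freeGr {n : ℕ} (c : Fin n → ι) : DirectSum.IsInternal (freeGr 𝒜 c) := by
  classical
  refine isInternal_of_proj (freeGr 𝒜 c) (freeProj 𝒜 c) ?_ ?_ ?_ ?_
  · intro e v b
    rw [freeProj_apply]
    exact (decompose 𝒜 (v b) (e - c b)).2
  · intro e v hv
    funext b
    rw [freeProj_apply, decompose_of_mem_same 𝒜 (hv b)]
  · intro e e' v hne hv
    funext b
    rw [freeProj_apply, decompose_of_mem_ne 𝒜 (hv b) (fun h => hne (sub_left_injective h).symm)]
    rfl
  · intro v
    refine ⟨Finset.univ.biUnion (fun b => (DFinsupp.support (decompose 𝒜 (v b))).image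
      (fun e' => e' + c b)), ?_⟩
    funext b
    rw [Finset.sum_apply]
    simp only [freeProj_apply]
    set s := Finset.univ.biUnion (fun b => (DFinsupp.support (decompose 𝒜 (v b))).image
      (fun e' => e' + c b)) with hs
    have h1 : ∑ e ∈ s, (decompose 𝒜 (v b) (e - c b) : R) =
        ∑ e' ∈ s.image (fun e => e - c b), (decompose 𝒜 (v b) e' : R) := by
      rw [Finset.sum_image]
      intro e _ e' _ h
      exact sub_left_injective h
    rw [h1]
    have h2 : DFinsupp.support (decompose 𝒜 (v b)) ⊆ s.image (fun e => e - c b) := by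
      intro e' he'
      rw [Finset.mem_image]
      refine ⟨e' + c b, ?_, add_sub_cancel_right _ _⟩
      rw [hs, Finset.mem_biUnion]
      exact ⟨b, Finset.mem_univ _, Finset.mem_image_of_mem _ he'⟩
    rw [← Finset.sum_subset h2]
    · exact (sum_support_decompose 𝒜 (v b)).symm
    · intro e' _ he'
      rw [DFinsupp.notMem_support_iff] at he'
      rw [he']
      rfl

noncomputable instance freeDec {n : ℕ} (c : Fin n → ι) : DirectSum.Decomposition (freeGr 𝒜 c) :=
  (isInternal_freeGr 𝒜 c).chooseDecomposition

instance freeGSMul {n : ℕ} (c : Fin n → ι) : SetLike.GradedSMul 𝒜 (freeGr 𝒜 c) where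
  smul_mem := by
    intro i e r v hr hv b
    have := SetLike.GradedMul.mul_mem hr (hv b)
    rw [vadd_eq_add, add_sub_assoc]
    exact this

/-- The graded free module with basis degrees `c`. -/
noncomputable def freeGM {n : ℕ} (c : Fin n → ι) : GMod.{u} 𝒜 := GMod.of 𝒜 (Fin n → R) (freeGr 𝒜 c)

theorem vanM_free (a : HomogeneousIdeal 𝒜) (i : ℕ) : ∀ {n : ℕ} (c : Fin n → ι) (e : ι),
    (∀ b, VanM a 𝒜 i (e - c b)) → VanM a (freeGr 𝒜 c) i e := by
  intro n
  induction n with
  | zero =>
    intro c e _
    exact vanM_of_subsingleton a i e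
  | succ n ih =>
    intro c e h
    let inc : R →ₗ[R] (Fin (n + 1) → R) := LinearMap.single R (fun _ : Fin (n + 1) => R) 0
    let p : (Fin (n + 1) → R) →ₗ[R] (Fin n → R) := LinearMap.funLeft R R Fin.succ
    have S : SES (shiftGr 𝒜 (-c 0)) (freeGr 𝒜 c) (freeGr 𝒜 (fun b => c b.succ)) inc p :=
      { i_gr := by
          intro g r hr b
          change (Pi.single (0 : Fin (n + 1)) r : Fin (n + 1) → R) b ∈ 𝒜 (g - c b)
          by_cases hb : b = 0
          · subst hb
            rw [Pi.single_eq_same, sub_eq_add_neg]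
            exact hr
          · rw [Pi.single_eq_of_ne hb]
            exact zero_mem _
        p_gr := fun g v hv b => hv b.succ
        inj := by
          intro r r' hrr'
          have := congrFun hrr' 0
          change (Pi.single (0 : Fin (n + 1)) r : Fin (n + 1) → R) 0 =
            (Pi.single (0 : Fin (n + 1)) r' : Fin (n + 1) → R) 0 at this
          rwa [Pi.single_eq_same, Pi.single_eq_same] at this
        surj := by
          intro w
          exact ⟨Fin.cons 0 w, by
            funext b
            change (Fin.cons 0 w : Fin (n + 1) → R) b.succ = w b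
            rw [Fin.cons_succ]⟩
        exact := by
          apply le_antisymm
          · rintro _ ⟨r, rfl⟩
            rw [LinearMap.mem_ker]
            funext b
            change (Pi.single (0 : Fin (n + 1)) r : Fin (n + 1) → R) b.succ = 0
            rw [Pi.single_eq_of_ne (Fin.succ_ne_zero b)]
          · intro v hv
            rw [LinearMap.mem_ker] at hv
            refine ⟨v 0, ?_⟩
            funext b
            change (Pi.single (0 : Fin (n + 1)) (v 0) : Fin (n + 1) → R) b = v b
            refine Fin.cases ?_ (fun b' => ?_) b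
            · rw [Pi.single_eq_same]
            · rw [Pi.single_eq_of_ne (Fin.succ_ne_zero b')]
              exact (congrFun hv b').symm }
    apply les_mid a S i e
    · rw [vanM_shift (ℳ := 𝒜), ← sub_eq_add_neg]
      exact h 0
    · exact ih (fun b => c b.succ) e (fun b => h b.succ)

end FreeGr

section KerRange

variable {ι : Type} [AddCommGroup ι] [DecidableEq ι]
variable {R : Type u} [CommRing R] {𝒜 : ι → AddSubgroup R} [GradedRing 𝒜]

variable (X Y : GMod.{u} 𝒜) (f : X.carrier →ₗ[R] Y.carrier) (hf : IsGrHom X.gr Y.gr f)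

/-- The kernel of a homogeneous map as a graded module. -/
noncomputable def gker : GMod.{u} 𝒜 :=
  gmodSub 𝒜 X.gr (LinearMap.ker f) (ker_isHomogeneous X.gr Y.gr f hf)

/-- The range of a homogeneous map as a graded module. -/
noncomputable def grange : GMod.{u} 𝒜 :=
  gmodSub 𝒜 Y.gr (LinearMap.range f) (range_isHomogeneous X.gr Y.gr f hf)

/-- The inclusion of the kernel. -/
noncomputable def gkerι : (gker X Y f hf).carrier →ₗ[R] X.carrier := (LinearMap.ker f).subtype

/-- The corestriction onto the range. -/
noncomputable def grangeπ : X.carrier →ₗ[R] (grange X Y f hf).carrier := f.rangeRestrict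

theorem ses_ker_range :
    SES (gker X Y f hf).gr X.gr (grange X Y f hf).gr (gkerι X Y f hf) (grangeπ X Y f hf) where
  i_gr := fun _ _ h => h
  p_gr := fun g x hx => hf g x hx
  inj := Subtype.val_injective
  surj := f.surjective_rangeRestrict
  exact := by
    apply le_antisymm
    · rintro _ ⟨z, rfl⟩
      rw [LinearMap.mem_ker]
      apply Subtype.ext
      exact z.2
    · intro x hx
      rw [LinearMap.mem_ker] at hx
      have hx' : f x = 0 := congrArg Subtype.val hx
      exact ⟨⟨x, hx'⟩, rfl⟩

/-- The short exact sequence of a surjective homogeneous map. -/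
theorem ses_ker_surj (hs : Function.Surjective f) :
    SES (gker X Y f hf).gr X.gr Y.gr (gkerι X Y f hf) f where
  i_gr := fun _ _ h => h
  p_gr := hf
  inj := Subtype.val_injective
  surj := hs
  exact := by
    apply le_antisymm
    · rintro _ ⟨z, rfl⟩
      exact z.2
    · intro x hx
      exact ⟨⟨x, hx⟩, rfl⟩

end KerRange

end Groth.Agent.Lib.Helper8.GrLCFree
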