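import Groth.Agent.Lib.Helper8.GrLCFun
import Groth.Agent.Lib.Helper8.GrLCGV
import Groth.Agent.Lib.Helper8.GrLCWhole

set_option autoImplicit false
set_option linter.unusedSectionVars false
universe u

open DirectSum GrLC
open Groth.Agent.Lib.Helper30
open Groth.Agent.Lib.Helper8.GrLCBase Groth.Agent.Lib.Helper8.GrLCProd
open Groth.Agent.Lib.Helper8.GrLCLES Groth.Agent.Lib.Helper8.GrLCTors
open Groth.Agent.Lib.Helper8.GrLCShift Groth.Agent.Lib.Helper8.GrLCFree
open Groth.Agent.Lib.Helper8.GrLCFun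

namespace Groth.Agent.Lib.Helper8.GrLCFreeFun

variable {ι : Type} [AddCommGroup ι] [DecidableEq ι]
variable {R : Type u} [CommRing R] {𝒜 : ι → AddSubgroup R} [GradedRing 𝒜]

section FreeCover

theorem exists_homog_gens {M : Type u} [AddCommGroup M] [Module R M] (ℳ : ι → AddSubgroup M)
    [DirectSum.Decomposition ℳ] (hX : Module.Finite R M) :
    ∃ (t : ℕ) (x : Fin t → M) (c : Fin t → ι), (∀ b, x b ∈ ℳ (c b)) ∧
      Submodule.span R (Set.range x) = ⊤ := by
  classical
  obtain ⟨s, hs⟩ := Module.finite_def.mp hX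
  let s' : Finset M := s.biUnion (fun y =>
    (DFinsupp.support (decompose ℳ y)).image (fun g => (decompose ℳ y g : M)))
  have hs'h : ∀ y ∈ s', ∃ g, y ∈ ℳ g := by
    intro y hy
    rw [Finset.mem_biUnion] at hy
    obtain ⟨w, _, hy⟩ := hy
    rw [Finset.mem_image] at hy
    obtain ⟨g, _, rfl⟩ := hy
    exact ⟨g, SetLike.coe_mem _⟩
  have hs'span : Submodule.span R (s' : Set M) = ⊤ := by
    rw [eq_top_iff, ← hs, Submodule.span_le]
    intro y hy
    rw [SetLike.mem_coe, ← DirectSum.sum_support_decompose ℳ y]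
    apply Submodule.sum_mem
    intro g hg
    apply Submodule.subset_span
    rw [Finset.mem_coe, Finset.mem_biUnion]
    exact ⟨y, hy, Finset.mem_image_of_mem _ hg⟩
  choose! deg hdeg using hs'h
  refine ⟨s'.card, fun b => (s'.equivFin.symm b : M),
    fun b => deg (s'.equivFin.symm b : M), fun b => hdeg _ (s'.equivFin.symm b).2, ?_⟩
  rw [← hs'span]
  congr 1
  ext y
  constructor
  · rintro ⟨b, rfl⟩
    exact (s'.equivFin.symm b).2
  · intro hy
    exact ⟨s'.equivFin ⟨y, hy⟩, by simp⟩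

variable {t : ℕ} (c : Fin t → ι)

theorem proj_deg (b : Fin t) :
    IsGrHomDeg (freeGr 𝒜 c) 𝒜 (LinearMap.proj b : (Fin t → R) →ₗ[R] R) (-c b) := by
  intro g v hv
  rw [← sub_eq_add_neg]
  exact hv b

theorem single_mem (b : Fin t) : (Pi.single b 1 : Fin t → R) ∈ freeGr 𝒜 c (c b) := by
  intro b'
  by_cases h : b' = b
  · subst h
    rw [Pi.single_eq_same, sub_self]
    exact SetLike.GradedOne.one_mem
  · rw [Pi.single_eq_of_ne h]
    exact zero_mem _

theorem sum_rho_proj :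
    ∑ b : Fin t, rho (R := R) (Pi.single b (1 : R) : Fin t → R) ∘ₗ
      (LinearMap.proj b : (Fin t → R) →ₗ[R] R) = LinearMap.id := by
  apply LinearMap.ext
  intro v
  rw [LinearMap.sum_apply, LinearMap.id_apply]
  funext b'
  rw [Finset.sum_apply]
  simp only [LinearMap.comp_apply, LinearMap.proj_apply, rho_apply, Pi.smul_apply, smul_eq_mul]
  rw [Finset.sum_eq_single b']
  · rw [Pi.single_eq_same, mul_one]
  · intro b _ hb
    rw [Pi.single_eq_of_ne (Ne.symm hb), mul_zero]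
  · intro h
    exact absurd (Finset.mem_univ b') h

theorem proj_rho (v : Fin t → R) (b : Fin t) :
    (LinearMap.proj b : (Fin t → R) →ₗ[R] R) ∘ₗ rho v = v b • (LinearMap.id : R →ₗ[R] R) := by
  apply LinearMap.ext
  intro r
  rw [LinearMap.comp_apply, rho_apply, LinearMap.proj_apply, Pi.smul_apply, LinearMap.smul_apply,
    LinearMap.id_apply, smul_eq_mul, smul_eq_mul, mul_comm]

variable (EF : StarInjRes 𝒜 (freeGr 𝒜 c)) (I : StarInjRes 𝒜 𝒜) (a : HomogeneousIdeal 𝒜) (n : ℕ)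

theorem free_decomp (y : EF.H a n) :
    y = ∑ b : Fin t, mu EF I a n (Pi.single b (1 : R) : Fin t → R)
      (Hf EF I a n (LinearMap.proj b : (Fin t → R) →ₗ[R] R) (-c b) y) := by
  have h1 : Hf EF EF a n (LinearMap.id : (Fin t → R) →ₗ[R] (Fin t → R)) 0 = LinearMap.id :=
    Hf_id a n
  have hdeg : ∀ b ∈ (Finset.univ : Finset (Fin t)), IsGrHomDeg (freeGr 𝒜 c) (freeGr 𝒜 c)
      (rho (R := R) (Pi.single b (1 : R) : Fin t → R) ∘ₗ
        (LinearMap.proj b : (Fin t → R) →ₗ[R] R)) 0 := by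
    intro b _ g v hv
    have h2 := rho_deg (𝒜 := 𝒜) (single_mem (𝒜 := 𝒜) c b) _ _ (proj_deg (𝒜 := 𝒜) c b g v hv)
    rw [add_assoc, neg_add_cancel] at h2
    exact h2
  rw [← sum_rho_proj (R := R) (t := t), Hf_sum a n _ _ hdeg] at h1
  have h3 := LinearMap.congr_fun h1 y
  rw [LinearMap.id_apply, LinearMap.sum_apply] at h3
  conv_lhs => rw [← h3]
  apply Finset.sum_congr rfl
  intro b _
  have h4 := Hf_comp (E := EF) (E' := I) (E'' := EF) a n (proj_deg (𝒜 := 𝒜) c b)
    (rho_deg (𝒜 := 𝒜) (single_mem (𝒜 := 𝒜) c b))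
  rw [neg_add_cancel] at h4
  rw [h4, LinearMap.comp_apply, mu_of_mem EF I a n (single_mem (𝒜 := 𝒜) c b)]

theorem free_proj_mu {e : ι} {v : Fin t → R} (hv : v ∈ freeGr 𝒜 c e) (b : Fin t) (h : I.H a n) :
    Hf EF I a n (LinearMap.proj b : (Fin t → R) →ₗ[R] R) (-c b) (mu EF I a n v h) = v b • h := by
  rw [mu_of_mem EF I a n hv]
  have h4 := Hf_comp (E := I) (E' := EF) (E'' := I) a n (rho_deg (𝒜 := 𝒜) hv)
    (proj_deg (𝒜 := 𝒜) c b)
  have h5 := LinearMap.congr_fun h4 h
  rw [LinearMap.comp_apply] at h5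
  rw [← h5, proj_rho, ← sub_eq_add_neg, Hf_smul_id a n (hv b)]
  rfl

end FreeCover


section Cover

variable [IsNoetherianRing R] (I : StarInjRes 𝒜 𝒜) (a : HomogeneousIdeal 𝒜) (n : ℕ)

/-- Vanishing of all graded pieces of `H^{n+1}` gives vanishing at the cocycle level. -/
theorem cobdy_of_vanM {M : Type u} [AddCommGroup M] [Module R M] {ℳ : ι → AddSubgroup M}
    [DirectSum.Decomposition ℳ] [SetLike.GradedSMul 𝒜 ℳ] (E : StarInjRes 𝒜 ℳ) (q : ℕ)
    (h : ∀ g, VanM a ℳ q g) : ∀ z ∈ E.cocyc a q, z ∈ E.cobdy a q := by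
  intro z hz
  have hsub := Groth.Agent.Lib.Helper8.GrLCWhole.subsingleton_H_of_vanM a E q h
  have h0 : E.toH a q ⟨z, hz⟩ = 0 := Subsingleton.elim _ _
  have := (Submodule.Quotient.mk_eq_zero _).mp h0
  exact this

/-- A free cover of a finitely generated graded module together with the exactness of top
local cohomology it induces. -/
theorem exists_cover {M : Type u} [AddCommGroup M] [Module R M] (ℳ : ι → AddSubgroup M)
    [DirectSum.Decomposition ℳ] [SetLike.GradedSMul 𝒜 ℳ] (hX : Module.Finite R M)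
    (EX : StarInjRes 𝒜 ℳ)
    (hGV : ∀ Y : GMod.{u} 𝒜, Module.Finite R Y.carrier → ∀ g, VanM a Y.gr (n + 1) g) :
    ∃ (t : ℕ) (c : Fin t → ι) (p : (Fin t → R) →ₗ[R] M)
      (EF : StarInjRes 𝒜 (freeGr 𝒜 c)) (L : GMod.{u} 𝒜) (q : L.carrier →ₗ[R] (Fin t → R))
      (EL : StarInjRes 𝒜 L.gr),
      IsGrHom (freeGr 𝒜 c) ℳ p ∧ Function.Surjective p ∧ Module.Finite R L.carrier ∧
      IsGrHom L.gr (freeGr 𝒜 c) q ∧ (∀ l, p (q l) = 0) ∧
      Function.Surjective (Hf EF EX a n p 0) ∧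
      (∀ y, Hf EF EX a n p 0 y = 0 → ∃ y', Hf EL EF a n q 0 y' = y) := by
  classical
  obtain ⟨t, x, c, hx, hspan⟩ := exists_homog_gens ℳ hX
  let X : GMod.{u} 𝒜 := GMod.of 𝒜 M ℳ
  let p : (Fin t → R) →ₗ[R] M := Fintype.linearCombination R x
  have hp : IsGrHom (freeGr 𝒜 c) ℳ p := by
    intro g v hv
    change Fintype.linearCombination R x v ∈ ℳ g
    rw [Fintype.linearCombination_apply]
    apply sum_mem
    intro b _
    have h := SetLike.GradedSMul.smul_mem (A := 𝒜) (B := ℳ) (hv b) (hx b)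
    rw [vadd_eq_add, sub_add_cancel] at h
    exact h
  have hps : Function.Surjective p := by
    rw [← LinearMap.range_eq_top]
    change LinearMap.range (Fintype.linearCombination R x) = ⊤
    rw [Fintype.range_linearCombination, hspan]
  let F : GMod.{u} 𝒜 := freeGM 𝒜 c
  have hp' : IsGrHom F.gr X.gr (show F.carrier →ₗ[R] X.carrier from p) := hp
  let L : GMod.{u} 𝒜 := gker F X (show F.carrier →ₗ[R] X.carrier from p) hp'
  let q : L.carrier →ₗ[R] F.carrier := gkerι F X (show F.carrier →ₗ[R] X.carrier from p) hp'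
  have S : SES L.gr F.gr X.gr q (show F.carrier →ₗ[R] X.carrier from p) :=
    ses_ker_surj F X (show F.carrier →ₗ[R] X.carrier from p) hp' hps
  have hLfin : Module.Finite R L.carrier := by
    have : IsNoetherian R (Fin t → R) := isNoetherian_of_isNoetherianRing_of_finite R (Fin t → R)
    exact Module.Finite.iff_fg.mpr (IsNoetherian.noetherian (LinearMap.ker p))
  let EL : StarInjRes 𝒜 L.gr := starInjRes 𝒜 L.gr
  obtain ⟨D⟩ := exists_hsdata (E' := EL) (E'' := EX) S
  let EF : StarInjRes 𝒜 (freeGr 𝒜 c) := hs S D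
  refine ⟨t, c, p, EF, L, q, EL, hp, hps, hLfin, S.i_gr, fun l => S.p_i l, ?_, ?_⟩
  · exact Hf_snd_surjective S D a n (cobdy_of_vanM a EL (n + 1) (hGV L hLfin))
  · intro y hy
    exact Hf_exact S D a n y hy

/-- The top local cohomology of a finitely generated graded module is spanned by the images
of the top local cohomology of the ring under multiplication by finitely many homogeneous
elements. -/
theorem span_mu {M : Type u} [AddCommGroup M] [Module R M] (ℳ : ι → AddSubgroup M)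
    [DirectSum.Decomposition ℳ] [SetLike.GradedSMul 𝒜 ℳ] (hX : Module.Finite R M)
    (EX : StarInjRes 𝒜 ℳ)
    (hGV : ∀ Y : GMod.{u} 𝒜, Module.Finite R Y.carrier → ∀ g, VanM a Y.gr (n + 1) g) :
    ∃ (t : ℕ) (x : Fin t → M) (c : Fin t → ι), (∀ b, x b ∈ ℳ (c b)) ∧
      ∀ y : EX.H a n, ∃ h : Fin t → I.H a n, y = ∑ b, mu EX I a n (x b) (h b) := by
  obtain ⟨t, c, p, EF, L, q, EL, hp, hps, -, -, -, hsurj, -⟩ := exists_cover a n ℳ hX EX hGV
  refine ⟨t, fun b => p (Pi.single b 1), c, fun b => hp _ _ (single_mem c b), ?_⟩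
  intro y
  obtain ⟨yF, rfl⟩ := hsurj y
  refine ⟨fun b => Hf EF I a n (LinearMap.proj b : (Fin t → R) →ₗ[R] R) (-c b) yF, ?_⟩
  conv_lhs => rw [free_decomp c EF I a n yF]
  rw [map_sum]
  apply Finset.sum_congr rfl
  intro b _
  rw [mu_nat EF EX I a n p hp, LinearMap.comp_apply]

end Cover

end Groth.Agent.Lib.Helper8.GrLCFreeFun
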