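import Groth.Agent.Lib.Helper8.GrLCShift

set_option autoImplicit false
set_option linter.unusedSectionVars false
universe u

open DirectSum GrLC
open Groth.Agent.Lib.Helper30
open Groth.Agent.Lib.Helper8.GrLCBase Groth.Agent.Lib.Helper8.GrLCProd
open Groth.Agent.Lib.Helper8.GrLCLES Groth.Agent.Lib.Helper8.GrLCTors
open Groth.Agent.Lib.Helper8.GrLCShift

namespace Groth.Agent.Lib.Helper8.GrLCFun

variable {ι : Type} [AddCommGroup ι] [DecidableEq ι]
variable {R : Type u} [CommRing R] {𝒜 : ι → AddSubgroup R} [GradedRing 𝒜]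

section RMapSec

variable {M : Type u} [AddCommGroup M] [Module R M] {ℳ : ι → AddSubgroup M}
  [DirectSum.Decomposition ℳ] [SetLike.GradedSMul 𝒜 ℳ]
variable {N : Type u} [AddCommGroup N] [Module R N] {𝒩 : ι → AddSubgroup N}
  [DirectSum.Decomposition 𝒩] [SetLike.GradedSMul 𝒜 𝒩]
variable {P : Type u} [AddCommGroup P] [Module R P] {𝒬 : ι → AddSubgroup P}
  [DirectSum.Decomposition 𝒬] [SetLike.GradedSMul 𝒜 𝒬]

/-- A raw chain map between two resolutions (no homogeneity, no augmentation condition). -/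
structure RMap (E : StarInjRes 𝒜 ℳ) (E' : StarInjRes 𝒜 𝒩) where
  φ : ∀ n, (E.X n).carrier →ₗ[R] (E'.X n).carrier
  comm : ∀ n x, φ (n + 1) (E.d n x) = E'.d n (φ n x)

namespace RMap

variable {E : StarInjRes 𝒜 ℳ} {E' : StarInjRes 𝒜 𝒩} {E'' : StarInjRes 𝒜 𝒬}
variable (c : RMap E E') (a : HomogeneousIdeal 𝒜)

theorem map_cocyc (n : ℕ) {z : (E.X n).carrier} (hz : z ∈ E.cocyc a n) :
    c.φ n z ∈ E'.cocyc a n := by
  refine ⟨gam_map _ _ hz.1, ?_⟩
  have h2 : E.d n z = 0 := hz.2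
  change E'.d n (c.φ n z) = 0
  rw [← c.comm, h2, map_zero]

theorem map_cobdy (n : ℕ) {z : (E.X n).carrier} (hz : z ∈ E.cobdy a n) :
    c.φ n z ∈ E'.cobdy a n := by
  cases n with
  | zero =>
    rw [mem_cobdy_zero] at hz ⊢
    rw [hz, map_zero]
  | succ n =>
    rw [mem_cobdy_succ] at hz ⊢
    obtain ⟨y, hy, rfl⟩ := hz
    exact ⟨c.φ n y, gam_map _ _ hy, (c.comm n y).symm⟩

/-- The induced map on cocycles. -/
def mapCocyc (n : ℕ) : ↥(E.cocyc a n) →ₗ[R] ↥(E'.cocyc a n) :=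
  (c.φ n).restrict (fun _ hz => c.map_cocyc a n hz)

theorem mapCocyc_coe (n : ℕ) (z : ↥(E.cocyc a n)) :
    ((c.mapCocyc a n z : ↥(E'.cocyc a n)) : (E'.X n).carrier) = c.φ n z := rfl

/-- The induced map on cohomology. -/
def H (n : ℕ) : E.H a n →ₗ[R] E'.H a n :=
  Submodule.mapQ _ _ (c.mapCocyc a n) (by
    intro z hz
    exact c.map_cobdy a n hz)

theorem H_toH (n : ℕ) (z : ↥(E.cocyc a n)) :
    c.H a n (E.toH a n z) = E'.toH a n (c.mapCocyc a n z) := rfl

theorem toH_eq_iff (n : ℕ) (w w' : ↥(E'.cocyc a n)) :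
    E'.toH a n w = E'.toH a n w' ↔
      ((w : (E'.X n).carrier) - (w' : (E'.X n).carrier)) ∈ E'.cobdy a n := by
  rw [Submodule.mkQ_apply, Submodule.mkQ_apply, Submodule.Quotient.eq]
  rfl

theorem H_ext {Y : Type*} [AddCommGroup Y] [Module R Y] (n : ℕ) (f g : E.H a n →ₗ[R] Y)
    (h : ∀ z : ↥(E.cocyc a n), f (E.toH a n z) = g (E.toH a n z)) : f = g := by
  apply LinearMap.ext
  intro y
  obtain ⟨z, rfl⟩ := Submodule.mkQ_surjective _ y
  exact h z

theorem H_eq_of_cobdy (c c' : RMap E E') (n : ℕ)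
    (h : ∀ z ∈ E.cocyc a n, c.φ n z - c'.φ n z ∈ E'.cobdy a n) : c.H a n = c'.H a n := by
  apply H_ext
  intro z
  rw [H_toH, H_toH, toH_eq_iff]
  exact h z z.2

theorem H_add_of (c c₁ c₂ : RMap E E') (n : ℕ)
    (h : ∀ z, c.φ n z = c₁.φ n z + c₂.φ n z) : c.H a n = c₁.H a n + c₂.H a n := by
  apply H_ext
  intro z
  rw [LinearMap.add_apply, H_toH, H_toH, H_toH, ← map_add]
  congr 1
  apply Subtype.ext
  exact h z

theorem H_zero_of (c : RMap E E') (n : ℕ) (h : ∀ z, c.φ n z = 0) : c.H a n = 0 := by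
  apply H_ext
  intro z
  rw [LinearMap.zero_apply, H_toH]
  have : c.mapCocyc a n z = 0 := Subtype.ext (h z)
  rw [this, map_zero]

theorem H_sum_of {β : Type*} (s : Finset β) (c : RMap E E') (cs : β → RMap E E') (n : ℕ)
    (h : ∀ z, c.φ n z = ∑ b ∈ s, (cs b).φ n z) : c.H a n = ∑ b ∈ s, (cs b).H a n := by
  apply H_ext
  intro z
  rw [LinearMap.sum_apply, H_toH]
  simp only [H_toH]
  rw [← map_sum]
  congr 1
  apply Subtype.ext
  rw [mapCocyc_coe, h z, AddSubmonoidClass.coe_finsetSum]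
  rfl

theorem H_smul_of (r : R) (c c₁ : RMap E E') (n : ℕ)
    (h : ∀ z, c.φ n z = r • c₁.φ n z) : c.H a n = r • c₁.H a n := by
  apply H_ext
  intro z
  rw [LinearMap.smul_apply, H_toH, H_toH, ← map_smul]
  congr 1
  apply Subtype.ext
  exact h z

theorem H_comp_of (c : RMap E E'') (c₁ : RMap E E') (c₂ : RMap E' E'') (n : ℕ)
    (h : ∀ z, c.φ n z = c₂.φ n (c₁.φ n z)) : c.H a n = c₂.H a n ∘ₗ c₁.H a n := by
  apply H_ext
  intro z
  rw [LinearMap.comp_apply, H_toH, H_toH, H_toH]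
  congr 1
  apply Subtype.ext
  exact h z

theorem H_id_of (c : RMap E E) (n : ℕ) (h : ∀ z, c.φ n z = z) : c.H a n = LinearMap.id := by
  apply H_ext
  intro z
  rw [LinearMap.id_apply, H_toH]
  congr 1
  apply Subtype.ext
  exact h z

theorem H_homotopy (c c' : RMap E E')
    (h : ∀ n, (E.X (n + 1)).carrier →ₗ[R] (E'.X n).carrier)
    (h0 : ∀ x, c.φ 0 x - c'.φ 0 x = h 0 (E.d 0 x))
    (hS : ∀ n x, c.φ (n + 1) x - c'.φ (n + 1) x =
      E'.d n (h n x) + h (n + 1) (E.d (n + 1) x)) (n : ℕ) : c.H a n = c'.H a n := by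
  apply H_eq_of_cobdy
  intro z hz
  have hdz : E.d n z = 0 := hz.2
  cases n with
  | zero =>
    rw [mem_cobdy_zero, h0, hdz, map_zero]
  | succ n =>
    rw [mem_cobdy_succ, hS, hdz, map_zero, add_zero]
    exact ⟨h n z, gam_map _ _ hz.1, rfl⟩

/-- The chain map is homogeneous of degree `j`. -/
def IsDeg (c : RMap E E') (j : ι) : Prop :=
  ∀ n g x, x ∈ (E.X n).gr g → c.φ n x ∈ (E'.X n).gr (g + j)

/-- The chain map lies over `f`. -/
def Lifts (c : RMap E E') (f : M →ₗ[R] N) : Prop := ∀ m, c.φ 0 (E.ε m) = E'.ε (f m)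

theorem H_eq_of_lifts (c c' : RMap E E') (j : ι) (hc : c.IsDeg j) (hc' : c'.IsDeg j)
    (f : M →ₗ[R] N) (hf : c.Lifts f) (hf' : c'.Lifts f) (n : ℕ) : c.H a n = c'.H a n := by
  let χ : ∀ n, (E.X n).carrier →ₗ[R] ((resShift E' j).X n).carrier :=
    fun n => c.φ n - c'.φ n
  have hχ_gr : ∀ n, IsGrHom (E.X n).gr ((resShift E' j).X n).gr (χ n) := by
    intro n g x hx
    exact sub_mem (hc n g x hx) (hc' n g x hx)
  have hχ_comm : ∀ n x, χ (n + 1) (E.d n x) = (resShift E' j).d n (χ n x) := by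
    intro n x
    change c.φ (n + 1) (E.d n x) - c'.φ (n + 1) (E.d n x) = E'.d n (c.φ n x - c'.φ n x)
    rw [c.comm, c'.comm, map_sub]
  have hχ0 : ∀ m, χ 0 (E.ε m) = 0 := by
    intro m
    change c.φ 0 (E.ε m) - c'.φ 0 (E.ε m) = 0
    rw [hf m, hf' m, sub_self]
  obtain ⟨h, h0, hS⟩ := exists_homotopy (E := E) (E' := resShift E' j) hχ_gr hχ_comm hχ0
  exact H_homotopy a c c' h (fun x => h0 x) (fun n x => hS n x) n

theorem exists_lift (E : StarInjRes 𝒜 ℳ) (E' : StarInjRes 𝒜 𝒩) (f : M →ₗ[R] N) (j : ι)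
    (hf : ∀ g m, m ∈ ℳ g → f m ∈ 𝒩 (g + j)) :
    ∃ c : RMap E E', c.IsDeg j ∧ c.Lifts f := by
  obtain ⟨Φ⟩ := exists_cmap (E := E) (E' := resShift E' j) f (fun g m hm => hf g m hm)
  exact ⟨⟨Φ.φ, Φ.comm⟩, fun n g x hx => Φ.gr n g x hx, Φ.aug⟩

theorem H_mem_Hgr (c : RMap E E') (j : ι) (hc : c.IsDeg j) (n : ℕ) (g : ι) (y : E.H a n)
    (hy : y ∈ E.Hgr a n g) : c.H a n y ∈ E'.Hgr a n (g + j) := by
  obtain ⟨z, hz, rfl⟩ := hy
  exact ⟨c.mapCocyc a n z, hc n g _ hz, rfl⟩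

end RMap

end RMapSec


section HSMaps

variable {M' : Type u} [AddCommGroup M'] [Module R M'] {ℳ' : ι → AddSubgroup M'}
  [DirectSum.Decomposition ℳ'] [SetLike.GradedSMul 𝒜 ℳ']
variable {M : Type u} [AddCommGroup M] [Module R M] {ℳ : ι → AddSubgroup M}
  [DirectSum.Decomposition ℳ] [SetLike.GradedSMul 𝒜 ℳ]
variable {M'' : Type u} [AddCommGroup M''] [Module R M''] {ℳ'' : ι → AddSubgroup M''}
  [DirectSum.Decomposition ℳ''] [SetLike.GradedSMul 𝒜 ℳ'']
variable {i : M' →ₗ[R] M} {p : M →ₗ[R] M''}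
variable {E' : StarInjRes 𝒜 ℳ'} {E'' : StarInjRes 𝒜 ℳ''}
variable (S : SES ℳ' ℳ ℳ'' i p) (D : HSData E' E'' i p ℳ) (a : HomogeneousIdeal 𝒜)

/-- The inclusion of the sub-resolution into the horseshoe resolution. -/
noncomputable def hsInl : RMap E' (hs S D) where
  φ n := LinearMap.inl R (E'.X n).carrier (E''.X n).carrier
  comm n x := by
    change ((E'.d n x, 0) : (E'.X (n + 1)).carrier × (E''.X (n + 1)).carrier) = hsD D n (x, 0)
    rw [hsD_apply, map_zero, map_zero, add_zero]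

/-- The projection of the horseshoe resolution onto the quotient resolution. -/
noncomputable def hsSnd : RMap (hs S D) E'' where
  φ n := LinearMap.snd R (E'.X n).carrier (E''.X n).carrier
  comm _ _ := rfl

theorem hsInl_isDeg : (hsInl S D).IsDeg 0 := by
  intro n g x hx
  rw [add_zero]
  exact ⟨hx, zero_mem _⟩

theorem hsInl_lifts : (hsInl S D).Lifts i := by
  intro m'
  change ((E'.ε m', 0) : (E'.X 0).carrier × (E''.X 0).carrier) = hsε D (i m')
  rw [hsε_apply, D.h1, S.p_i, map_zero]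

theorem hsSnd_isDeg : (hsSnd S D).IsDeg 0 := by
  intro n g x hx
  rw [add_zero]
  exact hx.2

theorem hsSnd_lifts : (hsSnd S D).Lifts p := fun _ => rfl

theorem hsSnd_surjective (n : ℕ)
    (hvan : ∀ z ∈ E'.cocyc a (n + 1), z ∈ E'.cobdy a (n + 1)) :
    Function.Surjective ((hsSnd S D).H a n) := by
  intro y''
  obtain ⟨z'', rfl⟩ := Submodule.mkQ_surjective _ y''
  have hz''g : (z'' : (E''.X n).carrier) ∈ gam a.toIdeal (E''.X n).carrier := z''.2.1
  have hz''d : E''.d n (z'' : (E''.X n).carrier) = 0 := z''.2.2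
  have hθc : D.θ n (z'' : (E''.X n).carrier) ∈ E'.cocyc a (n + 1) := by
    refine ⟨gam_map _ _ hz''g, ?_⟩
    change E'.d (n + 1) (D.θ n (z'' : (E''.X n).carrier)) = 0
    have := D.h3 n (z'' : (E''.X n).carrier)
    rw [hz''d, map_zero] at this
    exact neg_eq_zero.mp this.symm
  have hb := hvan _ hθc
  rw [mem_cobdy_succ] at hb
  obtain ⟨y', hy', hy'θ⟩ := hb
  have hwc : ((-y', (z'' : (E''.X n).carrier)) : (E'.X n).carrier × (E''.X n).carrier) ∈
      (hs S D).cocyc a n := by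
    refine ⟨?_, ?_⟩
    · exact (gam_prod_iff a.toIdeal _ _).mpr ⟨Submodule.neg_mem _ hy', hz''g⟩
    · change hsD D n (-y', (z'' : (E''.X n).carrier)) = 0
      rw [hsD_apply, map_neg, hy'θ, neg_add_cancel, hz''d]
      rfl
  refine ⟨(hs S D).toH a n ⟨_, hwc⟩, ?_⟩
  rw [RMap.H_toH]
  congr 1

theorem hs_exact (n : ℕ) (y : (hs S D).H a n) (hy : (hsSnd S D).H a n y = 0) :
    ∃ y', (hsInl S D).H a n y' = y := by
  obtain ⟨z, rfl⟩ := Submodule.mkQ_surjective _ y
  obtain ⟨⟨x', x''⟩, hzc⟩ := z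
  have hzg := (gam_prod_iff a.toIdeal x' x'').mp hzc.1
  have hzd : hsD D n (x', x'') = 0 := hzc.2
  rw [hsD_apply, Prod.mk_eq_zero] at hzd
  obtain ⟨hd1, hd2⟩ := hzd
  change (hsSnd S D).H a n ((hs S D).toH a n ⟨(x', x''), hzc⟩) = 0 at hy
  rw [RMap.H_toH] at hy
  have hx''b : x'' ∈ E''.cobdy a n := by
    have := (Submodule.Quotient.mk_eq_zero _).mp hy
    exact this
  cases n with
  | zero =>
    rw [mem_cobdy_zero] at hx''b
    subst hx''b
    rw [map_zero, add_zero] at hd1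
    have hx'c : x' ∈ E'.cocyc a 0 := ⟨hzg.1, hd1⟩
    refine ⟨E'.toH a 0 ⟨x', hx'c⟩, ?_⟩
    rw [RMap.H_toH]
    congr 1
  | succ n =>
    rw [mem_cobdy_succ] at hx''b
    obtain ⟨y'', hy'', rfl⟩ := hx''b
    have hz'c : x' - D.θ n y'' ∈ E'.cocyc a (n + 1) := by
      refine ⟨Submodule.sub_mem _ hzg.1 (gam_map _ _ hy''), ?_⟩
      change E'.d (n + 1) (x' - D.θ n y'') = 0
      have h3 := D.h3 n y''
      rw [h3] at hd1
      rw [map_sub, sub_eq_zero]
      exact add_neg_eq_zero.mp hd1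
    refine ⟨E'.toH a (n + 1) ⟨_, hz'c⟩, ?_⟩
    rw [RMap.H_toH, RMap.toH_eq_iff, mem_cobdy_succ]
    refine ⟨((0, -y'') : (E'.X n).carrier × (E''.X n).carrier), ?_, ?_⟩
    · exact (gam_prod_iff a.toIdeal _ _).mpr ⟨Submodule.zero_mem _, Submodule.neg_mem _ hy''⟩
    · have e1 : hsD D n (0, -y'') = (-(D.θ n y''), -(E''.d n y'')) := by
        rw [hsD_apply, map_zero, zero_add, map_neg, map_neg]
      change hsD D n (0, -y'') = _
      rw [e1]
      apply Prod.ext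
      · change -(D.θ n y'') = (x' - D.θ n y'') - x'
        abel
      · change -(E''.d n y'') = 0 - E''.d n y''
        rw [zero_sub]

end HSMaps


section HfSec

variable {M : Type u} [AddCommGroup M] [Module R M] {ℳ : ι → AddSubgroup M}
  [DirectSum.Decomposition ℳ] [SetLike.GradedSMul 𝒜 ℳ]
variable {N : Type u} [AddCommGroup N] [Module R N] {𝒩 : ι → AddSubgroup N}
  [DirectSum.Decomposition 𝒩] [SetLike.GradedSMul 𝒜 𝒩]
variable {P : Type u} [AddCommGroup P] [Module R P] {𝒬 : ι → AddSubgroup P}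
  [DirectSum.Decomposition 𝒬] [SetLike.GradedSMul 𝒜 𝒬]
variable (E : StarInjRes 𝒜 ℳ) (E' : StarInjRes 𝒜 𝒩) (E'' : StarInjRes 𝒜 𝒬)
variable (a : HomogeneousIdeal 𝒜) (n : ℕ)

open Classical in
/-- The map induced on cohomology by a homogeneous map of degree `j` (zero if `f` is not
homogeneous of degree `j`). -/
noncomputable def Hf (f : M →ₗ[R] N) (j : ι) : E.H a n →ₗ[R] E'.H a n :=
  if hf : IsGrHomDeg ℳ 𝒩 f j then (Classical.choose (RMap.exists_lift E E' f j hf)).H a n else 0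

variable {E E' E''}

theorem Hf_eq {f : M →ₗ[R] N} {j : ι} (c : RMap E E') (hc : c.IsDeg j) (hl : c.Lifts f) :
    Hf E E' a n f j = c.H a n := by
  have hf : IsGrHomDeg ℳ 𝒩 f j := by
    intro g m hm
    have h1 := hc 0 g (E.ε m) (E.ε_grHom g m hm)
    rw [hl m] at h1
    -- homogeneity of `ε' (f m)` gives homogeneity of `f m` since `ε'` is injective and graded
    classical
    have h2 : ∀ g', g' ≠ g + j → ((decompose 𝒩 (f m)) g' : N) = 0 := by
      intro g' hg'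
      apply E'.ε_injective
      rw [map_zero, decompose_map_of_isGrHom 𝒩 (E'.X 0).gr E'.ε E'.ε_grHom,
        decompose_of_mem_ne _ h1 (Ne.symm hg')]
    have h3 : f m = ((decompose 𝒩 (f m)) (g + j) : N) := by
      conv_lhs => rw [← DirectSum.sum_support_decompose 𝒩 (f m)]
      rw [Finset.sum_eq_single (g + j)]
      · intro g' _ hg'
        exact h2 g' hg'
      · intro h'
        simpa using h'
    rw [h3]
    exact SetLike.coe_mem _
  unfold Hf
  rw [dif_pos hf]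
  have hs := Classical.choose_spec (RMap.exists_lift E E' f j hf)
  exact RMap.H_eq_of_lifts a _ c j hs.1 hc f hs.2 hl n

theorem Hf_exists {f : M →ₗ[R] N} {j : ι} (hf : IsGrHomDeg ℳ 𝒩 f j) :
    ∃ c : RMap E E', c.IsDeg j ∧ c.Lifts f ∧ Hf E E' a n f j = c.H a n := by
  obtain ⟨c, hc, hl⟩ := RMap.exists_lift E E' f j hf
  exact ⟨c, hc, hl, Hf_eq a n c hc hl⟩

theorem Hf_add {f f' : M →ₗ[R] N} {j : ι} (hf : IsGrHomDeg ℳ 𝒩 f j)
    (hf' : IsGrHomDeg ℳ 𝒩 f' j) :
    Hf E E' a n (f + f') j = Hf E E' a n f j + Hf E E' a n f' j := by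
  obtain ⟨c, hc, hl, e⟩ := Hf_exists (E := E) (E' := E') a n hf
  obtain ⟨c', hc', hl', e'⟩ := Hf_exists (E := E) (E' := E') a n hf'
  let c₂ : RMap E E' :=
    { φ := fun k => c.φ k + c'.φ k
      comm := fun k x => by
        rw [LinearMap.add_apply, LinearMap.add_apply, c.comm, c'.comm, map_add] }
  have h2 : c₂.IsDeg j := fun k g x hx => add_mem (hc k g x hx) (hc' k g x hx)
  have h3 : c₂.Lifts (f + f') := by
    intro m
    change c.φ 0 (E.ε m) + c'.φ 0 (E.ε m) = E'.ε ((f + f') m)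
    rw [hl m, hl' m, LinearMap.add_apply, map_add]
  rw [Hf_eq a n c₂ h2 h3, e, e']
  exact RMap.H_add_of a c₂ c c' n (fun z => rfl)

theorem Hf_zero (j : ι) : Hf E E' a n (0 : M →ₗ[R] N) j = 0 := by
  let c₀ : RMap E E' :=
    { φ := fun _ => 0
      comm := fun k x => by simp }
  have h2 : c₀.IsDeg j := fun k g x _ => zero_mem _
  have h3 : c₀.Lifts (0 : M →ₗ[R] N) := by
    intro m
    change (0 : (E'.X 0).carrier) = E'.ε ((0 : M →ₗ[R] N) m)
    rw [LinearMap.zero_apply, map_zero]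
  rw [Hf_eq a n c₀ h2 h3]
  exact RMap.H_zero_of a c₀ n (fun z => rfl)

theorem Hf_smul {f : M →ₗ[R] N} {j : ι} (hf : IsGrHomDeg ℳ 𝒩 f j) {r : R} {i : ι}
    (hr : r ∈ 𝒜 i) :
    Hf E E' a n (r • f) (j + i) = r • Hf E E' a n f j := by
  obtain ⟨c, hc, hl, e⟩ := Hf_exists (E := E) (E' := E') a n hf
  let c₂ : RMap E E' :=
    { φ := fun k => r • c.φ k
      comm := fun k x => by
        rw [LinearMap.smul_apply, LinearMap.smul_apply, c.comm, map_smul] }
  have h2 : c₂.IsDeg (j + i) := by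
    intro k g x hx
    have h := SetLike.GradedSMul.smul_mem (A := 𝒜) (B := (E'.X k).gr) hr (hc k g x hx)
    rw [vadd_eq_add] at h
    have e1 : g + (j + i) = i + (g + j) := by abel
    rw [e1]
    exact h
  have h3 : c₂.Lifts (r • f) := by
    intro m
    change r • c.φ 0 (E.ε m) = E'.ε ((r • f) m)
    rw [hl m, LinearMap.smul_apply, map_smul]
  rw [Hf_eq a n c₂ h2 h3, e]
  exact RMap.H_smul_of a r c₂ c n (fun z => rfl)

theorem Hf_comp {f : M →ₗ[R] N} {j : ι} (hf : IsGrHomDeg ℳ 𝒩 f j) {f' : N →ₗ[R] P} {j' : ι}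
    (hf' : IsGrHomDeg 𝒩 𝒬 f' j') :
    Hf E E'' a n (f' ∘ₗ f) (j + j') = Hf E' E'' a n f' j' ∘ₗ Hf E E' a n f j := by
  obtain ⟨c, hc, hl, e⟩ := Hf_exists (E := E) (E' := E') a n hf
  obtain ⟨c', hc', hl', e'⟩ := Hf_exists (E := E') (E' := E'') a n hf'
  let c₂ : RMap E E'' :=
    { φ := fun k => c'.φ k ∘ₗ c.φ k
      comm := fun k x => by
        rw [LinearMap.comp_apply, LinearMap.comp_apply, c.comm, c'.comm] }
  have h2 : c₂.IsDeg (j + j') := by
    intro k g x hx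
    have h := hc' k (g + j) _ (hc k g x hx)
    rw [add_assoc] at h
    exact h
  have h3 : c₂.Lifts (f' ∘ₗ f) := by
    intro m
    change c'.φ 0 (c.φ 0 (E.ε m)) = E''.ε (f' (f m))
    rw [hl m, hl' (f m)]
  rw [Hf_eq a n c₂ h2 h3, e, e']
  exact RMap.H_comp_of a c₂ c c' n (fun z => rfl)

theorem Hf_id : Hf E E a n (LinearMap.id : M →ₗ[R] M) 0 = LinearMap.id := by
  let c₂ : RMap E E :=
    { φ := fun _ => LinearMap.id
      comm := fun _ _ => rfl }
  have h2 : c₂.IsDeg 0 := by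
    intro k g x hx
    rw [add_zero]
    exact hx
  have h3 : c₂.Lifts (LinearMap.id : M →ₗ[R] M) := fun _ => rfl
  rw [Hf_eq a n c₂ h2 h3]
  exact RMap.H_id_of a c₂ n (fun z => rfl)

theorem Hf_smul_id {r : R} {i : ι} (hr : r ∈ 𝒜 i) :
    Hf E E a n (r • (LinearMap.id : M →ₗ[R] M)) i = r • LinearMap.id := by
  have h := Hf_smul (E := E) (E' := E) a n
    (f := (LinearMap.id : M →ₗ[R] M)) (j := 0) (fun g m hm => by rw [add_zero]; exact hm) hr
  rw [zero_add, Hf_id] at h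
  exact h

theorem Hf_mem {f : M →ₗ[R] N} {j : ι} (hf : IsGrHomDeg ℳ 𝒩 f j) (g : ι) (y : E.H a n)
    (hy : y ∈ E.Hgr a n g) : Hf E E' a n f j y ∈ E'.Hgr a n (g + j) := by
  obtain ⟨c, hc, hl, e⟩ := Hf_exists (E := E) (E' := E') a n hf
  rw [e]
  exact RMap.H_mem_Hgr a c j hc n g y hy

theorem Hf_sum {β : Type*} (s : Finset β) (f : β → M →ₗ[R] N) {j : ι}
    (hf : ∀ b ∈ s, IsGrHomDeg ℳ 𝒩 (f b) j) :
    Hf E E' a n (∑ b ∈ s, f b) j = ∑ b ∈ s, Hf E E' a n (f b) j := by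
  classical
  induction s using Finset.induction_on with
  | empty => simp [Hf_zero]
  | insert b s hb ih =>
    rw [Finset.sum_insert hb, Finset.sum_insert hb, Hf_add a n (hf b (Finset.mem_insert_self b s)),
      ih (fun b' hb' => hf b' (Finset.mem_insert_of_mem hb'))]
    intro g m hm
    rw [LinearMap.sum_apply]
    exact sum_mem (fun b' hb' => hf b' (Finset.mem_insert_of_mem hb') g m hm)

end HfSec


section HSHf

variable {M' : Type u} [AddCommGroup M'] [Module R M'] {ℳ' : ι → AddSubgroup M'}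
  [DirectSum.Decomposition ℳ'] [SetLike.GradedSMul 𝒜 ℳ']
variable {M : Type u} [AddCommGroup M] [Module R M] {ℳ : ι → AddSubgroup M}
  [DirectSum.Decomposition ℳ] [SetLike.GradedSMul 𝒜 ℳ]
variable {M'' : Type u} [AddCommGroup M''] [Module R M''] {ℳ'' : ι → AddSubgroup M''}
  [DirectSum.Decomposition ℳ''] [SetLike.GradedSMul 𝒜 ℳ'']
variable {i : M' →ₗ[R] M} {p : M →ₗ[R] M''}
variable {E' : StarInjRes 𝒜 ℳ'} {E'' : StarInjRes 𝒜 ℳ''}
variable (S : SES ℳ' ℳ ℳ'' i p) (D : HSData E' E'' i p ℳ) (a : HomogeneousIdeal 𝒜)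

theorem Hf_hsSnd (n : ℕ) : Hf (hs S D) E'' a n p 0 = (hsSnd S D).H a n :=
  Hf_eq a n _ (hsSnd_isDeg S D) (hsSnd_lifts S D)

theorem Hf_hsInl (n : ℕ) : Hf E' (hs S D) a n i 0 = (hsInl S D).H a n :=
  Hf_eq a n _ (hsInl_isDeg S D) (hsInl_lifts S D)

theorem Hf_snd_surjective (n : ℕ)
    (hvan : ∀ z ∈ E'.cocyc a (n + 1), z ∈ E'.cobdy a (n + 1)) :
    Function.Surjective (Hf (hs S D) E'' a n p 0) := by
  rw [Hf_hsSnd]
  exact hsSnd_surjective S D a n hvan

theorem Hf_exact (n : ℕ) (y : (hs S D).H a n) (hy : Hf (hs S D) E'' a n p 0 y = 0) :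
    ∃ y', Hf E' (hs S D) a n i 0 y' = y := by
  rw [Hf_hsSnd] at hy
  rw [Hf_hsInl]
  exact hs_exact S D a n y hy

end HSHf

section Mu

variable {M : Type u} [AddCommGroup M] [Module R M] {ℳ : ι → AddSubgroup M}
  [DirectSum.Decomposition ℳ] [SetLike.GradedSMul 𝒜 ℳ]
variable {N : Type u} [AddCommGroup N] [Module R N] {𝒩 : ι → AddSubgroup N}
  [DirectSum.Decomposition 𝒩] [SetLike.GradedSMul 𝒜 𝒩]

/-- The map `r ↦ r • x`. -/
def rho (x : M) : R →ₗ[R] M := LinearMap.toSpanSingleton R M x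

theorem rho_apply (x : M) (r : R) : rho x r = r • x := rfl

theorem rho_deg {j : ι} {x : M} (hx : x ∈ ℳ j) : IsGrHomDeg 𝒜 ℳ (rho x) j := by
  intro g r hr
  have h := SetLike.GradedSMul.smul_mem (A := 𝒜) (B := ℳ) hr hx
  rw [vadd_eq_add] at h
  exact h

theorem rho_add (x y : M) : rho (R := R) (x + y) = rho x + rho y := by
  apply LinearMap.ext
  intro r
  simp [rho_apply]

theorem rho_zero : rho (R := R) (0 : M) = 0 := by
  apply LinearMap.ext
  intro r
  simp [rho_apply]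

theorem rho_smul (s : R) (x : M) : rho (R := R) (s • x) = s • rho x := by
  apply LinearMap.ext
  intro r
  rw [LinearMap.smul_apply, rho_apply, rho_apply, smul_comm]

theorem rho_map (f : M →ₗ[R] N) (x : M) : rho (R := R) (f x) = f ∘ₗ rho x := by
  apply LinearMap.ext
  intro r
  rw [LinearMap.comp_apply, rho_apply, rho_apply, map_smul]

variable (E : StarInjRes 𝒜 ℳ) (E' : StarInjRes 𝒜 𝒩) (I : StarInjRes 𝒜 𝒜)
  (a : HomogeneousIdeal 𝒜) (n : ℕ)

/-- `x ↦ H(ρ_x)` on a homogeneous piece. -/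
noncomputable def muHom (j : ι) : ℳ j →+ (I.H a n →ₗ[R] E.H a n) where
  toFun x := Hf I E a n (rho (x : M)) j
  map_zero' := by
    rw [ZeroMemClass.coe_zero, rho_zero, Hf_zero]
  map_add' x y := by
    rw [AddMemClass.coe_add, rho_add, Hf_add a n (rho_deg x.2) (rho_deg y.2)]

/-- The pairing `M × H^n(R) → H^n(M)`, `(x, h) ↦ H(ρ_x)(h)`. -/
noncomputable def mu : M →+ (I.H a n →ₗ[R] E.H a n) :=
  (DirectSum.toAddMonoid (fun j => muHom E I a n j)).comp
    (DirectSum.decomposeAddEquiv ℳ).toAddMonoidHom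

theorem mu_of_mem {j : ι} {x : M} (hx : x ∈ ℳ j) :
    mu E I a n x = Hf I E a n (rho x) j := by
  change (DirectSum.toAddMonoid (fun j => muHom E I a n j)) (DirectSum.decompose ℳ x) = _
  rw [DirectSum.decompose_of_mem ℳ hx, DirectSum.toAddMonoid_of]
  rfl

theorem mu_smul (r : R) (x : M) : mu E I a n (r • x) = r • mu E I a n x := by
  classical
  induction r using DirectSum.Decomposition.inductionOn 𝒜 with
  | zero => simp
  | add r r' h h' => rw [add_smul, map_add, h, h', add_smul]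
  | homogeneous r =>
    rename_i i
    induction x using DirectSum.Decomposition.inductionOn ℳ with
    | zero => simp
    | add x y h h' => rw [smul_add, map_add, h, h', map_add, smul_add]
    | homogeneous x =>
      rename_i j
      have hrx : (r : R) • (x : M) ∈ ℳ (j + i) := by
        have h := SetLike.GradedSMul.smul_mem (A := 𝒜) (B := ℳ) r.2 x.2
        rw [vadd_eq_add, add_comm] at h
        exact h
      rw [mu_of_mem E I a n hrx, mu_of_mem E I a n x.2, rho_smul,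
        Hf_smul a n (rho_deg x.2) r.2]

theorem mu_mem {j : ι} {x : M} (hx : x ∈ ℳ j) (g : ι) (h : I.H a n) (hh : h ∈ I.Hgr a n g) :
    mu E I a n x h ∈ E.Hgr a n (g + j) := by
  rw [mu_of_mem E I a n hx]
  exact Hf_mem a n (rho_deg hx) g h hh

theorem mu_nat (f : M →ₗ[R] N) (hf : IsGrHom ℳ 𝒩 f) (x : M) :
    mu E' I a n (f x) = Hf E E' a n f 0 ∘ₗ mu E I a n x := by
  classical
  have hf0 : IsGrHomDeg ℳ 𝒩 f 0 := fun g m hm => by rw [add_zero]; exact hf g m hm
  induction x using DirectSum.Decomposition.inductionOn ℳ with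
  | zero => simp
  | add x y h h' => rw [map_add, map_add, h, h', map_add, LinearMap.comp_add]
  | homogeneous x =>
    rename_i j
    rw [mu_of_mem E' I a n (hf j x x.2), mu_of_mem E I a n x.2, rho_map,
      ← Hf_comp a n (rho_deg x.2) hf0, add_zero]

end Mu

end Groth.Agent.Lib.Helper8.GrLCFun
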