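import Groth.Agent.Lib.Helper8.GrLCShift

set_option autoImplicit false
set_option linter.unusedSectionVars false
universe u

open DirectSum GrLC
open Groth.Agent.Lib.Helper30
open Groth.Agent.Lib.Helper8.GrLCBase Groth.Agent.Lib.Helper8.GrLCProd
open Groth.Agent.Lib.Helper8.GrLCLES Groth.Agent.Lib.Helper8.GrLCTors
open Groth.Agent.Lib.Helper8.GrLCShift

namespace Groth.Agent.Lib.Helper8.GrLCKos

variable {ι : Type} [AddCommGroup ι] [DecidableEq ι]
variable {R : Type u} [CommRing R] {𝒜 : ι → AddSubgroup R} [GradedRing 𝒜]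

/-- A homological complex of graded modules `… → X 2 → X 1 → X 0`. -/
structure KCx (𝒜 : ι → AddSubgroup R) [GradedRing 𝒜] where
  X : ℕ → GMod.{u} 𝒜
  d : ∀ p, (X (p + 1)).carrier →ₗ[R] (X p).carrier
  d_gr : ∀ p, IsGrHom (X (p + 1)).gr (X p).gr (d p)
  d_comp : ∀ p x, d p (d (p + 1) x) = 0

namespace KCx

/-- Multiplication by `r` is null-homotopic. -/
def NullHtpy (C : KCx 𝒜) (r : R) : Prop :=
  ∃ s : ∀ p, (C.X p).carrier →ₗ[R] (C.X (p + 1)).carrier,
    (∀ y, r • y = C.d 0 (s 0 y)) ∧ ∀ p y, r • y = C.d (p + 1) (s (p + 1) y) + s p (C.d p y)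

/-- Multiplication by `r` kills the homology. -/
def Kills (C : KCx 𝒜) (r : R) : Prop :=
  (∀ y : (C.X 0).carrier, r • y ∈ LinearMap.range (C.d 0)) ∧
    ∀ p, ∀ z : (C.X (p + 1)).carrier, C.d p z = 0 → r • z ∈ LinearMap.range (C.d (p + 1))

theorem kills_of_nullHtpy (C : KCx 𝒜) (r : R) (h : C.NullHtpy r) : C.Kills r := by
  obtain ⟨s, h0, hS⟩ := h
  refine ⟨fun y => ⟨s 0 y, (h0 y).symm⟩, fun p z hz => ⟨s (p + 1) z, ?_⟩⟩
  rw [hS p z, hz, map_zero, add_zero]

theorem kills_ideal (C : KCx 𝒜) (S : Set R) (h : ∀ r ∈ S, C.Kills r) :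
    ∀ r ∈ Ideal.span S, C.Kills r := by
  intro r hr
  induction hr using Submodule.span_induction with
  | mem x hx => exact h x hx
  | zero =>
    refine ⟨fun y => ?_, fun p z _ => ?_⟩
    · rw [zero_smul]; exact Submodule.zero_mem _
    · rw [zero_smul]; exact Submodule.zero_mem _
  | add x y _ _ hx hy =>
    refine ⟨fun w => ?_, fun p z hz => ?_⟩
    · rw [add_smul]; exact Submodule.add_mem _ (hx.1 w) (hy.1 w)
    · rw [add_smul]; exact Submodule.add_mem _ (hx.2 p z hz) (hy.2 p z hz)
  | smul c x _ hx =>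
    refine ⟨fun w => ?_, fun p z hz => ?_⟩
    · rw [smul_eq_mul, mul_smul]; exact Submodule.smul_mem _ c (hx.1 w)
    · rw [smul_eq_mul, mul_smul]; exact Submodule.smul_mem _ c (hx.2 p z hz)

end KCx

section Cone

variable (C : KCx 𝒜) (x : R) (k : ι) (hx : x ∈ 𝒜 k)

/-- The terms of the cone of multiplication by `x` on `C`. -/
noncomputable def coneX : ℕ → GMod.{u} 𝒜
  | 0 => C.X 0
  | p + 1 => gprod (C.X (p + 1)) (GMod.of 𝒜 (C.X p).carrier (shiftGr (C.X p).gr (-k)))

/-- The differential `X 1 → X 0` of the cone. -/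
noncomputable def coneD0 : ((C.X 1).carrier × (C.X 0).carrier) →ₗ[R] (C.X 0).carrier :=
  (C.d 0) ∘ₗ LinearMap.fst R _ _ + (LinearMap.lsmul R (C.X 0).carrier x) ∘ₗ LinearMap.snd R _ _

/-- The higher differentials of the cone. -/
noncomputable def coneDS (p : ℕ) : ((C.X (p + 2)).carrier × (C.X (p + 1)).carrier) →ₗ[R]
    ((C.X (p + 1)).carrier × (C.X p).carrier) :=
  LinearMap.prod
    ((C.d (p + 1)) ∘ₗ LinearMap.fst R _ _ +
      (LinearMap.lsmul R (C.X (p + 1)).carrier x) ∘ₗ LinearMap.snd R _ _)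
    (- ((C.d p) ∘ₗ LinearMap.snd R _ _))

theorem coneD0_apply (u : (C.X 1).carrier) (v : (C.X 0).carrier) :
    coneD0 C x (u, v) = C.d 0 u + x • v := rfl

theorem coneDS_apply (p : ℕ) (u : (C.X (p + 2)).carrier) (v : (C.X (p + 1)).carrier) :
    coneDS C x p (u, v) = (C.d (p + 1) u + x • v, - C.d p v) := rfl

/-- The differentials of the cone. -/
noncomputable def coneD : ∀ p, (coneX C k (p + 1)).carrier →ₗ[R] (coneX C k p).carrier
  | 0 => coneD0 C x
  | p + 1 => coneDS C x p

include hx in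
theorem coneD0_gr (g : ι) (u : (C.X 1).carrier) (v : (C.X 0).carrier)
    (hu : u ∈ (C.X 1).gr g) (hv : v ∈ (C.X 0).gr (g + -k)) :
    coneD0 C x (u, v) ∈ (C.X 0).gr g := by
  rw [coneD0_apply]
  refine add_mem (C.d_gr 0 g u hu) ?_
  have := smul_mem_piece 𝒜 (C.X 0).gr hx hv
  rwa [add_neg_cancel_comm_assoc] at this

include hx in
theorem coneDS_gr (p : ℕ) (g : ι) (u : (C.X (p + 2)).carrier) (v : (C.X (p + 1)).carrier)
    (hu : u ∈ (C.X (p + 2)).gr g) (hv : v ∈ (C.X (p + 1)).gr (g + -k)) :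
    (coneDS C x p (u, v)).1 ∈ (C.X (p + 1)).gr g ∧
      (coneDS C x p (u, v)).2 ∈ (C.X p).gr (g + -k) := by
  rw [coneDS_apply]
  refine ⟨add_mem (C.d_gr (p + 1) g u hu) ?_, neg_mem (C.d_gr p _ v hv)⟩
  have := smul_mem_piece 𝒜 (C.X (p + 1)).gr hx hv
  rwa [add_neg_cancel_comm_assoc] at this

include hx in
theorem coneD_gr : ∀ p, IsGrHom (coneX C k (p + 1)).gr (coneX C k p).gr (coneD C x k p)
  | 0 => fun g y hy => coneD0_gr C x k hx g y.1 y.2 hy.1 hy.2
  | p + 1 => fun g y hy => coneDS_gr C x k hx p g y.1 y.2 hy.1 hy.2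

theorem coneD0_comp (u : (C.X 2).carrier) (v : (C.X 1).carrier) :
    coneD0 C x (coneDS C x 0 (u, v)) = 0 := by
  rw [coneDS_apply, coneD0_apply, map_add, C.d_comp, zero_add, map_smul, smul_neg,
    add_neg_cancel]

theorem coneDS_comp (p : ℕ) (u : (C.X (p + 3)).carrier) (v : (C.X (p + 2)).carrier) :
    coneDS C x p (coneDS C x (p + 1) (u, v)) = 0 := by
  rw [coneDS_apply, coneDS_apply, map_add, C.d_comp, zero_add, map_smul, smul_neg,
    add_neg_cancel, map_neg, C.d_comp, neg_zero, neg_zero]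
  rfl

theorem coneD_comp : ∀ p y, coneD C x k p (coneD C x k (p + 1) y) = 0
  | 0 => fun y => coneD0_comp C x y.1 y.2
  | p + 1 => fun y => coneDS_comp C x p y.1 y.2

/-- The cone of multiplication by `x`. -/
noncomputable def cone : KCx 𝒜 where
  X := coneX C k
  d := coneD C x k
  d_gr := coneD_gr C x k hx
  d_comp := coneD_comp C x k

end Cone

section ConeHtpy

variable (C : KCx 𝒜) (x : R) (k : ι) (hx : x ∈ 𝒜 k)

/-- The homotopy showing that `x` acts trivially on the homology of its cone. -/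
noncomputable def sx : ∀ p, (coneX C k p).carrier →ₗ[R] (coneX C k (p + 1)).carrier
  | 0 => LinearMap.inr R (C.X 1).carrier (C.X 0).carrier
  | p + 1 => (LinearMap.inr R (C.X (p + 2)).carrier (C.X (p + 1)).carrier) ∘ₗ
      (LinearMap.fst R (C.X (p + 1)).carrier (C.X p).carrier)

theorem cone_nullHtpy_self : (cone C x k hx).NullHtpy x := by
  refine ⟨sx C k, ?_, ?_⟩
  · have key : ∀ y : (C.X 0).carrier,
        x • y = coneD0 C x ((0 : (C.X 1).carrier), y) := by
      intro y
      rw [coneD0_apply, map_zero, zero_add]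
    exact key
  · intro p
    cases p with
    | zero =>
      have key : ∀ (u : (C.X 1).carrier) (v : (C.X 0).carrier),
          (x • u, x • v) = coneDS C x 0 ((0 : (C.X 2).carrier), u) +
            ((0 : (C.X 1).carrier), coneD0 C x (u, v)) := by
        intro u v
        apply Prod.ext
        · simp [coneDS_apply]
        · simp [coneDS_apply, coneD0_apply]
      exact fun y => key y.1 y.2
    | succ p =>
      have key : ∀ (u : (C.X (p + 2)).carrier) (v : (C.X (p + 1)).carrier),
          (x • u, x • v) = coneDS C x (p + 1) ((0 : (C.X (p + 3)).carrier), u) +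
            ((0 : (C.X (p + 2)).carrier), (coneDS C x p (u, v)).1) := by
        intro u v
        apply Prod.ext
        · simp [coneDS_apply]
        · simp [coneDS_apply]
      exact fun y => key y.1 y.2

/-- The extension of a null-homotopy of `C` to the cone. -/
noncomputable def sExt (s : ∀ p, (C.X p).carrier →ₗ[R] (C.X (p + 1)).carrier) :
    ∀ p, (coneX C k p).carrier →ₗ[R] (coneX C k (p + 1)).carrier
  | 0 => LinearMap.prod (s 0) (0 : (C.X 0).carrier →ₗ[R] (C.X 0).carrier)
  | p + 1 => LinearMap.prod ((s (p + 1)) ∘ₗ LinearMap.fst R (C.X (p + 1)).carrier (C.X p).carrier)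
      (- ((s p) ∘ₗ LinearMap.snd R (C.X (p + 1)).carrier (C.X p).carrier))

theorem cone_nullHtpy_of (r : R) (h : C.NullHtpy r) : (cone C x k hx).NullHtpy r := by
  obtain ⟨s, h0, hS⟩ := h
  refine ⟨sExt C k s, ?_, ?_⟩
  · have key : ∀ y : (C.X 0).carrier,
        r • y = coneD0 C x (s 0 y, (0 : (C.X 0).carrier)) := by
      intro y
      rw [coneD0_apply, smul_zero, add_zero, ← h0]
    exact key
  · intro p
    cases p with
    | zero =>
      have key : ∀ (u : (C.X 1).carrier) (v : (C.X 0).carrier),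
          (r • u, r • v) = coneDS C x 0 (s 1 u, - s 0 v) +
            (s 0 (coneD0 C x (u, v)), (0 : (C.X 0).carrier)) := by
        intro u v
        apply Prod.ext
        · simp only [coneDS_apply, coneD0_apply, Prod.fst_add, map_add, map_smul, smul_neg]
          rw [hS 0 u]
          abel
        · simp only [coneDS_apply, Prod.snd_add, add_zero, map_neg, neg_neg]
          exact h0 v
      exact fun y => key y.1 y.2
    | succ p =>
      have key : ∀ (u : (C.X (p + 2)).carrier) (v : (C.X (p + 1)).carrier),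
          (r • u, r • v) = coneDS C x (p + 1) (s (p + 2) u, - s (p + 1) v) +
            (s (p + 1) (coneDS C x p (u, v)).1, - s p (coneDS C x p (u, v)).2) := by
        intro u v
        apply Prod.ext
        · simp only [coneDS_apply, Prod.fst_add, map_add, map_smul, smul_neg]
          rw [hS (p + 1) u]
          abel
        · simp only [coneDS_apply, Prod.snd_add, map_neg, neg_neg]
          exact hS p v
      exact fun y => key y.1 y.2

end ConeHtpy

section MKL

variable [IsNoetherianRing R] (C : KCx 𝒜) (a : HomogeneousIdeal 𝒜)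

/-- The boundaries in `X p`, as a graded module. -/
noncomputable def Bm (p : ℕ) : GMod.{u} 𝒜 :=
  gmodSub 𝒜 (C.X p).gr (LinearMap.range (C.d p))
    (range_isHomogeneous (C.X (p + 1)).gr (C.X p).gr (C.d p) (C.d_gr p))

/-- The cycles in `X (p+1)`, as a graded module. -/
noncomputable def Zm (p : ℕ) : GMod.{u} 𝒜 :=
  gmodSub 𝒜 (C.X (p + 1)).gr (LinearMap.ker (C.d p))
    (ker_isHomogeneous (C.X (p + 1)).gr (C.X p).gr (C.d p) (C.d_gr p))

theorem range_le_ker (p : ℕ) : LinearMap.range (C.d (p + 1)) ≤ LinearMap.ker (C.d p) := by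
  rintro _ ⟨x, rfl⟩
  exact C.d_comp p x

/-- The inclusion of boundaries into cycles. -/
noncomputable def incl (p : ℕ) : (Bm C (p + 1)).carrier →ₗ[R] (Zm C p).carrier :=
  Submodule.inclusion (range_le_ker C p)

theorem incl_gr (p : ℕ) : IsGrHom (Bm C (p + 1)).gr (Zm C p).gr (incl C p) :=
  fun _ _ h => h

/-- The homology at `X (p+1)`, as a graded module. -/
noncomputable def Hm (p : ℕ) : GMod.{u} 𝒜 :=
  gmodQuot 𝒜 (Zm C p).gr (LinearMap.range (incl C p))
    (range_isHomogeneous (Bm C (p + 1)).gr (Zm C p).gr (incl C p) (incl_gr C p))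

/-- The homology at `X 0`, as a graded module. -/
noncomputable def H0 : GMod.{u} 𝒜 :=
  gmodQuot 𝒜 (C.X 0).gr (LinearMap.range (C.d 0))
    (range_isHomogeneous (C.X 1).gr (C.X 0).gr (C.d 0) (C.d_gr 0))

/-- The projection of `X (p+1)` onto the boundaries in `X p`. -/
noncomputable def toB (p : ℕ) : (C.X (p + 1)).carrier →ₗ[R] (Bm C p).carrier :=
  (C.d p).rangeRestrict

/-- The inclusion of the cycles. -/
noncomputable def fromZ (p : ℕ) : (Zm C p).carrier →ₗ[R] (C.X (p + 1)).carrier :=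
  (LinearMap.ker (C.d p)).subtype

theorem ses_beta (p : ℕ) :
    SES (Zm C p).gr (C.X (p + 1)).gr (Bm C p).gr (fromZ C p) (toB C p) where
  i_gr := fun _ _ h => h
  p_gr := fun g x hx => C.d_gr p g x hx
  inj := Subtype.val_injective
  surj := LinearMap.surjective_rangeRestrict _
  exact := by
    apply le_antisymm
    · rintro _ ⟨z, rfl⟩
      apply Subtype.ext
      exact z.2
    · intro x hx
      have : C.d p x = 0 := congrArg Subtype.val hx
      exact ⟨⟨x, this⟩, rfl⟩

/-- The projection of the cycles onto the homology. -/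
noncomputable def toH (p : ℕ) : (Zm C p).carrier →ₗ[R] (Hm C p).carrier :=
  (LinearMap.range (incl C p)).mkQ

theorem ses_alpha (p : ℕ) :
    SES (Bm C (p + 1)).gr (Zm C p).gr (Hm C p).gr (incl C p) (toH C p) where
  i_gr := incl_gr C p
  p_gr := isGrHom_mkQ (Zm C p).gr _
  inj := Submodule.inclusion_injective _
  surj := Submodule.mkQ_surjective _
  exact := (Submodule.ker_mkQ _).symm

/-- The inclusion of the boundaries in `X 0`. -/
noncomputable def fromB0 : (Bm C 0).carrier →ₗ[R] (C.X 0).carrier :=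
  (LinearMap.range (C.d 0)).subtype

/-- The projection onto the zeroth homology. -/
noncomputable def toH0 : (C.X 0).carrier →ₗ[R] (H0 C).carrier :=
  (LinearMap.range (C.d 0)).mkQ

theorem ses_gamma : SES (Bm C 0).gr (C.X 0).gr (H0 C).gr (fromB0 C) (toH0 C) where
  i_gr := fun _ _ h => h
  p_gr := isGrHom_mkQ (C.X 0).gr _
  inj := Subtype.val_injective
  surj := Submodule.mkQ_surjective _
  exact := by
    apply le_antisymm
    · rintro _ ⟨b, rfl⟩
      exact (Submodule.Quotient.mk_eq_zero _).mpr b.2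
    · intro x hx
      have : x ∈ LinearMap.range (C.d 0) := (Submodule.Quotient.mk_eq_zero _).mp hx
      exact ⟨⟨x, this⟩, rfl⟩

variable (hK : ∀ r ∈ a.toIdeal, C.Kills r)

include hK in
theorem gam_Hm (p : ℕ) : gam a.toIdeal (Hm C p).carrier = ⊤ := by
  rw [eq_top_iff]
  intro h _
  obtain ⟨z, rfl⟩ := (ses_alpha C p).surj h
  refine ⟨1, fun r hr => ?_⟩
  rw [pow_one] at hr
  have e : r • toH C p z = toH C p (r • z) := (map_smul (toH C p) r z).symm
  rw [e]
  obtain ⟨w, hw⟩ := (hK r hr).2 p z.1 z.2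
  exact (Submodule.Quotient.mk_eq_zero _).mpr ⟨⟨r • z.1, ⟨w, hw⟩⟩, Subtype.ext rfl⟩

include hK in
theorem gam_H0 : gam a.toIdeal (H0 C).carrier = ⊤ := by
  rw [eq_top_iff]
  intro h _
  obtain ⟨y, rfl⟩ := (ses_gamma C).surj h
  refine ⟨1, fun r hr => ?_⟩
  rw [pow_one] at hr
  have e : r • toH0 C y = toH0 C (r • y) := (map_smul (toH0 C) r y).symm
  rw [e]
  exact (Submodule.Quotient.mk_eq_zero _).mpr ((hK r hr).1 y)

include hK in
theorem mkl (L : ℕ) (hL : ∀ p, L < p → Subsingleton (C.X p).carrier) (i : ℕ) (e : ι)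
    (hX : ∀ p, VanM a (C.X (p + 1)).gr (i + p) e) :
    VanM a (Bm C 0).gr i e := by
  have claim : ∀ n p, L ≤ p + n → VanM a (Bm C p).gr (i + p) e := by
    intro n
    induction n with
    | zero =>
      intro p hp
      have : Subsingleton (C.X (p + 1)).carrier := hL (p + 1) (by omega)
      have : Subsingleton (Bm C p).carrier := by
        constructor
        rintro ⟨_, ⟨x, rfl⟩⟩ ⟨_, ⟨y, rfl⟩⟩
        rw [Subsingleton.elim x y]
      exact vanM_of_subsingleton a _ e
    | succ n ih =>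
      intro p hp
      have h1 : VanM a (Bm C (p + 1)).gr (i + p + 1) e := ih (p + 1) (by omega)
      have h2 : VanM a (Hm C p).gr (i + p + 1) e := vanM_of_tors a (gam_Hm C a hK p) (i + p) e
      have h3 : VanM a (Zm C p).gr (i + p + 1) e := les_mid a (ses_alpha C p) (i + p + 1) e h1 h2
      exact les_right a (ses_beta C p) (i + p) e (hX p) h3
  exact claim L 0 (by omega)

include hK in
theorem mkl_mumford (L : ℕ) (hL : ∀ p, L < p → Subsingleton (C.X p).carrier) (i : ℕ) (e : ι)
    (hX : ∀ p, VanM a (C.X (p + 1)).gr (i + 1 + p) e) :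
    VanM a (C.X 0).gr (i + 1) e :=
  les_mid a (ses_gamma C) (i + 1) e (mkl C a hK L hL (i + 1) e hX)
    (vanM_of_tors a (gam_H0 C a hK) i e)

include hK in
theorem mkl_gen (L : ℕ) (hL : ∀ p, L < p → Subsingleton (C.X p).carrier) (e : ι)
    (h0 : VanM a (C.X 0).gr 0 e)
    (hX : ∀ p, VanM a (C.X (p + 1)).gr (1 + p) e) :
    ∀ y ∈ (C.X 0).gr e, y ∈ LinearMap.range (C.d 0) := by
  have h1 : VanM a (H0 C).gr 0 e :=
    les_right a (ses_gamma C) 0 e h0 (mkl C a hK L hL 1 e hX)
  rw [vanM_zero_iff] at h1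
  intro y hy
  have := h1 (toH0 C y) (isGrHom_mkQ (C.X 0).gr _ e y hy) (by rw [gam_H0 C a hK]; trivial)
  exact (Submodule.Quotient.mk_eq_zero _).mp this

end MKL

section KosData

variable (X0 : GMod.{u} 𝒜) (k : ι)

/-- A Koszul-type complex on `X0` for a set `S` of homogeneous elements of degree `k`. -/
structure KosData (S : Set R) where
  C : KCx 𝒜
  e : (C.X 0).carrier ≃ₗ[R] X0.carrier
  e_gr : IsGrHom (C.X 0).gr X0.gr e.toLinearMap
  e_gr' : IsGrHom X0.gr (C.X 0).gr e.symm.toLinearMap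
  htpy : ∀ r ∈ S, C.NullHtpy r
  range0 : ∀ y, y ∈ LinearMap.range (C.d 0) ↔
    e y ∈ (Ideal.span S) • (⊤ : Submodule R X0.carrier)
  L : ℕ
  bdd : ∀ p, L < p → Subsingleton (C.X p).carrier
  good : ∀ (a : HomogeneousIdeal 𝒜) (p q : ℕ) (g : ι),
    VanM a X0.gr q (g + p • (-k)) → VanM a (C.X p).gr q g

/-- The terms of the complex concentrated in degree zero. -/
noncomputable def baseX : ℕ → GMod.{u} 𝒜
  | 0 => X0
  | _ + 1 => gzero

/-- The complex concentrated in degree zero. -/
noncomputable def baseC : KCx 𝒜 where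
  X := baseX X0
  d _ := 0
  d_gr _ := fun _ _ _ => zero_mem _
  d_comp _ _ := rfl

/-- The Koszul data for the empty set. -/
noncomputable def kosBase : KosData X0 k (∅ : Set R) where
  C := baseC X0
  e := LinearEquiv.refl R X0.carrier
  e_gr := fun _ _ h => h
  e_gr' := fun _ _ h => h
  htpy := fun r hr => absurd hr (Set.notMem_empty r)
  range0 := by
    intro y
    have h1 : LinearMap.range ((baseC X0).d 0) = ⊥ := LinearMap.range_zero
    rw [h1, Ideal.span_empty, Submodule.bot_smul, Submodule.mem_bot, Submodule.mem_bot]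
    rfl
  L := 0
  bdd := by
    intro p hp
    obtain ⟨p, rfl⟩ := Nat.exists_eq_succ_of_ne_zero (Nat.pos_iff_ne_zero.mp hp)
    exact (inferInstance : Subsingleton PUnit.{u + 1})
  good := by
    intro a p q g h
    cases p with
    | zero =>
      rw [zero_nsmul, add_zero] at h
      exact h
    | succ p =>
      have : Subsingleton ((baseC X0).X (p + 1)).carrier :=
        (inferInstance : Subsingleton PUnit.{u + 1})
      exact vanM_of_subsingleton a q g

variable {X0 k}

/-- Adding one more element to the Koszul data. -/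
noncomputable def kosCone {S : Set R} (D : KosData X0 k S) (x : R) (hx : x ∈ 𝒜 k) :
    KosData X0 k (insert x S) where
  C := cone D.C x k hx
  e := D.e
  e_gr := D.e_gr
  e_gr' := D.e_gr'
  htpy := by
    intro r hr
    rcases hr with rfl | hr
    · exact cone_nullHtpy_self D.C r k hx
    · exact cone_nullHtpy_of D.C x k hx r (D.htpy r hr)
  range0 := by
    intro y
    have hmono : (Ideal.span S) • (⊤ : Submodule R X0.carrier) ≤
        (Ideal.span (insert x S)) • (⊤ : Submodule R X0.carrier) :=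
      Submodule.smul_mono_left (Ideal.span_mono (Set.subset_insert x S))
    constructor
    · rintro ⟨w, rfl⟩
      have key : ∀ (u : (D.C.X 1).carrier) (v : (D.C.X 0).carrier),
          D.e (coneD0 D.C x (u, v)) ∈
            (Ideal.span (insert x S)) • (⊤ : Submodule R X0.carrier) := by
        intro u v
        rw [coneD0_apply, map_add, map_smul]
        refine Submodule.add_mem _ (hmono ((D.range0 _).mp ⟨u, rfl⟩)) ?_
        exact Submodule.smul_mem_smul (Ideal.subset_span (Set.mem_insert x S)) trivial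
      exact key w.1 w.2
    · intro hy
      have key : ∀ m ∈ (Ideal.span (insert x S)) • (⊤ : Submodule R X0.carrier),
          ∃ (u : (D.C.X 1).carrier) (v : (D.C.X 0).carrier),
            coneD0 D.C x (u, v) = D.e.symm m := by
        intro m hm
        refine Submodule.smul_induction_on hm ?_ ?_
        · intro r hr n _
          obtain ⟨c, z, hz, rfl⟩ := Ideal.mem_span_insert.mp hr
          have hzn : D.e (D.e.symm (z • n)) ∈ (Ideal.span S) • (⊤ : Submodule R X0.carrier) := by
            rw [LinearEquiv.apply_symm_apply]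
            exact Submodule.smul_mem_smul hz trivial
          obtain ⟨u, hu⟩ := (D.range0 _).mpr hzn
          refine ⟨u, c • D.e.symm n, ?_⟩
          rw [coneD0_apply, hu, add_smul, map_add, mul_smul, map_smul, map_smul, map_smul,
            smul_comm x c, add_comm]
        · rintro m₁ m₂ ⟨u₁, v₁, h₁⟩ ⟨u₂, v₂, h₂⟩
          refine ⟨u₁ + u₂, v₁ + v₂, ?_⟩
          rw [map_add, ← h₁, ← h₂, ← map_add]
          rfl
      obtain ⟨u, v, huv⟩ := key _ hy
      have hyy : D.e.symm (D.e y) = y := D.e.symm_apply_apply y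
      exact ⟨(u, v), huv.trans hyy⟩
  L := D.L + 1
  bdd := by
    intro p hp
    obtain ⟨p, rfl⟩ := Nat.exists_eq_succ_of_ne_zero (by omega : p ≠ 0)
    have := D.bdd (p + 1) (by omega)
    have := D.bdd p (by omega)
    exact (inferInstance :
      Subsingleton ((D.C.X (p + 1)).carrier × (D.C.X p).carrier))
  good := by
    intro a p q g h
    cases p with
    | zero => exact D.good a 0 q g h
    | succ p =>
      refine vanM_gprod a _ _ q g (D.good a (p + 1) q g h) ?_
      refine (vanM_shift (ℳ := (D.C.X p).gr) a (-k) q g).mpr (D.good a p q (g + -k) ?_)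
      have e : g + (p + 1) • -k = g + -k + p • -k := by
        rw [succ_nsmul]
        abel
      rw [← e]
      exact h

theorem exists_kosData (s : Finset R) (hs : ∀ x ∈ s, x ∈ 𝒜 k) :
    Nonempty (KosData X0 k (s : Set R)) := by
  classical
  induction s using Finset.induction_on with
  | empty =>
    rw [Finset.coe_empty]
    exact ⟨kosBase X0 k⟩
  | insert x s _ ih =>
    obtain ⟨D⟩ := ih (fun y hy => hs y (Finset.mem_insert_of_mem hy))
    rw [Finset.coe_insert]
    exact ⟨kosCone D x (hs x (Finset.mem_insert_self x s))⟩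

end KosData

section Final

variable [IsNoetherianRing R] (a : HomogeneousIdeal 𝒜) (k : ι) (s : Finset R)
  (hs : ∀ x ∈ s, x ∈ 𝒜 k) (ha : a.toIdeal = Ideal.span (s : Set R))

include hs ha in
theorem mumford_step_gmod (X0 : GMod.{u} 𝒜) (i : ℕ) (e : ι)
    (h : ∀ p : ℕ, VanM a X0.gr (i + 1 + p) (e + (p + 1) • (-k))) : VanM a X0.gr (i + 1) e := by
  obtain ⟨D⟩ := exists_kosData (X0 := X0) (k := k) s hs
  have hK : ∀ r ∈ a.toIdeal, D.C.Kills r := by
    rw [ha]
    exact D.C.kills_ideal _ (fun r hr => D.C.kills_of_nullHtpy r (D.htpy r hr))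
  have h1 := mkl_mumford D.C a hK D.L D.bdd i e (fun p => D.good a (p + 1) (i + 1 + p) e (h p))
  exact (vanM_of_equiv a D.e D.e_gr D.e_gr' (i + 1) e).mp h1

include hs ha in
theorem gen_step_gmod (X0 : GMod.{u} 𝒜) (e : ι) (h0 : VanM a X0.gr 0 e)
    (h : ∀ p : ℕ, VanM a X0.gr (1 + p) (e + (p + 1) • (-k))) :
    ∀ m ∈ X0.gr e, m ∈ a.toIdeal • (⊤ : Submodule R X0.carrier) := by
  obtain ⟨D⟩ := exists_kosData (X0 := X0) (k := k) s hs
  have hK : ∀ r ∈ a.toIdeal, D.C.Kills r := by
    rw [ha]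
    exact D.C.kills_ideal _ (fun r hr => D.C.kills_of_nullHtpy r (D.htpy r hr))
  have h1 := mkl_gen D.C a hK D.L D.bdd e
    ((vanM_of_equiv a D.e D.e_gr D.e_gr' 0 e).mpr h0)
    (fun p => D.good a (p + 1) (1 + p) e (h p))
  intro m hm
  have h2 := h1 (D.e.symm m) (D.e_gr' e m hm)
  have h3 := (D.range0 _).mp h2
  rw [LinearEquiv.apply_symm_apply] at h3
  rw [ha]
  exact h3

variable {M : Type u} [AddCommGroup M] [Module R M] {ℳ : ι → AddSubgroup M}
  [DirectSum.Decomposition ℳ] [SetLike.GradedSMul 𝒜 ℳ]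

include hs ha in
theorem mumford_step (i : ℕ) (e : ι)
    (h : ∀ p : ℕ, VanM a ℳ (i + 1 + p) (e + (p + 1) • (-k))) : VanM a ℳ (i + 1) e :=
  mumford_step_gmod a k s hs ha (GMod.of 𝒜 M ℳ) i e h

include hs ha in
theorem gen_step (e : ι) (h0 : VanM a ℳ 0 e)
    (h : ∀ p : ℕ, VanM a ℳ (1 + p) (e + (p + 1) • (-k))) :
    ∀ m ∈ ℳ e, m ∈ a.toIdeal • (⊤ : Submodule R M) :=
  gen_step_gmod a k s hs ha (GMod.of 𝒜 M ℳ) e h0 h

end Final

end Groth.Agent.Lib.Helper8.GrLCKos
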