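import Groth.Agent.Lib.Helper8.GrLCProd

set_option autoImplicit false
set_option linter.unusedSectionVars false
universe u

open DirectSum GrLC
open Groth.Agent.Lib.Helper30
open Groth.Agent.Lib.Helper8.GrLCBase Groth.Agent.Lib.Helper8.GrLCProd

namespace Groth.Agent.Lib.Helper8.GrLCLES

variable {ι : Type} [AddCommGroup ι] [DecidableEq ι]
variable {R : Type u} [CommRing R] {𝒜 : ι → AddSubgroup R} [GradedRing 𝒜]

variable {M' : Type u} [AddCommGroup M'] [Module R M'] {ℳ' : ι → AddSubgroup M'}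
  [DirectSum.Decomposition ℳ'] [SetLike.GradedSMul 𝒜 ℳ']
variable {M : Type u} [AddCommGroup M] [Module R M] {ℳ : ι → AddSubgroup M}
  [DirectSum.Decomposition ℳ] [SetLike.GradedSMul 𝒜 ℳ]
variable {M'' : Type u} [AddCommGroup M''] [Module R M''] {ℳ'' : ι → AddSubgroup M''}
  [DirectSum.Decomposition ℳ''] [SetLike.GradedSMul 𝒜 ℳ'']

/-- A short exact sequence of graded modules. -/
structure SES (ℳ' : ι → AddSubgroup M') (ℳ : ι → AddSubgroup M) (ℳ'' : ι → AddSubgroup M'')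
    (i : M' →ₗ[R] M) (p : M →ₗ[R] M'') : Prop where
  i_gr : IsGrHom ℳ' ℳ i
  p_gr : IsGrHom ℳ ℳ'' p
  inj : Function.Injective i
  surj : Function.Surjective p
  exact : LinearMap.range i = LinearMap.ker p

variable {i : M' →ₗ[R] M} {p : M →ₗ[R] M''}

theorem SES.p_i (S : SES ℳ' ℳ ℳ'' i p) (m' : M') : p (i m') = 0 := by
  have : i m' ∈ LinearMap.ker p := by
    rw [← S.exact]
    exact ⟨m', rfl⟩
  exact this

variable (E' : StarInjRes 𝒜 ℳ') (E'' : StarInjRes 𝒜 ℳ'')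

/-- The data needed to build the horseshoe resolution. -/
structure HSData (i : M' →ₗ[R] M) (p : M →ₗ[R] M'') (ℳ : ι → AddSubgroup M) where
  σ : M →ₗ[R] (E'.X 0).carrier
  σ_gr : IsGrHom ℳ (E'.X 0).gr σ
  θ : ∀ n, (E''.X n).carrier →ₗ[R] (E'.X (n + 1)).carrier
  θ_gr : ∀ n, IsGrHom (E''.X n).gr (E'.X (n + 1)).gr (θ n)
  h1 : ∀ m', σ (i m') = E'.ε m'
  h2 : ∀ m, θ 0 (E''.ε (p m)) = - E'.d 0 (σ m)
  h3 : ∀ n x, θ (n + 1) (E''.d n x) = - E'.d (n + 1) (θ n x)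

structure TStage (n : ℕ) where
  θ : (E''.X n).carrier →ₗ[R] (E'.X (n + 1)).carrier
  θ_gr : IsGrHom (E''.X n).gr (E'.X (n + 1)).gr θ
  inv : ∀ x, E''.d n x = 0 → E'.d (n + 1) (θ x) = 0

variable {E' E''}

theorem tstage_next_exists {n : ℕ} (s : TStage E' E'' n) :
    ∃ θ' : (E''.X (n + 1)).carrier →ₗ[R] (E'.X (n + 2)).carrier,
      IsGrHom (E''.X (n + 1)).gr (E'.X (n + 2)).gr θ' ∧
        ∀ x, θ' (E''.d n x) = - E'.d (n + 1) (s.θ x) := by
  refine exists_extension (E''.X n).gr (E''.X (n + 1)) (E'.X (n + 2)) (E'.starInj (n + 2))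
    (E''.d n) (E''.d_grHom n) (- (E'.d (n + 1) ∘ₗ s.θ)) ?_ ?_
  · intro k x hx
    exact neg_mem (E'.d_grHom (n + 1) k _ (s.θ_gr k x hx))
  · intro x hx
    rw [LinearMap.mem_ker] at hx ⊢
    rw [LinearMap.neg_apply, LinearMap.comp_apply, s.inv x hx, neg_zero]

noncomputable def TStage.next {n : ℕ} (s : TStage E' E'' n) : TStage E' E'' (n + 1) where
  θ := Classical.choose (tstage_next_exists s)
  θ_gr := (Classical.choose_spec (tstage_next_exists s)).1
  inv := by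
    intro x hx
    have hx' : x ∈ LinearMap.ker (E''.d (n + 1)) := hx
    rw [E''.exact_succ] at hx'
    obtain ⟨y, rfl⟩ := hx'
    rw [(Classical.choose_spec (tstage_next_exists s)).2, map_neg, d_comp_d, neg_zero]

theorem TStage.next_spec {n : ℕ} (s : TStage E' E'' n) (x : (E''.X n).carrier) :
    s.next.θ (E''.d n x) = - E'.d (n + 1) (s.θ x) :=
  (Classical.choose_spec (tstage_next_exists s)).2 x

noncomputable def tseq (s0 : TStage E' E'' 0) : ∀ n, TStage E' E'' n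
  | 0 => s0
  | n + 1 => (tseq s0 n).next

theorem exists_hsdata (S : SES ℳ' ℳ ℳ'' i p) : Nonempty (HSData E' E'' i p ℳ) := by
  obtain ⟨σ, hσ, h1⟩ := exists_extension' ℳ' ℳ (E'.X 0) (E'.starInj 0) i S.i_gr E'.ε E'.ε_grHom
    (by
      rw [LinearMap.ker_eq_bot.mpr S.inj]
      exact bot_le)
  obtain ⟨θ0, hθ0, h2⟩ := exists_extension ℳ (E''.X 0) (E'.X 1) (E'.starInj 1)
    (E''.ε ∘ₗ p) (fun k x hx => E''.ε_grHom k _ (S.p_gr k x hx)) (- (E'.d 0 ∘ₗ σ))
    (fun k x hx => neg_mem (E'.d_grHom 0 k _ (hσ k x hx))) (by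
      intro x hx
      rw [LinearMap.mem_ker, LinearMap.comp_apply] at hx
      have hx' : x ∈ LinearMap.ker p := by
        rw [LinearMap.mem_ker]
        exact E''.ε_injective (by rw [hx, map_zero])
      rw [← S.exact] at hx'
      obtain ⟨m', rfl⟩ := hx'
      rw [LinearMap.mem_ker, LinearMap.neg_apply, LinearMap.comp_apply, h1, d_comp_ε, neg_zero])
  let s0 : TStage E' E'' 0 := ⟨θ0, hθ0, by
    intro x hx
    have hx' : x ∈ LinearMap.ker (E''.d 0) := hx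
    rw [E''.exact_zero] at hx'
    obtain ⟨m'', rfl⟩ := hx'
    obtain ⟨m, rfl⟩ := S.surj m''
    have := h2 m
    rw [LinearMap.comp_apply] at this
    rw [this, LinearMap.neg_apply, LinearMap.comp_apply, map_neg, d_comp_d, neg_zero]⟩
  exact ⟨{ σ := σ
           σ_gr := hσ
           θ := fun n => (tseq s0 n).θ
           θ_gr := fun n => (tseq s0 n).θ_gr
           h1 := h1
           h2 := fun m => by
             have := h2 m
             rw [LinearMap.comp_apply, LinearMap.neg_apply, LinearMap.comp_apply] at this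
             exact this
           h3 := fun n x => (tseq s0 n).next_spec x }⟩

section HS

variable (S : SES ℳ' ℳ ℳ'' i p) (D : HSData E' E'' i p ℳ)

/-- The differential of the horseshoe resolution. -/
noncomputable def hsD (n : ℕ) :
    ((E'.X n).carrier × (E''.X n).carrier) →ₗ[R]
      ((E'.X (n + 1)).carrier × (E''.X (n + 1)).carrier) :=
  LinearMap.prod
    ((E'.d n) ∘ₗ (LinearMap.fst R (E'.X n).carrier (E''.X n).carrier) +
      (D.θ n) ∘ₗ (LinearMap.snd R (E'.X n).carrier (E''.X n).carrier))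
    ((E''.d n) ∘ₗ (LinearMap.snd R (E'.X n).carrier (E''.X n).carrier))

theorem hsD_apply (n : ℕ) (x' : (E'.X n).carrier) (x'' : (E''.X n).carrier) :
    hsD D n (x', x'') = (E'.d n x' + D.θ n x'', E''.d n x'') := rfl

/-- The augmentation of the horseshoe resolution. -/
noncomputable def hsε : M →ₗ[R] ((E'.X 0).carrier × (E''.X 0).carrier) :=
  LinearMap.prod D.σ (E''.ε ∘ₗ p)

theorem hsε_apply (m : M) : hsε D m = (D.σ m, E''.ε (p m)) := rfl

include S in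
theorem hs_exact_zero : LinearMap.ker (hsD D 0) = LinearMap.range (hsε D) := by
  apply le_antisymm
  · rintro ⟨x', x''⟩ hx
    rw [LinearMap.mem_ker, hsD_apply, Prod.mk_eq_zero] at hx
    obtain ⟨hx1, hx2⟩ := hx
    have h2 : x'' ∈ LinearMap.ker (E''.d 0) := hx2
    rw [E''.exact_zero] at h2
    obtain ⟨m'', rfl⟩ := h2
    obtain ⟨m, rfl⟩ := S.surj m''
    rw [D.h2, ← sub_eq_add_neg, ← map_sub] at hx1
    have h1 : x' - D.σ m ∈ LinearMap.ker (E'.d 0) := hx1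
    rw [E'.exact_zero] at h1
    obtain ⟨m', hm'⟩ := h1
    refine ⟨m + i m', ?_⟩
    rw [hsε_apply, map_add, map_add, D.h1, S.p_i, add_zero, hm']
    congr 1
    abel
  · rintro _ ⟨m, rfl⟩
    rw [LinearMap.mem_ker, hsε_apply, hsD_apply, D.h2, d_comp_ε, add_neg_cancel]
    rfl

theorem hs_exact_succ (n : ℕ) :
    LinearMap.ker (hsD D (n + 1)) = LinearMap.range (hsD D n) := by
  apply le_antisymm
  · rintro ⟨x', x''⟩ hx
    rw [LinearMap.mem_ker, hsD_apply, Prod.mk_eq_zero] at hx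
    obtain ⟨hx1, hx2⟩ := hx
    have h2 : x'' ∈ LinearMap.ker (E''.d (n + 1)) := hx2
    rw [E''.exact_succ] at h2
    obtain ⟨y'', rfl⟩ := h2
    rw [D.h3, ← sub_eq_add_neg, ← map_sub] at hx1
    have h1 : x' - D.θ n y'' ∈ LinearMap.ker (E'.d (n + 1)) := hx1
    rw [E'.exact_succ] at h1
    obtain ⟨y', hy'⟩ := h1
    refine ⟨(y', y''), ?_⟩
    rw [hsD_apply, hy']
    congr 1
    abel
  · rintro _ ⟨⟨y', y''⟩, rfl⟩
    rw [LinearMap.mem_ker, hsD_apply, hsD_apply, map_add, d_comp_d, d_comp_d, D.h3, zero_add,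
      add_neg_cancel]
    rfl

/-- The horseshoe resolution of the middle term of a short exact sequence. -/
noncomputable def hs : StarInjRes 𝒜 ℳ where
  X n := gprod (E'.X n) (E''.X n)
  d n := hsD D n
  ε := hsε D
  d_grHom n := by
    rintro k ⟨x', x''⟩ ⟨hx', hx''⟩
    exact ⟨add_mem (E'.d_grHom n k x' hx') (D.θ_gr n k x'' hx''), E''.d_grHom n k x'' hx''⟩
  ε_grHom := by
    intro k m hm
    exact ⟨D.σ_gr k m hm, E''.ε_grHom k _ (S.p_gr k m hm)⟩
  ε_injective := by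
    intro m₁ m₂ h
    have h' : hsε D m₁ = hsε D m₂ := h
    have h0 : hsε D (m₁ - m₂) = 0 := by rw [map_sub, h', sub_self]
    rw [hsε_apply, Prod.mk_eq_zero] at h0
    obtain ⟨h1, h2⟩ := h0
    have hp : m₁ - m₂ ∈ LinearMap.ker p := by
      rw [LinearMap.mem_ker]
      exact E''.ε_injective (by rw [h2, map_zero])
    rw [← S.exact] at hp
    obtain ⟨m', hm'⟩ := hp
    rw [← hm', D.h1] at h1
    have : m' = 0 := E'.ε_injective (by rw [h1, map_zero])
    rw [this, map_zero] at hm'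
    exact sub_eq_zero.mp hm'.symm
  exact_zero := hs_exact_zero S D
  exact_succ := hs_exact_succ D
  starInj n := isStarInj_gprod _ _ (E'.starInj n) (E''.starInj n)

end HS

section Homog

variable (E : StarInjRes 𝒜 ℳ) (a : HomogeneousIdeal 𝒜)

theorem cobdy_homog {n : ℕ} {g : ι} {z : (E.X (n + 1)).carrier} (hz : z ∈ E.cobdy a (n + 1))
    (hzg : z ∈ (E.X (n + 1)).gr g) :
    ∃ y ∈ gam a.toIdeal (E.X n).carrier, y ∈ (E.X n).gr g ∧ E.d n y = z := by
  rw [mem_cobdy_succ] at hz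
  obtain ⟨y, hy, rfl⟩ := hz
  refine ⟨(decompose (E.X n).gr y g : (E.X n).carrier),
    gam_isHomogeneous 𝒜 (E.X n).gr a g hy, (decompose (E.X n).gr y g).2, ?_⟩
  rw [decompose_map_of_isGrHom (E.X n).gr (E.X (n + 1)).gr (E.d n) (E.d_grHom n),
    decompose_of_mem_same _ hzg]

end Homog

section LESHS

variable (S : SES ℳ' ℳ ℳ'' i p) (D : HSData E' E'' i p ℳ) (a : HomogeneousIdeal 𝒜)

theorem gam_prod_iff {X Y : Type u} [AddCommGroup X] [Module R X] [AddCommGroup Y] [Module R Y]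
    (I : Ideal R) (x : X) (y : Y) : (x, y) ∈ gam I (X × Y) ↔ x ∈ gam I X ∧ y ∈ gam I Y := by
  constructor
  · intro h
    exact ⟨gam_map I (LinearMap.fst R X Y) h, gam_map I (LinearMap.snd R X Y) h⟩
  · rintro ⟨h1, h2⟩
    have e : (x, y) = LinearMap.inl R X Y x + LinearMap.inr R X Y y := by simp
    rw [e]
    exact Submodule.add_mem _ (gam_map I _ h1) (gam_map I _ h2)

theorem hs_van_mid (n : ℕ) (g : ι) (h' : Van E' a n g) (h'' : Van E'' a n g) :
    Van (hs S D) a n g := by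
  rintro ⟨x', x''⟩ hz hdz hzg
  have hz' := (gam_prod_iff a.toIdeal x' x'').mp hz
  have hdz' : (E'.d n x' + D.θ n x'', E''.d n x'') = 0 := hdz
  rw [Prod.mk_eq_zero] at hdz'
  have hzg' : x' ∈ (E'.X n).gr g ∧ x'' ∈ (E''.X n).gr g := hzg
  have hc'' := h'' x'' hz'.2 hdz'.2 hzg'.2
  cases n with
  | zero =>
    rw [mem_cobdy_zero] at hc''
    subst hc''
    rw [map_zero, add_zero] at hdz'
    have hc' := h' x' hz'.1 hdz'.1 hzg'.1
    rw [mem_cobdy_zero] at hc'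
    subst hc'
    exact (mem_cobdy_zero (hs S D) a _).mpr rfl
  | succ n =>
    obtain ⟨y'', hy'', hy''g, rfl⟩ := cobdy_homog E'' a hc'' hzg'.2
    have hd1 := hdz'.1
    rw [D.h3, ← sub_eq_add_neg, ← map_sub] at hd1
    have hc' := h' (x' - D.θ n y'') (Submodule.sub_mem _ hz'.1 (gam_map _ _ hy'')) hd1
      (sub_mem hzg'.1 (D.θ_gr n g y'' hy''g))
    rw [mem_cobdy_succ] at hc'
    obtain ⟨y', hy', hy'x⟩ := hc'
    refine (mem_cobdy_succ (hs S D) a n _).mpr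
      ⟨(y', y''), (gam_prod_iff a.toIdeal y' y'').mpr ⟨hy', hy''⟩, ?_⟩
    change (E'.d n y' + D.θ n y'', E''.d n y'') = _
    rw [hy'x]
    congr 1
    abel

theorem hs_van_right (n : ℕ) (g : ι) (h : Van (hs S D) a n g) (h' : Van E' a (n + 1) g) :
    Van E'' a n g := by
  intro z'' hz hdz hzg
  have hθ : E'.d (n + 1) (D.θ n z'') = 0 := by
    have := D.h3 n z''
    rw [hdz, map_zero] at this
    rw [← neg_eq_zero]
    exact this.symm
  have hc' := h' (D.θ n z'') (gam_map _ _ hz) hθ (D.θ_gr n g z'' hzg)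
  obtain ⟨y', hy', hy'g, hy'z⟩ := cobdy_homog E' a hc' (D.θ_gr n g z'' hzg)
  have hw := h ((-y', z'') : (E'.X n).carrier × (E''.X n).carrier)
    ((gam_prod_iff a.toIdeal (-y') z'').mpr ⟨Submodule.neg_mem _ hy', hz⟩)
    (by
      change (E'.d n (-y') + D.θ n z'', E''.d n z'') = 0
      rw [map_neg, hy'z, neg_add_cancel, hdz]
      rfl)
    (show ((-y', z'') : (E'.X n).carrier × (E''.X n).carrier) ∈ (prodGr (E'.X n).gr (E''.X n).gr) g
      from ⟨(E'.X n).gr g |>.neg_mem hy'g, hzg⟩)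
  cases n with
  | zero =>
    have hw' := (mem_cobdy_zero (hs S D) a _).mp hw
    rw [mem_cobdy_zero]
    exact (Prod.mk_eq_zero.mp hw').2
  | succ n =>
    have hw' := (mem_cobdy_succ (hs S D) a n _).mp hw
    rw [mem_cobdy_succ]
    obtain ⟨⟨u', u''⟩, hu, hud⟩ := hw'
    have hud' : (E'.d n u' + D.θ n u'', E''.d n u'') = (-y', z'') := hud
    exact ⟨u'', ((gam_prod_iff a.toIdeal u' u'').mp hu).2, (Prod.mk.inj hud').2⟩

theorem hs_van_left (n : ℕ) (g : ι) (h'' : Van E'' a n g) (h : Van (hs S D) a (n + 1) g) :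
    Van E' a (n + 1) g := by
  intro z' hz hdz hzg
  have hw := h ((z', 0) : (E'.X (n + 1)).carrier × (E''.X (n + 1)).carrier)
    ((gam_prod_iff a.toIdeal z' 0).mpr ⟨hz, Submodule.zero_mem _⟩)
    (by
      change (E'.d (n + 1) z' + D.θ (n + 1) 0, E''.d (n + 1) 0) = 0
      rw [hdz, map_zero, map_zero, add_zero]
      rfl)
    ⟨hzg, zero_mem _⟩
  obtain ⟨⟨y', y''⟩, hy, hyg, hyd⟩ := cobdy_homog (hs S D) a hw
    (show ((z', 0) : (E'.X (n + 1)).carrier × (E''.X (n + 1)).carrier) ∈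
      ((hs S D).X (n + 1)).gr g from ⟨hzg, zero_mem _⟩)
  have hy' := (gam_prod_iff a.toIdeal y' y'').mp hy
  have hyg' : y' ∈ (E'.X n).gr g ∧ y'' ∈ (E''.X n).gr g := hyg
  have hyd' : (E'.d n y' + D.θ n y'', E''.d n y'') = (z', 0) := hyd
  obtain ⟨hd1, hd2⟩ := Prod.mk.inj hyd'
  have hc'' := h'' y'' hy'.2 hd2 hyg'.2
  rw [mem_cobdy_succ]
  cases n with
  | zero =>
    rw [mem_cobdy_zero] at hc''
    subst hc''
    rw [map_zero, add_zero] at hd1
    exact ⟨y', hy'.1, hd1⟩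
  | succ n =>
    rw [mem_cobdy_succ] at hc''
    obtain ⟨u'', hu'', rfl⟩ := hc''
    rw [D.h3, ← sub_eq_add_neg, ← map_sub] at hd1
    exact ⟨y' - D.θ n u'', Submodule.sub_mem _ hy'.1 (gam_map _ _ hu''), hd1⟩

theorem hs_van_left_zero (g : ι) (h : Van (hs S D) a 0 g) : Van E' a 0 g := by
  intro z' hz hdz hzg
  have hw := h ((z', 0) : (E'.X 0).carrier × (E''.X 0).carrier)
    ((gam_prod_iff a.toIdeal z' 0).mpr ⟨hz, Submodule.zero_mem _⟩)
    (by
      change (E'.d 0 z' + D.θ 0 0, E''.d 0 0) = 0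
      rw [hdz, map_zero, map_zero, add_zero]
      rfl)
    ⟨hzg, zero_mem _⟩
  have hw' := (mem_cobdy_zero (hs S D) a _).mp hw
  rw [mem_cobdy_zero]
  exact (Prod.mk_eq_zero.mp hw').1

theorem hs_van_left_one (g : ι)
    (hsurj : ∀ m'' ∈ ℳ'' g, m'' ∈ gam a.toIdeal M'' →
      ∃ m ∈ ℳ g, m ∈ gam a.toIdeal M ∧ p m = m'')
    (h : Van (hs S D) a 1 g) : Van E' a 1 g := by
  intro z' hz hdz hzg
  have hw := h ((z', 0) : (E'.X 1).carrier × (E''.X 1).carrier)
    ((gam_prod_iff a.toIdeal z' 0).mpr ⟨hz, Submodule.zero_mem _⟩)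
    (by
      change (E'.d 1 z' + D.θ 1 0, E''.d 1 0) = 0
      rw [hdz, map_zero, map_zero, add_zero]
      rfl)
    ⟨hzg, zero_mem _⟩
  obtain ⟨⟨y', y''⟩, hy, hyg, hyd⟩ := cobdy_homog (hs S D) a hw
    (show ((z', 0) : (E'.X 1).carrier × (E''.X 1).carrier) ∈
      ((hs S D).X 1).gr g from ⟨hzg, zero_mem _⟩)
  have hy' := (gam_prod_iff a.toIdeal y' y'').mp hy
  have hyg' : y' ∈ (E'.X 0).gr g ∧ y'' ∈ (E''.X 0).gr g := hyg
  have hyd' : (E'.d 0 y' + D.θ 0 y'', E''.d 0 y'') = (z', 0) := hyd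
  obtain ⟨hd1, hd2⟩ := Prod.mk.inj hyd'
  have hk : y'' ∈ LinearMap.ker (E''.d 0) := hd2
  rw [E''.exact_zero] at hk
  obtain ⟨m'', rfl⟩ := hk
  have hm''g : m'' ∈ ℳ'' g :=
    mem_piece_of_map_mem_piece ℳ'' (E''.X 0).gr E''.ε E''.ε_grHom E''.ε_injective hyg'.2
  have hm''t : m'' ∈ gam a.toIdeal M'' := by
    obtain ⟨k, hk⟩ := hy'.2
    refine ⟨k, fun r hr => E''.ε_injective ?_⟩
    rw [map_smul, hk r hr, map_zero]
  obtain ⟨m, hmg, hmt, rfl⟩ := hsurj m'' hm''g hm''t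
  rw [D.h2, ← sub_eq_add_neg, ← map_sub] at hd1
  rw [mem_cobdy_succ]
  exact ⟨y' - D.σ m, Submodule.sub_mem _ hy'.1 (gam_map _ _ hmt), hd1⟩

end LESHS

section VanM

/-- Vanishing of the degree `g` piece of the `n`-th graded local cohomology of a graded module,
for every graded-injective resolution. -/
def VanM (a : HomogeneousIdeal 𝒜) (ℳ : ι → AddSubgroup M) [DirectSum.Decomposition ℳ]
    [SetLike.GradedSMul 𝒜 ℳ] (n : ℕ) (g : ι) : Prop :=
  ∀ E : StarInjRes 𝒜 ℳ, Van E a n g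

variable (a : HomogeneousIdeal 𝒜)

theorem vanM_iff (E : StarInjRes 𝒜 ℳ) (n : ℕ) (g : ι) : VanM a ℳ n g ↔ Van E a n g :=
  ⟨fun h => h E, fun h E₁ => van_indep E E₁ a n g h⟩

theorem vanM_iff_hcomp (E : StarInjRes 𝒜 ℳ) (n : ℕ) (g : ι) :
    VanM a ℳ n g ↔ E.Hcomp a n g = ⊥ := by
  rw [vanM_iff a E, hcomp_eq_bot_iff]

theorem vanM_of_retract (f : M →ₗ[R] M'') (hf : IsGrHom ℳ ℳ'' f) (f' : M'' →ₗ[R] M)
    (hf' : IsGrHom ℳ'' ℳ f') (hff' : ∀ y, f (f' y) = y) (n : ℕ) (g : ι)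
    (h : VanM a ℳ n g) : VanM a ℳ'' n g := by
  intro E''
  exact van_of_retract (starInjRes 𝒜 ℳ) E'' a f hf f' hf' hff' n g (h _)

variable (S : SES ℳ' ℳ ℳ'' i p)

include S in
theorem les_mid (n : ℕ) (g : ι) (h' : VanM a ℳ' n g) (h'' : VanM a ℳ'' n g) :
    VanM a ℳ n g := by
  obtain ⟨D⟩ := exists_hsdata (E' := starInjRes 𝒜 ℳ') (E'' := starInjRes 𝒜 ℳ'') S
  exact (vanM_iff a (hs S D) n g).mpr (hs_van_mid S D a n g (h' _) (h'' _))

include S in
theorem les_right (n : ℕ) (g : ι) (h : VanM a ℳ n g) (h' : VanM a ℳ' (n + 1) g) :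
    VanM a ℳ'' n g := by
  obtain ⟨D⟩ := exists_hsdata (E' := starInjRes 𝒜 ℳ') (E'' := starInjRes 𝒜 ℳ'') S
  exact (vanM_iff a (starInjRes 𝒜 ℳ'') n g).mpr (hs_van_right S D a n g (h _) (h' _))

include S in
theorem les_left (n : ℕ) (g : ι) (h'' : VanM a ℳ'' n g) (h : VanM a ℳ (n + 1) g) :
    VanM a ℳ' (n + 1) g := by
  obtain ⟨D⟩ := exists_hsdata (E' := starInjRes 𝒜 ℳ') (E'' := starInjRes 𝒜 ℳ'') S
  exact (vanM_iff a (starInjRes 𝒜 ℳ') (n + 1) g).mpr (hs_van_left S D a n g (h'' _) (h _))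

include S in
theorem les_left_zero (g : ι) (h : VanM a ℳ 0 g) : VanM a ℳ' 0 g := by
  obtain ⟨D⟩ := exists_hsdata (E' := starInjRes 𝒜 ℳ') (E'' := starInjRes 𝒜 ℳ'') S
  exact (vanM_iff a (starInjRes 𝒜 ℳ') 0 g).mpr (hs_van_left_zero S D a g (h _))

include S in
theorem les_left_one (g : ι)
    (hsurj : ∀ m'' ∈ ℳ'' g, m'' ∈ gam a.toIdeal M'' →
      ∃ m ∈ ℳ g, m ∈ gam a.toIdeal M ∧ p m = m'')
    (h : VanM a ℳ 1 g) : VanM a ℳ' 1 g := by
  obtain ⟨D⟩ := exists_hsdata (E' := starInjRes 𝒜 ℳ') (E'' := starInjRes 𝒜 ℳ'') S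
  exact (vanM_iff a (starInjRes 𝒜 ℳ') 1 g).mpr (hs_van_left_one S D a g hsurj (h _))

end VanM

section Zero

variable (a : HomogeneousIdeal 𝒜)

theorem vanM_zero_iff (g : ι) :
    VanM a ℳ 0 g ↔ ∀ m ∈ ℳ g, m ∈ gam a.toIdeal M → m = 0 := by
  rw [vanM_iff a (starInjRes 𝒜 ℳ)]
  set E := starInjRes 𝒜 ℳ
  constructor
  · intro h m hmg hmt
    have := h (E.ε m) (gam_map _ _ hmt) (d_comp_ε E m) (E.ε_grHom g m hmg)
    rw [mem_cobdy_zero] at this
    exact E.ε_injective (by rw [this, map_zero])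
  · intro h z hz hdz hzg
    have hk : z ∈ LinearMap.ker (E.d 0) := hdz
    rw [E.exact_zero] at hk
    obtain ⟨m, rfl⟩ := hk
    have hmg : m ∈ ℳ g :=
      mem_piece_of_map_mem_piece ℳ (E.X 0).gr E.ε E.ε_grHom E.ε_injective hzg
    have hmt : m ∈ gam a.toIdeal M := by
      obtain ⟨k, hk⟩ := hz
      refine ⟨k, fun r hr => E.ε_injective ?_⟩
      rw [map_smul, hk r hr, map_zero]
    rw [mem_cobdy_zero, h m hmg hmt, map_zero]

/-- The terms of the trivial resolution. -/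
noncomputable def trivX (ℳ : ι → AddSubgroup M) [DirectSum.Decomposition ℳ]
    [SetLike.GradedSMul 𝒜 ℳ] : ℕ → GMod.{u} 𝒜
  | 0 => GMod.of 𝒜 M ℳ
  | _ + 1 => gzero

/-- The resolution of a graded-injective module concentrated in degree zero. -/
noncomputable def trivRes (hM : IsStarInj 𝒜 ℳ) : StarInjRes 𝒜 ℳ where
  X := trivX ℳ
  d n := 0
  ε := (LinearMap.id : M →ₗ[R] M)
  d_grHom n := fun _ _ _ => zero_mem _
  ε_grHom := fun _ _ h => h
  ε_injective := fun _ _ h => h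
  exact_zero := by
    apply le_antisymm
    · intro x _
      exact ⟨x, rfl⟩
    · intro x _
      rfl
  exact_succ n := by
    apply le_antisymm
    · intro x _
      exact ⟨0, Subsingleton.elim (α := PUnit.{u + 1}) _ _⟩
    · intro x _
      rfl
  starInj n := match n with
    | 0 => hM
    | _ + 1 => isStarInj_gzero

theorem vanM_of_isStarInj (hM : IsStarInj 𝒜 ℳ) (n : ℕ) (g : ι) : VanM a ℳ (n + 1) g := by
  rw [vanM_iff a (trivRes hM)]
  intro z _ _ _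
  have : z = 0 := Subsingleton.elim (α := PUnit.{u + 1}) _ _
  rw [this]
  exact Submodule.zero_mem _

end Zero

end Groth.Agent.Lib.Helper8.GrLCLES
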