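import Groth.Agent.Lib.Helper8.GrLCPieces
import Groth.Agent.Lib.Helper84.PlanePoints
import Mathlib.RingTheory.KrullDimension.Polynomial
import Mathlib.RingTheory.KrullDimension.NonZeroDivisors
import Mathlib.RingTheory.Length

/-!
# Standard graded rings generated by few elements of degree one
-/

set_option autoImplicit false
set_option linter.unusedSectionVars false
universe u

open DirectSum GrLC
open Groth.Agent.Lib.Helper30

namespace Groth.Agent.Lib.Helper8.GrLCPolyAlg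

section Gen

variable {R : Type u} [CommRing R] {𝒜 : ℤ → AddSubgroup R} [GradedRing 𝒜]
variable (hpos : ∀ n : ℤ, n < 0 → 𝒜 n = ⊥)
  (hstd : Ideal.span (⋃ n ∈ Set.Ioi (0 : ℤ), (𝒜 n : Set R)) = Ideal.span ((𝒜 1 : AddSubgroup R) : Set R))

include hstd in
/-- In a standard graded ring, `R_{n+1} = R_n R_1`. -/
theorem exists_sum_of_mem_succ (n : ℤ) (hn : 0 ≤ n) (x : R) (hx : x ∈ 𝒜 (n + 1)) :
    ∃ (N : ℕ) (c : Fin N → R) (y : Fin N → R), (∀ j, c j ∈ 𝒜 n) ∧ (∀ j, y j ∈ 𝒜 1) ∧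
      x = ∑ j, c j * y j := by
  classical
  have hxs : x ∈ Ideal.span ((𝒜 1 : AddSubgroup R) : Set R) := by
    rw [← hstd]
    apply Ideal.subset_span
    simp only [Set.mem_iUnion, Set.mem_Ioi, SetLike.mem_coe, exists_prop]
    exact ⟨n + 1, by omega, hx⟩
  obtain ⟨N, c, y, hsum⟩ := Submodule.mem_span_set'.mp hxs
  refine ⟨N, fun j => (decompose 𝒜 (c j) n : R), fun j => (y j : R),
    fun j => (decompose 𝒜 (c j) n).2, fun j => (y j).2, ?_⟩
  have h1 := decompose_of_mem_same 𝒜 hx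
  rw [← h1, ← hsum, decompose_sum, DFinsupp.finsetSum_apply, AddSubgroup.val_finsetSum]
  apply Finset.sum_congr rfl
  intro j _
  have hy : ((y j : R)) ∈ 𝒜 1 := (y j).2
  have h2 := decompose_smul_of_mem_right 𝒜 𝒜 hy (c j) n
  rw [h2]
  rfl

include hpos hstd in
/-- A subring containing the pieces of degree zero and one is everything. -/
theorem subring_eq_top (S : Subring R) (h0 : ∀ x ∈ 𝒜 0, x ∈ S) (h1 : ∀ x ∈ 𝒜 1, x ∈ S) :
    ∀ x : R, x ∈ S := by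
  classical
  have hn : ∀ (n : ℕ) (x : R), x ∈ 𝒜 (n : ℤ) → x ∈ S := by
    intro n
    induction n with
    | zero => exact fun x hx => h0 x hx
    | succ n ih =>
      intro x hx
      have hx' : x ∈ 𝒜 ((n : ℤ) + 1) := by
        have : ((n + 1 : ℕ) : ℤ) = (n : ℤ) + 1 := by push_cast; ring
        rwa [this] at hx
      obtain ⟨N, c, y, hc, hy, rfl⟩ := exists_sum_of_mem_succ hstd (n : ℤ) (by omega) x hx'
      exact Subring.sum_mem _ (fun j _ => Subring.mul_mem _ (ih _ (hc j)) (h1 _ (hy j)))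
  intro x
  rw [← DirectSum.sum_support_decompose 𝒜 x]
  apply Subring.sum_mem
  intro i _
  rcases lt_or_ge i 0 with hi | hi
  · have hz : ∀ y : R, y ∈ 𝒜 i → y = 0 := by
      intro y hy
      rw [hpos i hi, AddSubgroup.mem_bot] at hy
      exact hy
    rw [hz _ (decompose 𝒜 x i).2]
    exact Subring.zero_mem _
  · have := hn i.toNat (decompose 𝒜 x i : R) (by
      rw [Int.toNat_of_nonneg hi]
      exact (decompose 𝒜 x i).2)
    exact this

end Gen

section Phi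

variable {R : Type u} [CommRing R] {𝒜 : ℤ → AddSubgroup R} [GradedRing 𝒜]
variable (hpos : ∀ n : ℤ, n < 0 → 𝒜 n = ⊥)
  (hstd : Ideal.span (⋃ n ∈ Set.Ioi (0 : ℤ), (𝒜 n : Set R)) = Ideal.span ((𝒜 1 : AddSubgroup R) : Set R))

/-- `𝒜 1` is spanned over `𝒜 0` by the family `x`. -/
def Gen {e : ℕ} (𝒜 : ℤ → AddSubgroup R) (x : Fin e → R) : Prop :=
  (∀ i, x i ∈ 𝒜 1) ∧ ∀ y ∈ 𝒜 1, ∃ a : Fin e → R, (∀ i, a i ∈ 𝒜 0) ∧ y = ∑ i, a i * x i

variable {e : ℕ} (x : Fin e → R)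

/-- The algebra map from the polynomial ring. -/
noncomputable def phi : MvPolynomial (Fin e) ↥(deg0 𝒜) →ₐ[↥(deg0 𝒜)] R := MvPolynomial.aeval x

include hpos hstd in
theorem phi_surjective (hx : Gen 𝒜 x) : Function.Surjective (phi (𝒜 := 𝒜) x) := by
  intro z
  have h := subring_eq_top hpos hstd (phi (𝒜 := 𝒜) x).range.toSubring ?_ ?_ z
  · exact h
  · intro c hc
    refine ⟨MvPolynomial.C (⟨c, hc⟩ : ↥(deg0 𝒜)), ?_⟩
    change phi (𝒜 := 𝒜) x (MvPolynomial.C (⟨c, hc⟩ : ↥(deg0 𝒜))) = c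
    unfold phi
    rw [MvPolynomial.aeval_C]
    rfl
  · intro y hy
    obtain ⟨a, ha, rfl⟩ := hx.2 y hy
    refine ⟨∑ i, MvPolynomial.C (⟨a i, ha i⟩ : ↥(deg0 𝒜)) * MvPolynomial.X i, ?_⟩
    change phi (𝒜 := 𝒜) x (∑ i, MvPolynomial.C (⟨a i, ha i⟩ : ↥(deg0 𝒜)) * MvPolynomial.X i) = _
    unfold phi
    rw [map_sum]
    apply Finset.sum_congr rfl
    intro i _
    rw [map_mul, MvPolynomial.aeval_C, MvPolynomial.aeval_X]
    rfl

theorem phi_monomial_mem (hx : ∀ i, x i ∈ 𝒜 1) (d : Fin e →₀ ℕ) (c : ↥(deg0 𝒜)) :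
    phi (𝒜 := 𝒜) x (MvPolynomial.monomial d c) ∈ 𝒜 ((d.degree : ℕ) : ℤ) := by
  unfold phi
  rw [MvPolynomial.aeval_monomial]
  have h1 : (algebraMap ↥(deg0 𝒜) R c) ∈ 𝒜 0 := c.2
  have h2 : (d.prod fun i k => x i ^ k) ∈ 𝒜 ((d.degree : ℕ) : ℤ) := by
    have h := SetLike.prod_pow_mem_graded 𝒜 (fun _ : Fin e => (1 : ℤ)) x (F := d.support)
      (fun i => d i) (fun i _ => hx i)
    have hdeg : (∑ k ∈ d.support, d k • (1 : ℤ)) = ((d.degree : ℕ) : ℤ) := by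
      rw [Finsupp.degree_apply]
      push_cast
      apply Finset.sum_congr rfl
      intro i _
      simp
    rw [hdeg] at h
    exact h
  have h3 := SetLike.GradedMul.mul_mem h1 h2
  rwa [zero_add] at h3

theorem phi_mem (hx : ∀ i, x i ∈ 𝒜 1) (n : ℕ) (p : MvPolynomial (Fin e) ↥(deg0 𝒜))
    (hp : p.IsHomogeneous n) : phi (𝒜 := 𝒜) x p ∈ 𝒜 (n : ℤ) := by
  rw [← MvPolynomial.support_sum_monomial_coeff p, map_sum]
  apply sum_mem
  intro d hd
  have hd' : MvPolynomial.coeff d p ≠ 0 := MvPolynomial.mem_support_iff.mp hd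
  have hdn : d.degree = n := by
    rw [Finsupp.degree_eq_weight_one]
    exact hp hd'
  have h := phi_monomial_mem x hx d (MvPolynomial.coeff d p)
  rwa [hdn] at h

include hpos hstd in
/-- If the number of generators is at most the dimension, the map is injective. -/
theorem phi_injective (h0 : IsField ↥(deg0 𝒜)) (hx : Gen 𝒜 x) (r : ℕ)
    (hr : ringKrullDim R = r) (he : e ≤ r) : Function.Injective (phi (𝒜 := 𝒜) x) := by
  let _ : Field ↥(deg0 𝒜) := h0.toField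
  rw [injective_iff_map_eq_zero]
  intro f hf
  by_contra hne
  have hnz : f ∈ nonZeroDivisors (MvPolynomial (Fin e) ↥(deg0 𝒜)) :=
    mem_nonZeroDivisors_of_ne_zero hne
  have h1 := ringKrullDim_succ_le_of_surjective (phi (𝒜 := 𝒜) x).toRingHom
    (phi_surjective hpos hstd x hx) hnz hf
  have h2 : ringKrullDim (MvPolynomial (Fin e) ↥(deg0 𝒜)) = (e : WithBot ℕ∞) := by
    rw [MvPolynomial.ringKrullDim_of_isNoetherianRing, ringKrullDim_eq_zero_of_field, zero_add,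
      Nat.card_eq_fintype_card, Fintype.card_fin]
  rw [h2, hr] at h1
  have h3 : ((r + 1 : ℕ) : WithBot ℕ∞) ≤ ((e : ℕ) : WithBot ℕ∞) := by
    push_cast
    exact h1
  have h4 : r + 1 ≤ e := by exact_mod_cast h3
  omega

include hpos hstd in
/-- The Hilbert function of a polynomial ring. -/
theorem length_piece (h0 : IsField ↥(deg0 𝒜)) (hx : Gen 𝒜 x)
    (hinj : Function.Injective (phi (𝒜 := 𝒜) x)) (n : ℕ) :
    Module.length ↥(deg0 𝒜) ↥(comp 𝒜 𝒜 (n : ℤ)) = (((e + n - 1).choose n : ℕ) : ℕ∞) := by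
  classical
  have hmem : ∀ p ∈ MvPolynomial.homogeneousSubmodule (Fin e) ↥(deg0 𝒜) n,
      (phi (𝒜 := 𝒜) x).toLinearMap p ∈ comp 𝒜 𝒜 (n : ℤ) := fun p hp => phi_mem x hx.1 n p hp
  let ψ : ↥(MvPolynomial.homogeneousSubmodule (Fin e) ↥(deg0 𝒜) n) →ₗ[↥(deg0 𝒜)]
      ↥(comp 𝒜 𝒜 (n : ℤ)) := (phi (𝒜 := 𝒜) x).toLinearMap.restrict hmem
  have hψinj : Function.Injective ψ := by
    intro p q hpq
    apply Subtype.ext
    apply hinj
    exact congrArg Subtype.val hpq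
  have hψsurj : Function.Surjective ψ := by
    rintro ⟨y, hy⟩
    have hy' : y ∈ 𝒜 (n : ℤ) := hy
    obtain ⟨p, rfl⟩ := phi_surjective hpos hstd x hx y
    refine ⟨⟨MvPolynomial.homogeneousComponent n p, MvPolynomial.homogeneousComponent_mem n p⟩, ?_⟩
    apply Subtype.ext
    change phi (𝒜 := 𝒜) x (MvPolynomial.homogeneousComponent n p) = phi (𝒜 := 𝒜) x p
    have key : ∀ j : ℕ, (decompose 𝒜 (phi (𝒜 := 𝒜) x (MvPolynomial.homogeneousComponent j p))
        (n : ℤ) : R) = if j = n then phi (𝒜 := 𝒜) x (MvPolynomial.homogeneousComponent j p)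
          else 0 := by
      intro j
      have hj := phi_mem x hx.1 j _ (MvPolynomial.homogeneousComponent_isHomogeneous j p)
      split_ifs with h
      · subst h
        exact decompose_of_mem_same 𝒜 hj
      · exact decompose_of_mem_ne 𝒜 hj (by exact_mod_cast h)
    have h1 := decompose_of_mem_same 𝒜 hy'
    conv_lhs at h1 => rw [← MvPolynomial.sum_homogeneousComponent p, map_sum]
    rw [decompose_sum, DFinsupp.finsetSum_apply, AddSubgroup.val_finsetSum] at h1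
    simp_rw [key] at h1
    rw [Finset.sum_ite_eq'] at h1
    split_ifs at h1 with hn
    · exact h1
    · rw [← h1]
      have : p.totalDegree < n := by
        rw [Finset.mem_range] at hn
        omega
      rw [MvPolynomial.homogeneousComponent_eq_zero n p this, map_zero]
  have e1 : Module.length ↥(deg0 𝒜) ↥(MvPolynomial.homogeneousSubmodule (Fin e) ↥(deg0 𝒜) n) =
      Module.length ↥(deg0 𝒜) ↥(comp 𝒜 𝒜 (n : ℤ)) :=
    LinearEquiv.length_eq (R := ↥(deg0 𝒜)) (LinearEquiv.ofBijective ψ ⟨hψinj, hψsurj⟩)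
  let _ : Field ↥(deg0 𝒜) := h0.toField
  have hfin : Module.Finite ↥(deg0 𝒜) ↥(MvPolynomial.homogeneousSubmodule (Fin e) ↥(deg0 𝒜) n) :=
    Module.Finite.iff_fg.mpr (MvPolynomial.homogeneousSubmodule_fg (Fin e) ↥(deg0 𝒜) n)
  have e2 := Module.length_eq_finrank ↥(deg0 𝒜)
    ↥(MvPolynomial.homogeneousSubmodule (Fin e) ↥(deg0 𝒜) n)
  have e3 := Groth.Agent.Lib.Helper84.finrank_homogeneousSubmodule ↥(deg0 𝒜) (Fin e) n
  rw [Fintype.card_fin] at e3
  rw [e3] at e2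
  exact e1.symm.trans e2

include hpos hstd in
/-- A standard graded ring over a field generated by `dim R` elements is a polynomial ring. -/
theorem algEquiv_of_gen (h0 : IsField ↥(deg0 𝒜)) (r : ℕ) (x : Fin r → R) (hx : Gen 𝒜 x)
    (hr : ringKrullDim R = r) :
    ∃ ε : MvPolynomial (Fin r) ↥(deg0 𝒜) ≃ₐ[↥(deg0 𝒜)] R, ∀ t, ε (MvPolynomial.X t) = x t := by
  refine ⟨AlgEquiv.ofBijective (phi (𝒜 := 𝒜) x)
    ⟨phi_injective hpos hstd x h0 hx r hr le_rfl, phi_surjective hpos hstd x hx⟩, fun t => ?_⟩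
  change phi (𝒜 := 𝒜) x (MvPolynomial.X t) = x t
  unfold phi
  rw [MvPolynomial.aeval_X]

/-- The degree zero piece of a graded ring over a field has length one. -/
theorem length_piece_zero (h0 : IsField ↥(deg0 𝒜)) :
    Module.length ↥(deg0 𝒜) ↥(comp 𝒜 𝒜 (0 : ℤ)) = 1 := by
  let ψ : ↥(comp 𝒜 𝒜 (0 : ℤ)) ≃ₗ[↥(deg0 𝒜)] ↥(deg0 𝒜) :=
    { toFun := fun y => ⟨y.1, y.2⟩
      invFun := fun y => ⟨y.1, y.2⟩
      map_add' := fun _ _ => rfl
      map_smul' := fun _ _ => rfl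
      left_inv := fun _ => rfl
      right_inv := fun _ => rfl }
  have e1 : Module.length ↥(deg0 𝒜) ↥(comp 𝒜 𝒜 (0 : ℤ)) = Module.length ↥(deg0 𝒜) ↥(deg0 𝒜) :=
    LinearEquiv.length_eq (R := ↥(deg0 𝒜)) ψ
  let _ : Field ↥(deg0 𝒜) := h0.toField
  have e2 := Module.length_eq_finrank ↥(deg0 𝒜) ↥(deg0 𝒜)
  rw [Module.finrank_self] at e2
  exact e1.trans e2

/-- If the degree one piece has length `r` over the field `R_0`, it is spanned by `r` elements. -/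
theorem exists_gen_of_length (h0 : IsField ↥(deg0 𝒜)) (r : ℕ)
    (hl : Module.length ↥(deg0 𝒜) ↥(comp 𝒜 𝒜 (1 : ℤ)) = r) : ∃ x : Fin r → R, Gen 𝒜 x := by
  let _ : Field ↥(deg0 𝒜) := h0.toField
  have e2 := Module.length_eq_rank ↥(deg0 𝒜) ↥(comp 𝒜 𝒜 (1 : ℤ))
  have hrank : Module.rank ↥(deg0 𝒜) ↥(comp 𝒜 𝒜 (1 : ℤ)) = (r : Cardinal) := by
    rw [← Cardinal.toENat_eq_natCast]
    exact e2.symm.trans hl
  have hfin : Module.Finite ↥(deg0 𝒜) ↥(comp 𝒜 𝒜 (1 : ℤ)) := Module.finite_of_rank_eq_nat hrank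
  have hfr : Module.finrank ↥(deg0 𝒜) ↥(comp 𝒜 𝒜 (1 : ℤ)) = r := Module.finrank_eq_of_rank_eq hrank
  let b := Module.finBasisOfFinrankEq ↥(deg0 𝒜) ↥(comp 𝒜 𝒜 (1 : ℤ)) hfr
  refine ⟨fun i => ((b i : ↥(comp 𝒜 𝒜 (1 : ℤ))) : R), fun i => (b i).2, fun y hy => ?_⟩
  have hy' : y ∈ comp 𝒜 𝒜 (1 : ℤ) := hy
  refine ⟨fun i => ((b.repr ⟨y, hy'⟩ i : ↥(deg0 𝒜)) : R), fun i => (b.repr ⟨y, hy'⟩ i).2, ?_⟩
  have h := b.sum_repr ⟨y, hy'⟩
  have h' := congrArg (Subtype.val : ↥(comp 𝒜 𝒜 (1 : ℤ)) → R) h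
  rw [Submodule.coe_sum] at h'
  exact h'.symm

end Phi

end Groth.Agent.Lib.Helper8.GrLCPolyAlg
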