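import Groth.Agent.Lib.Helper8.GrLCPolyChar
import Groth.Agent.Lib.Helper8.GrLCAinvSeq

/-!
# Polynomial rings over Artinian rings and the `a`-invariant: Hilbert functions
-/

set_option autoImplicit false
set_option linter.unusedSectionVars false
universe u

open DirectSum GrLC
open Groth.Agent.Lib.Helper30
open Groth.Agent.Lib.Helper8.GrLCLES
open Groth.Agent.Lib.Helper8.GrLCEulerInv Groth.Agent.Lib.Helper8.GrLCEulerAbs
open Groth.Agent.Lib.Helper8.GrLCEulerMain Groth.Agent.Lib.Helper8.GrLCEulerAinv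
open Groth.Agent.Lib.Helper8.GrLCPolyAlg Groth.Agent.Lib.Helper8.GrLCPolyReg
open Groth.Agent.Lib.Helper8.GrLCPolyChar
open Groth.Agent.Lib.Helper8.GrLCFin Groth.Agent.Lib.Helper8.GrLCPieces
open scoped Pointwise

namespace Groth.Agent.Lib.Helper8.GrLCPolyArt

section Diff

/-- The iterated difference at `n` only depends on the values on `[n - d, n]`. -/
theorem Dl_iter_congr_window (d : ℕ) (f g : ℤ → ℚ) (n : ℤ)
    (h : ∀ j, n - d ≤ j → j ≤ n → f j = g j) : Dl^[d] f n = Dl^[d] g n := by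
  induction d generalizing f g n with
  | zero => exact h n (by simp) le_rfl
  | succ d ih =>
    rw [Function.iterate_succ_apply, Function.iterate_succ_apply]
    apply ih
    intro j hj1 hj2
    rw [Dl_apply, Dl_apply, h j (by push_cast; omega) hj2, h (j - 1) (by push_cast; omega) (by omega)]

/-- Upward induction for finite differences. -/
theorem eq_zero_upward (d : ℕ) (D : ℤ → ℚ) (a : ℤ) (h0 : ∀ n, n ≤ a → D n = 0)
    (hΔ : ∀ n, a < n → Dl^[d] D n = 0) : D = 0 := by
  induction d generalizing D with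
  | zero =>
    funext n
    rcases le_or_gt n a with hn | hn
    · exact h0 n hn
    · exact hΔ n hn
  | succ d ih =>
    have h1 : Dl D = 0 := by
      apply ih
      · intro n hn
        rw [Dl_apply, h0 n hn, h0 (n - 1) (by omega), sub_zero]
      · intro n hn
        have := hΔ n hn
        rwa [Function.iterate_succ_apply] at this
    funext n
    rw [const_of_Dl_zero D h1 a n, h0 a le_rfl]
    rfl

theorem Dl_iter_smul (d : ℕ) (c : ℚ) (f : ℤ → ℚ) : Dl^[d] (c • f) = c • Dl^[d] f := by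
  induction d generalizing f with
  | zero => rfl
  | succ d ih =>
    rw [Function.iterate_succ_apply, Function.iterate_succ_apply]
    have : Dl (c • f) = c • Dl f := by
      funext k
      simp only [Dl_apply, Pi.smul_apply, smul_eq_mul]
      ring
    rw [this]
    exact ih (Dl f)

theorem G_zero_right (d : ℕ) : G d 0 = 1 := by
  have := G_nat d 0
  simp only [Nat.cast_zero, Nat.choose_zero_right, Nat.cast_one] at this
  exact this

end Diff

section Hilb

variable {R : Type u} [CommRing R] [IsNoetherianRing R] {𝒜 : ℤ → AddSubgroup R} [GradedRing 𝒜]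
variable (hpos : ∀ n : ℤ, n < 0 → 𝒜 n = ⊥)
  (hstd : Ideal.span (⋃ n ∈ Set.Ioi (0 : ℤ), (𝒜 n : Set R)) = Ideal.span ((𝒜 1 : AddSubgroup R) : Set R))
  [IsArtinianRing (GrLC.deg0 𝒜)] (m : HomogeneousIdeal 𝒜) (hm : GrLC.IsStarLocal 𝒜 m)
  (d : ℕ) (hd : ringKrullDim R = d)

include hpos hstd hm hd in
/-- If `R` is Cohen–Macaulay with `a`-invariant `-dim R`, the `d`-th difference of the Hilbert
function vanishes in positive degrees. -/
theorem Dl_hilb_eq_zero (hv : ∀ i, i < d → ∀ g, VanM m 𝒜 i g) (I : StarInjRes 𝒜 𝒜)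
    (ha : GrLC.endDeg (I.Hgr m d) = (((-(d : ℤ) : ℤ) : WithTop ℤ) : WithBot (WithTop ℤ)))
    (n : ℤ) (hn : 1 ≤ n) : Dl^[d] (hilb 𝒜 𝒜) n = 0 := by
  have hD : Dl^[d] (F 𝒜 𝒜 m d) = 0 := by
    apply Dl_F_eq_zero hpos hstd m hm d hd (GMod.of 𝒜 R 𝒜)
      (show Module.Finite R R from inferInstance) d
    refine lt_of_le_of_lt (ringKrullDim_quotient_le _) ?_
    rw [hd]
    exact_mod_cast Nat.lt_succ_self d
  have hvan : ∀ n : ℤ, -(d : ℤ) < n → I.Hgr m d n = ⊥ := by
    intro n hn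
    by_contra hne
    have h1 : ((n : WithTop ℤ) : WithBot (WithTop ℤ)) ≤ GrLC.endDeg (I.Hgr m d) :=
      le_iSup₂ (f := fun (k : ℤ) (_ : I.Hgr m d k ≠ ⊥) => ((k : WithTop ℤ) : WithBot (WithTop ℤ)))
        n hne
    rw [ha] at h1
    have h2 : n ≤ -(d : ℤ) := by exact_mod_cast h1
    omega
  have hF : ∀ n : ℤ, -(d : ℤ) < n → F 𝒜 𝒜 m d n = hilb 𝒜 𝒜 n := by
    intro n hn
    simp only [F]
    rw [chiE_eq_of_res m d (starInjRes 𝒜 𝒜) I n, chiE_top I m d n (fun i hi => hv i hi n),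
      (hgr_eq_bot_iff_length I m d n).mp (hvan n hn)]
    simp
  rw [Dl_iter_congr_window d (hilb 𝒜 𝒜) (F 𝒜 𝒜 m d) n (fun j hj1 _ => (hF j (by omega)).symm), hD]
  rfl

include hpos hstd hm hd in
/-- The Hilbert function of a Cohen–Macaulay standard graded ring with `a`-invariant `-dim R`. -/
theorem hilb_eq (hv : ∀ i, i < d → ∀ g, VanM m 𝒜 i g) (I : StarInjRes 𝒜 𝒜)
    (ha : GrLC.endDeg (I.Hgr m d) = (((-(d : ℤ) : ℤ) : WithTop ℤ) : WithBot (WithTop ℤ)))
    (n : ℤ) : hilb 𝒜 𝒜 n = hilb 𝒜 𝒜 0 * G d n := by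
  have key : (fun n => hilb 𝒜 𝒜 n - hilb 𝒜 𝒜 0 * G d n) = 0 := by
    apply eq_zero_upward d _ 0
    · intro n hn
      rcases lt_or_eq_of_le hn with h | h
      · rw [hilb_neg hpos n h, G_neg d n h, mul_zero, sub_zero]
      · subst h
        rw [G_zero_right, mul_one, sub_self]
    · intro n hn
      have h1 : (fun n => hilb 𝒜 𝒜 n - hilb 𝒜 𝒜 0 * G d n) =
          hilb 𝒜 𝒜 - (fun n => hilb 𝒜 𝒜 0 * G d n) := rfl
      have h2 : (fun n => hilb 𝒜 𝒜 0 * G d n) = (hilb 𝒜 𝒜 0) • G d := by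
        funext k
        simp
      rw [h1, Dl_iter_sub, Pi.sub_apply, Dl_hilb_eq_zero hpos hstd m hm d hd hv I ha n (by omega),
        h2]
      rw [Dl_iter_smul, Dl_iter_G, Pi.smul_apply, G_zero_pos n (by omega)]
      simp
  have := congrFun key n
  simp only [Pi.zero_apply] at this
  linarith

end Hilb

section Seq

open Groth.Agent.Lib.Helper8.GrLCShift Groth.Agent.Lib.Helper8.GrLCSub
open Groth.Agent.Lib.Helper8.GrLCAinvSeq

variable {R : Type u} [CommRing R] [IsNoetherianRing R] {𝒜 : ℤ → AddSubgroup R} [GradedRing 𝒜]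
  [IsArtinianRing (GrLC.deg0 𝒜)]

/-- The Hilbert function of the quotient by a regular element of degree one. -/
theorem hilb_quot {M : Type u} [AddCommGroup M] [Module R M] (ℳ : ℤ → AddSubgroup M)
    [DirectSum.Decomposition ℳ] [SetLike.GradedSMul 𝒜 ℳ] [Module.Finite R M]
    {N : Type u} [AddCommGroup N] [Module R N] (𝒩 : ℤ → AddSubgroup N)
    [DirectSum.Decomposition 𝒩] [SetLike.GradedSMul 𝒜 𝒩]
    {x : R} (hx : x ∈ 𝒜 1) (hreg : IsSMulRegular M x)
    (π : M →ₗ[R] N) (hπ : Function.Surjective π) (hπg : IsGrHom ℳ 𝒩 π)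
    (hker : LinearMap.ker π = LinearMap.range (x • (LinearMap.id : M →ₗ[R] M))) :
    hilb 𝒜 𝒩 = Dl (hilb 𝒜 ℳ) := by
  have hN : IsNoetherian R M := isNoetherian_of_isNoetherianRing_of_finite R M
  have hfinN : Module.Finite R N := Module.Finite.of_surjective π hπ
  have hNN : IsNoetherian R N := isNoetherian_of_isNoetherianRing_of_finite R N
  let μ : M →ₗ[R] M := x • (LinearMap.id : M →ₗ[R] M)
  have S : SES (shiftGr ℳ (-1)) ℳ 𝒩 μ π :=
    { i_gr := by
        intro g y hy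
        have hy' : y ∈ ℳ (g + -1) := hy
        have h := SetLike.GradedSMul.smul_mem (A := 𝒜) (B := ℳ) hx hy'
        rw [vadd_eq_add, show (1 : ℤ) + (g + -1) = g by ring] at h
        exact h
      p_gr := hπg
      inj := by
        intro y y' h
        exact hreg h
      surj := hπ
      exact := hker.symm }
  funext g
  have h1 := length_comp_ses (𝒜 := 𝒜) S g
  have f1 : Module.length ↥(deg0 𝒜) ↥(comp 𝒜 ℳ g) ≠ ⊤ := fin_comp ℳ g
  have f2 : Module.length ↥(deg0 𝒜) ↥(comp 𝒜 (shiftGr ℳ (-1)) g) ≠ ⊤ :=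
    fin_comp (shiftGr ℳ (-1)) g
  have f3 : Module.length ↥(deg0 𝒜) ↥(comp 𝒜 𝒩 g) ≠ ⊤ := fin_comp 𝒩 g
  have h2 : hilb 𝒜 ℳ g = hilb 𝒜 (shiftGr ℳ (-1)) g + hilb 𝒜 𝒩 g := by
    unfold hilb
    rw [h1, ENat.toNat_add f2 f3]
    push_cast
    rfl
  have h3 : hilb 𝒜 (shiftGr ℳ (-1)) g = hilb 𝒜 ℳ (g - 1) := rfl
  rw [Dl_apply, h2, h3]
  ring

/-- The Hilbert function of the quotient by a regular sequence of elements of degree one. -/
theorem hilb_seq : ∀ (t : ℕ)
    (M : Type u) [AddCommGroup M] [Module R M] (ℳ : ℤ → AddSubgroup M)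
      [DirectSum.Decomposition ℳ] [SetLike.GradedSMul 𝒜 ℳ] [Module.Finite R M]
      (N : Type u) [AddCommGroup N] [Module R N] (𝒩 : ℤ → AddSubgroup N)
      [DirectSum.Decomposition 𝒩] [SetLike.GradedSMul 𝒜 𝒩]
      (f : Fin t → R), (∀ i, f i ∈ 𝒜 1) →
      RingTheory.Sequence.IsWeaklyRegular M (List.ofFn f) →
      ∀ π : M →ₗ[R] N, IsGrHom ℳ 𝒩 π → Function.Surjective π →
      LinearMap.ker π = Ideal.span (Set.range f) • (⊤ : Submodule R M) →
      hilb 𝒜 𝒩 = Dl^[t] (hilb 𝒜 ℳ) := by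
  intro t
  induction t with
  | zero =>
    intro M _ _ ℳ _ _ _ N _ _ 𝒩 _ _ f _ _ π hπg hπs hπk
    have hker : LinearMap.ker π = ⊥ := by
      rw [hπk]
      have : Set.range f = ∅ := Set.range_eq_empty f
      rw [this, Ideal.span_empty, Submodule.bot_smul]
    have hinj : Function.Injective π := LinearMap.ker_eq_bot.mp hker
    funext g
    change hilb 𝒜 𝒩 g = hilb 𝒜 ℳ g
    unfold hilb
    let ψ : ↥(comp 𝒜 ℳ g) →ₗ[↥(deg0 𝒜)] ↥(comp 𝒜 𝒩 g) :=
      (π.restrictScalars ↥(deg0 𝒜)).restrict (fun y hy => hπg g y hy)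
    have hψi : Function.Injective ψ := by
      intro y y' h
      apply Subtype.ext
      apply hinj
      exact congrArg Subtype.val h
    have hψs : Function.Surjective ψ := by
      rintro ⟨z, hz⟩
      obtain ⟨y, rfl⟩ := hπs z
      have hy : y ∈ ℳ g := mem_piece_of_map_mem_piece ℳ 𝒩 π hπg hinj hz
      exact ⟨⟨y, hy⟩, rfl⟩
    rw [LinearEquiv.length_eq (LinearEquiv.ofBijective ψ ⟨hψi, hψs⟩)]
  | succ t ih =>
    intro M _ _ ℳ _ _ _ N _ _ 𝒩 _ _ f hfdeg hreg π hπg hπs hπk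
    set x : R := f 0 with hx
    have hxk : x ∈ 𝒜 1 := hfdeg 0
    rw [List.ofFn_succ, RingTheory.Sequence.isWeaklyRegular_cons_iff] at hreg
    obtain ⟨hreg0, hreg'⟩ := hreg
    let mx : M →ₗ[R] M := x • (LinearMap.id : M →ₗ[R] M)
    let B : Submodule R M := LinearMap.range mx
    have hmx : IsGrHomDeg ℳ ℳ mx 1 := by
      intro g m hm
      have := smul_mem_piece 𝒜 ℳ hxk hm
      rw [add_comm] at this
      exact this
    have hB : B.IsHomogeneous ℳ := range_isHomogeneous_of_isGrHomDeg ℳ ℳ mx 1 hmx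
    have hBeq : x • (⊤ : Submodule R M) = B := by
      ext y
      rw [Submodule.mem_smul_pointwise_iff_exists]
      constructor
      · rintro ⟨m, -, rfl⟩
        exact ⟨m, rfl⟩
      · rintro ⟨m, rfl⟩
        exact ⟨m, trivial, rfl⟩
    let Y : GMod.{u} 𝒜 := gmodQuot 𝒜 ℳ B hB
    let π₁ : M →ₗ[R] Y.carrier := B.mkQ
    have hπ₁g : IsGrHom ℳ Y.gr π₁ := isGrHom_mkQ ℳ B
    have hπ₁s : Function.Surjective π₁ := B.mkQ_surjective
    have hπ₁0 : ∀ m, π₁ m = 0 ↔ m ∈ B := fun m => Submodule.Quotient.mk_eq_zero B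
    have hπ₁k : LinearMap.ker π₁ = LinearMap.range (x • (LinearMap.id : M →ₗ[R] M)) :=
      Submodule.ker_mkQ B
    have hBle : B ≤ LinearMap.ker π := by
      rintro _ ⟨m, rfl⟩
      rw [hπk]
      exact Submodule.smul_mem_smul (Ideal.subset_span ⟨0, rfl⟩) (Submodule.mem_top)
    let π' : Y.carrier →ₗ[R] N := B.liftQ π hBle
    have hπ'π : ∀ m, π' (π₁ m) = π m := fun m => Submodule.liftQ_apply B π m
    have hπ'g : IsGrHom Y.gr 𝒩 π' := by
      rintro g y ⟨m, hm, rfl⟩
      exact hπg g m hm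
    have hπ's : Function.Surjective π' := by
      intro n
      obtain ⟨m, rfl⟩ := hπs n
      exact ⟨π₁ m, hπ'π m⟩
    have hπ'k : LinearMap.ker π' =
        Ideal.span (Set.range (fun i : Fin t => f i.succ)) • (⊤ : Submodule R Y.carrier) := by
      apply le_antisymm
      · intro y hy
        obtain ⟨m, rfl⟩ := hπ₁s y
        rw [LinearMap.mem_ker, hπ'π] at hy
        have hm : m ∈ Ideal.span (Set.range f) • (⊤ : Submodule R M) := by
          rw [← hπk]; exact hy
        refine Submodule.smul_induction_on hm ?_ ?_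
        · intro r hr m' _
          rw [range_succ, Ideal.span_insert] at hr
          obtain ⟨r₁, hr₁, r₂, hr₂, rfl⟩ := Submodule.mem_sup.mp hr
          obtain ⟨c, rfl⟩ := Ideal.mem_span_singleton'.mp hr₁
          rw [add_smul, map_add]
          have h0 : π₁ ((c * f 0) • m') = 0 := by
            rw [hπ₁0]
            refine ⟨c • m', ?_⟩
            change x • (c • m') = (c * f 0) • m'
            rw [hx, smul_smul, mul_comm]
          rw [h0, zero_add, map_smul]
          exact Submodule.smul_mem_smul hr₂ trivial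
        · intro y y' hy hy'
          rw [map_add]
          exact Submodule.add_mem _ hy hy'
      · rw [Submodule.smul_le]
        intro r hr y _
        obtain ⟨m, rfl⟩ := hπ₁s y
        rw [LinearMap.mem_ker, ← map_smul, hπ'π]
        have : r • m ∈ LinearMap.ker π := by
          rw [hπk]
          refine Submodule.smul_mem_smul (Ideal.span_mono ?_ hr) (Submodule.mem_top)
          rintro _ ⟨i, rfl⟩
          exact ⟨i.succ, rfl⟩
        exact this
    have hreg'' : RingTheory.Sequence.IsWeaklyRegular Y.carrier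
        (List.ofFn (fun i : Fin t => f i.succ)) := by
      have e : QuotSMulTop x M ≃ₗ[R] Y.carrier := Submodule.quotEquivOfEq _ _ hBeq
      exact (e.isWeaklyRegular_congr _).mp hreg'
    have hfinY : Module.Finite R Y.carrier := Module.Finite.of_surjective π₁ hπ₁s
    have h1 : hilb 𝒜 Y.gr = Dl (hilb 𝒜 ℳ) :=
      hilb_quot ℳ Y.gr hxk hreg0 π₁ hπ₁s hπ₁g hπ₁k
    have h2 := ih Y.carrier Y.gr N 𝒩 (fun i => f i.succ) (fun i => hfdeg i.succ) hreg'' π' hπ'g
      hπ's hπ'k
    rw [h2, h1, Function.iterate_succ_apply]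

end Seq

end Groth.Agent.Lib.Helper8.GrLCPolyArt
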