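import Groth.Agent.Lib.Helper8.GrLCEulerTors
import Groth.Agent.Lib.Helper30.GradedGam

/-!
# Regular elements of degree one over an infinite residue field
-/

set_option autoImplicit false
set_option linter.unusedSectionVars false
universe u

open DirectSum GrLC
open Groth.Agent.Lib.Helper30
open Groth.Agent.Lib.Helper8.GrLCLES
open Groth.Agent.Lib.Helper8.GrLCPieces Groth.Agent.Lib.Helper8.GrLCEulerTors
open Groth.Agent.Lib.Helper8.GrLCFin

namespace Groth.Agent.Lib.Helper8.GrLCPolyAvoid

section Abstract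

variable {A : Type*} [CommRing A] {V : Type*} [AddCommGroup V] [Module A V]

/-- A module over a ring with infinitely many elements with invertible differences is not a
finite union of proper submodules. -/
theorem exists_not_mem_of_units (c : ℕ → A) (hc : ∀ i j, i ≠ j → IsUnit (c i - c j))
    (s : Finset (Submodule A V)) (hs : ∀ W ∈ s, W ≠ ⊤) : ∃ v : V, ∀ W ∈ s, v ∉ W := by
  classical
  induction s using Finset.induction with
  | empty => exact ⟨0, fun W hW => absurd hW (Finset.notMem_empty W)⟩
  | insert W s hWs ih =>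
    obtain ⟨v, hv⟩ := ih (fun W' hW' => hs W' (Finset.mem_insert_of_mem hW'))
    by_cases hvW : v ∈ W
    · have hWtop : W ≠ ⊤ := hs W (Finset.mem_insert_self W s)
      obtain ⟨u, -, hu⟩ := SetLike.exists_of_lt (lt_top_iff_ne_top.mpr hWtop)
      let bad : Set ℕ := ⋃ W' ∈ s, {j | u + c j • v ∈ W'}
      have hbad : bad.Finite := by
        apply Set.Finite.biUnion s.finite_toSet
        intro W' hW'
        apply Set.Subsingleton.finite
        intro i hi j hj
        by_contra hij
        have h1 : (c i - c j) • v ∈ W' := by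
          have : (c i - c j) • v = (u + c i • v) - (u + c j • v) := by
            rw [sub_smul]; abel
          rw [this]
          exact W'.sub_mem hi hj
        obtain ⟨w, hw⟩ := hc i j hij
        have h2 : v = (↑w⁻¹ : A) • ((c i - c j) • v) := by
          rw [← hw, smul_smul, Units.inv_mul, one_smul]
        apply hv W' hW'
        rw [h2]
        exact W'.smul_mem _ h1
      obtain ⟨j, hj⟩ := hbad.exists_notMem
      refine ⟨u + c j • v, fun W' hW' => ?_⟩
      rcases Finset.mem_insert.mp hW' with rfl | hW's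
      · intro h
        apply hu
        have : u = (u + c j • v) - c j • v := by abel
        rw [this]
        exact W'.sub_mem h (W'.smul_mem _ hvW)
      · intro h
        apply hj
        exact Set.mem_biUnion hW's h
    · refine ⟨v, fun W' hW' => ?_⟩
      rcases Finset.mem_insert.mp hW' with rfl | hW's
      · exact hvW
      · exact hv W' hW's

end Abstract

section Graded

variable {R : Type u} [CommRing R] [IsNoetherianRing R] {𝒜 : ℤ → AddSubgroup R} [GradedRing 𝒜]
variable (hpos : ∀ n : ℤ, n < 0 → 𝒜 n = ⊥)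
  (hstd : Ideal.span (⋃ n ∈ Set.Ioi (0 : ℤ), (𝒜 n : Set R)) = Ideal.span ((𝒜 1 : AddSubgroup R) : Set R))
  [IsArtinianRing (GrLC.deg0 𝒜)] (m : HomogeneousIdeal 𝒜) (hm : GrLC.IsStarLocal 𝒜 m)

include hpos hm in
omit [IsNoetherianRing R] [IsArtinianRing (GrLC.deg0 𝒜)] in
/-- An element differs from its degree zero component by an element of the *maximal ideal. -/
theorem sub_decompose_zero_mem (r : R) : r - (decompose 𝒜 r 0 : R) ∈ m.toIdeal := by
  classical
  have hRp := irrelevant_le_of_isStarLocal hpos m hm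
  set r₀ : R := (decompose 𝒜 r 0 : R) with hr₀
  have hr₀0 : r₀ ∈ 𝒜 0 := (decompose 𝒜 r 0).2
  apply mem_of_forall_decompose_mem (ℳ := 𝒜) m.toIdeal
  intro i
  rw [decompose_sub, DirectSum.sub_apply, AddSubgroup.coe_sub]
  by_cases hi : i = 0
  · subst hi
    rw [decompose_of_mem_same 𝒜 hr₀0, sub_self]
    exact Submodule.zero_mem _
  · rw [decompose_of_mem_ne 𝒜 hr₀0 (Ne.symm hi), sub_zero]
    rcases lt_or_gt_of_ne hi with hneg | hpos'
    · have hz : ∀ y : R, y ∈ 𝒜 i → y = 0 := by
        intro y hy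
        rw [hpos i hneg, AddSubgroup.mem_bot] at hy
        exact hy
      rw [hz _ (decompose 𝒜 r i).2]
      exact Submodule.zero_mem _
    · exact hRp i hpos' _ (decompose 𝒜 r i).2

include hpos hm in
/-- Degree zero elements outside the *maximal ideal are units of `R_0`. -/
theorem isUnit_deg0_of_not_mem (a : ↥(deg0 𝒜)) (ha : (a : R) ∉ m.toIdeal) : IsUnit a := by
  classical
  have hmax : m.toIdeal.IsMaximal := isMaximal_of_isStarLocal hpos m hm
  obtain ⟨b, i, hi, hbi⟩ := Ideal.IsMaximal.exists_inv hmax ha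
  -- `b * a + i = 1`
  set b₀ : R := (decompose 𝒜 b 0 : R) with hb₀
  have hb₀0 : b₀ ∈ 𝒜 0 := (decompose 𝒜 b 0).2
  have h1 : b₀ * (a : R) - 1 ∈ m.toIdeal := by
    have e : b₀ * (a : R) - 1 = -((b - b₀) * (a : R)) - i := by
      rw [← hbi]; ring
    rw [e]
    exact Submodule.sub_mem _ (Submodule.neg_mem _ (Ideal.mul_mem_right _ _
      (sub_decompose_zero_mem hpos m hm b))) hi
  have h10 : b₀ * (a : R) - 1 ∈ 𝒜 0 := by
    refine sub_mem ?_ SetLike.GradedOne.one_mem
    have := SetLike.GradedMul.mul_mem hb₀0 a.2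
    rwa [add_zero] at this
  obtain ⟨k, hk⟩ := nilpotent_of_mem_deg0 m hm h10 h1
  let n' : ↥(deg0 𝒜) := ⟨b₀ * (a : R) - 1, h10⟩
  have hn' : IsNilpotent n' := ⟨k, Subtype.ext (by
    change (b₀ * (a : R) - 1) ^ k = 0
    exact hk)⟩
  let b' : ↥(deg0 𝒜) := ⟨b₀, hb₀0⟩
  have hu : IsUnit (b' * a) := by
    have e : b' * a = n' + 1 := Subtype.ext (by
      change b₀ * (a : R) = (b₀ * (a : R) - 1) + 1
      ring)
    rw [e]
    exact hn'.isUnit_add_one
  exact isUnit_of_mul_isUnit_right hu

include hpos hm in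
/-- When the residue field is infinite, `R_0` contains infinitely many elements with pairwise
invertible differences. -/
theorem exists_units_family (hinf : Infinite (R ⧸ m.toIdeal)) :
    ∃ c : ℕ → ↥(deg0 𝒜), ∀ i j, i ≠ j → IsUnit (c i - c j) := by
  classical
  let e : ℕ ↪ R ⧸ m.toIdeal := Infinite.natEmbedding _
  choose r hr using fun j => Ideal.Quotient.mk_surjective (e j)
  let c : ℕ → ↥(deg0 𝒜) := fun j => ⟨(decompose 𝒜 (r j) 0 : R), (decompose 𝒜 (r j) 0).2⟩
  have hc : ∀ j, Ideal.Quotient.mk m.toIdeal (c j : R) = e j := by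
    intro j
    rw [← hr j, eq_comm, Ideal.Quotient.eq]
    exact sub_decompose_zero_mem hpos m hm (r j)
  refine ⟨c, fun i j hij => ?_⟩
  apply isUnit_deg0_of_not_mem hpos m hm
  intro hmem
  apply hij
  apply e.injective
  rw [← hc i, ← hc j, Ideal.Quotient.eq]
  exact hmem

include hpos hstd hm in
/-- Existence of a regular element of degree one on a finitely generated module without
`m`-torsion, when the residue field is infinite. -/
theorem exists_deg_one_regular (hinf : Infinite (R ⧸ m.toIdeal))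
    (N : Type u) [AddCommGroup N] [Module R N] [Module.Finite R N]
    (hgam : gam m.toIdeal N = ⊥) : ∃ x ∈ 𝒜 1, IsSMulRegular N x := by
  classical
  have hfin : (associatedPrimes R N).Finite := associatedPrimes.finite R N
  -- no associated prime contains the degree one piece
  have hnot : ∀ p ∈ associatedPrimes R N, ∃ y ∈ 𝒜 1, y ∉ p := by
    intro p hp
    by_contra hcon
    push Not at hcon
    rw [AssociatedPrimes.mem_iff, isAssociatedPrime_iff] at hp
    obtain ⟨hprime, z, hz⟩ := hp
    have hz0 : z ≠ 0 := by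
      rintro rfl
      apply hprime.ne_top
      rw [hz, eq_top_iff]
      intro r _
      rw [Submodule.mem_colon_singleton, smul_zero]
      exact Submodule.zero_mem _
    have hkill : ∀ x ∈ 𝒜 1, ∀ y : ↥(Submodule.span R {z}), x • y = 0 := by
      intro x hx y
      obtain ⟨y, hy⟩ := y
      obtain ⟨c, rfl⟩ := Submodule.mem_span_singleton.mp hy
      apply Subtype.ext
      change x • c • z = 0
      have hxp : x ∈ p := hcon x hx
      rw [hz, Submodule.mem_colon_singleton, Submodule.mem_bot] at hxp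
      rw [smul_comm, hxp, smul_zero]
    have htop := gam_eq_top_of_killed hpos hstd m hm ↥(Submodule.span R {z}) hkill
    have hzmem : (⟨z, Submodule.mem_span_singleton_self z⟩ : ↥(Submodule.span R {z})) ∈
        gam m.toIdeal ↥(Submodule.span R {z}) := by
      rw [htop]; exact Submodule.mem_top
    obtain ⟨k, hk⟩ := hzmem
    have hzg : z ∈ gam m.toIdeal N := by
      refine ⟨k, fun r hr => ?_⟩
      have := congrArg Subtype.val (hk r hr)
      exact this
    rw [hgam, Submodule.mem_bot] at hzg
    exact hz0 hzg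
  -- avoidance
  obtain ⟨c, hc⟩ := exists_units_family hpos m hm hinf
  let W : Ideal R → Submodule ↥(deg0 𝒜) ↥(comp 𝒜 𝒜 1) := fun p =>
    Submodule.comap (comp 𝒜 𝒜 1).subtype (p.restrictScalars ↥(deg0 𝒜))
  let s : Finset (Submodule ↥(deg0 𝒜) ↥(comp 𝒜 𝒜 1)) := hfin.toFinset.image W
  have hs : ∀ W' ∈ s, W' ≠ ⊤ := by
    intro W' hW'
    obtain ⟨p, hp, rfl⟩ := Finset.mem_image.mp hW'
    rw [Set.Finite.mem_toFinset] at hp
    obtain ⟨y, hy1, hyp⟩ := hnot p hp
    intro htop
    apply hyp
    have : (⟨y, hy1⟩ : ↥(comp 𝒜 𝒜 1)) ∈ W p := by rw [htop]; exact Submodule.mem_top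
    exact this
  obtain ⟨v, hv⟩ := exists_not_mem_of_units c hc s hs
  refine ⟨(v : R), v.2, ?_⟩
  have hvp : ∀ p ∈ associatedPrimes R N, (v : R) ∉ p := by
    intro p hp hvp
    apply hv (W p) (Finset.mem_image.mpr ⟨p, (Set.Finite.mem_toFinset hfin).mpr hp, rfl⟩)
    exact hvp
  have hzd : (v : R) ∉ {r : R | ∃ x : N, x ≠ 0 ∧ r • x = 0} := by
    rw [← biUnion_associatedPrimes_eq_zero_divisors R N]
    intro h
    obtain ⟨p, hp, hvmem⟩ := Set.mem_iUnion₂.mp h
    exact hvp p hp hvmem
  intro y y' hyy'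
  by_contra hne
  apply hzd
  refine ⟨y - y', sub_ne_zero.mpr hne, ?_⟩
  rw [smul_sub]
  exact sub_eq_zero.mpr hyy'

end Graded

end Groth.Agent.Lib.Helper8.GrLCPolyAvoid
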