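import Groth.Agent.Lib.Helper8.GrLCPolyArt
import Groth.Agent.Lib.Helper8.GrLCPolyAvoid

/-!
# Polynomial rings over Artinian rings and the `a`-invariant
-/

set_option autoImplicit false
set_option linter.unusedSectionVars false
universe u

open DirectSum GrLC
open Groth.Agent.Lib.Helper30
open Groth.Agent.Lib.Helper8.GrLCLES
open Groth.Agent.Lib.Helper8.GrLCEulerInv Groth.Agent.Lib.Helper8.GrLCEulerAbs
open Groth.Agent.Lib.Helper8.GrLCEulerMain Groth.Agent.Lib.Helper8.GrLCEulerAinv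
open Groth.Agent.Lib.Helper8.GrLCPolyAlg Groth.Agent.Lib.Helper8.GrLCPolyReg
open Groth.Agent.Lib.Helper8.GrLCPolyChar Groth.Agent.Lib.Helper8.GrLCPolyArt
open Groth.Agent.Lib.Helper8.GrLCPolyAvoid
open Groth.Agent.Lib.Helper8.GrLCFin Groth.Agent.Lib.Helper8.GrLCPieces
open scoped Pointwise

namespace Groth.Agent.Lib.Helper8.GrLCPolyArtMain

section Free

/-- The length of the homogeneous pieces of a polynomial ring. -/
theorem length_homogeneousSubmodule (A : Type u) [CommRing A] (e n : ℕ) :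
    Module.length A ↥(MvPolynomial.homogeneousSubmodule (Fin e) A n) =
      (((e + n - 1).choose n : ℕ) : ℕ∞) * Module.length A A := by
  classical
  rw [MvPolynomial.homogeneousSubmodule_eq_finsupp_supported]
  have hset : {d : Fin e →₀ ℕ | d.degree = n} =
      ↑((Finset.univ : Finset (Fin e)).finsuppAntidiag n) := by
    ext d
    simp [Finset.mem_finsuppAntidiag, Finsupp.degree_eq_sum]
  rw [hset]
  rw [LinearEquiv.length_eq (AddMonoidAlgebra.supportedEquivFinsupp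
    (R := A) (S := A) (↑((Finset.univ : Finset (Fin e)).finsuppAntidiag n) : Set (Fin e →₀ ℕ)))]
  rw [Module.length_finsupp]
  congr 1
  rw [ENat.card_eq_coe_fintype_card]
  congr 1
  rw [← Set.toFinset_card, Finset.toFinset_coe, Finset.card_finsuppAntidiag_nat_eq_choose,
    Finset.card_univ, Fintype.card_fin]

/-- A surjective linear map between modules of the same finite length is injective. -/
theorem inj_of_surj_of_length {A : Type*} [Ring A] {M P : Type*} [AddCommGroup M] [Module A M]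
    [AddCommGroup P] [Module A P] (g : M →ₗ[A] P) (hg : Function.Surjective g)
    (h : Module.length A M = Module.length A P) (hfin : Module.length A P ≠ ⊤) :
    Function.Injective g := by
  have h1 := Module.length_eq_add_of_exact (LinearMap.ker g).subtype g
    (Submodule.subtype_injective _) hg (LinearMap.exact_subtype_ker_map g)
  rw [h] at h1
  have h2 : Module.length A ↥(LinearMap.ker g) = 0 := by
    have h3 : Module.length A ↥(LinearMap.ker g) + Module.length A P = 0 + Module.length A P := by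
      rw [zero_add]
      exact h1.symm
    exact (ENat.add_left_injective_of_ne_top hfin) h3
  rw [Module.length_eq_zero_iff] at h2
  rw [← LinearMap.ker_eq_bot]
  exact Submodule.eq_bot_of_subsingleton

end Free

section Phi2

variable {R : Type u} [CommRing R] {𝒜 : ℤ → AddSubgroup R} [GradedRing 𝒜]
variable (hpos : ∀ n : ℤ, n < 0 → 𝒜 n = ⊥)
  (hstd : Ideal.span (⋃ n ∈ Set.Ioi (0 : ℤ), (𝒜 n : Set R)) = Ideal.span ((𝒜 1 : AddSubgroup R) : Set R))
variable {e : ℕ} (x : Fin e → R)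

/-- The homogeneous components of the image of a polynomial. -/
theorem decompose_phi (hx : ∀ i, x i ∈ 𝒜 1) (p : MvPolynomial (Fin e) ↥(deg0 𝒜)) (n : ℕ) :
    (decompose 𝒜 (phi (𝒜 := 𝒜) x p) (n : ℤ) : R) =
      phi (𝒜 := 𝒜) x (MvPolynomial.homogeneousComponent n p) := by
  classical
  have key : ∀ j : ℕ, (decompose 𝒜 (phi (𝒜 := 𝒜) x (MvPolynomial.homogeneousComponent j p))
      (n : ℤ) : R) = if j = n then phi (𝒜 := 𝒜) x (MvPolynomial.homogeneousComponent j p)
        else 0 := by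
    intro j
    have hj := phi_mem x hx j _ (MvPolynomial.homogeneousComponent_isHomogeneous j p)
    split_ifs with h
    · subst h
      exact decompose_of_mem_same 𝒜 hj
    · exact decompose_of_mem_ne 𝒜 hj (by exact_mod_cast h)
  conv_lhs => rw [← MvPolynomial.sum_homogeneousComponent p, map_sum]
  rw [decompose_sum, DFinsupp.finsetSum_apply, AddSubgroup.val_finsetSum]
  simp_rw [key]
  rw [Finset.sum_ite_eq']
  split_ifs with hn
  · rfl
  · have : p.totalDegree < n := by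
      rw [Finset.mem_range] at hn
      omega
    rw [MvPolynomial.homogeneousComponent_eq_zero n p this, map_zero]

/-- The graded pieces of the map from the polynomial ring. -/
noncomputable def psi (hx : ∀ i, x i ∈ 𝒜 1) (n : ℕ) :
    ↥(MvPolynomial.homogeneousSubmodule (Fin e) ↥(deg0 𝒜) n) →ₗ[↥(deg0 𝒜)]
      ↥(comp 𝒜 𝒜 (n : ℤ)) :=
  (phi (𝒜 := 𝒜) x).toLinearMap.restrict (fun p hp => phi_mem x hx n p hp)

include hpos hstd in
theorem psi_surjective (hx : Gen 𝒜 x) (n : ℕ) : Function.Surjective (psi (𝒜 := 𝒜) x hx.1 n) := by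
  rintro ⟨y, hy⟩
  have hy' : y ∈ 𝒜 (n : ℤ) := hy
  obtain ⟨p, rfl⟩ := phi_surjective hpos hstd x hx y
  refine ⟨⟨MvPolynomial.homogeneousComponent n p, MvPolynomial.homogeneousComponent_mem n p⟩, ?_⟩
  apply Subtype.ext
  change phi (𝒜 := 𝒜) x (MvPolynomial.homogeneousComponent n p) = phi (𝒜 := 𝒜) x p
  rw [← decompose_phi x hx.1 p n]
  exact decompose_of_mem_same 𝒜 hy'

include hpos hstd in
/-- If the Hilbert function of `R` is that of a polynomial ring over `R_0`, the map from the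
polynomial ring is injective. -/
theorem phi_injective_of_length (hx : Gen 𝒜 x)
    (hfin : Module.length ↥(deg0 𝒜) ↥(deg0 𝒜) ≠ ⊤)
    (hlen : ∀ n : ℕ, Module.length ↥(deg0 𝒜) ↥(comp 𝒜 𝒜 (n : ℤ)) =
      (((e + n - 1).choose n : ℕ) : ℕ∞) * Module.length ↥(deg0 𝒜) ↥(deg0 𝒜)) :
    Function.Injective (phi (𝒜 := 𝒜) x) := by
  classical
  have hψ : ∀ n : ℕ, Function.Injective (psi (𝒜 := 𝒜) x hx.1 n) := by
    intro n
    have hx1 : ∀ i, x i ∈ 𝒜 1 := hx.1
    let ψ : ↥(MvPolynomial.homogeneousSubmodule (Fin e) ↥(deg0 𝒜) n) →ₗ[↥(deg0 𝒜)]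
      ↥(comp 𝒜 𝒜 (n : ℤ)) := psi (𝒜 := 𝒜) x hx1 n
    have hsurj : Function.Surjective ψ := psi_surjective hpos hstd x hx n
    have hne : (((e + n - 1).choose n : ℕ) : ℕ∞) * Module.length ↥(deg0 𝒜) ↥(deg0 𝒜) ≠ ⊤ :=
      WithTop.mul_ne_top (ENat.natCast_ne_top _) hfin
    have hl1 : Module.length ↥(deg0 𝒜) ↥(MvPolynomial.homogeneousSubmodule (Fin e) ↥(deg0 𝒜) n) =
        Module.length ↥(deg0 𝒜) ↥(comp 𝒜 𝒜 (n : ℤ)) := by
      rw [length_homogeneousSubmodule, hlen n]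
    have hl2 : Module.length ↥(deg0 𝒜) ↥(comp 𝒜 𝒜 (n : ℤ)) ≠ ⊤ := by
      rw [hlen n]
      exact hne
    have hinj : Function.Injective ψ := inj_of_surj_of_length ψ hsurj hl1 hl2
    exact hinj
  rw [injective_iff_map_eq_zero]
  intro p hp
  have h0 : ∀ n : ℕ, MvPolynomial.homogeneousComponent n p = 0 := by
    intro n
    have h1 : psi (𝒜 := 𝒜) x hx.1 n ⟨MvPolynomial.homogeneousComponent n p,
        MvPolynomial.homogeneousComponent_mem n p⟩ = 0 := by
      apply Subtype.ext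
      change phi (𝒜 := 𝒜) x (MvPolynomial.homogeneousComponent n p) = 0
      rw [← decompose_phi x hx.1 p n, hp, decompose_zero]
      rfl
    have h2 := hψ n (h1.trans (map_zero _).symm)
    exact congrArg Subtype.val h2
  rw [← MvPolynomial.sum_homogeneousComponent p]
  exact Finset.sum_eq_zero (fun n _ => h0 n)

end Phi2

section Main

open Groth.Agent.Lib.Helper8.GrLCAinvSeq

variable {R : Type u} [CommRing R] [IsNoetherianRing R] {𝒜 : ℤ → AddSubgroup R} [GradedRing 𝒜]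
variable (hpos : ∀ n : ℤ, n < 0 → 𝒜 n = ⊥)
  (hstd : Ideal.span (⋃ n ∈ Set.Ioi (0 : ℤ), (𝒜 n : Set R)) = Ideal.span ((𝒜 1 : AddSubgroup R) : Set R))
  [IsArtinianRing (GrLC.deg0 𝒜)] (m : HomogeneousIdeal 𝒜) (hm : GrLC.IsStarLocal 𝒜 m)
  (d : ℕ) (hd : ringKrullDim R = d)

omit [IsNoetherianRing R] [IsArtinianRing (GrLC.deg0 𝒜)] in
/-- Vanishing of `H^0_m` means that there is no `m`-torsion. -/
theorem gam_eq_bot_of_vanM {N : Type u} [AddCommGroup N] [Module R N] (𝒩 : ℤ → AddSubgroup N)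
    [DirectSum.Decomposition 𝒩] [SetLike.GradedSMul 𝒜 𝒩] (h : ∀ g, VanM m 𝒩 0 g) :
    gam m.toIdeal N = ⊥ := by
  classical
  rw [eq_bot_iff]
  intro y hy
  rw [Submodule.mem_bot, ← sum_support_decompose 𝒩 y]
  apply Finset.sum_eq_zero
  intro g _
  exact (vanM_zero_iff m g).mp (h g) _ (decompose 𝒩 y g).2 (gam_isHomogeneous 𝒜 𝒩 m g hy)

omit [IsNoetherianRing R] [IsArtinianRing (GrLC.deg0 𝒜)] in
theorem ofList_ofFn {t : ℕ} (f : Fin t → R) :
    Ideal.ofList (List.ofFn f) = Ideal.span (Set.range f) := by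
  unfold Ideal.ofList
  congr 1
  ext y
  simp [List.mem_ofFn]

include hpos hstd hm in
/-- Existence of regular sequences of elements of degree one. -/
theorem exists_regular_seq (hinf : Infinite (R ⧸ m.toIdeal))
    (hv : ∀ i, i < d → ∀ g, VanM m 𝒜 i g) : ∀ t : ℕ, t ≤ d →
    ∃ f : Fin t → R, (∀ i, f i ∈ 𝒜 1) ∧ RingTheory.Sequence.IsWeaklyRegular R (List.ofFn f) := by
  intro t
  induction t with
  | zero =>
    intro _
    refine ⟨Fin.elim0, fun i => Fin.elim0 i, ?_⟩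
    rw [List.ofFn_zero]
    exact RingTheory.Sequence.IsWeaklyRegular.nil R R
  | succ t ih =>
    intro ht
    obtain ⟨f, hfdeg, hreg⟩ := ih (by omega)
    let B : Submodule R R := Ideal.ofList (List.ofFn f) • (⊤ : Submodule R R)
    have hBspan : B = Ideal.span (Set.range f) • (⊤ : Submodule R R) := by
      change Ideal.ofList (List.ofFn f) • (⊤ : Submodule R R) = _
      rw [ofList_ofFn]
    have hB : B.IsHomogeneous 𝒜 := by
      rw [hBspan, smul_eq_mul, Ideal.mul_top]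
      apply Ideal.homogeneous_span
      rintro _ ⟨i, rfl⟩
      exact ⟨1, hfdeg i⟩
    let Y : GMod.{u} 𝒜 := gmodQuot 𝒜 𝒜 B hB
    let π : R →ₗ[R] Y.carrier := B.mkQ
    have hπs : Function.Surjective π := B.mkQ_surjective
    have hπk : LinearMap.ker π = Ideal.span (Set.range f) • (⊤ : Submodule R R) := by
      rw [← hBspan]
      exact Submodule.ker_mkQ B
    have hfm : ∀ i, f i ∈ m.toIdeal := fun i =>
      irrelevant_le_of_isStarLocal hpos m hm 1 one_pos _ (hfdeg i)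
    obtain ⟨hvanN, -⟩ := main m hpos t d (by omega) R 𝒜 Y.carrier Y.gr f (fun _ => 1) hfdeg hfm
      hreg π (isGrHom_mkQ 𝒜 B) hπs hπk hv
    have hgam : gam m.toIdeal Y.carrier = ⊥ :=
      gam_eq_bot_of_vanM m Y.gr (fun g => hvanN 0 (by omega) g)
    have hfinY : Module.Finite R Y.carrier := Module.Finite.of_surjective π hπs
    obtain ⟨x, hx1, hxreg⟩ := exists_deg_one_regular hpos hstd m hm hinf Y.carrier hgam
    refine ⟨Fin.snoc f x, ?_, ?_⟩
    · intro i
      refine Fin.lastCases ?_ (fun j => ?_) i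
      · rw [Fin.snoc_last]
        exact hx1
      · rw [Fin.snoc_castSucc]
        exact hfdeg j
    · rw [List.ofFn_succ', List.concat_eq_append]
      simp only [Fin.snoc_castSucc, Fin.snoc_last]
      rw [RingTheory.Sequence.isWeaklyRegular_append_iff]
      refine ⟨hreg, ?_⟩
      rw [RingTheory.Sequence.isWeaklyRegular_singleton_iff]
      exact hxreg

include hpos hstd hm hd in
/-- If the `a`-invariant is `-dim R`, the degree one piece is generated by `dim R` elements. -/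
theorem exists_gen (hinf : Infinite (R ⧸ m.toIdeal))
    (hv : ∀ i, i < d → ∀ g, VanM m 𝒜 i g) (I : StarInjRes 𝒜 𝒜)
    (ha : GrLC.endDeg (I.Hgr m d) = (((-(d : ℤ) : ℤ) : WithTop ℤ) : WithBot (WithTop ℤ))) :
    ∃ x : Fin d → R, Gen 𝒜 x := by
  classical
  obtain ⟨f, hfdeg, hreg⟩ := exists_regular_seq hpos hstd m hm d hinf hv d le_rfl
  refine ⟨f, hfdeg, fun y hy => ?_⟩
  let B : Submodule R R := Ideal.span (Set.range f) • (⊤ : Submodule R R)
  have hB : B.IsHomogeneous 𝒜 := by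
    change (Ideal.span (Set.range f) • (⊤ : Submodule R R)).IsHomogeneous 𝒜
    rw [smul_eq_mul, Ideal.mul_top]
    apply Ideal.homogeneous_span
    rintro _ ⟨i, rfl⟩
    exact ⟨1, hfdeg i⟩
  let Y : GMod.{u} 𝒜 := gmodQuot 𝒜 𝒜 B hB
  let π : R →ₗ[R] Y.carrier := B.mkQ
  have hπs : Function.Surjective π := B.mkQ_surjective
  have hπk : LinearMap.ker π = Ideal.span (Set.range f) • (⊤ : Submodule R R) :=
    Submodule.ker_mkQ B
  have hπg : IsGrHom 𝒜 Y.gr π := isGrHom_mkQ 𝒜 B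
  have hfinY : Module.Finite R Y.carrier := Module.Finite.of_surjective π hπs
  have hNY : IsNoetherian R Y.carrier := isNoetherian_of_isNoetherianRing_of_finite R Y.carrier
  have hhilb : hilb 𝒜 Y.gr = Dl^[d] (hilb 𝒜 𝒜) :=
    hilb_seq d R 𝒜 Y.carrier Y.gr f hfdeg hreg π hπg hπs hπk
  have h1 : hilb 𝒜 Y.gr 1 = 0 := by
    rw [hhilb]
    exact Dl_hilb_eq_zero hpos hstd m hm d hd hv I ha 1 le_rfl
  have hfin : Module.length ↥(deg0 𝒜) ↥(comp 𝒜 Y.gr 1) ≠ ⊤ := fin_comp Y.gr 1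
  have hlen : Module.length ↥(deg0 𝒜) ↥(comp 𝒜 Y.gr 1) = 0 := by
    unfold hilb at h1
    have h2 : (Module.length ↥(deg0 𝒜) ↥(comp 𝒜 Y.gr 1)).toNat = 0 := by exact_mod_cast h1
    rcases (ENat.toNat_eq_zero.mp h2) with h | h
    · exact h
    · exact absurd h hfin
  rw [Module.length_eq_zero_iff] at hlen
  have hπy : π y = 0 := by
    have hmem : π y ∈ comp 𝒜 Y.gr 1 := hπg 1 y hy
    have := Subsingleton.elim (⟨π y, hmem⟩ : ↥(comp 𝒜 Y.gr 1)) 0
    exact congrArg Subtype.val this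
  have hyB : y ∈ Ideal.span (Set.range f) := by
    have : y ∈ LinearMap.ker π := hπy
    rw [hπk, smul_eq_mul, Ideal.mul_top] at this
    exact this
  obtain ⟨c, hc⟩ := (Ideal.mem_span_range_iff_exists_fun).mp hyB
  refine ⟨fun i => (decompose 𝒜 (c i) 0 : R), fun i => (decompose 𝒜 (c i) 0).2, ?_⟩
  have h2 := decompose_of_mem_same 𝒜 hy
  rw [← hc, decompose_sum, DFinsupp.finsetSum_apply, AddSubgroup.val_finsetSum] at h2
  rw [← hc]
  conv_lhs => rw [← h2]
  apply Finset.sum_congr rfl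
  intro i _
  have h3 := decompose_smul_of_mem_right 𝒜 𝒜 (hfdeg i) (c i) 0
  rw [zero_add] at h3
  exact h3

include hpos hstd hm hd in
/-- A Cohen–Macaulay standard graded ring over an Artinian ring with infinite residue field and
`a`-invariant `-dim R` is a polynomial ring. -/
theorem algEquiv_of_endDeg (hinf : Infinite (R ⧸ m.toIdeal))
    (hv : ∀ i, i < d → ∀ g, VanM m 𝒜 i g) (I : StarInjRes 𝒜 𝒜)
    (ha : GrLC.endDeg (I.Hgr m d) = (((-(d : ℤ) : ℤ) : WithTop ℤ) : WithBot (WithTop ℤ))) :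
    ∃ ε : MvPolynomial (Fin d) ↥(deg0 𝒜) ≃ₐ[↥(deg0 𝒜)] R,
      ∀ t, ε (MvPolynomial.X t) ∈ 𝒜 1 := by
  obtain ⟨x, hx⟩ := exists_gen hpos hstd m hm d hd hinf hv I ha
  -- the length of `R_0`
  let ψ : ↥(comp 𝒜 𝒜 (0 : ℤ)) ≃ₗ[↥(deg0 𝒜)] ↥(deg0 𝒜) :=
    { toFun := fun y => ⟨y.1, y.2⟩
      invFun := fun y => ⟨y.1, y.2⟩
      map_add' := fun _ _ => rfl
      map_smul' := fun _ _ => rfl
      left_inv := fun _ => rfl
      right_inv := fun _ => rfl }
  have e1 : Module.length ↥(deg0 𝒜) ↥(comp 𝒜 𝒜 (0 : ℤ)) = Module.length ↥(deg0 𝒜) ↥(deg0 𝒜) :=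
    LinearEquiv.length_eq (R := ↥(deg0 𝒜)) ψ
  have hfin0 : Module.length ↥(deg0 𝒜) ↥(deg0 𝒜) ≠ ⊤ := by
    rw [← e1]
    exact fin_comp (𝒜 := 𝒜) 𝒜 0
  have hlen : ∀ n : ℕ, Module.length ↥(deg0 𝒜) ↥(comp 𝒜 𝒜 (n : ℤ)) =
      (((d + n - 1).choose n : ℕ) : ℕ∞) * Module.length ↥(deg0 𝒜) ↥(deg0 𝒜) := by
    intro n
    have h1 := hilb_eq hpos hstd m hm d hd hv I ha (n : ℤ)
    rw [G_nat] at h1
    unfold hilb at h1
    rw [e1] at h1
    have hfinn : Module.length ↥(deg0 𝒜) ↥(comp 𝒜 𝒜 (n : ℤ)) ≠ ⊤ := fin_comp (𝒜 := 𝒜) 𝒜 n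
    have h2 : (Module.length ↥(deg0 𝒜) ↥(comp 𝒜 𝒜 (n : ℤ))).toNat =
        (Module.length ↥(deg0 𝒜) ↥(deg0 𝒜)).toNat * (d + n - 1).choose n := by
      exact_mod_cast h1
    rw [← ENat.natCast_toNat hfinn, ← ENat.natCast_toNat hfin0, h2]
    push_cast
    rw [mul_comm]
  refine ⟨AlgEquiv.ofBijective (phi (𝒜 := 𝒜) x)
    ⟨phi_injective_of_length hpos hstd x hx hfin0 hlen, phi_surjective hpos hstd x hx⟩,
    fun t => ?_⟩
  change phi (𝒜 := 𝒜) x (MvPolynomial.X t) ∈ 𝒜 1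
  unfold phi
  rw [MvPolynomial.aeval_X]
  exact hx.1 t

end Main

end Groth.Agent.Lib.Helper8.GrLCPolyArtMain
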