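import Groth.Agent.Lib.Helper8.GrLCBase

set_option autoImplicit false
set_option linter.unusedSectionVars false
universe u

open DirectSum GrLC
open Groth.Agent.Lib.Helper30

namespace Groth.Agent.Lib.Helper8.GrLCProd

variable {ι : Type} [AddCommGroup ι] [DecidableEq ι]
variable {R : Type u} [CommRing R] {𝒜 : ι → AddSubgroup R} [GradedRing 𝒜]

section ProdDec

variable {X Y : Type u} [AddCommGroup X] [AddCommGroup Y]
  (𝒳 : ι → AddSubgroup X) (𝒴 : ι → AddSubgroup Y)
  [DirectSum.Decomposition 𝒳] [DirectSum.Decomposition 𝒴]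

def prodGr : ι → AddSubgroup (X × Y) := fun g => (𝒳 g).prod (𝒴 g)

def inlPiece (g : ι) : ↥(𝒳 g) →+ ↥(prodGr 𝒳 𝒴 g) where
  toFun x := ⟨((x : X), 0), ⟨x.2, zero_mem _⟩⟩
  map_zero' := rfl
  map_add' x y := by
    apply Subtype.ext
    simp

def inrPiece (g : ι) : ↥(𝒴 g) →+ ↥(prodGr 𝒳 𝒴 g) where
  toFun y := ⟨(0, (y : Y)), ⟨zero_mem _, y.2⟩⟩
  map_zero' := rfl
  map_add' x y := by
    apply Subtype.ext
    simp

noncomputable def prodDecomposeHom : X × Y →+ ⨁ g, ↥(prodGr 𝒳 𝒴 g) :=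
  ((DirectSum.map (inlPiece 𝒳 𝒴)).comp
      ((decomposeAddEquiv 𝒳).toAddMonoidHom.comp (AddMonoidHom.fst X Y))) +
    ((DirectSum.map (inrPiece 𝒳 𝒴)).comp
      ((decomposeAddEquiv 𝒴).toAddMonoidHom.comp (AddMonoidHom.snd X Y)))

theorem coe_map_inl (d : ⨁ g, ↥(𝒳 g)) :
    DirectSum.coeAddMonoidHom (prodGr 𝒳 𝒴) (DirectSum.map (inlPiece 𝒳 𝒴) d) =
      (DirectSum.coeAddMonoidHom 𝒳 d, 0) := by
  induction d using DirectSum.induction_on with
  | zero => simp only [map_zero]; rfl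
  | of g x =>
    rw [DirectSum.map_of, DirectSum.coeAddMonoidHom_of, DirectSum.coeAddMonoidHom_of]
    rfl
  | add d d' h h' =>
    rw [map_add, map_add, map_add, h, h']
    simp

theorem coe_map_inr (d : ⨁ g, ↥(𝒴 g)) :
    DirectSum.coeAddMonoidHom (prodGr 𝒳 𝒴) (DirectSum.map (inrPiece 𝒳 𝒴) d) =
      (0, DirectSum.coeAddMonoidHom 𝒴 d) := by
  induction d using DirectSum.induction_on with
  | zero => simp only [map_zero]; rfl
  | of g x =>
    rw [DirectSum.map_of, DirectSum.coeAddMonoidHom_of, DirectSum.coeAddMonoidHom_of]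
    rfl
  | add d d' h h' =>
    rw [map_add, map_add, map_add, h, h']
    simp

noncomputable instance prodDecomposition : DirectSum.Decomposition (prodGr 𝒳 𝒴) :=
  Decomposition.ofAddHom (ℳ := prodGr 𝒳 𝒴) (prodDecomposeHom 𝒳 𝒴)
    (by
      ext ⟨x, y⟩
      · simp only [prodDecomposeHom, AddMonoidHom.comp_apply, AddMonoidHom.add_apply, map_add,
          coe_map_inl, coe_map_inr, AddMonoidHom.id_apply, AddMonoidHom.coe_fst,
          AddMonoidHom.coe_snd, AddEquiv.coe_toAddMonoidHom, Prod.fst_add, add_zero]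
        exact (decomposeAddEquiv 𝒳).symm_apply_apply x
      · simp only [prodDecomposeHom, AddMonoidHom.comp_apply, AddMonoidHom.add_apply, map_add,
          coe_map_inl, coe_map_inr, AddMonoidHom.id_apply, AddMonoidHom.coe_fst,
          AddMonoidHom.coe_snd, AddEquiv.coe_toAddMonoidHom, Prod.snd_add, zero_add]
        exact (decomposeAddEquiv 𝒴).symm_apply_apply y)
    (by
      apply DirectSum.addHom_ext
      rintro g ⟨⟨x, y⟩, hx, hy⟩
      simp only [prodDecomposeHom, AddMonoidHom.comp_apply, AddMonoidHom.add_apply,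
        AddMonoidHom.id_apply, DirectSum.coeAddMonoidHom_of, AddMonoidHom.coe_fst,
        AddMonoidHom.coe_snd, AddEquiv.coe_toAddMonoidHom, decomposeAddEquiv_apply]
      rw [decompose_of_mem 𝒳 hx, decompose_of_mem 𝒴 hy, DirectSum.map_of, DirectSum.map_of,
        ← map_add]
      congr 1
      apply Subtype.ext
      simp [inlPiece, inrPiece])

end ProdDec

section GProd

theorem prodGradedSMul {X Y : Type u} [AddCommGroup X] [AddCommGroup Y] [Module R X] [Module R Y]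
    (𝒳 : ι → AddSubgroup X) (𝒴 : ι → AddSubgroup Y)
    [SetLike.GradedSMul 𝒜 𝒳] [SetLike.GradedSMul 𝒜 𝒴] :
    SetLike.GradedSMul 𝒜 (prodGr 𝒳 𝒴) :=
  ⟨fun {i j a b} ha hb => by
    refine ⟨?_, ?_⟩
    · exact smul_mem_piece 𝒜 𝒳 ha hb.1
    · exact smul_mem_piece 𝒜 𝒴 ha hb.2⟩

/-- The product of two bundled graded modules. -/
noncomputable def gprod (X Y : GMod.{u} 𝒜) : GMod.{u} 𝒜 :=
  { carrier := X.carrier × Y.carrier
    gr := prodGr X.gr Y.gr
    dec := prodDecomposition X.gr Y.gr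
    gsmul := prodGradedSMul X.gr Y.gr }

theorem isStarInj_gprod (X Y : GMod.{u} 𝒜) (hX : IsStarInj 𝒜 X.gr) (hY : IsStarInj 𝒜 Y.gr) :
    IsStarInj 𝒜 (gprod X Y).gr := by
  intro A B f hf hinj g hg
  obtain ⟨h1, hh1, h1f⟩ := hX A B f hf hinj ((LinearMap.fst R X.carrier Y.carrier) ∘ₗ g)
    (fun k x hx => (hg k x hx).1)
  obtain ⟨h2, hh2, h2f⟩ := hY A B f hf hinj ((LinearMap.snd R X.carrier Y.carrier) ∘ₗ g)
    (fun k x hx => (hg k x hx).2)
  refine ⟨h1.prod h2, fun k x hx => ⟨hh1 k x hx, hh2 k x hx⟩, ?_⟩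
  apply LinearMap.ext
  intro x
  exact Prod.ext (LinearMap.congr_fun h1f x) (LinearMap.congr_fun h2f x)

/-- The zero graded module. -/
noncomputable def gzero : GMod.{u} 𝒜 :=
  { carrier := PUnit.{u + 1}
    gr := fun _ => ⊥
    dec := Decomposition.ofAddHom (ℳ := fun _ : ι => (⊥ : AddSubgroup PUnit.{u + 1})) 0
      (by ext) (by
        apply DirectSum.addHom_ext
        rintro g ⟨x, hx⟩
        simp only [AddMonoidHom.zero_comp, AddMonoidHom.zero_apply, AddMonoidHom.id_apply]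
        have : (⟨x, hx⟩ : ↥(⊥ : AddSubgroup PUnit.{u + 1})) = 0 := Subsingleton.elim _ _
        rw [this, map_zero])
    gsmul := ⟨fun {i j a b} _ _ => Subsingleton.elim _ _⟩ }

theorem isStarInj_gzero : IsStarInj 𝒜 (gzero (𝒜 := 𝒜)).gr := by
  intro A B f _ _ g _
  refine ⟨0, fun k x _ => Subsingleton.elim _ _, ?_⟩
  apply LinearMap.ext
  intro x
  exact Subsingleton.elim (α := PUnit.{u + 1}) _ _

end GProd

end Groth.Agent.Lib.Helper8.GrLCProd
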