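import Groth.Agent.Lib.Helper8.GrLCReg
import Groth.Agent.Lib.Helper8.GrLCQReg

set_option autoImplicit false
set_option linter.unusedSectionVars false
universe u

open DirectSum GrLC GrSyz
open Groth.Agent.Lib.Helper30
open Groth.Agent.Lib.Helper8.GrLCBase Groth.Agent.Lib.Helper8.GrLCLES
open Groth.Agent.Lib.Helper8.GrLCSub Groth.Agent.Lib.Helper8.GrLCSyz
open Groth.Agent.Lib.Helper8.GrLCPoly Groth.Agent.Lib.Helper8.GrLCReg
open Groth.Agent.Lib.Helper8.GrLCQReg Groth.Agent.Lib.Helper8.GrLCRows2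

namespace Groth.Agent.Lib.Helper8.GrLCQRows

variable (k : Type u) [Field k] (r : ℕ)
  (M : Type u) [AddCommGroup M] [Module k M] [Module (MvPolynomial (Fin (r + 1)) k) M]
  [IsScalarTower k (MvPolynomial (Fin (r + 1)) k) M] [Module.Finite (MvPolynomial (Fin (r + 1)) k) M]
  (ℳ : ℤ → Submodule k M) [DirectSum.Decomposition ℳ] [SetLike.GradedSMul (stdGr k (Fin (r + 1))) ℳ]

theorem hpos_gS : ∀ n : ℤ, n < 0 → gS k r n = ⊥ := by
  intro n hn
  ext p
  change p ∈ stdGr k (Fin (r + 1)) n ↔ p ∈ (⊥ : AddSubgroup _)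
  rw [Groth.Agent.Lib.Helper8.GrSyzCone.hneg_std n hn]
  simp

/-- The module as a graded module over the grading by additive subgroups. -/
noncomputable abbrev XM : GMod.{u} (gS k r) := XA (stdGr k (Fin (r + 1))) ℳ

omit [Module.Finite (MvPolynomial (Fin (r + 1)) k) M] in
theorem regH_iff_regHG (d : ℤ) : RegH k r M ℳ d ↔ RegHG (mS k r) (XM k r M ℳ) d := Iff.rfl

omit [Module.Finite (MvPolynomial (Fin (r + 1)) k) M] in
theorem dReg_iff_dRegG (d : ℤ) : DReg k r M ℳ d ↔ DRegG (mS k r) (XM k r M ℳ) d := Iff.rfl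

theorem exists_regH : ∃ d' : ℤ, RegH k r M ℳ d' := by
  obtain ⟨F, hF⟩ := Groth.Agent.Lib.Helper8.GrSyzMin.exists_minimal (k := k) (r := r) ℳ
  have hlen : F.HasLengthLE (r + 1) :=
    (Groth.Agent.S15430.result k r M ℳ F hF (r + 1)).mpr (Groth.Agent.S19471.pd_le k r M)
  refine ⟨∑ i ∈ Finset.range (r + 2), ∑ b : Fin (F.rk i), |F.deg i b|, ?_⟩
  apply regH_of_isGenLE k r M ℳ F hF
  intro i b
  by_cases hi : r + 1 < i
  · exact Fin.elim0 (hlen i hi ▸ b)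
  · have h1 : |F.deg i b| ≤ ∑ b : Fin (F.rk i), |F.deg i b| :=
      Finset.single_le_sum (f := fun b => |F.deg i b|) (fun _ _ => abs_nonneg _) (Finset.mem_univ b)
    have h2 : ∑ b : Fin (F.rk i), |F.deg i b| ≤
        ∑ i ∈ Finset.range (r + 2), ∑ b : Fin (F.rk i), |F.deg i b| :=
      Finset.single_le_sum (f := fun i => ∑ b : Fin (F.rk i), |F.deg i b|)
        (fun _ _ => Finset.sum_nonneg fun _ _ => abs_nonneg _)
        (Finset.mem_range.mpr (by omega))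
    have h3 := le_abs_self (F.deg i b)
    have h4 : (0 : ℤ) ≤ i := Int.natCast_nonneg i
    linarith

variable (x : MvPolynomial (Fin (r + 1)) k) (hx : x ∈ stdGr k (Fin (r + 1)) 1)
  (hq : IsFiniteLength (MvPolynomial (Fin (r + 1)) k)
    ↥(Submodule.torsionBy (MvPolynomial (Fin (r + 1)) k) M x))

include ℳ hx hq in
theorem gam_ker_eq_top : gam (mS k r).toIdeal
    ↥(LinearMap.ker (x • (LinearMap.id : M →ₗ[MvPolynomial (Fin (r + 1)) k] M))) = ⊤ := by
  have heq : Submodule.torsionBy (MvPolynomial (Fin (r + 1)) k) M x =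
      LinearMap.ker (x • (LinearMap.id : M →ₗ[MvPolynomial (Fin (r + 1)) k] M)) := by
    ext m
    simp [Submodule.mem_torsionBy_iff]
  rw [heq] at hq
  have hart : IsArtinian (MvPolynomial (Fin (r + 1)) k)
      ↥(LinearMap.ker (x • (LinearMap.id : M →ₗ[MvPolynomial (Fin (r + 1)) k] M))) :=
    (isFiniteLength_iff_isNoetherian_isArtinian.mp hq).2
  obtain ⟨e₀, he₀⟩ := bounded_below (𝒜 := gS k r) (ℳ := agr ℳ) (hpos_gS k r)
  refine gam_eq_top_of_artinian (𝒜 := gS k r) (agr ℳ) (hpos_gS k r) (mS k r)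
    (irrel_eq_span_one k r) _ ?_ e₀ he₀
  intro s y hy
  rw [LinearMap.mem_ker, LinearMap.smul_apply, LinearMap.id_apply] at hy ⊢
  have h := decompose_smul_of_mem (gS k r) (agr ℳ) hx y s
  rw [← h, hy, decompose_zero, DirectSum.zero_apply, ZeroMemClass.coe_zero]

variable (N : Type u) [AddCommGroup N] [Module k N] [Module (MvPolynomial (Fin (r + 1)) k) N]
  [IsScalarTower k (MvPolynomial (Fin (r + 1)) k) N] [Module.Finite (MvPolynomial (Fin (r + 1)) k) N]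
  (𝒩 : ℤ → Submodule k N) [DirectSum.Decomposition 𝒩] [SetLike.GradedSMul (stdGr k (Fin (r + 1))) 𝒩]
  (π : M →ₗ[MvPolynomial (Fin (r + 1)) k] N) (hπ : Function.Surjective π) (hπg : GrLC.IsGrHom ℳ 𝒩 π)
  (hker : LinearMap.ker π = LinearMap.range (x • (LinearMap.id : M →ₗ[MvPolynomial (Fin (r + 1)) k] M)))

include hx hq hπ hπg hker in
theorem wReg_quot (d : ℤ) (h : WRegG (mS k r) (XM k r M ℳ) d) : WRegG (mS k r) (XM k r N 𝒩) d :=
  wRegG_quot (mS k r) (XM k r M ℳ) (XM k r N 𝒩) x hx π hπ (fun g m hm => hπg g m hm) hker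
    (gam_ker_eq_top k r M ℳ x hx hq) d h

include hx hq hπ hπg hker in
theorem dReg_quot_iff (d : ℤ) :
    DRegG (mS k r) (XM k r M ℳ) d ↔
      (DRegG (mS k r) (XM k r N 𝒩) d ∧ ∀ t : ℤ, d < t → VanM (mS k r) (XM k r M ℳ).gr 0 t) := by
  constructor
  · intro h
    exact ⟨dRegG_quot (mS k r) (irrel_eq_span_one k r) (XM k r M ℳ) (XM k r N 𝒩) x hx π hπ
      (fun g m hm => hπg g m hm) hker (gam_ker_eq_top k r M ℳ x hx hq) d h, h.1⟩
  · rintro ⟨hN, h0⟩
    rw [← regHG_iff_dRegG (mS k r) _ (irrel_eq_span_one k r)] at hN ⊢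
    exact regHG_of_quot (mS k r) (irrel_eq_span_one k r) (XM k r M ℳ) (XM k r N 𝒩) x hx π hπ
      (fun g m hm => hπg g m hm) hker (gam_ker_eq_top k r M ℳ x hx hq) d hN h0
      (exists_regH k r M ℳ)

omit [Module.Finite (MvPolynomial (Fin (r + 1)) k) M] in
theorem endDeg_zero_le_iff (E : StarInjRes (stdGr k (Fin (r + 1))) ℳ) (d : ℤ) :
    GrLC.endDeg (E.Hgr (irrel (stdGr k (Fin (r + 1)))) 0) ≤ ((d : WithTop ℤ) : WithBot (WithTop ℤ)) ↔
      ∀ t : ℤ, d < t → VanM (mS k r) (XM k r M ℳ).gr 0 t := by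
  rw [endDeg_le_iff]
  apply forall_congr'
  intro t
  apply imp_congr_right
  intro _
  rw [hgr_eq_bot_iff, hcomp_eq_bot_iff_vanM]
  exact Iff.rfl

/-- The supremum computed from a resolution over the grading by additive subgroups. -/
theorem regHG_iff_iSup_le (X : GMod.{u} (gS k r)) (E : StarInjRes (gS k r) X.gr) (ρ : ℤ) :
    RegHG (mS k r) X ρ ↔ (⨆ i : ℕ, (GrLC.endDeg (E.Hgr (mS k r) i) +
      (((i : ℤ) : WithTop ℤ) : WithBot (WithTop ℤ)))) ≤ ((ρ : WithTop ℤ) : WithBot (WithTop ℤ)) := by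
  rw [iSup_le_iff]
  unfold RegHG
  apply forall_congr'
  intro i
  rw [endDeg_add_le_iff]
  apply forall_congr'
  intro g
  apply imp_congr_right
  intro _
  rw [hgr_eq_bot_iff, vanM_iff_hcomp (mS k r) E]

theorem reg_eq_iSup' (E : StarInjRes (gS k r) (XM k r M ℳ).gr) :
    reg (stdGr k (Fin (r + 1))) ℳ (irrel (stdGr k (Fin (r + 1)))).toIdeal =
      ⨆ i : ℕ, (GrLC.endDeg (E.Hgr (mS k r) i) +
        (((i : ℤ) : WithTop ℤ) : WithBot (WithTop ℤ))) := by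
  unfold reg
  rw [← Groth.Agent.S15423.iInf_eq_self (⨆ i : ℕ, (GrLC.endDeg (E.Hgr (mS k r) i) +
        (((i : ℤ) : WithTop ℤ) : WithBot (WithTop ℤ))))]
  refine iInf_congr fun ρ => iInf_congr_Prop ?_ (fun _ => rfl)
  rw [isRegLE_iff_regH, regH_iff_regHG, regHG_iff_iSup_le k r _ E]

include hx hq hπ hπg hker in
theorem reg_eq_sup (E : StarInjRes (stdGr k (Fin (r + 1))) ℳ) :
    reg (stdGr k (Fin (r + 1))) ℳ (irrel (stdGr k (Fin (r + 1)))).toIdeal =
      GrLC.endDeg (E.Hgr (irrel (stdGr k (Fin (r + 1)))) 0) ⊔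
        reg (stdGr k (Fin (r + 1))) 𝒩 (irrel (stdGr k (Fin (r + 1)))).toIdeal := by
  let E'' : StarInjRes (gS k r) (XM k r N 𝒩).gr := starInjRes (gS k r) (XM k r N 𝒩).gr
  rw [reg_eq_iSup' k r N 𝒩 E'']
  rw [← Groth.Agent.S15423.iInf_eq_self (GrLC.endDeg (E.Hgr (irrel (stdGr k (Fin (r + 1)))) 0) ⊔
    ⨆ i : ℕ, (GrLC.endDeg (E''.Hgr (mS k r) i) +
        (((i : ℤ) : WithTop ℤ) : WithBot (WithTop ℤ))))]
  unfold reg
  refine iInf_congr fun ρ => iInf_congr_Prop ?_ (fun _ => rfl)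
  rw [isRegLE_iff_regH, regH_iff_regHG, regHG_iff_dRegG (mS k r) _ (irrel_eq_span_one k r),
    dReg_quot_iff k r M ℳ x hx hq N 𝒩 π hπ hπg hker ρ,
    ← regHG_iff_dRegG (mS k r) _ (irrel_eq_span_one k r), regHG_iff_iSup_le k r _ E'',
    ← endDeg_zero_le_iff k r M ℳ E ρ, sup_le_iff, and_comm]

end Groth.Agent.Lib.Helper8.GrLCQRows
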