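import Groth.Agent.Lib.Helper8.GrSyzBasic
import Groth.Agent.Lib.Helper8.GrSyzStrand

set_option autoImplicit false
set_option linter.unusedSectionVars false
universe u

namespace Groth.Agent.Lib.Helper8.GrSyzMin

open GrSyz DirectSum
open Groth.Agent.Lib.Helper8.GrSyzBasic Groth.Agent.Lib.Helper8.GrSyzStrand

variable {k : Type u} [Field k] {r : ℕ}

theorem isUnit_decompose_zero {c : MvPolynomial (Fin (r + 1)) k}
    (hc : c ∉ (irrel (stdGr k (Fin (r + 1)))).toIdeal) :
    IsUnit (decompose (stdGr k (Fin (r + 1))) c 0 : MvPolynomial (Fin (r + 1)) k) := by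
  classical
  have h0 : (decompose (stdGr k (Fin (r + 1))) c 0 : MvPolynomial (Fin (r + 1)) k) ∉
      (irrel (stdGr k (Fin (r + 1)))).toIdeal := by
    intro h
    apply hc
    rw [← sum_support_decompose (stdGr k (Fin (r + 1))) c]
    refine Ideal.sum_mem _ fun i _ => ?_
    rcases lt_trichotomy i 0 with hi | hi | hi
    · have : (decompose (stdGr k (Fin (r + 1))) c i : MvPolynomial (Fin (r + 1)) k) = 0 :=
        eq_zero_of_mem_stdGr_nonpos hi.le (SetLike.coe_mem _)
          (constantCoeff_eq_zero_of_mem_stdGr hi.ne (SetLike.coe_mem _))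
      rw [this]; exact Ideal.zero_mem _
    · subst hi; exact h
    · exact mem_irrel_of_mem_stdGr_pos hi (SetLike.coe_mem _)
  exact (isUnit_of_mem_stdGr_of_not_mem_irrel (SetLike.coe_mem _) h0).2

section Abstract

variable {P : Type u} [AddCommGroup P] [Module (MvPolynomial (Fin (r + 1)) k) P]

def HasFamily (K : Submodule (MvPolynomial (Fin (r + 1)) k) P) (Hom : ℤ → Set P) (n' : ℕ) : Prop :=
  ∃ (e : Fin n' → ℤ) (g : Fin n' → P), (∀ b, g b ∈ Hom (e b)) ∧
    Submodule.span (MvPolynomial (Fin (r + 1)) k) (Set.range g) = K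

theorem exists_family (K : Submodule (MvPolynomial (Fin (r + 1)) k) P) (Hom : ℤ → Set P)
    (hfg : K.FG)
    (hspan : K ≤ Submodule.span (MvPolynomial (Fin (r + 1)) k) {x | x ∈ K ∧ ∃ e, x ∈ Hom e}) :
    ∃ n', HasFamily K Hom n' := by
  classical
  have hK : Submodule.span (MvPolynomial (Fin (r + 1)) k) {x | x ∈ K ∧ ∃ e, x ∈ Hom e} = K :=
    le_antisymm (Submodule.span_le.mpr fun x hx => hx.1) hspan
  rw [← hK] at hfg
  obtain ⟨s', hs', hss'⟩ := (Submodule.fg_span_iff_fg_span_finset_subset _).mp hfg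
  refine ⟨s'.card, fun b => Classical.choose (hs' (s'.equivFin.symm b).2).2,
    fun b => (s'.equivFin.symm b).1, fun b => Classical.choose_spec (hs' (s'.equivFin.symm b).2).2, ?_⟩
  rw [← hK, hss']
  congr 1
  ext x
  constructor
  · rintro ⟨b, rfl⟩
    exact (s'.equivFin.symm b).2
  · intro hx
    exact ⟨s'.equivFin ⟨x, hx⟩, by simp⟩

theorem minGen (K : Submodule (MvPolynomial (Fin (r + 1)) k) P) (Hom : ℤ → Set P)
    (H1 : ∃ n', HasFamily K Hom n')
    (H2 : ∀ (n' : ℕ) (e : Fin n' → ℤ) (g : Fin n' → P), (∀ b, g b ∈ Hom (e b)) →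
      ∀ c : Fin n' → MvPolynomial (Fin (r + 1)) k, ∑ b, c b • g b = 0 → ∀ d : ℤ,
        ∑ b, (decompose (stdGr k (Fin (r + 1))) (c b) (d - e b) : MvPolynomial (Fin (r + 1)) k) •
          g b = 0) :
    ∃ (n' : ℕ) (e : Fin n' → ℤ) (g : Fin n' → P), (∀ b, g b ∈ Hom (e b)) ∧
      Submodule.span (MvPolynomial (Fin (r + 1)) k) (Set.range g) = K ∧
      ∀ c : Fin n' → MvPolynomial (Fin (r + 1)) k, ∑ b, c b • g b = 0 →
        ∀ b, c b ∈ (irrel (stdGr k (Fin (r + 1)))).toIdeal := by
  classical
  obtain ⟨e, g, hg, hspan⟩ := Nat.find_spec H1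
  refine ⟨Nat.find H1, e, g, hg, hspan, ?_⟩
  intro c hc b0
  by_contra hb0
  have hrel := H2 _ e g hg c hc (e b0)
  have hu : IsUnit (decompose (stdGr k (Fin (r + 1))) (c b0) (e b0 - e b0) :
      MvPolynomial (Fin (r + 1)) k) := by
    rw [sub_self]; exact isUnit_decompose_zero hb0
  have hmem := mem_span_image_ne_of_sum_eq_zero
    (c := fun b => (decompose (stdGr k (Fin (r + 1))) (c b) (e b0 - e b) :
      MvPolynomial (Fin (r + 1)) k)) hu hrel
  obtain ⟨n'', hn''⟩ : ∃ n'', Nat.find H1 = n'' + 1 :=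
    Nat.exists_eq_succ_of_ne_zero (fun h => by
      have : Fin (Nat.find H1) := b0
      rw [h] at this
      exact this.elim0)
  have hsmall : HasFamily K Hom n'' := by
    clear hu hrel hb0 hc
    revert e g b0
    rw [hn'']
    intro e g hg hspan b0 hmem
    refine ⟨e ∘ b0.succAbove, g ∘ b0.succAbove, fun b => hg _, ?_⟩
    rw [← hspan]
    have hr : Set.range (g ∘ b0.succAbove) = g '' {b | b ≠ b0} := by
      rw [Set.range_comp, Fin.range_succAbove]
      rfl
    rw [hr]
    apply le_antisymm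
    · exact Submodule.span_mono (Set.image_subset_range _ _)
    · rw [Submodule.span_le]
      rintro _ ⟨b, rfl⟩
      by_cases hb : b = b0
      · rw [hb]; exact hmem
      · exact Submodule.subset_span ⟨b, hb, rfl⟩
  exact Nat.find_min H1 (by omega) hsmall

end Abstract

section LevelM

variable {M : Type u} [AddCommGroup M] [Module k M] [Module (MvPolynomial (Fin (r + 1)) k) M]
  (ℳ : ℤ → Submodule k M) [DirectSum.Decomposition ℳ]
  [SetLike.GradedSMul (stdGr k (Fin (r + 1))) ℳ]

theorem H1_M [Module.Finite (MvPolynomial (Fin (r + 1)) k) M] :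
    ∃ n', HasFamily (⊤ : Submodule (MvPolynomial (Fin (r + 1)) k) M)
      (fun e => (ℳ e : Set M)) n' := by
  classical
  apply exists_family
  · exact Module.Finite.fg_top
  · intro x _
    rw [← sum_support_decompose ℳ x]
    exact Submodule.sum_mem _ fun i _ =>
      Submodule.subset_span ⟨Submodule.mem_top, i, SetLike.coe_mem _⟩

theorem H2_M (n' : ℕ) (e : Fin n' → ℤ) (g : Fin n' → M) (hg : ∀ b, g b ∈ (ℳ (e b) : Set M))
    (c : Fin n' → MvPolynomial (Fin (r + 1)) k) (hc : ∑ b, c b • g b = 0) (d : ℤ) :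
    ∑ b, (decompose (stdGr k (Fin (r + 1))) (c b) (d - e b) : MvPolynomial (Fin (r + 1)) k) •
      g b = 0 := by
  have h : (decompose ℳ (∑ b, c b • g b) d : M) = 0 := by
    rw [hc, decompose_zero]; rfl
  rw [decompose_sum, DFinsupp.finsetSum_apply, AddSubmonoidClass.coe_finsetSum] at h
  rw [← h]
  apply Finset.sum_congr rfl
  intro b _
  rw [coe_decompose_smul_of_right_mem (stdGr k (Fin (r + 1))) ℳ d (hg b)]

end LevelM

section LevelV

variable {n : ℕ} (degs : Fin n → ℤ)

def IsHomog (K : Submodule (MvPolynomial (Fin (r + 1)) k) (Fin n → MvPolynomial (Fin (r + 1)) k)) :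
    Prop :=
  ∀ v ∈ K, ∀ d, projVec (stdGr k (Fin (r + 1))) degs d v ∈ K

theorem sum_projVec (v : Fin n → MvPolynomial (Fin (r + 1)) k) :
    ∃ T : Finset ℤ, v = ∑ d ∈ T, projVec (stdGr k (Fin (r + 1))) degs d v := by
  classical
  refine ⟨Finset.univ.biUnion (fun b =>
    (decompose (stdGr k (Fin (r + 1))) (v b)).support.image (· + degs b)), ?_⟩
  funext b
  rw [Finset.sum_apply]
  simp only [projVec]
  conv_lhs => rw [← sum_support_decompose (stdGr k (Fin (r + 1))) (v b)]
  have h1 : ∑ i ∈ (decompose (stdGr k (Fin (r + 1))) (v b)).support,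
      (decompose (stdGr k (Fin (r + 1))) (v b) i : MvPolynomial (Fin (r + 1)) k) =
      ∑ d ∈ (decompose (stdGr k (Fin (r + 1))) (v b)).support.image (· + degs b),
        (decompose (stdGr k (Fin (r + 1))) (v b) (d - degs b) : MvPolynomial (Fin (r + 1)) k) := by
    rw [Finset.sum_image (fun x _ y _ h => add_right_cancel h)]
    apply Finset.sum_congr rfl
    intro i _
    rw [add_sub_cancel_right]
  rw [h1]
  apply Finset.sum_subset
  · intro d hd
    exact Finset.mem_biUnion.mpr ⟨b, Finset.mem_univ _, hd⟩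
  · intro d _ hd
    have : d - degs b ∉ (decompose (stdGr k (Fin (r + 1))) (v b)).support := by
      intro h
      apply hd
      exact Finset.mem_image.mpr ⟨d - degs b, h, by ring⟩
    rw [DFinsupp.notMem_support_iff] at this
    rw [this]
    rfl

theorem H1_V (K : Submodule (MvPolynomial (Fin (r + 1)) k) (Fin n → MvPolynomial (Fin (r + 1)) k))
    (hK : IsHomog degs K) :
    ∃ n', HasFamily K (fun e => (homVec (stdGr k (Fin (r + 1))) degs e :
      Set (Fin n → MvPolynomial (Fin (r + 1)) k))) n' := by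
  apply exists_family
  · exact IsNoetherian.noetherian K
  · intro v hv
    obtain ⟨T, hT⟩ := sum_projVec degs v
    rw [hT]
    exact Submodule.sum_mem _ fun d _ =>
      Submodule.subset_span ⟨hK v hv d, d, projVec_mem _ _ _ _⟩

theorem mulVec_of_eq_sum {n' : ℕ} (g : Fin n' → Fin n → MvPolynomial (Fin (r + 1)) k)
    (c : Fin n' → MvPolynomial (Fin (r + 1)) k) :
    (Matrix.of fun a b => g b a).mulVec c = ∑ b, c b • g b := by
  funext a
  simp [Matrix.mulVec, dotProduct, Finset.sum_apply, mul_comm]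

theorem H2_V (n' : ℕ) (e : Fin n' → ℤ) (g : Fin n' → Fin n → MvPolynomial (Fin (r + 1)) k)
    (hg : ∀ b, g b ∈ (homVec (stdGr k (Fin (r + 1))) degs (e b) :
      Set (Fin n → MvPolynomial (Fin (r + 1)) k)))
    (c : Fin n' → MvPolynomial (Fin (r + 1)) k) (hc : ∑ b, c b • g b = 0) (d : ℤ) :
    ∑ b, (decompose (stdGr k (Fin (r + 1))) (c b) (d - e b) : MvPolynomial (Fin (r + 1)) k) •
      g b = 0 := by
  have hD : ∀ a b, (Matrix.of fun a b => g b a) a b ∈ stdGr k (Fin (r + 1)) (e b - degs a) :=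
    fun a b => (mem_homVec _).1 (hg b) a
  have h1 := mulVec_projVec (stdGr k (Fin (r + 1))) degs e d (Matrix.of fun a b => g b a) hD c
  rw [mulVec_of_eq_sum, mulVec_of_eq_sum, hc] at h1
  refine h1.trans ?_
  funext a
  simp [projVec]

end LevelV

section Rec

variable (k r)

structure St : Type u where
  n : ℕ
  degs : Fin n → ℤ
  K : Submodule (MvPolynomial (Fin (r + 1)) k) (Fin n → MvPolynomial (Fin (r + 1)) k)
  homog : IsHomog degs K
  coords : ∀ v ∈ K, ∀ b, v b ∈ (irrel (stdGr k (Fin (r + 1)))).toIdeal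

variable {k r}

theorem step (s : St k r) : ∃ (n' : ℕ) (degs' : Fin n' → ℤ)
    (D : Matrix (Fin s.n) (Fin n') (MvPolynomial (Fin (r + 1)) k)),
    (∀ a b, D a b ∈ stdGr k (Fin (r + 1)) (degs' b - s.degs a)) ∧
      LinearMap.range (Matrix.mulVecLin D) = s.K ∧
      ∀ v, D.mulVec v = 0 → ∀ b, v b ∈ (irrel (stdGr k (Fin (r + 1)))).toIdeal := by
  obtain ⟨n', e, g, hg, hspan, hker⟩ := minGen s.K
    (fun e => (homVec (stdGr k (Fin (r + 1))) s.degs e :
      Set (Fin s.n → MvPolynomial (Fin (r + 1)) k)))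
    (H1_V s.degs s.K s.homog) (H2_V s.degs)
  refine ⟨n', e, Matrix.of fun a b => g b a, fun a b => (mem_homVec _).1 (hg b) a, ?_, ?_⟩
  · rw [Matrix.range_mulVecLin, ← hspan]
    rfl
  · intro v hv
    rw [mulVec_of_eq_sum] at hv
    exact hker v hv

structure Next (s : St k r) : Type u where
  s' : St k r
  D : Matrix (Fin s.n) (Fin s'.n) (MvPolynomial (Fin (r + 1)) k)
  hD : ∀ a b, D a b ∈ stdGr k (Fin (r + 1)) (s'.degs b - s.degs a)
  hrange : LinearMap.range (Matrix.mulVecLin D) = s.K
  hker : s'.K = LinearMap.ker (Matrix.mulVecLin D)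

theorem nonempty_next (s : St k r) : Nonempty (Next s) := by
  obtain ⟨n', degs', D, h1, h2, h3⟩ := step s
  refine ⟨{ s' := ⟨n', degs', LinearMap.ker (Matrix.mulVecLin D), ?_, ?_⟩, D := D, hD := h1,
            hrange := h2, hker := rfl }⟩
  · intro v hv d
    rw [LinearMap.mem_ker, Matrix.mulVecLin_apply] at hv ⊢
    rw [mulVec_projVec (stdGr k (Fin (r + 1))) s.degs degs' d D h1, hv]
    funext a
    simp [projVec]
  · intro v hv b
    exact h3 v hv b

noncomputable def next (s : St k r) : Next s := Classical.choice (nonempty_next s)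

noncomputable def seq (s0 : St k r) : ℕ → St k r
  | 0 => s0
  | i + 1 => (next (seq s0 i)).s'

end Rec

section Main

variable {M : Type u} [AddCommGroup M] [Module k M] [Module (MvPolynomial (Fin (r + 1)) k) M]
  (ℳ : ℤ → Submodule k M) [DirectSum.Decomposition ℳ]
  [SetLike.GradedSMul (stdGr k (Fin (r + 1))) ℳ]

theorem exists_minimal [Module.Finite (MvPolynomial (Fin (r + 1)) k) M] :
    ∃ F : FreeRes (stdGr k (Fin (r + 1))) ℳ,
      F.IsMinimal (irrel (stdGr k (Fin (r + 1)))).toIdeal := by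
  obtain ⟨n0, e0, aug, haug, hspan, hker⟩ :=
    minGen (⊤ : Submodule (MvPolynomial (Fin (r + 1)) k) M)
      (fun e => (ℳ e : Set M)) (H1_M (r := r) ℳ) (H2_M (r := r) ℳ)
  let s0 : St k r :=
    { n := n0
      degs := e0
      K := LinearMap.ker (Fintype.linearCombination (MvPolynomial (Fin (r + 1)) k) aug)
      homog := by
        intro v hv d
        rw [LinearMap.mem_ker, Fintype.linearCombination_apply] at hv ⊢
        exact H2_M (r := r) ℳ n0 e0 aug haug v hv d
      coords := by
        intro v hv b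
        rw [LinearMap.mem_ker, Fintype.linearCombination_apply] at hv
        exact hker v hv b }
  let F : FreeRes (stdGr k (Fin (r + 1))) ℳ :=
    { rk := fun i => (seq s0 i).n
      deg := fun i => (seq s0 i).degs
      d := fun i => (next (seq s0 i)).D
      aug := aug
      d_mem := fun i a b => (next (seq s0 i)).hD a b
      aug_mem := haug
      aug_surjective := by
        rw [← LinearMap.range_eq_top, Fintype.range_linearCombination]
        exact hspan
      exact_zero := (next s0).hrange.symm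
      exact_succ := fun i =>
        ((next (seq s0 i)).hker.symm).trans ((next (seq s0 (i + 1))).hrange.symm) }
  refine ⟨F, ?_⟩
  intro i a b
  have h1 : (next (seq s0 i)).D.mulVec (Pi.single b 1) ∈ (seq s0 i).K := by
    rw [← (next (seq s0 i)).hrange]
    exact ⟨_, rfl⟩
  have h2 := (seq s0 i).coords _ h1 a
  rw [Matrix.mulVec_single_one] at h2
  exact h2

end Main

end Groth.Agent.Lib.Helper8.GrSyzMin
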