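import Groth.Agent.Lib.Helper8.GrSyzKoszul
import Groth.Agent.S15429
import Groth.Agent.S15430
import Groth.Agent.S19471
import Groth.Agent.S15423
import Groth.Prelude.Def_GrLC

set_option autoImplicit false
set_option linter.unusedSectionVars false
universe u

namespace Groth.Agent.Lib.Helper8.GrSyzFinLen

open GrSyz DirectSum
open Groth.Agent.Lib.Helper8.GrSyzBasic Groth.Agent.Lib.Helper8.GrSyzStrand
open Groth.Agent.Lib.Helper8.GrSyzHilb Groth.Agent.Lib.Helper8.GrSyzKoszul

variable {k : Type u} [Field k] {r : ℕ}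
variable {M : Type u} [AddCommGroup M] [Module k M] [Module (MvPolynomial (Fin (r + 1)) k) M]
  [IsScalarTower k (MvPolynomial (Fin (r + 1)) k) M]
  (ℳ : ℤ → Submodule k M) [DirectSum.Decomposition ℳ]
  [SetLike.GradedSMul (stdGr k (Fin (r + 1))) ℳ]

theorem coe_decompose_smul_of_left_mem {a : MvPolynomial (Fin (r + 1)) k} {i : ℤ}
    (ha : a ∈ stdGr k (Fin (r + 1)) i) (m : M) (n : ℤ) :
    (decompose ℳ (a • m) n : M) = a • (decompose ℳ m (n - i) : M) := by
  induction m using DirectSum.Decomposition.inductionOn ℳ with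
  | zero => simp
  | @homogeneous l m =>
    have h1 : a • (m : M) ∈ ℳ (i + l) := SetLike.GradedSMul.smul_mem ha m.2
    by_cases h : i + l = n
    · subst h
      rw [decompose_of_mem_same ℳ h1, add_sub_cancel_left, decompose_of_mem_same ℳ m.2]
    · rw [decompose_of_mem_ne ℳ h1 h, decompose_of_mem_ne ℳ m.2 (by omega), smul_zero]
  | add x y hx hy =>
    rw [smul_add, decompose_add, DirectSum.add_apply, Submodule.coe_add, hx, hy, decompose_add,
      DirectSum.add_apply, Submodule.coe_add, smul_add]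

def Z (n : ℤ) : Submodule (MvPolynomial (Fin (r + 1)) k) M where
  carrier := {m | ∀ j ≤ n, (decompose ℳ m j : M) = 0}
  add_mem' := by
    intro x y hx hy j hj
    rw [decompose_add, DirectSum.add_apply, Submodule.coe_add, hx j hj, hy j hj, add_zero]
  zero_mem' := by
    intro j _
    rw [decompose_zero, DirectSum.zero_apply, ZeroMemClass.coe_zero]
  smul_mem' := by
    intro s m hm j hj
    induction s using DirectSum.Decomposition.inductionOn (stdGr k (Fin (r + 1))) with
    | zero => rw [zero_smul, decompose_zero, DirectSum.zero_apply, ZeroMemClass.coe_zero]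
    | @homogeneous i a =>
      rw [coe_decompose_smul_of_left_mem ℳ a.2]
      by_cases hi : i < 0
      · have h2 : ∀ y : MvPolynomial (Fin (r + 1)) k, y ∈ stdGr k (Fin (r + 1)) i → y = 0 := by
          intro y hy
          rw [stdGr_neg_eq_bot k hi] at hy
          exact (Submodule.mem_bot k).1 hy
        rw [h2 _ a.2, zero_smul]
      · rw [hm (j - i) (by omega), smul_zero]
    | add x y hx hy =>
      rw [add_smul, decompose_add, DirectSum.add_apply, Submodule.coe_add, hx, hy, add_zero]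

theorem Z_anti {a b : ℤ} (h : a ≤ b) : Z (r := r) ℳ b ≤ Z (r := r) ℳ a :=
  fun _ hm j hj => hm j (hj.trans h)

theorem exists_vanish [IsArtinian (MvPolynomial (Fin (r + 1)) k) M] :
    ∃ T : ℤ, ∀ t, T < t → ℳ t = ⊥ := by
  let f : ℕ →o (Submodule (MvPolynomial (Fin (r + 1)) k) M)ᵒᵈ :=
    ⟨fun n => OrderDual.toDual (Z (r := r) ℳ (n : ℤ)), fun a b hab =>
      OrderDual.toDual_le_toDual.mpr (Z_anti (r := r) ℳ (by exact_mod_cast hab))⟩
  obtain ⟨N, hN⟩ := IsArtinian.monotone_stabilizes f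
  refine ⟨N, fun t ht => ?_⟩
  rw [eq_bot_iff]
  intro x hx
  rw [Submodule.mem_bot]
  have h1 : x ∈ Z (r := r) ℳ (N : ℤ) := by
    intro j hj
    exact decompose_of_mem_ne ℳ hx (by omega)
  have h2 : Z (r := r) ℳ (N : ℤ) = Z (r := r) ℳ ((t.toNat : ℕ) : ℤ) := by
    have := hN t.toNat (by omega)
    exact OrderDual.toDual.injective this
  rw [h2] at h1
  have h3 := h1 t (by omega)
  rwa [decompose_of_mem_same ℳ hx] at h3

theorem finite_piece (F : FreeRes (stdGr k (Fin (r + 1))) ℳ) (t : ℤ) :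
    Module.Finite k (ℳ t) :=
  Module.Finite.of_surjective (augStr F t) (augStr_surjective F t)

theorem vanish_of_isRegLE [Module.Finite (MvPolynomial (Fin (r + 1)) k) M]
    [IsArtinian (MvPolynomial (Fin (r + 1)) k) M] (ρ : ℤ)
    (h : IsRegLE (stdGr k (Fin (r + 1))) ℳ (irrel (stdGr k (Fin (r + 1)))).toIdeal ρ) :
    ∀ t, ρ < t → ℳ t = ⊥ := by
  obtain ⟨F, hF, hG⟩ := h
  have hlen : F.HasLengthLE (r + 1) :=
    (Groth.Agent.S15430.result k r M ℳ F hF (r + 1)).mpr (Groth.Agent.S19471.pd_le k r M)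
  obtain ⟨P, hP⟩ := Groth.Agent.S15429.result k r M ℳ F (r + 1) hlen
  have hcond : ∀ t : ℤ, ρ < t → ∀ (i : ℕ) (b : Fin (F.rk i)), F.deg i b - (r : ℤ) ≤ t := by
    intro t ht i b
    by_cases hi : r + 1 < i
    · exact (Fin.elim0 (hlen i hi ▸ b))
    · have := hG i b
      have hi' : (i : ℤ) ≤ r + 1 := by exact_mod_cast not_lt.mp hi
      omega
  obtain ⟨T, hT⟩ := exists_vanish (r := r) ℳ
  have hP0 : P = 0 := by
    apply Polynomial.eq_zero_of_infinite_isRoot
    refine Set.infinite_of_injective_forall_mem (f := fun n : ℕ => ((max T ρ + 1 + n : ℤ) : ℚ))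
      ?_ ?_
    · intro a b hab
      have h1 : ((max T ρ + 1 + (a : ℤ) : ℤ) : ℚ) = ((max T ρ + 1 + (b : ℤ) : ℤ) : ℚ) := hab
      have h2 := Int.cast_injective h1
      omega
    · intro n
      have ht1 : T < max T ρ + 1 + (n : ℤ) := by
        have := le_max_left T ρ
        omega
      have ht2 : ρ < max T ρ + 1 + (n : ℤ) := by
        have := le_max_right T ρ
        omega
      change Polynomial.IsRoot P _
      rw [Polynomial.IsRoot.def, ← hP _ (hcond _ ht2), hT _ ht1]
      simp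
  intro t ht
  have h1 := hP t (hcond t ht)
  rw [hP0, Polynomial.eval_zero] at h1
  have h2 : Module.finrank k (ℳ t) = 0 := by exact_mod_cast h1
  have := finite_piece ℳ F t
  exact Submodule.finrank_eq_zero.mp h2

theorem toAddSubgroup_ne_bot_iff (t : ℤ) : (ℳ t).toAddSubgroup ≠ ⊥ ↔ ℳ t ≠ ⊥ := by
  constructor
  · intro h e
    apply h
    rw [e]
    ext x
    simp
  · intro h e
    apply h
    ext x
    have : x ∈ (ℳ t).toAddSubgroup ↔ x ∈ (⊥ : AddSubgroup M) := by rw [e]
    simpa using this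

theorem endDeg_le_iff (ρ : ℤ) :
    GrLC.endDeg (fun n => (ℳ n).toAddSubgroup) ≤ ((ρ : WithTop ℤ) : WithBot (WithTop ℤ)) ↔
      ∀ t, ρ < t → ℳ t = ⊥ := by
  unfold GrLC.endDeg
  rw [iSup₂_le_iff]
  constructor
  · intro h t ht
    by_contra hne
    have := h t ((toAddSubgroup_ne_bot_iff ℳ t).mpr hne)
    rw [WithBot.coe_le_coe, WithTop.coe_le_coe] at this
    omega
  · intro h t ht
    rw [WithBot.coe_le_coe, WithTop.coe_le_coe]
    by_contra hlt
    exact (toAddSubgroup_ne_bot_iff ℳ t).mp ht (h t (not_le.mp hlt))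

theorem reg_eq_endDeg [Module.Finite (MvPolynomial (Fin (r + 1)) k) M]
    (hM : IsFiniteLength (MvPolynomial (Fin (r + 1)) k) M) :
    reg (stdGr k (Fin (r + 1))) ℳ (irrel (stdGr k (Fin (r + 1)))).toIdeal =
      GrLC.endDeg (fun n => (ℳ n).toAddSubgroup) := by
  obtain ⟨hnoeth, hart⟩ := isFiniteLength_iff_isNoetherian_isArtinian.mp hM
  obtain ⟨ν, hν⟩ : ∃ ν : ℕ, Module.length (MvPolynomial (Fin (r + 1)) k) M = ν :=
    (ENat.ne_top_iff_exists.mp (Module.length_ne_top_iff.mpr hM)).imp fun _ h => h.symm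
  have key : ∀ ρ : ℤ, IsRegLE (stdGr k (Fin (r + 1))) ℳ (irrel (stdGr k (Fin (r + 1)))).toIdeal ρ ↔
      GrLC.endDeg (fun n => (ℳ n).toAddSubgroup) ≤ ((ρ : WithTop ℤ) : WithBot (WithTop ℤ)) := by
    intro ρ
    rw [endDeg_le_iff]
    exact ⟨vanish_of_isRegLE ℳ ρ, isRegLE_of_length ν M ℳ ρ hν⟩
  unfold reg
  rw [← Groth.Agent.S15423.iInf_eq_self (GrLC.endDeg (fun n => (ℳ n).toAddSubgroup))]
  exact iInf_congr fun ρ => iInf_congr_Prop (key ρ) (fun _ => rfl)

end Groth.Agent.Lib.Helper8.GrSyzFinLen
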