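import Groth.Agent.Lib.Helper8.GrLCPoly
import Groth.Agent.Lib.Helper8.GrSyzFinLen

set_option autoImplicit false
set_option linter.unusedSectionVars false
universe u

open DirectSum GrLC GrSyz
open Groth.Agent.Lib.Helper30
open Groth.Agent.Lib.Helper8.GrLCBase Groth.Agent.Lib.Helper8.GrLCLES
open Groth.Agent.Lib.Helper8.GrLCSub Groth.Agent.Lib.Helper8.GrLCSyz
open Groth.Agent.Lib.Helper8.GrLCPoly

namespace Groth.Agent.Lib.Helper8.GrLCReg

section Conv

variable {R : Type u} [CommRing R] {σ' : Type u} [SetLike σ' R] [AddSubgroupClass σ' R]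
  (𝒜 : ℤ → σ') [GradedRing 𝒜]
variable {M : Type u} [AddCommGroup M] [Module R M] {τ : Type u} [SetLike τ M] [AddSubgroupClass τ M]
  (ℳ : ℤ → τ) [DirectSum.Decomposition ℳ] [SetLike.GradedSMul 𝒜 ℳ]

/-- The module as a bundled graded module over the grading by additive subgroups. -/
noncomputable def XA : GMod.{u} (agr 𝒜) := GMod.of (agr 𝒜) M (agr ℳ)

/-- A free resolution seen over the gradings by additive subgroups. -/
noncomputable def freeResA (F : FreeRes 𝒜 ℳ) : FreeRes (agr 𝒜) (XA 𝒜 ℳ).gr where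
  rk := F.rk
  deg := F.deg
  d := F.d
  aug := F.aug
  d_mem := F.d_mem
  aug_mem := F.aug_mem
  aug_surjective := F.aug_surjective
  exact_zero := F.exact_zero
  exact_succ := F.exact_succ

end Conv

section Main

variable (k : Type u) [Field k] (r : ℕ)
  (M : Type u) [AddCommGroup M] [Module k M] [Module (MvPolynomial (Fin (r + 1)) k) M]
  [IsScalarTower k (MvPolynomial (Fin (r + 1)) k) M] [Module.Finite (MvPolynomial (Fin (r + 1)) k) M]
  (ℳ : ℤ → Submodule k M) [DirectSum.Decomposition ℳ] [SetLike.GradedSMul (stdGr k (Fin (r + 1))) ℳ]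

/-- Local-cohomological regularity at most `d`. -/
def RegH (d : ℤ) : Prop :=
  ∀ (i : ℕ) (g : ℤ), d < g + i → VanM (mS k r) (agr ℳ) i g

theorem regH_iff (E : StarInjRes (stdGr k (Fin (r + 1))) ℳ) (d : ℤ) :
    RegH k r M ℳ d ↔ ∀ i : ℕ, GrLC.endDeg (E.Hgr (irrel (stdGr k (Fin (r + 1)))) i) +
      (((i : ℤ) : WithTop ℤ) : WithBot (WithTop ℤ)) ≤ ((d : WithTop ℤ) : WithBot (WithTop ℤ)) := by
  unfold RegH
  apply forall_congr'
  intro i
  rw [endDeg_add_le_iff]
  apply forall_congr'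
  intro g
  apply imp_congr_right
  intro _
  rw [hgr_eq_bot_iff, hcomp_eq_bot_iff_vanM]

theorem irrel_eq_span_one : (mS k r).toIdeal =
    Ideal.span ((gS k r 1 : AddSubgroup (MvPolynomial (Fin (r + 1)) k)) :
      Set (MvPolynomial (Fin (r + 1)) k)) := by
  apply le_antisymm
  · intro p hp
    have h1 : p ∈ Groth.Agent.Lib.Helper8.GrSyzKoszul.varIdeal k r (r + 1) :=
      irrel_le_varIdeal k r hp
    unfold Groth.Agent.Lib.Helper8.GrSyzKoszul.varIdeal at h1
    refine Ideal.span_mono ?_ h1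
    rintro _ ⟨i, _, rfl⟩
    exact Groth.Agent.Lib.Helper8.GrSyzKoszul.X_mem_stdGr k r i
  · rw [Ideal.span_le]
    intro p hp
    exact Groth.Agent.Lib.Helper8.GrSyzBasic.mem_irrel_of_mem_stdGr_pos one_pos hp

theorem isGenLE_of_regH (F : FreeRes (stdGr k (Fin (r + 1))) ℳ)
    (hF : F.IsMinimal (irrel (stdGr k (Fin (r + 1)))).toIdeal) (d : ℤ)
    (h : RegH k r M ℳ d) : F.IsGenLE d := by
  intro i b
  have hnoeth : IsNoetherianRing (MvPolynomial (Fin (r + 1)) k) := inferInstance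
  exact thmB (mS k r) (HR_poly k r) (irrel_eq_span_one k r) (fun n hn => by
      ext p
      change p ∈ stdGr k (Fin (r + 1)) n ↔ p ∈ (⊥ : AddSubgroup _)
      rw [Groth.Agent.Lib.Helper8.GrSyzCone.hneg_std n hn]
      simp)
    (fun n hn p hp => Groth.Agent.Lib.Helper8.GrSyzBasic.mem_irrel_of_mem_stdGr_pos hn hp)
    Groth.Agent.Lib.Helper8.GrSyzBasic.irrel_ne_top i
    (XA (stdGr k (Fin (r + 1))) ℳ) (freeResA _ ℳ F) d hF h b

theorem regH_of_isGenLE (F : FreeRes (stdGr k (Fin (r + 1))) ℳ)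
    (hF : F.IsMinimal (irrel (stdGr k (Fin (r + 1)))).toIdeal) (d : ℤ)
    (h : F.IsGenLE d) : RegH k r M ℳ d := by
  have hlen : F.HasLengthLE (r + 1) :=
    (Groth.Agent.S15430.result k r M ℳ F hF (r + 1)).mpr (Groth.Agent.S19471.pd_le k r M)
  exact thmA (mS k r) (HR_poly k r) (r + 2) (XA (stdGr k (Fin (r + 1))) ℳ) (freeResA _ ℳ F) d
    (fun i hi => hlen i (by omega)) h

theorem isRegLE_iff_regH (d : ℤ) :
    IsRegLE (stdGr k (Fin (r + 1))) ℳ (irrel (stdGr k (Fin (r + 1)))).toIdeal d ↔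
      RegH k r M ℳ d := by
  constructor
  · rintro ⟨F, hF, hG⟩
    exact regH_of_isGenLE k r M ℳ F hF d hG
  · intro h
    obtain ⟨F, hF⟩ := Groth.Agent.Lib.Helper8.GrSyzMin.exists_minimal (k := k) (r := r) ℳ
    exact ⟨F, hF, isGenLE_of_regH k r M ℳ F hF d h⟩

theorem reg_eq_iSup (E : StarInjRes (stdGr k (Fin (r + 1))) ℳ) :
    reg (stdGr k (Fin (r + 1))) ℳ (irrel (stdGr k (Fin (r + 1)))).toIdeal =
      ⨆ i : ℕ, (GrLC.endDeg (E.Hgr (irrel (stdGr k (Fin (r + 1)))) i) +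
        (((i : ℤ) : WithTop ℤ) : WithBot (WithTop ℤ))) := by
  have key : ∀ ρ : ℤ, IsRegLE (stdGr k (Fin (r + 1))) ℳ (irrel (stdGr k (Fin (r + 1)))).toIdeal ρ ↔
      (⨆ i : ℕ, (GrLC.endDeg (E.Hgr (irrel (stdGr k (Fin (r + 1)))) i) +
        (((i : ℤ) : WithTop ℤ) : WithBot (WithTop ℤ)))) ≤
        ((ρ : WithTop ℤ) : WithBot (WithTop ℤ)) := by
    intro ρ
    rw [isRegLE_iff_regH, regH_iff k r M ℳ E ρ, iSup_le_iff]
  unfold reg
  rw [← Groth.Agent.S15423.iInf_eq_self (⨆ i : ℕ,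
    (GrLC.endDeg (E.Hgr (irrel (stdGr k (Fin (r + 1)))) i) +
      (((i : ℤ) : WithTop ℤ) : WithBot (WithTop ℤ))))]
  exact iInf_congr fun ρ => iInf_congr_Prop (key ρ) (fun _ => rfl)

/-- `d`-regularity in the sense of local cohomology. -/
def DReg (d : ℤ) : Prop :=
  (∀ t : ℤ, d < t → VanM (mS k r) (agr ℳ) 0 t) ∧
    ∀ i : ℕ, 0 < i → VanM (mS k r) (agr ℳ) i (d - (i : ℤ) + 1)

omit [Module.Finite (MvPolynomial (Fin (r + 1)) k) M] in
theorem regH_iff_dReg (d : ℤ) : RegH k r M ℳ d ↔ DReg k r M ℳ d := by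
  constructor
  · intro h
    refine ⟨fun t ht => h 0 t (by simpa using ht), fun i _ => h i _ (by omega)⟩
  · rintro ⟨h0, h1⟩ i g hg
    cases i with
    | zero => exact h0 g (by simpa using hg)
    | succ i =>
      have hm := Groth.Agent.Lib.Helper8.GrLCRows.mumford (mS k r) (irrel_eq_span_one k r)
        (ℳ := agr ℳ) d 1 le_rfl (fun j hj => by
          have := h1 j (by omega)
          have e : d + 1 - (j : ℤ) = d - (j : ℤ) + 1 := by ring
          rw [e]
          exact this) (g + (i + 1 : ℕ) - d - 1).toNat (i + 1) (by omega)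
      have e : d + 1 + ((g + ((i + 1 : ℕ) : ℤ) - d - 1).toNat : ℤ) - ((i + 1 : ℕ) : ℤ) = g := by
        rw [Int.toNat_of_nonneg (by omega)]
        ring
      rw [e] at hm
      exact hm

omit [Module.Finite (MvPolynomial (Fin (r + 1)) k) M] in
theorem dReg_iff (E : StarInjRes (stdGr k (Fin (r + 1))) ℳ) (d : ℤ) :
    DReg k r M ℳ d ↔
      (GrLC.endDeg (E.Hgr (irrel (stdGr k (Fin (r + 1)))) 0) ≤
        ((d : WithTop ℤ) : WithBot (WithTop ℤ)) ∧
      ∀ i : ℕ, 0 < i → E.Hcomp (irrel (stdGr k (Fin (r + 1)))) i (d - (i : ℤ) + 1) = ⊥) := by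
  unfold DReg
  apply and_congr
  · rw [endDeg_le_iff]
    apply forall_congr'
    intro t
    apply imp_congr_right
    intro _
    rw [hgr_eq_bot_iff, hcomp_eq_bot_iff_vanM]
  · apply forall_congr'
    intro i
    apply imp_congr_right
    intro _
    rw [hcomp_eq_bot_iff_vanM]

end Main

end Groth.Agent.Lib.Helper8.GrLCReg
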