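import Groth.Agent.Lib.Helper8.GrLCKos

set_option autoImplicit false
set_option linter.unusedSectionVars false
universe u

open DirectSum GrLC
open Groth.Agent.Lib.Helper30
open Groth.Agent.Lib.Helper8.GrLCBase Groth.Agent.Lib.Helper8.GrLCProd
open Groth.Agent.Lib.Helper8.GrLCLES Groth.Agent.Lib.Helper8.GrLCTors
open Groth.Agent.Lib.Helper8.GrLCShift Groth.Agent.Lib.Helper8.GrLCKos

namespace Groth.Agent.Lib.Helper8.GrLCRows

section Z

variable {R : Type u} [CommRing R] [IsNoetherianRing R] {𝒜 : ℤ → AddSubgroup R} [GradedRing 𝒜]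
  (a : HomogeneousIdeal 𝒜)
  (hhom : a.toIdeal = Ideal.span ((𝒜 1 : AddSubgroup R) : Set R))

include hhom in
theorem exists_gens : ∃ s : Finset R, (∀ x ∈ s, x ∈ 𝒜 1) ∧ a.toIdeal = Ideal.span (s : Set R) := by
  have hfg : (Submodule.span R ((𝒜 1 : AddSubgroup R) : Set R)).FG := by
    have : a.toIdeal.FG := (isNoetherianRing_iff_ideal_fg R).mp inferInstance _
    rw [hhom] at this
    exact this
  obtain ⟨s, hs, hspan⟩ := (Submodule.fg_span_iff_fg_span_finset_subset _).mp hfg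
  refine ⟨s, fun x hx => hs hx, ?_⟩
  rw [hhom]
  exact hspan

variable {M : Type u} [AddCommGroup M] [Module R M] {ℳ : ℤ → AddSubgroup M}
  [DirectSum.Decomposition ℳ] [SetLike.GradedSMul 𝒜 ℳ]

include hhom in
theorem mumford (r : ℤ) (l : ℕ) (hl : 1 ≤ l)
    (hvan : ∀ i : ℕ, l ≤ i → VanM a ℳ i (r + 1 - i)) :
    ∀ (t : ℕ) (i : ℕ), l ≤ i → VanM a ℳ i (r + 1 + t - i) := by
  obtain ⟨s, hs, ha⟩ := exists_gens a hhom
  intro t
  induction t with
  | zero =>
    intro i hi
    have := hvan i hi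
    simpa using this
  | succ t ih =>
    intro i hi
    obtain ⟨i', rfl⟩ := Nat.exists_eq_succ_of_ne_zero (by omega : i ≠ 0)
    apply mumford_step a 1 s hs ha i'
    intro p
    have h := ih (i' + 1 + p) (by omega)
    have e : r + 1 + ((t + 1 : ℕ) : ℤ) - ((i' + 1 : ℕ) : ℤ) + (p + 1) • (-1 : ℤ) =
        r + 1 + (t : ℤ) - ((i' + 1 + p : ℕ) : ℤ) := by
      rw [nsmul_eq_mul]
      push_cast
      ring
    rw [e]
    exact h

end Z

end Groth.Agent.Lib.Helper8.GrLCRows
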