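import Groth.Agent.Lib.Helper8.GrLCSerre

set_option autoImplicit false
set_option linter.unusedSectionVars false
universe u

open DirectSum GrLC
open Groth.Agent.Lib.Helper30
open Groth.Agent.Lib.Helper8.GrLCBase Groth.Agent.Lib.Helper8.GrLCProd
open Groth.Agent.Lib.Helper8.GrLCLES Groth.Agent.Lib.Helper8.GrLCTors
open Groth.Agent.Lib.Helper8.GrLCShift Groth.Agent.Lib.Helper8.GrLCCone
open Groth.Agent.Lib.Helper8.GrLCSerre

namespace Groth.Agent.Lib.Helper8.GrLCSerreCone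

variable {ι : Type} [AddCommGroup ι] [DecidableEq ι]
variable {R : Type u} [CommRing R] {𝒜 : ι → AddSubgroup R} [GradedRing 𝒜]
variable {M : Type u} [AddCommGroup M] [Module R M] {ℳ : ι → AddSubgroup M}
  [DirectSum.Decomposition ℳ] [SetLike.GradedSMul 𝒜 ℳ]
variable {N : Type u} [AddCommGroup N] [Module R N] {𝒩 : ι → AddSubgroup N}
  [DirectSum.Decomposition 𝒩] [SetLike.GradedSMul 𝒜 𝒩]
variable (a : HomogeneousIdeal 𝒜)
variable {E : StarInjRes 𝒜 ℳ} {x : R} {k : ι} (D : CData E x k) (hx : x ∈ 𝒜 k)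
  (π : M →ₗ[R] N) (hπ : Function.Surjective π) (hπg : IsGrHom ℳ 𝒩 π)
  (hker : LinearMap.ker π = LinearMap.range (x • (LinearMap.id : M →ₗ[R] M)))

theorem snd_cD_mem (j : ℕ) (y : CT E j) (hy : y ∈ gam a.toIdeal (CT E j)) :
    (cD E x j y).2 ∈ E.cobdy a (j + 1 + 1) := by
  obtain ⟨u', z'⟩ := y
  obtain ⟨_, hz't⟩ := (gam_prod_iff a.toIdeal u' z').mp hy
  rw [cD_apply, mem_cobdy_succ]
  exact ⟨-z', Submodule.neg_mem _ hz't, map_neg _ _⟩

/-- The data of the connecting map from the cone resolution to the original resolution, at the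
level of homogeneous cocycles. -/
theorem cone_data (i : ℕ) (g : ι) :
    ∃ φ₁ : ((coneRes D π hπ hπg hker hx).X i).carrier →ₗ[R] (E.X (i + 1)).carrier,
      (∀ v ∈ Zc (coneRes D π hπ hπg hker hx) a i g, φ₁ v ∈ Zc E a (i + 1) (g + -k)) ∧
      (∀ v ∈ (coneRes D π hπ hπg hker hx).cobdy a i, φ₁ v ∈ E.cobdy a (i + 1)) ∧
      (∀ v ∈ Zc (coneRes D π hπ hπg hker hx) a i g, x • φ₁ v ∈ E.cobdy a (i + 1)) ∧
      (∀ z ∈ Zc E a (i + 1) (g + -k), x • z ∈ E.cobdy a (i + 1) →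
        ∃ w ∈ Zc (coneRes D π hπ hπg hker hx) a i g, z - φ₁ w ∈ E.cobdy a (i + 1)) := by
  cases i with
  | zero =>
    let φ₁ : ((coneRes D π hπ hπg hker hx).X 0).carrier →ₗ[R] (E.X (0 + 1)).carrier :=
      LinearMap.snd R (E.X 0).carrier (E.X (0 + 1)).carrier ∘ₗ (K D).subtype
    have key : ∀ v ∈ Zc (coneRes D π hπ hπg hker hx) a 0 g,
        ∃ (u : (E.X 0).carrier) (z : (E.X (0 + 1)).carrier), φ₁ v = z ∧
          u ∈ gam a.toIdeal (E.X 0).carrier ∧ z ∈ gam a.toIdeal (E.X (0 + 1)).carrier ∧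
          z ∈ (E.X (0 + 1)).gr (g + -k) ∧ E.d 0 u = x • z ∧ E.d (0 + 1) z = 0 := by
      rintro v ⟨h1, h2, h3⟩
      obtain ⟨u, z, huz⟩ : ∃ (u : (E.X 0).carrier) (z : (E.X (0 + 1)).carrier),
          ((K D).subtype v : CT E 0) = (u, z) := ⟨_, _, rfl⟩
      have h1' : ((u, z) : CT E 0) ∈ gam a.toIdeal (CT E 0) := by
        rw [← huz]
        exact gam_map a.toIdeal (K D).subtype h1
      obtain ⟨hut, hzt⟩ := (gam_prod_iff a.toIdeal u z).mp h1'
      have h2' : cD E x 0 (u, z) = 0 := by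
        rw [← huz]
        exact h2
      rw [cD_apply, Prod.mk_eq_zero, sub_eq_zero, neg_eq_zero] at h2'
      have h3' : ((u, z) : CT E 0) ∈ (CX E k 0).gr g := by
        rw [← huz]
        exact h3
      have hφ : φ₁ v = z := by
        change ((K D).subtype v : CT E 0).2 = z
        rw [huz]
      exact ⟨u, z, hφ, hut, hzt, ((mem_CX E 0 g u z).mp h3').2, h2'.1, h2'.2⟩
    refine ⟨φ₁, ?_, ?_, ?_, ?_⟩
    · intro v hv
      obtain ⟨u, z, hφ, _, hzt, hzg, _, hdz⟩ := key v hv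
      rw [hφ]
      exact ⟨hzt, hdz, hzg⟩
    · intro v hv
      rw [(mem_cobdy_zero (coneRes D π hπ hπg hker hx) a v).mp hv, map_zero]
      exact Submodule.zero_mem _
    · intro v hv
      obtain ⟨u, z, hφ, hut, _, _, hdu, _⟩ := key v hv
      rw [hφ, mem_cobdy_succ]
      exact ⟨u, hut, hdu⟩
    · rintro z ⟨hzt, hdz, hzg⟩ hxz
      have hxzg : x • z ∈ (E.X (0 + 1)).gr g := smul_mem_of_shift E hx hzg
      obtain ⟨u, hut, hug, hu⟩ := cobdy_homog E a hxz hxzg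
      let v0 : (CX E k 0).carrier := ((u, z) : CT E 0)
      have hv0g : v0 ∈ (CX E k 0).gr g := (mem_CX E 0 g u z).mpr ⟨hug, hzg⟩
      have hv0t : v0 ∈ gam a.toIdeal (CX E k 0).carrier :=
        (gam_prod_iff a.toIdeal u z).mpr ⟨hut, hzt⟩
      have hdv0 : cD0' (E := E) (x := x) (k := k) v0 = 0 := by
        change cD E x 0 (u, z) = 0
        rw [cD_apply, hu, hdz, sub_self, neg_zero]
        rfl
      let v : ((coneRes D π hπ hπg hker hx).X 0).carrier := PrK D v0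
      have hvg : v ∈ ((coneRes D π hπ hπg hker hx).X 0).gr g := Pr_gr D hx g v0 hv0g
      have hvt : v ∈ gam a.toIdeal ((coneRes D π hπ hπg hker hx).X 0).carrier :=
        gam_map a.toIdeal (PrK D) hv0t
      have hdv : (coneRes D π hπ hπg hker hx).d 0 v = 0 := by
        change cD0' (E := E) (x := x) (k := k) (Pr D v0) = 0
        rw [cD_Pr]
        exact hdv0
      refine ⟨v, ⟨hvt, hdv, hvg⟩, ?_⟩
      obtain ⟨w, hw1, hφv⟩ : ∃ w : (E.X 0).carrier, w ∈ gam a.toIdeal (E.X 0).carrier ∧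
          φ₁ v = z + E.d 0 w :=
        ⟨D.ρ v0, gam_map a.toIdeal D.ρ hv0t, by
          change z - (-(E.d 0 (D.ρ v0))) = z + E.d 0 (D.ρ v0)
          rw [sub_neg_eq_add]⟩
      rw [hφv, mem_cobdy_succ]
      refine ⟨-w, Submodule.neg_mem _ hw1, ?_⟩
      rw [map_neg]
      abel
  | succ j =>
    let φ₁ : ((coneRes D π hπ hπg hker hx).X (j + 1)).carrier →ₗ[R] (E.X (j + 1 + 1)).carrier :=
      LinearMap.snd R (E.X (j + 1)).carrier (E.X (j + 1 + 1)).carrier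
    have key : ∀ v ∈ Zc (coneRes D π hπ hπg hker hx) a (j + 1) g,
        ∃ (u : (E.X (j + 1)).carrier) (z : (E.X (j + 1 + 1)).carrier), φ₁ v = z ∧
          u ∈ gam a.toIdeal (E.X (j + 1)).carrier ∧ z ∈ gam a.toIdeal (E.X (j + 1 + 1)).carrier ∧
          z ∈ (E.X (j + 1 + 1)).gr (g + -k) ∧ E.d (j + 1) u = x • z ∧ E.d (j + 1 + 1) z = 0 := by
      rintro v ⟨h1, h2, h3⟩
      obtain ⟨u, z, huz⟩ : ∃ (u : (E.X (j + 1)).carrier) (z : (E.X (j + 1 + 1)).carrier),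
          (v : CT E (j + 1)) = (u, z) := ⟨_, _, rfl⟩
      have h1' : ((u, z) : CT E (j + 1)) ∈ gam a.toIdeal (CT E (j + 1)) := by
        rw [← huz]
        exact h1
      obtain ⟨hut, hzt⟩ := (gam_prod_iff a.toIdeal u z).mp h1'
      have h2' : cD E x (j + 1) (u, z) = 0 := by
        rw [← huz]
        exact h2
      rw [cD_apply, Prod.mk_eq_zero, sub_eq_zero, neg_eq_zero] at h2'
      have h3' : ((u, z) : CT E (j + 1)) ∈ (CX E k (j + 1)).gr g := by
        rw [← huz]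
        exact h3
      have hφ : φ₁ v = z := by
        change (v : CT E (j + 1)).2 = z
        rw [huz]
      exact ⟨u, z, hφ, hut, hzt, ((mem_CX E (j + 1) g u z).mp h3').2, h2'.1, h2'.2⟩
    refine ⟨φ₁, ?_, ?_, ?_, ?_⟩
    · intro v hv
      obtain ⟨u, z, hφ, _, hzt, hzg, _, hdz⟩ := key v hv
      rw [hφ]
      exact ⟨hzt, hdz, hzg⟩
    · intro v hv
      rw [mem_cobdy_succ] at hv ⊢
      obtain ⟨y, hy, hyv⟩ := hv
      rw [← mem_cobdy_succ]
      cases j with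
      | zero =>
        have h1' : ((K D).subtype y : CT E 0) ∈ gam a.toIdeal (CT E 0) :=
          gam_map a.toIdeal (K D).subtype hy
        have := snd_cD_mem a (E := E) (x := x) 0 _ h1'
        rw [← hyv]
        exact this
      | succ j' =>
        have := snd_cD_mem a (E := E) (x := x) (j' + 1) y hy
        rw [← hyv]
        exact this
    · intro v hv
      obtain ⟨u, z, hφ, hut, _, _, hdu, _⟩ := key v hv
      rw [hφ, mem_cobdy_succ]
      exact ⟨u, hut, hdu⟩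
    · rintro z ⟨hzt, hdz, hzg⟩ hxz
      have hxzg : x • z ∈ (E.X (j + 1 + 1)).gr g := smul_mem_of_shift E hx hzg
      obtain ⟨u, hut, hug, hu⟩ := cobdy_homog E a hxz hxzg
      let v : ((coneRes D π hπ hπg hker hx).X (j + 1)).carrier := ((u, z) : CT E (j + 1))
      have hvg : v ∈ ((coneRes D π hπ hπg hker hx).X (j + 1)).gr g :=
        (mem_CX E (j + 1) g u z).mpr ⟨hug, hzg⟩
      have hvt : v ∈ gam a.toIdeal ((coneRes D π hπ hπg hker hx).X (j + 1)).carrier :=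
        (gam_prod_iff a.toIdeal u z).mpr ⟨hut, hzt⟩
      have hdv : (coneRes D π hπ hπg hker hx).d (j + 1) v = 0 := by
        change cD E x (j + 1) (u, z) = 0
        rw [cD_apply, hu, hdz, sub_self, neg_zero]
        rfl
      refine ⟨v, ⟨hvt, hdv, hvg⟩, ?_⟩
      have hφv : φ₁ v = z := rfl
      rw [hφv, sub_self]
      exact Submodule.zero_mem _

variable (𝒮 : SerreClass ↥(deg0 𝒜))

theorem smul_mem_Zc (hx : x ∈ 𝒜 k) (n : ℕ) (g g' : ι) (hg' : g' = g + -k) :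
    ∀ z ∈ Zc E a n g', (LinearMap.lsmul R (E.X n).carrier x) z ∈ Zc E a n g := by
  subst hg'
  rintro z ⟨hzt, hdz, hzg⟩
  refine ⟨Submodule.smul_mem _ x hzt, ?_, smul_mem_of_shift E hx hzg⟩
  change E.d n (x • z) = 0
  rw [map_smul, hdz, smul_zero]

/-- The multiplication by `x` on homogeneous cocycles. -/
noncomputable def mulZ (hx : x ∈ 𝒜 k) (n : ℕ) (g g' : ι) (hg' : g' = g + -k) :
    ↥(Zc E a n g') →ₗ[deg0 𝒜] ↥(Zc E a n g) :=
  zmap E E a (LinearMap.lsmul R (E.X n).carrier x) (smul_mem_Zc a hx n g g' hg')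

theorem mulZ_coe (hx : x ∈ 𝒜 k) (n : ℕ) (g g' : ι) (hg' : g' = g + -k) (z : ↥(Zc E a n g')) :
    ((mulZ a hx n g g' hg' z : ↥(Zc E a n g)) : (E.X n).carrier) = x • (z : (E.X n).carrier) := rfl

/-- The exact sequence `H^i(M/xM)_g → H^{i+1}(M)_{g-k} → H^{i+1}(M)_g`. -/
theorem cone_exact (i : ℕ) (g g' : ι) (hg' : g' = g + -k) :
    ∃ (f' : ↥((coneRes D π hπ hπg hker hx).Hcomp a i g) →ₗ[deg0 𝒜] ↥(E.Hcomp a (i + 1) g'))
      (g'' : ↥(E.Hcomp a (i + 1) g') →ₗ[deg0 𝒜] ↥(E.Hcomp a (i + 1) g)),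
      (∀ z, g'' (pH E a (i + 1) g' z) = pH E a (i + 1) g (mulZ a hx (i + 1) g g' hg' z)) ∧
      LinearMap.range f' = LinearMap.ker g'' := by
  obtain ⟨φ₁, hA, hB, hC, hD⟩ := cone_data a D hx π hπ hπg hker i g
  subst hg'
  obtain ⟨f', g'', _, h2, h3⟩ := exists_exact
    (pH (coneRes D π hπ hπg hker hx) a i g) (pH E a (i + 1) (g + -k)) (pH E a (i + 1) g)
    (pH_surjective _ a i g) (pH_surjective E a (i + 1) (g + -k))
    (zmap (coneRes D π hπ hπg hker hx) E a φ₁ hA) (mulZ a hx (i + 1) g (g + -k) rfl)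
    (by
      intro v hv
      rw [pH_eq_zero_iff] at hv ⊢
      rw [zmap_coe]
      exact hB _ hv)
    (by
      intro z hz
      rw [pH_eq_zero_iff] at hz ⊢
      rw [mulZ_coe, mem_cobdy_succ] at *
      obtain ⟨y, hy, hyz⟩ := hz
      exact ⟨x • y, Submodule.smul_mem _ x hy, by rw [map_smul, hyz]⟩)
    (by
      intro v
      rw [pH_eq_zero_iff, mulZ_coe, zmap_coe]
      exact hC v.1 v.2)
    (by
      intro z hz
      rw [pH_eq_zero_iff, mulZ_coe] at hz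
      obtain ⟨w, hw, hzw⟩ := hD z.1 z.2 hz
      refine ⟨⟨w, hw⟩, ?_⟩
      rw [← sub_eq_zero, ← map_sub, pH_eq_zero_iff]
      exact hzw)
  exact ⟨f', g'', h2, h3⟩

/-- Passing the class `𝒮` down along multiplication by a regular element. -/
theorem cone_P (i : ℕ) (g g' : ι) (hg' : g' = g + -k)
    (h1 : 𝒮.P ↥((coneRes D π hπ hπg hker hx).Hcomp a i g)) (h2 : 𝒮.P ↥(E.Hcomp a (i + 1) g)) :
    𝒮.P ↥(E.Hcomp a (i + 1) g') := by
  obtain ⟨f', g'', _, h3⟩ := cone_exact a D hx π hπ hπg hker i g g' hg'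
  exact 𝒮.of_exact f' g'' h3 h1 h2

end Groth.Agent.Lib.Helper8.GrLCSerreCone
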