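import Groth.Agent.Lib.Helper8.GrLCFree
import Groth.Agent.Lib.Helper8.GrSyzBasic

set_option autoImplicit false
set_option linter.unusedSectionVars false
universe u

open DirectSum GrLC GrSyz
open Groth.Agent.Lib.Helper30
open Groth.Agent.Lib.Helper8.GrLCBase Groth.Agent.Lib.Helper8.GrLCProd
open Groth.Agent.Lib.Helper8.GrLCLES Groth.Agent.Lib.Helper8.GrLCTors
open Groth.Agent.Lib.Helper8.GrLCShift Groth.Agent.Lib.Helper8.GrLCFree
open Groth.Agent.Lib.Helper8.GrLCRows2

namespace Groth.Agent.Lib.Helper8.GrLCSyz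

variable {R : Type u} [CommRing R] {𝒜 : ℤ → AddSubgroup R} [GradedRing 𝒜]

section Syz

variable (X : GMod.{u} 𝒜) (F : FreeRes 𝒜 X.gr)

theorem augLin_gr : IsGrHom (freeGr 𝒜 (F.deg 0)) X.gr F.augLin := by
  intro e v hv
  change Fintype.linearCombination R F.aug v ∈ X.gr e
  rw [Fintype.linearCombination_apply]
  apply sum_mem
  intro b _
  have := smul_mem_piece 𝒜 X.gr (hv b) (F.aug_mem b)
  rwa [sub_add_cancel] at this

theorem dLin_gr (i : ℕ) :
    IsGrHom (freeGr 𝒜 (F.deg (i + 1))) (freeGr 𝒜 (F.deg i)) (F.dLin i) := by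
  intro e v hv a
  change (F.d i).mulVec v a ∈ 𝒜 (e - F.deg i a)
  rw [Matrix.mulVec, dotProduct]
  apply sum_mem
  intro b _
  have := SetLike.GradedMul.mul_mem (F.d_mem i a b) (hv b)
  have e1 : F.deg (i + 1) b - F.deg i a + (e - F.deg (i + 1) b) = e - F.deg i a := by ring
  rwa [e1] at this

/-- The first syzygy module. -/
noncomputable def Z : GMod.{u} 𝒜 :=
  gker (freeGM 𝒜 (F.deg 0)) X F.augLin (augLin_gr X F)

theorem col_mem_ker (b : Fin (F.rk (0 + 1))) :
    (fun a => F.d 0 a b) ∈ LinearMap.ker F.augLin := by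
  have h : (F.d 0).mulVec (Pi.single b 1) = fun a => F.d 0 a b := by
    funext a
    simp [Matrix.mulVec, dotProduct, Pi.single_apply]
  rw [← h, LinearMap.mem_ker]
  exact Groth.Agent.Lib.Helper8.GrSyzBasic.aug_d F _

/-- The inclusion of the syzygy module, typed. -/
noncomputable def Zι : (Z X F).carrier →ₗ[R] (Fin (F.rk 0) → R) :=
  (LinearMap.ker F.augLin).subtype

theorem Zι_injective : Function.Injective (Zι X F) := Subtype.val_injective

theorem augLin_Zι (z : (Z X F).carrier) : F.augLin (Zι X F z) = 0 :=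
  Subtype.property (p := fun v => v ∈ LinearMap.ker F.augLin) z

theorem exists_of_ker (v : Fin (F.rk 0) → R) (hv : F.augLin v = 0) :
    ∃ z : (Z X F).carrier, Zι X F z = v :=
  ⟨(⟨v, hv⟩ : ↥(LinearMap.ker F.augLin)), rfl⟩

/-- The augmentation of the shifted resolution. -/
noncomputable def syzAug (b : Fin (F.rk (0 + 1))) : (Z X F).carrier :=
  (⟨fun a => F.d 0 a b, col_mem_ker X F b⟩ : ↥(LinearMap.ker F.augLin))

theorem Zι_syzAug (b : Fin (F.rk (0 + 1))) : Zι X F (syzAug X F b) = fun a => F.d 0 a b := rfl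

theorem syzAug_lc (w : Fin (F.rk (0 + 1)) → R) :
    Zι X F (Fintype.linearCombination R (syzAug X F) w) = (F.d 0).mulVec w := by
  rw [Fintype.linearCombination_apply, map_sum]
  funext a
  rw [Finset.sum_apply, Matrix.mulVec, dotProduct]
  apply Finset.sum_congr rfl
  intro b _
  rw [map_smul, Zι_syzAug]
  change w b * F.d 0 a b = F.d 0 a b * w b
  ring

/-- The resolution of the first syzygy module obtained by dropping the first term. -/
noncomputable def syz : FreeRes 𝒜 (Z X F).gr where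
  rk i := F.rk (i + 1)
  deg i := F.deg (i + 1)
  d i := F.d (i + 1)
  aug := syzAug X F
  d_mem i := F.d_mem (i + 1)
  aug_mem b := fun a => F.d_mem 0 a b
  aug_surjective := by
    intro z
    have hz : Zι X F z ∈ LinearMap.ker F.augLin := augLin_Zι X F z
    rw [F.exact_zero] at hz
    obtain ⟨w, hw⟩ := hz
    refine ⟨w, ?_⟩
    apply Zι_injective X F
    exact (syzAug_lc X F w).trans hw
  exact_zero := by
    ext w
    rw [LinearMap.mem_ker, ← F.exact_succ 0, LinearMap.mem_ker]
    constructor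
    · intro h
      have := congrArg (Zι X F) h
      rw [syzAug_lc, map_zero] at this
      exact this
    · intro h
      apply Zι_injective X F
      rw [map_zero]
      exact (syzAug_lc X F w).trans h
  exact_succ i := F.exact_succ (i + 1)

theorem syz_isMinimal {𝔪 : Ideal R} (hF : F.IsMinimal 𝔪) : (syz X F).IsMinimal 𝔪 :=
  fun i a b => hF (i + 1) a b

theorem syz_isGenLE {d : ℤ} (hF : F.IsGenLE d) : (syz X F).IsGenLE (d + 1) := by
  intro i b
  have := hF (i + 1) b
  change F.deg (i + 1) b ≤ d + 1 + i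
  push_cast at this
  omega

/-- The short exact sequence `0 → Z → F_0 → X → 0`. -/
theorem ses_syz : SES (Z X F).gr (freeGr 𝒜 (F.deg 0)) X.gr (Zι X F) F.augLin :=
  ses_ker_surj (freeGM 𝒜 (F.deg 0)) X F.augLin (augLin_gr X F) F.aug_surjective

end Syz

section ThmA

variable (a : HomogeneousIdeal 𝒜)
  (HR : ∀ (i : ℕ) (e : ℤ), 0 < e + i → VanM a 𝒜 i e)

include HR in
theorem vanM_free_of_le {n : ℕ} (c : Fin n → ℤ) (d : ℤ) (hc : ∀ b, c b ≤ d) (i : ℕ) (g : ℤ)
    (hg : d < g + i) : VanM a (freeGr 𝒜 c) i g := by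
  apply vanM_free 𝒜 a i c g
  intro b
  apply HR
  have := hc b
  omega

include HR in
theorem thmA (n : ℕ) : ∀ (X : GMod.{u} 𝒜) (F : FreeRes 𝒜 X.gr) (d : ℤ),
    (∀ i, n ≤ i → F.rk i = 0) → F.IsGenLE d → ∀ (i : ℕ) (g : ℤ), d < g + i → VanM a X.gr i g := by
  induction n with
  | zero =>
    intro X F d hrk _ i g _
    have h0 : F.rk 0 = 0 := hrk 0 le_rfl
    have : IsEmpty (Fin (F.rk 0)) := by rw [h0]; infer_instance
    have hsub : Subsingleton X.carrier := by
      constructor
      intro p q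
      obtain ⟨v, rfl⟩ := F.aug_surjective p
      obtain ⟨w, rfl⟩ := F.aug_surjective q
      rw [Subsingleton.elim v w]
    exact vanM_of_subsingleton a i g
  | succ n ih =>
    intro X F d hrk hgen i g hg
    have hZ : VanM a (Z X F).gr (i + 1) g := by
      apply ih (Z X F) (syz X F) (d + 1) (fun j hj => hrk (j + 1) (by omega)) (syz_isGenLE X F hgen)
      push_cast
      omega
    have hF0 : VanM a (freeGr 𝒜 (F.deg 0)) i g := by
      apply vanM_free_of_le a HR (F.deg 0) d _ i g hg
      intro b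
      have := hgen 0 b
      simpa using this
    exact les_right a (ses_syz X F) i g hF0 hZ

end ThmA

section ThmB

variable [IsNoetherianRing R] (a : HomogeneousIdeal 𝒜)
  (HR : ∀ (i : ℕ) (e : ℤ), 0 < e + i → VanM a 𝒜 i e)
  (hhom : a.toIdeal = Ideal.span ((𝒜 1 : AddSubgroup R) : Set R))
  (hpos : ∀ n : ℤ, n < 0 → 𝒜 n = ⊥)
  (hposa : ∀ n : ℤ, 0 < n → ∀ r ∈ 𝒜 n, r ∈ a.toIdeal)
  (h𝔪 : a.toIdeal ≠ ⊤)

include hposa in
/-- A homogeneous element of degree `t > d` in the span of the pieces of degree `≤ d` lies in `a M`. -/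
theorem mem_smul_top_of_span {M : Type u} [AddCommGroup M] [Module R M] (ℳ : ℤ → AddSubgroup M)
    [DirectSum.Decomposition ℳ] [SetLike.GradedSMul 𝒜 ℳ] (d t : ℤ) (ht : d < t) (y : M)
    (hy : y ∈ ℳ t) (hspan : y ∈ Submodule.span R (⋃ (n : ℤ) (_ : n ≤ d), (ℳ n : Set M))) :
    y ∈ a.toIdeal • (⊤ : Submodule R M) := by
  obtain ⟨n, f, gs, hsum⟩ := Submodule.mem_span_set'.mp hspan
  have h1 : (decompose ℳ y t : M) = y := decompose_of_mem_same ℳ hy
  rw [← h1, ← hsum, decompose_sum, DFinsupp.finsetSum_apply, AddSubmonoidClass.coe_finsetSum]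
  apply Submodule.sum_mem
  intro l _
  have hg := (gs l).2
  simp only [Set.mem_iUnion, SetLike.mem_coe, exists_prop] at hg
  obtain ⟨e, he, hge⟩ := hg
  have h2 := decompose_smul_of_mem_right 𝒜 ℳ hge (f l) (t - e)
  rw [sub_add_cancel] at h2
  rw [h2]
  apply Submodule.smul_mem_smul _ Submodule.mem_top
  exact hposa (t - e) (by omega) _ (decompose 𝒜 (f l) (t - e)).2

theorem coord_mem_of_mem_smul_top {n : ℕ} (𝔪 : Ideal R) (v : Fin n → R)
    (hv : v ∈ 𝔪 • (⊤ : Submodule R (Fin n → R))) (b : Fin n) : v b ∈ 𝔪 := by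
  refine Submodule.smul_induction_on hv ?_ ?_
  · intro r hr w _
    rw [Pi.smul_apply, smul_eq_mul]
    exact Ideal.mul_mem_right _ _ hr
  · intro x y hx hy
    rw [Pi.add_apply]
    exact Ideal.add_mem _ hx hy

include HR hhom hpos hposa h𝔪 in
theorem thmB_zero (X : GMod.{u} 𝒜) (F : FreeRes 𝒜 X.gr) (d : ℤ) (hF : F.IsMinimal a.toIdeal)
    (hvan : ∀ (i : ℕ) (g : ℤ), d < g + i → VanM a X.gr i g) (b : Fin (F.rk 0)) :
    F.deg 0 b ≤ d := by
  by_contra hlt
  rw [not_le] at hlt
  have hfin : Module.Finite R X.carrier := Module.Finite.of_surjective F.augLin F.aug_surjective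
  have hgen : Submodule.span R (⋃ (n : ℤ) (_ : n ≤ d), (X.gr n : Set X.carrier)) = ⊤ := by
    apply generated_of_van a hhom hpos (fun n => n ≤ d)
    intro e he
    rw [not_le] at he
    refine ⟨hvan 0 e (by simpa using he), fun p => hvan (1 + p) _ ?_⟩
    rw [nsmul_eq_mul]
    push_cast
    linarith
  have h1 : F.aug b ∈ a.toIdeal • (⊤ : Submodule R X.carrier) := by
    apply mem_smul_top_of_span a hposa X.gr d (F.deg 0 b) hlt (F.aug b) (F.aug_mem b)
    rw [hgen]
    trivial
  have h2 : a.toIdeal • (⊤ : Submodule R X.carrier) =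
      (a.toIdeal • (⊤ : Submodule R (Fin (F.rk 0) → R))).map F.augLin := by
    rw [Submodule.map_smul'', Submodule.map_top, LinearMap.range_eq_top.mpr F.aug_surjective]
  rw [h2] at h1
  obtain ⟨v, hv, hvb⟩ := h1
  have h3 : Fintype.linearCombination R F.aug (Pi.single b 1 - v) = 0 := by
    rw [map_sub]
    have : Fintype.linearCombination R F.aug (Pi.single b 1) = F.aug b := by
      rw [Fintype.linearCombination_apply_single, one_smul]
    rw [this]
    exact sub_eq_zero.mpr hvb.symm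
  have h4 := Groth.Agent.Lib.Helper8.GrSyzBasic.coord_mem_of_mem_ker_aug hF h3 b
  rw [Pi.sub_apply, Pi.single_eq_same] at h4
  have h5 := coord_mem_of_mem_smul_top a.toIdeal v hv b
  apply h𝔪
  rw [Ideal.eq_top_iff_one]
  have : (1 : R) = (1 - v b) + v b := by ring
  rw [this]
  exact Ideal.add_mem _ h4 h5

include HR hhom hpos hposa h𝔪 in
theorem thmB (i : ℕ) : ∀ (X : GMod.{u} 𝒜) (F : FreeRes 𝒜 X.gr) (d : ℤ),
    F.IsMinimal a.toIdeal → (∀ (i : ℕ) (g : ℤ), d < g + i → VanM a X.gr i g) →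
    ∀ b, F.deg i b ≤ d + i := by
  induction i with
  | zero =>
    intro X F d hF hvan b
    have := thmB_zero a HR hhom hpos hposa h𝔪 X F d hF hvan b
    simpa using this
  | succ i ih =>
    intro X F d hF hvan b
    have h0 : ∀ b, F.deg 0 b ≤ d := thmB_zero a HR hhom hpos hposa h𝔪 X F d hF hvan
    have hZ : ∀ (j : ℕ) (g : ℤ), d + 1 < g + j → VanM a (Z X F).gr j g := by
      intro j g hg
      cases j with
      | zero =>
        apply les_left_zero a (ses_syz X F) g
        apply vanM_free_of_le a HR (F.deg 0) d h0 0 g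
        push_cast at hg ⊢
        omega
      | succ j =>
        apply les_left a (ses_syz X F) j g
        · apply hvan
          push_cast at hg
          omega
        · apply vanM_free_of_le a HR (F.deg 0) d h0 (j + 1) g
          push_cast at hg ⊢
          omega
    have := ih (Z X F) (syz X F) (d + 1) (syz_isMinimal X F hF) hZ b
    change F.deg (i + 1) b ≤ d + 1 + i at this
    push_cast
    omega

end ThmB

end Groth.Agent.Lib.Helper8.GrLCSyz
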