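import Groth.Agent.Lib.Helper8.GrLCGV
import Groth.Agent.Lib.Helper8.GrLCSub

set_option autoImplicit false
set_option linter.unusedSectionVars false
universe u

open DirectSum GrLC
open Groth.Agent.Lib.Helper30
open Groth.Agent.Lib.Helper8.GrLCBase Groth.Agent.Lib.Helper8.GrLCProd
open Groth.Agent.Lib.Helper8.GrLCLES Groth.Agent.Lib.Helper8.GrLCTors
open Groth.Agent.Lib.Helper8.GrLCShift Groth.Agent.Lib.Helper8.GrLCFree
open Groth.Agent.Lib.Helper8.GrLCInd Groth.Agent.Lib.Helper8.GrLCGV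
open Groth.Agent.Lib.Helper8.GrLCRows Groth.Agent.Lib.Helper8.GrLCSub

namespace Groth.Agent.Lib.Helper8.GrLCTop

variable {R : Type u} [CommRing R] [IsNoetherianRing R] {𝒜 : ℤ → AddSubgroup R} [GradedRing 𝒜]
variable (a : HomogeneousIdeal 𝒜)
  (hhom : a.toIdeal = Ideal.span ((𝒜 1 : AddSubgroup R) : Set R))

/-- The ring as a graded module over itself. -/
noncomputable abbrev XR : GMod.{u} 𝒜 := GMod.of 𝒜 R 𝒜

include hhom in
/-- Top local cohomology of a standard graded ring: vanishing in degree `n - 1` forces vanishing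
in degree `n`. -/
theorem top_step (r : ℕ) (hr : ringKrullDim R = r) (h1 : 1 ≤ r) (n : ℤ)
    (h : VanM a 𝒜 r (n - 1)) : VanM a 𝒜 r n := by
  classical
  obtain ⟨s, hs, ha⟩ := exists_gens a hhom
  let t := s.card
  let e : Fin t ≃ ↥s := s.equivFin.symm
  let x : Fin t → R := fun b => (e b : R)
  have hx1 : ∀ b, x b ∈ 𝒜 1 := fun b => hs _ (e b).2
  let c : Fin t → ℤ := fun _ => 1
  let φ : (freeGM 𝒜 c).carrier →ₗ[R] (XR (𝒜 := 𝒜)).carrier := Fintype.linearCombination R x
  have hφ : IsGrHom (freeGM 𝒜 c).gr (XR (𝒜 := 𝒜)).gr φ := by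
    intro g v hv
    have key : ∀ w : Fin t → R, (∀ b, w b ∈ 𝒜 (g - 1)) →
        Fintype.linearCombination R x w ∈ 𝒜 g := by
      intro w hw
      rw [Fintype.linearCombination_apply]
      apply sum_mem
      intro b _
      have := SetLike.GradedMul.mul_mem (hw b) (hx1 b)
      rw [sub_add_cancel] at this
      exact this
    exact key v hv
  have hrange : LinearMap.range φ = a.toIdeal := by
    change LinearMap.range (Fintype.linearCombination R x) = a.toIdeal
    rw [Fintype.range_linearCombination, ha]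
    congr 1
    ext y
    constructor
    · rintro ⟨b, rfl⟩
      exact (e b).2
    · intro hy
      exact ⟨e.symm ⟨y, hy⟩, by simp [x]⟩
  have S1 := ses_ker_range (freeGM 𝒜 c) (XR (𝒜 := 𝒜)) φ hφ
  have hF : VanM a (freeGM 𝒜 c).gr r n := vanM_free 𝒜 a r c n (fun _ => h)
  have hKfin : Module.Finite R (gker (freeGM 𝒜 c) (XR (𝒜 := 𝒜)) φ hφ).carrier := by
    have : IsNoetherian R (freeGM 𝒜 c).carrier := (isNoetherian_pi : IsNoetherian R (Fin t → R))
    exact Module.Finite.iff_fg.mpr (IsNoetherian.noetherian (LinearMap.ker φ))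
  have hK : VanM a (gker (freeGM 𝒜 c) (XR (𝒜 := 𝒜)) φ hφ).gr (r + 1) n :=
    vanM_of_dim_lt a _ hKfin r hr (r + 1) (by omega) n
  have hRg : VanM a (grange (freeGM 𝒜 c) (XR (𝒜 := 𝒜)) φ hφ).gr r n := les_right a S1 r n hF hK
  have hNh : (LinearMap.range φ).IsHomogeneous (XR (𝒜 := 𝒜)).gr :=
    range_isHomogeneous (freeGM 𝒜 c).gr (XR (𝒜 := 𝒜)).gr φ hφ
  let ι₂ : (grange (freeGM 𝒜 c) (XR (𝒜 := 𝒜)) φ hφ).carrier →ₗ[R] (XR (𝒜 := 𝒜)).carrier :=
    (LinearMap.range φ).subtype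
  have S2 : SES (grange (freeGM 𝒜 c) (XR (𝒜 := 𝒜)) φ hφ).gr (XR (𝒜 := 𝒜)).gr
      (Q (XR (𝒜 := 𝒜)) (LinearMap.range φ) hNh).gr ι₂ (Qmk (XR (𝒜 := 𝒜)) (LinearMap.range φ) hNh) :=
    { i_gr := fun _ _ hy => hy
      p_gr := Qmk_gr hNh
      inj := Subtype.val_injective
      surj := Qmk_surjective hNh
      exact := by
        apply le_antisymm
        · rintro _ ⟨y, rfl⟩
          rw [LinearMap.mem_ker, Qmk_eq_zero]
          exact y.2
        · intro y hy
          rw [LinearMap.mem_ker, Qmk_eq_zero] at hy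
          exact ⟨⟨y, hy⟩, rfl⟩ }
  have htors : gam a.toIdeal (Q (XR (𝒜 := 𝒜)) (LinearMap.range φ) hNh).carrier = ⊤ := by
    rw [eq_top_iff]
    intro y _
    refine ⟨1, fun ρ hρ => ?_⟩
    rw [pow_one] at hρ
    obtain ⟨z, rfl⟩ := Qmk_surjective hNh y
    rw [← map_smul, Qmk_eq_zero, hrange]
    obtain ⟨z', hz'⟩ : ∃ z' : R, z' = z := ⟨z, rfl⟩
    have h2 : ρ * z' ∈ a.toIdeal := Ideal.mul_mem_right _ _ hρ
    rw [hz'] at h2
    exact h2
  obtain ⟨r', rfl⟩ : ∃ r', r = r' + 1 := ⟨r - 1, by omega⟩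
  have hQ : VanM a (Q (XR (𝒜 := 𝒜)) (LinearMap.range φ) hNh).gr (r' + 1) n :=
    vanM_of_tors_aux a r' _ htors n
  exact les_mid a S2 (r' + 1) n hRg hQ

include hhom in
/-- Top local cohomology of a standard graded ring is non-zero in all degrees below its end. -/
theorem top_ne_bot (r : ℕ) (hr : ringKrullDim R = r) (h1 : 1 ≤ r) (I : StarInjRes 𝒜 𝒜) (e : ℤ)
    (he : GrLC.endDeg (I.Hgr a r) = ((e : WithTop ℤ) : WithBot (WithTop ℤ))) (n : ℤ) (hn : n ≤ e) :
    I.Hcomp a r n ≠ ⊥ := by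
  have htop : I.Hgr a r e ≠ ⊥ := by
    have hle : ¬ (GrLC.endDeg (I.Hgr a r) ≤ (((e - 1 : ℤ) : WithTop ℤ) : WithBot (WithTop ℤ))) := by
      rw [he, WithBot.coe_le_coe, WithTop.coe_le_coe]
      omega
    rw [endDeg_le_iff] at hle
    push Not at hle
    obtain ⟨t, ht, hne⟩ := hle
    have hle' := (endDeg_le_iff (ℳ := I.Hgr a r) e).mp (le_of_eq he)
    have hte : t = e := by
      by_contra hne'
      exact hne (hle' t (by omega))
    rwa [hte] at hne
  have key : ∀ t : ℕ, I.Hcomp a r (e - t) ≠ ⊥ := by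
    intro t
    induction t with
    | zero =>
      intro hb
      apply htop
      rw [hgr_eq_bot_iff]
      simpa using hb
    | succ t ih =>
      intro hb
      apply ih
      rw [← vanM_iff_hcomp a I] at hb ⊢
      have := top_step a hhom r hr h1 (e - t) (by
        have h2 : e - ((t + 1 : ℕ) : ℤ) = e - t - 1 := by push_cast; ring
        rwa [h2] at hb)
      exact this
  have := key (e - n).toNat
  have h3 : e - ((e - n).toNat : ℤ) = n := by
    have := Int.toNat_of_nonneg (sub_nonneg.mpr hn)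
    omega
  rwa [h3] at this

end Groth.Agent.Lib.Helper8.GrLCTop
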