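import Groth.Agent.Lib.Helper8.GrLCTopQuot
import Groth.Agent.Lib.Helper8.GrLCPolyAlg
import Groth.Agent.Lib.Helper8.GrLCEulerMain
import Groth.Agent.Lib.Helper8.GrLCPolyChar

/-!
# The top local cohomology of a standard graded ring of dimension at least two has pieces of
dimension at least two below its end
-/

set_option autoImplicit false
set_option linter.unusedSectionVars false
universe u

open DirectSum GrLC
open Groth.Agent.Lib.Helper30
open Groth.Agent.Lib.Helper8.GrLCBase Groth.Agent.Lib.Helper8.GrLCLES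
open Groth.Agent.Lib.Helper8.GrLCInd Groth.Agent.Lib.Helper8.GrLCTopQuot

namespace Groth.Agent.Lib.Helper8.GrLCTopTwo

section Dim

variable {R : Type u} [CommRing R] {𝒜 : ℤ → AddSubgroup R} [GradedRing 𝒜]
variable (hpos : ∀ n : ℤ, n < 0 → 𝒜 n = ⊥)
  (hstd : Ideal.span (⋃ n ∈ Set.Ioi (0 : ℤ), (𝒜 n : Set R)) = Ideal.span ((𝒜 1 : AddSubgroup R) : Set R))
  (h0 : IsField (deg0 𝒜))

include hpos hstd h0 in
/-- The quotient of a standard graded ring over a field by linear forms spanning a hyperplane of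
`R_1` has dimension at most one. -/
theorem dim_quot_le_one (L : Set R) (t : R)
    (hLt : ∀ x ∈ 𝒜 1, ∃ c ∈ 𝒜 0, x - c * t ∈ L) :
    ringKrullDim (R ⧸ Ideal.span L) ≤ 1 := by
  classical
  let ψ0 : deg0 𝒜 →+* R ⧸ Ideal.span L := (Ideal.Quotient.mk (Ideal.span L)).comp (deg0 𝒜).subtype
  let φ : Polynomial (deg0 𝒜) →+* R ⧸ Ideal.span L :=
    Polynomial.eval₂RingHom ψ0 (Ideal.Quotient.mk (Ideal.span L) t)
  have hsurj : Function.Surjective φ := by
    intro z
    obtain ⟨r, rfl⟩ := Ideal.Quotient.mk_surjective z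
    have := Groth.Agent.Lib.Helper8.GrLCPolyAlg.subring_eq_top hpos hstd
      (φ.range.comap (Ideal.Quotient.mk (Ideal.span L))) ?_ ?_ r
    · exact this
    · intro c hc
      refine ⟨Polynomial.C (⟨c, hc⟩ : deg0 𝒜), ?_⟩
      change Polynomial.eval₂ ψ0 _ (Polynomial.C (⟨c, hc⟩ : deg0 𝒜)) = _
      rw [Polynomial.eval₂_C]
      rfl
    · intro x hx
      obtain ⟨c, hc, hl⟩ := hLt x hx
      refine ⟨Polynomial.C (⟨c, hc⟩ : deg0 𝒜) * Polynomial.X, ?_⟩
      change Polynomial.eval₂ ψ0 _ (Polynomial.C (⟨c, hc⟩ : deg0 𝒜) * Polynomial.X) = _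
      rw [Polynomial.eval₂_mul, Polynomial.eval₂_C, Polynomial.eval₂_X]
      change Ideal.Quotient.mk (Ideal.span L) c * Ideal.Quotient.mk (Ideal.span L) t =
        Ideal.Quotient.mk (Ideal.span L) x
      rw [← map_mul, eq_comm, Ideal.Quotient.eq]
      exact Ideal.subset_span hl
  have h1 := ringKrullDim_le_of_surjective φ hsurj
  have h2 : ringKrullDim (Polynomial (deg0 𝒜)) ≤ 1 := by
    refine le_trans Polynomial.ringKrullDim_le ?_
    rw [ringKrullDim_eq_zero_of_isField h0]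
    simp
  exact le_trans h1 h2

end Dim

section Abs

theorem exists_functional_ne {k : Type*} [CommRing k] (hk : IsField k) {W : Type*}
    [AddCommGroup W] [Module k W] {y : W} (hy : y ≠ 0) : ∃ ω : W →ₗ[k] k, ω y ≠ 0 := by
  letI : Field k := hk.toField
  by_contra hcon
  push Not at hcon
  exact hy ((Module.forall_dual_apply_eq_zero_iff k y).mp hcon)

theorem exists_gen_of_finrank_lt_two {k : Type*} [CommRing k] (hk : IsField k) {V : Type*}
    [AddCommGroup V] [Module k V] [Module.Finite k V] (h : Module.finrank k V < 2) :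
    ∃ v : V, ∀ w : V, ∃ c : k, c • v = w := by
  letI : Field k := hk.toField
  exact finrank_le_one_iff.mp (by omega)

end Abs

section Main

variable {R : Type u} [CommRing R] [IsNoetherianRing R] {𝒜 : ℤ → AddSubgroup R} [GradedRing 𝒜]
variable (hpos : ∀ n : ℤ, n < 0 → 𝒜 n = ⊥)
  (hstd : Ideal.span (⋃ n ∈ Set.Ioi (0 : ℤ), (𝒜 n : Set R)) = Ideal.span ((𝒜 1 : AddSubgroup R) : Set R))
  (h0 : IsField (deg0 𝒜)) (m : HomogeneousIdeal 𝒜) (hm : IsStarLocal 𝒜 m)
  (n : ℕ) (hn : ringKrullDim R = n) (h2 : 2 ≤ n) (I : StarInjRes 𝒜 𝒜)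

include hpos hstd h0 hm hn h2 in
/-- If the top local cohomology is nonzero in degree `d + 1`, its piece of degree `d` has dimension
at least two. -/
theorem two_le_finrank (d : ℤ) (hne : I.Hcomp m n (d + 1) ≠ ⊥) :
    2 ≤ Module.finrank (deg0 𝒜) ↥(I.Hcomp m n d) := by
  classical
  by_contra hlt
  push Not at hlt
  haveI : IsArtinianRing (deg0 𝒜) := Groth.Agent.Lib.Helper8.GrLCPolyChar.isArtinianRing_deg0 h0
  haveI hfin : Module.Finite (deg0 𝒜) ↥(I.Hcomp m n d) := by
    have h1 := Groth.Agent.Lib.Helper8.GrLCEulerMain.fin_H hpos m hm 𝒜 I n d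
    rw [Module.length_ne_top_iff, isFiniteLength_iff_isNoetherian_isArtinian] at h1
    haveI := h1.1
    exact Module.IsNoetherian.finite _ _
  obtain ⟨h₀, hh₀⟩ := exists_gen_of_finrank_lt_two h0 hlt
  obtain ⟨y₀, hy₀, hy₀0⟩ := Submodule.exists_mem_ne_zero_of_ne_bot hne
  have hint := Groth.Agent.S13225.result R 𝒜 m R 𝒜 I n
  letI : DirectSum.Decomposition (I.Hgr m n) := hint.chooseDecomposition
  haveI : SetLike.GradedSMul 𝒜 (I.Hgr m n) := gradedSMul_Hgr m n I
  have hy₀' : (⟨y₀, hy₀⟩ : ↥(I.Hcomp m n (d + 1))) ≠ 0 := fun h => hy₀0 (congrArg Subtype.val h)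
  obtain ⟨ω, hω⟩ := exists_functional_ne h0 hy₀'
  -- the projection to degree `d + 1`
  let pr : I.H m n → ↥(I.Hcomp m n (d + 1)) := fun z =>
    ⟨(decompose (I.Hgr m n) z (d + 1) : I.H m n), (decompose (I.Hgr m n) z (d + 1)).2⟩
  have pr_add : ∀ z z', pr (z + z') = pr z + pr z' := by
    intro z z'
    apply Subtype.ext
    change (decompose (I.Hgr m n) (z + z') (d + 1) : I.H m n) = _
    rw [decompose_add, DirectSum.add_apply, AddSubgroup.coe_add]
    rfl
  have pr_zero : pr 0 = 0 := by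
    apply Subtype.ext
    change (decompose (I.Hgr m n) (0 : I.H m n) (d + 1) : I.H m n) = 0
    rw [decompose_zero, DirectSum.zero_apply, ZeroMemClass.coe_zero]
  have pr_smul : ∀ (c : deg0 𝒜) (z : I.H m n), pr ((c : R) • z) = c • pr z := by
    intro c z
    apply Subtype.ext
    change (decompose (I.Hgr m n) ((c : R) • z) (d + 1) : I.H m n) =
      (c : R) • (decompose (I.Hgr m n) z (d + 1) : I.H m n)
    have h1 := decompose_smul_of_mem 𝒜 (I.Hgr m n) c.2 z (d + 1)
    rwa [zero_add] at h1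
  have pr_of_mem : pr y₀ = ⟨y₀, hy₀⟩ :=
    Subtype.ext (DirectSum.decompose_of_mem_same (I.Hgr m n) hy₀)
  let ω' : I.H m n →+ deg0 𝒜 :=
    { toFun := fun z => ω (pr z)
      map_zero' := by rw [pr_zero, map_zero]
      map_add' := fun z z' => by rw [pr_add, map_add] }
  have ω'_smul : ∀ (c : deg0 𝒜) (z : I.H m n), ω' ((c : R) • z) = c * ω' z := by
    intro c z
    change ω (pr ((c : R) • z)) = c * ω (pr z)
    rw [pr_smul, map_smul, smul_eq_mul]
  -- the hyperplane of linear forms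
  let L : Set R := {x | x ∈ 𝒜 1 ∧ ω' (x • (h₀ : I.H m n)) = 0}
  have hLt : ∃ t, ∀ x ∈ 𝒜 1, ∃ c ∈ 𝒜 0, x - c * t ∈ L := by
    by_cases hall : ∀ x ∈ 𝒜 1, ω' (x • (h₀ : I.H m n)) = 0
    · refine ⟨0, fun x hx => ⟨0, zero_mem _, ?_⟩⟩
      rw [mul_zero, sub_zero]
      exact ⟨hx, hall x hx⟩
    · push Not at hall
      obtain ⟨t, ht, htne⟩ := hall
      obtain ⟨v, hv⟩ := h0.mul_inv_cancel htne
      refine ⟨t, fun x hx => ?_⟩
      let c : deg0 𝒜 := ω' (x • (h₀ : I.H m n)) * v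
      refine ⟨(c : R), c.2, ?_, ?_⟩
      · apply sub_mem hx
        have := SetLike.GradedMul.mul_mem (A := 𝒜) c.2 ht
        rwa [zero_add] at this
      · rw [sub_smul, map_sub, mul_smul, ω'_smul]
        change ω' (x • (h₀ : I.H m n)) - ω' (x • (h₀ : I.H m n)) * v * ω' (t • (h₀ : I.H m n)) = 0
        rw [mul_assoc, mul_comm v, hv, mul_one, sub_self]
  obtain ⟨t, hLt⟩ := hLt
  have hdim := dim_quot_le_one hpos hstd h0 L t hLt
  let J : HomogeneousIdeal 𝒜 :=
    ⟨Ideal.span L, Ideal.homogeneous_span 𝒜 L (fun x hx => ⟨1, hx.1⟩)⟩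
  have hGV : ∀ Y : GMod.{u} 𝒜, Module.Finite R Y.carrier → ∀ g, VanM m Y.gr (n + 1) g :=
    fun Y hY g => Groth.Agent.Lib.Helper8.GrLCGV.vanM_of_dim_lt m Y hY n hn (n + 1) (by omega) g
  have hQ : ∀ g, VanM m (Q (XR (𝒜 := 𝒜)) J.toIdeal J.isHomogeneous).gr n g := by
    intro g
    haveI : Module.Finite R (XR (𝒜 := 𝒜)).carrier := (inferInstance : Module.Finite R R)
    have hQfin : Module.Finite R (Q (XR (𝒜 := 𝒜)) J.toIdeal J.isHomogeneous).carrier :=
      Module.Finite.of_surjective (Qmk (XR (𝒜 := 𝒜)) J.toIdeal J.isHomogeneous)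
        (Qmk_surjective (X := XR (𝒜 := 𝒜)) J.isHomogeneous)
    apply Groth.Agent.Lib.Helper8.GrLCGV.grothendieck_vanishing m _ hQfin n _ g
    change ringKrullDim (R ⧸ Module.annihilator R (R ⧸ Ideal.span L)) < _
    rw [Ideal.annihilator_quotient]
    refine lt_of_le_of_lt hdim ?_
    have : (1 : ℕ) < n := by omega
    exact_mod_cast this
  have hmem := mem_closure_of_span m n I L (fun l hl => hl.1) J rfl hGV hQ d y₀ hy₀
  have hzero : ω' y₀ = 0 := by
    refine AddSubgroup.closure_induction (p := fun z _ => ω' z = 0) ?_ ?_ ?_ ?_ hmem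
    · rintro z ⟨l, hl, h, hh, rfl⟩
      obtain ⟨c, hc⟩ := hh₀ ⟨h, hh⟩
      have h1 : h = (c : R) • (h₀ : I.H m n) := (congrArg Subtype.val hc).symm
      rw [h1, smul_comm, ω'_smul, hl.2, mul_zero]
    · exact map_zero ω'
    · intro x y _ _ hx hy
      rw [map_add, hx, hy, add_zero]
    · intro x _ hx
      rw [map_neg, hx, neg_zero]
  apply hω
  rw [← pr_of_mem]
  exact hzero

end Main

end Groth.Agent.Lib.Helper8.GrLCTopTwo
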