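import Groth.Agent.Lib.Helper8.GrLCLES
import Mathlib.RingTheory.Filtration

set_option autoImplicit false
set_option linter.unusedSectionVars false
universe u

open DirectSum GrLC
open Groth.Agent.Lib.Helper30
open Groth.Agent.Lib.Helper8.GrLCBase Groth.Agent.Lib.Helper8.GrLCProd
open Groth.Agent.Lib.Helper8.GrLCLES

namespace Groth.Agent.Lib.Helper8.GrLCTors

variable {ι : Type} [AddCommGroup ι] [DecidableEq ι]
variable {R : Type u} [CommRing R] {𝒜 : ι → AddSubgroup R} [GradedRing 𝒜]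

section Ess

variable {X : Type u} [AddCommGroup X] [Module R X] {𝒳 : ι → AddSubgroup X}
  [DirectSum.Decomposition 𝒳] [SetLike.GradedSMul 𝒜 𝒳]
variable {J : Type u} [AddCommGroup J] [Module R J] {𝒥 : ι → AddSubgroup J}
  [DirectSum.Decomposition 𝒥] [SetLike.GradedSMul 𝒜 𝒥]

theorem gam_eq_top_of_homogeneous (a : HomogeneousIdeal 𝒜)
    (h : ∀ g, ∀ y ∈ 𝒥 g, y ∈ gam a.toIdeal J) : gam a.toIdeal J = ⊤ := by
  classical
  rw [eq_top_iff]
  intro y _
  rw [← sum_support_decompose 𝒥 y]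
  exact Submodule.sum_mem _ (fun g _ => h g _ (decompose 𝒥 y g).2)

theorem exists_pow_kill_of_fg (a : Ideal R) {N : Type u} [AddCommGroup N] [Module R N]
    (P : Submodule R N) (hP : P.FG) (hPt : ∀ n ∈ P, n ∈ gam a N) :
    ∃ t : ℕ, ∀ r ∈ a ^ t, ∀ n ∈ P, r • n = 0 := by
  classical
  obtain ⟨s, hs⟩ := hP
  have hs' : ∀ n ∈ s, n ∈ P := fun n hn => hs ▸ Submodule.subset_span hn
  choose! t ht using fun n (hn : n ∈ s) => hPt n (hs' n hn)
  refine ⟨s.sup t, fun r hr n hn => ?_⟩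
  rw [← hs] at hn
  induction hn using Submodule.span_induction with
  | mem x hx => exact ht x hx r (Ideal.pow_le_pow_right (Finset.le_sup hx) hr)
  | zero => exact smul_zero r
  | add x y _ _ hx hy => rw [smul_add, hx, hy, add_zero]
  | smul c x _ hx => rw [smul_comm, hx, smul_zero]

theorem gam_eq_top_of_isStarEss [IsNoetherianRing R] (a : HomogeneousIdeal 𝒜)
    (f : X →ₗ[R] J) (hf : IsStarEss 𝒳 𝒥 f) (hX : gam a.toIdeal X = ⊤) :
    gam a.toIdeal J = ⊤ := by
  classical
  apply gam_eq_top_of_homogeneous (𝒥 := 𝒥)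
  intro g y hy
  set N : Submodule R J := Submodule.span R {y} with hN
  have hyN : y ∈ N := Submodule.mem_span_singleton_self y
  have : IsNoetherian R ↥N := isNoetherian_span_of_finite R (Set.finite_singleton y)
  set P : Submodule R ↥N := (LinearMap.range f).comap N.subtype with hPdef
  have hPt : ∀ n ∈ P, n ∈ gam a.toIdeal ↥N := by
    rintro n ⟨x, hx⟩
    have hxt : x ∈ gam a.toIdeal X := by rw [hX]; trivial
    obtain ⟨k, hk⟩ := hxt
    refine ⟨k, fun r hr => ?_⟩
    apply Subtype.ext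
    rw [Submodule.coe_smul, Submodule.coe_zero]
    have : (n : J) = f x := hx.symm
    rw [this, ← map_smul, hk r hr, map_zero]
  obtain ⟨t, ht⟩ := exists_pow_kill_of_fg a.toIdeal P (IsNoetherian.noetherian P) hPt
  obtain ⟨c, hc⟩ := Ideal.exists_pow_inf_eq_pow_smul a.toIdeal P
  have hzero : (a.toIdeal ^ (t + c) • (⊤ : Submodule R ↥N)) ⊓ P = ⊥ := by
    rw [hc (t + c) (Nat.le_add_left c t), Nat.add_sub_cancel, eq_bot_iff, Submodule.smul_le]
    intro r hr n hn
    rw [Submodule.mem_bot]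
    exact ht r hr n hn.2
  have hpow := pow_isHomogeneous 𝒜 a (t + c)
  refine ⟨t + c, fun r hr => ?_⟩
  rw [← sum_support_decompose 𝒜 r, Finset.sum_smul]
  apply Finset.sum_eq_zero
  intro h _
  set rh : R := (decompose 𝒜 r h : R) with hrh
  have hrh_mem : rh ∈ a.toIdeal ^ (t + c) := hpow h hr
  have hrh_deg : rh ∈ 𝒜 h := (decompose 𝒜 r h).2
  by_contra hne
  have hdeg : rh • y ∈ 𝒥 (h + g) := smul_mem_piece 𝒜 𝒥 hrh_deg hy
  have hQ : (Submodule.span R {rh • y}).IsHomogeneous 𝒥 :=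
    span_singleton_isHomogeneous 𝒜 𝒥 hdeg
  have hQne : Submodule.span R {rh • y} ≠ ⊥ := by
    intro hbot
    apply hne
    have : rh • y ∈ Submodule.span R {rh • y} := Submodule.mem_span_singleton_self _
    rw [hbot, Submodule.mem_bot] at this
    exact this
  have hmeet := hf.essential _ hQ hQne
  obtain ⟨w, hw, hw0⟩ := Submodule.exists_mem_ne_zero_of_ne_bot hmeet
  obtain ⟨hw1, hw2⟩ := hw
  obtain ⟨s, rfl⟩ := Submodule.mem_span_singleton.mp hw1
  have hwN : s • rh • y ∈ N := N.smul_mem _ (N.smul_mem _ hyN)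
  have hmem : (⟨s • rh • y, hwN⟩ : ↥N) ∈ (a.toIdeal ^ (t + c) • (⊤ : Submodule R ↥N)) ⊓ P := by
    refine ⟨?_, hw2⟩
    have e : (⟨s • rh • y, hwN⟩ : ↥N) = (s * rh) • (⟨y, hyN⟩ : ↥N) := by
      apply Subtype.ext
      rw [Submodule.coe_smul, mul_smul]
    rw [e]
    exact Submodule.smul_mem_smul (Ideal.mul_mem_left _ s hrh_mem) trivial
  rw [hzero, Submodule.mem_bot] at hmem
  exact hw0 (congrArg Subtype.val hmem)

end Ess

section Tors

variable [IsNoetherianRing R] (a : HomogeneousIdeal 𝒜)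

theorem vanM_of_tors_aux (n : ℕ) : ∀ (X : GMod.{u} 𝒜), gam a.toIdeal X.carrier = ⊤ →
    ∀ g, VanM a X.gr (n + 1) g := by
  induction n with
  | zero =>
    intro X hX g
    obtain ⟨emb⟩ := nonempty_starEmb 𝒜 X
    obtain ⟨E₀, hE₀, hle, hull, -⟩ := exists_isStarInjHull_of_embedding 𝒜 emb.Y.gr X.gr
      emb.starInj emb.f emb.grHom emb.inj
    set H : GMod.{u} 𝒜 := gmodSub 𝒜 emb.Y.gr E₀ hE₀ with hH
    set f : X.carrier →ₗ[R] H.carrier := emb.f.codRestrict E₀ hle with hf
    have hHt : gam a.toIdeal H.carrier = ⊤ :=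
      gam_eq_top_of_isStarEss a f hull.toIsStarEss hX
    have hrange : (LinearMap.range f).IsHomogeneous H.gr :=
      range_isHomogeneous X.gr H.gr f hull.grHom
    set C : GMod.{u} 𝒜 := gmodQuot 𝒜 H.gr (LinearMap.range f) hrange with hC
    let π : H.carrier →ₗ[R] C.carrier := (LinearMap.range f).mkQ
    have S : SES X.gr H.gr C.gr f π :=
      { i_gr := hull.grHom
        p_gr := isGrHom_mkQ H.gr (LinearMap.range f)
        inj := hull.injective
        surj := Submodule.mkQ_surjective _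
        exact := (Submodule.ker_mkQ _).symm }
    refine les_left_one a S g ?_ (vanM_of_isStarInj a hull.starInj 0 g)
    rintro c ⟨x, hx, rfl⟩ -
    exact ⟨x, hx, by rw [hHt]; trivial, rfl⟩
  | succ n ih =>
    intro X hX g
    obtain ⟨emb⟩ := nonempty_starEmb 𝒜 X
    obtain ⟨E₀, hE₀, hle, hull, -⟩ := exists_isStarInjHull_of_embedding 𝒜 emb.Y.gr X.gr
      emb.starInj emb.f emb.grHom emb.inj
    set H : GMod.{u} 𝒜 := gmodSub 𝒜 emb.Y.gr E₀ hE₀ with hH
    set f : X.carrier →ₗ[R] H.carrier := emb.f.codRestrict E₀ hle with hf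
    have hHt : gam a.toIdeal H.carrier = ⊤ :=
      gam_eq_top_of_isStarEss a f hull.toIsStarEss hX
    have hrange : (LinearMap.range f).IsHomogeneous H.gr :=
      range_isHomogeneous X.gr H.gr f hull.grHom
    set C : GMod.{u} 𝒜 := gmodQuot 𝒜 H.gr (LinearMap.range f) hrange with hC
    let π : H.carrier →ₗ[R] C.carrier := (LinearMap.range f).mkQ
    have S : SES X.gr H.gr C.gr f π :=
      { i_gr := hull.grHom
        p_gr := isGrHom_mkQ H.gr (LinearMap.range f)
        inj := hull.injective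
        surj := Submodule.mkQ_surjective _
        exact := (Submodule.ker_mkQ _).symm }
    have hCt : gam a.toIdeal C.carrier = ⊤ := by
      rw [eq_top_iff]
      intro c _
      obtain ⟨x, rfl⟩ := Submodule.mkQ_surjective (LinearMap.range f) c
      exact gam_map _ _ (by rw [hHt]; trivial)
    exact les_left a S (n + 1) g (ih C hCt g) (vanM_of_isStarInj a hull.starInj (n + 1) g)

variable {M : Type u} [AddCommGroup M] [Module R M] {ℳ : ι → AddSubgroup M}
  [DirectSum.Decomposition ℳ] [SetLike.GradedSMul 𝒜 ℳ]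

theorem vanM_of_tors (hM : gam a.toIdeal M = ⊤) (n : ℕ) (g : ι) : VanM a ℳ (n + 1) g :=
  vanM_of_tors_aux a n (GMod.of 𝒜 M ℳ) hM g

end Tors

end Groth.Agent.Lib.Helper8.GrLCTors
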