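import Groth.Agent.Lib.Helper8.GrAcycMain
import Groth.Agent.Lib.Helper8.GrLCSub
import Groth.Agent.Lib.Helper93.SegreAct

/-!
# The Segre product of graded modules as a graded module over the Segre ring
-/

set_option autoImplicit false
set_option linter.unusedSectionVars false
universe u

open DirectSum GrLC TensorProduct
open Groth.Agent.Lib.Helper30 Groth.Agent.Lib.Helper8.GrLCSub
open Groth.Agent.Lib.Helper93.Segre Groth.Agent.Lib.Helper93.SegreAct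

namespace Groth.Agent.Lib.Helper8.GrSegA

section Basic

variable {k : Type u} [Field k] {R S T : Type u} [CommRing R] [CommRing S] [CommRing T]
  [Algebra k R] [Algebra k S] [Algebra k T]
  {𝒜 : ℤ → Submodule k R} [GradedAlgebra 𝒜] {ℬ : ℤ → Submodule k S} [GradedAlgebra ℬ]
  {𝒯 : ℤ → Submodule k T} [GradedAlgebra 𝒯] {ψ : T →ₐ[k] R ⊗[k] S}
variable {X : Type u} [AddCommGroup X] [Module R X] [Module k X] [IsScalarTower k R X]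
  (𝒳 : ℤ → AddSubgroup X) [DirectSum.Decomposition 𝒳] [SetLike.GradedSMul 𝒜 𝒳]
variable {Y : Type u} [AddCommGroup Y] [Module S Y] [Module k Y] [IsScalarTower k S Y]
  (𝒴 : ℤ → AddSubgroup Y) [DirectSum.Decomposition 𝒴] [SetLike.GradedSMul ℬ 𝒴]

omit [DirectSum.Decomposition 𝒳] in
theorem hsm (𝒜 : ℤ → Submodule k R) [GradedAlgebra 𝒜] [SetLike.GradedSMul 𝒜 𝒳] :
    ∀ (i j : ℤ) (a : R) (x : X), a ∈ 𝒜 i → x ∈ 𝒳 j → a • x ∈ 𝒳 (i + j) := by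
  intro i j a x ha hx
  have h := SetLike.GradedSMul.smul_mem (A := 𝒜) (B := 𝒳) ha hx
  rwa [vadd_eq_add] at h

variable (k) in
/-- The Segre part of `X ⊗ Y`. -/
def segSub : Submodule k (X ⊗[k] Y) := ⨆ n, GrSeg.segrePiece k 𝒳 𝒴 n

theorem piece_le (n : ℤ) : GrSeg.segrePiece k 𝒳 𝒴 n ≤ segSub k 𝒳 𝒴 :=
  le_iSup (fun n => GrSeg.segrePiece k 𝒳 𝒴 n) n

theorem tmul_mem_piece {n : ℤ} {x : X} (hx : x ∈ 𝒳 n) {y : Y} (hy : y ∈ 𝒴 n) :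
    x ⊗ₜ[k] y ∈ GrSeg.segrePiece k 𝒳 𝒴 n :=
  Submodule.subset_span ⟨x, hx, y, hy, rfl⟩

theorem segSub_induction {P : X ⊗[k] Y → Prop} (h0 : P 0)
    (hadd : ∀ w w', P w → P w' → P (w + w'))
    (hp : ∀ (n : ℤ) (w : X ⊗[k] Y), w ∈ GrSeg.segrePiece k 𝒳 𝒴 n → P w)
    {w : X ⊗[k] Y} (hw : w ∈ segSub k 𝒳 𝒴) : P w := by
  unfold segSub at hw
  induction hw using Submodule.iSup_induction' with
  | mem n w hw => exact hp n w hw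
  | zero => exact h0
  | add w w' _ _ h h' => exact hadd w w' h h'

theorem piece_induction {n : ℤ} {P : X ⊗[k] Y → Prop} (h0 : P 0)
    (hadd : ∀ w w', P w → P w' → P (w + w'))
    (hsmul : ∀ (c : k) w, P w → P (c • w))
    (hp : ∀ x ∈ 𝒳 n, ∀ y ∈ 𝒴 n, P (x ⊗ₜ[k] y))
    {w : X ⊗[k] Y} (hw : w ∈ GrSeg.segrePiece k 𝒳 𝒴 n) : P w := by
  unfold GrSeg.segrePiece at hw
  induction hw using Submodule.span_induction with
  | mem w hw =>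
    obtain ⟨x, hx, y, hy, rfl⟩ := hw
    exact hp x hx y hy
  | zero => exact h0
  | add w w' _ _ h h' => exact hadd w w' h h'
  | smul c w _ h => exact hsmul c w h

include 𝒜 ℬ in
theorem diagM_mem (n : ℤ) (w : X ⊗[k] Y) :
    diagM 𝒜 ℬ 𝒳 𝒴 (hsm 𝒳 𝒜) (hsm 𝒴 ℬ) n w ∈ GrSeg.segrePiece k 𝒳 𝒴 n := by
  induction w using TensorProduct.induction_on with
  | zero => simp
  | add x y hx hy => rw [map_add]; exact add_mem hx hy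
  | tmul x y =>
    rw [diagM, TensorProduct.map_tmul, projL_apply, projL_apply]
    exact tmul_mem_piece 𝒳 𝒴 (SetLike.coe_mem _) (SetLike.coe_mem _)

include 𝒜 ℬ in
theorem diagM_of_mem_ne {n j : ℤ} (hne : j ≠ n) {w : X ⊗[k] Y}
    (hw : w ∈ GrSeg.segrePiece k 𝒳 𝒴 j) :
    diagM 𝒜 ℬ 𝒳 𝒴 (hsm 𝒳 𝒜) (hsm 𝒴 ℬ) n w = 0 := by
  refine piece_induction 𝒳 𝒴 (P := fun w => diagM 𝒜 ℬ 𝒳 𝒴 (hsm 𝒳 𝒜) (hsm 𝒴 ℬ) n w = 0)
    (by simp) (fun w w' h h' => by rw [map_add, h, h', add_zero])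
    (fun c w h => by rw [map_smul, h, smul_zero]) (fun x hx y hy => ?_) hw
  rw [diagM, TensorProduct.map_tmul, projL_of_mem_ne 𝒜 𝒳 (hsm 𝒳 𝒜) hx hne, TensorProduct.zero_tmul]

end Basic

section Mod

variable {k : Type u} [Field k] {R S T : Type u} [CommRing R] [CommRing S] [CommRing T]
  [Algebra k R] [Algebra k S] [Algebra k T]
  {𝒜 : ℤ → Submodule k R} [GradedAlgebra 𝒜] {ℬ : ℤ → Submodule k S} [GradedAlgebra ℬ]
  {𝒯 : ℤ → Submodule k T} [GradedAlgebra 𝒯] {ψ : T →ₐ[k] R ⊗[k] S}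
  (hT : GrSeg.IsSegreRing 𝒜 ℬ 𝒯 ψ)
variable {X : Type u} [AddCommGroup X] [Module R X] [Module k X] [IsScalarTower k R X]
  (𝒳 : ℤ → AddSubgroup X) [DirectSum.Decomposition 𝒳] [SetLike.GradedSMul 𝒜 𝒳]
variable {Y : Type u} [AddCommGroup Y] [Module S Y] [Module k Y] [IsScalarTower k S Y]
  (𝒴 : ℤ → AddSubgroup Y) [DirectSum.Decomposition 𝒴] [SetLike.GradedSMul ℬ 𝒴]

include hT in
theorem act_mem_segSub (t : T) {w : X ⊗[k] Y} (hw : w ∈ segSub k 𝒳 𝒴) :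
    GrSeg.act k R S X Y (ψ t) w ∈ segSub k 𝒳 𝒴 := by
  classical
  induction t using DirectSum.Decomposition.inductionOn 𝒯 with
  | zero => simp
  | add x y hx hy =>
    rw [map_add, map_add, LinearMap.add_apply]
    exact add_mem hx hy
  | homogeneous t =>
    rename_i d
    refine segSub_induction 𝒳 𝒴 (P := fun w => GrSeg.act k R S X Y (ψ t) w ∈ segSub k 𝒳 𝒴)
      (by simp) (fun w w' h h' => by rw [map_add]; exact add_mem h h')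
      (fun n w hw => ?_) hw
    exact piece_le 𝒳 𝒴 (d + n) (act_mem_segrePiece 𝒜 ℬ 𝒳 𝒴 (hsm 𝒳 𝒜) (hsm 𝒴 ℬ)
      (psi_mem 𝒜 ℬ 𝒯 hT t.2) hw)

/-- The carrier of the Segre product `X # Y`. -/
def Seg (_hT : GrSeg.IsSegreRing 𝒜 ℬ 𝒯 ψ) (𝒳 : ℤ → AddSubgroup X) (𝒴 : ℤ → AddSubgroup Y) :
    Type u := ↥(segSub k 𝒳 𝒴)

instance : AddCommGroup (Seg hT 𝒳 𝒴) := inferInstanceAs (AddCommGroup ↥(segSub k 𝒳 𝒴))

instance segModK : Module k (Seg hT 𝒳 𝒴) := inferInstanceAs (Module k ↥(segSub k 𝒳 𝒴))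

/-- The inclusion into the tensor product. -/
def Seg.incl : Seg hT 𝒳 𝒴 →ₗ[k] X ⊗[k] Y := (segSub k 𝒳 𝒴).subtype

theorem Seg.incl_injective : Function.Injective (Seg.incl hT 𝒳 𝒴) := Subtype.val_injective

theorem Seg.incl_mem (w : Seg hT 𝒳 𝒴) : Seg.incl hT 𝒳 𝒴 w ∈ segSub k 𝒳 𝒴 := w.2

/-- Elements of the Segre part as elements of the Segre product. -/
def Seg.mk (w : X ⊗[k] Y) (hw : w ∈ segSub k 𝒳 𝒴) : Seg hT 𝒳 𝒴 := ⟨w, hw⟩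

@[simp] theorem Seg.incl_mk (w : X ⊗[k] Y) (hw : w ∈ segSub k 𝒳 𝒴) :
    Seg.incl hT 𝒳 𝒴 (Seg.mk hT 𝒳 𝒴 w hw) = w := rfl

theorem Seg.ext {w w' : Seg hT 𝒳 𝒴} (h : Seg.incl hT 𝒳 𝒴 w = Seg.incl hT 𝒳 𝒴 w') : w = w' :=
  Subtype.ext h

noncomputable instance : SMul T (Seg hT 𝒳 𝒴) :=
  ⟨fun t w => ⟨GrSeg.act k R S X Y (ψ t) w.1, act_mem_segSub hT 𝒳 𝒴 t w.2⟩⟩

theorem Seg.incl_smul (t : T) (w : Seg hT 𝒳 𝒴) :
    Seg.incl hT 𝒳 𝒴 (t • w) = GrSeg.act k R S X Y (ψ t) (Seg.incl hT 𝒳 𝒴 w) := rfl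

theorem act_one (w : X ⊗[k] Y) : GrSeg.act k R S X Y 1 w = w := by
  rw [← actHom_eq_act, map_one]
  rfl

theorem act_mul (z z' : R ⊗[k] S) (w : X ⊗[k] Y) :
    GrSeg.act k R S X Y (z * z') w = GrSeg.act k R S X Y z (GrSeg.act k R S X Y z' w) := by
  rw [← actHom_eq_act, ← actHom_eq_act, ← actHom_eq_act, map_mul]
  rfl

noncomputable instance segModT : Module T (Seg hT 𝒳 𝒴) where
  one_smul w := Seg.ext hT 𝒳 𝒴 (by rw [Seg.incl_smul, map_one, act_one])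
  mul_smul a b w := Seg.ext hT 𝒳 𝒴 (by
    rw [Seg.incl_smul, Seg.incl_smul, Seg.incl_smul, map_mul, act_mul])
  smul_zero a := Seg.ext hT 𝒳 𝒴 (by rw [Seg.incl_smul, map_zero, map_zero])
  smul_add a w w' := Seg.ext hT 𝒳 𝒴 (by
    rw [Seg.incl_smul, map_add, map_add, map_add, Seg.incl_smul, Seg.incl_smul])
  add_smul a b w := Seg.ext hT 𝒳 𝒴 (by
    rw [Seg.incl_smul, map_add, map_add, LinearMap.add_apply, map_add, Seg.incl_smul,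
      Seg.incl_smul])
  zero_smul w := Seg.ext hT 𝒳 𝒴 (by
    rw [Seg.incl_smul, map_zero, map_zero, LinearMap.zero_apply, map_zero])

instance : IsScalarTower k T (Seg hT 𝒳 𝒴) where
  smul_assoc c t w := Seg.ext hT 𝒳 𝒴 (by
    rw [Seg.incl_smul, map_smul, map_smul, map_smul, LinearMap.smul_apply, Seg.incl_smul])

/-- The pieces of the Segre product. -/
def segGr (n : ℤ) : AddSubgroup (Seg hT 𝒳 𝒴) :=
  (GrSeg.segrePiece k 𝒳 𝒴 n).toAddSubgroup.comap (Seg.incl hT 𝒳 𝒴).toAddMonoidHom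

theorem mem_segGr {n : ℤ} {w : Seg hT 𝒳 𝒴} :
    w ∈ segGr hT 𝒳 𝒴 n ↔ Seg.incl hT 𝒳 𝒴 w ∈ GrSeg.segrePiece k 𝒳 𝒴 n := Iff.rfl

open Classical in
theorem incl_coe_sum (z : ⨁ n, ↥(segGr hT 𝒳 𝒴 n)) :
    Seg.incl hT 𝒳 𝒴 (DirectSum.coeAddMonoidHom (segGr hT 𝒳 𝒴) z) =
      ∑ n ∈ DFinsupp.support z, Seg.incl hT 𝒳 𝒴 (z n : Seg hT 𝒳 𝒴) := by
  rw [DirectSum.coeAddMonoidHom_eq_dfinsuppSum, DFinsupp.sum, map_sum]

theorem segGr_isInternal : DirectSum.IsInternal (segGr hT 𝒳 𝒴) := by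
  classical
  constructor
  · rw [injective_iff_map_eq_zero]
    intro z hz
    have h1 := congrArg (Seg.incl hT 𝒳 𝒴) hz
    rw [incl_coe_sum, map_zero] at h1
    ext m
    by_cases hm : m ∈ DFinsupp.support z
    · have h2 := congrArg (diagM 𝒜 ℬ 𝒳 𝒴 (hsm 𝒳 𝒜) (hsm 𝒴 ℬ) m) h1
      rw [map_sum, map_zero, Finset.sum_eq_single m] at h2
      · have hzm : Seg.incl hT 𝒳 𝒴 (z m : Seg hT 𝒳 𝒴) ∈ GrSeg.segrePiece k 𝒳 𝒴 m := (z m).2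
        rw [diagM_of_mem 𝒜 ℬ 𝒳 𝒴 (hsm 𝒳 𝒜) (hsm 𝒴 ℬ) hzm] at h2
        have h3 : (z m : Seg hT 𝒳 𝒴) = 0 := Seg.ext hT 𝒳 𝒴 (by rw [h2, map_zero])
        rw [DirectSum.zero_apply]
        exact h3
      · intro n _ hne
        exact diagM_of_mem_ne 𝒳 𝒴 hne (z n).2
      · intro h
        exact absurd hm h
    · rw [DFinsupp.notMem_support_iff] at hm
      rw [hm]
      rfl
  · intro w
    have key : ∀ v : X ⊗[k] Y, v ∈ segSub k 𝒳 𝒴 → ∃ z : ⨁ n, ↥(segGr hT 𝒳 𝒴 n),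
        Seg.incl hT 𝒳 𝒴 (DirectSum.coeAddMonoidHom (segGr hT 𝒳 𝒴) z) = v := by
      intro v hv
      refine segSub_induction 𝒳 𝒴 (P := fun v => ∃ z : ⨁ n, ↥(segGr hT 𝒳 𝒴 n),
        Seg.incl hT 𝒳 𝒴 (DirectSum.coeAddMonoidHom (segGr hT 𝒳 𝒴) z) = v) ?_ ?_ ?_ hv
      · exact ⟨0, by rw [map_zero, map_zero]⟩
      · rintro v v' ⟨z, hz⟩ ⟨z', hz'⟩
        exact ⟨z + z', by rw [map_add, map_add, hz, hz']⟩
      · intro n v hvn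
        exact ⟨DirectSum.of (fun n => ↥(segGr hT 𝒳 𝒴 n)) n
          ⟨Seg.mk hT 𝒳 𝒴 v (piece_le 𝒳 𝒴 n hvn), hvn⟩, by
          rw [DirectSum.coeAddMonoidHom_of]; rfl⟩
    obtain ⟨z, hz⟩ := key w.1 w.2
    exact ⟨z, Seg.ext hT 𝒳 𝒴 hz⟩

theorem segGradedSMul : SetLike.GradedSMul (agr 𝒯) (segGr hT 𝒳 𝒴) :=
  ⟨fun {d n t w} ht hw => by
    change Seg.incl hT 𝒳 𝒴 (t • w) ∈ GrSeg.segrePiece k 𝒳 𝒴 (d + n)
    rw [Seg.incl_smul]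
    exact act_mem_segrePiece 𝒜 ℬ 𝒳 𝒴 (hsm 𝒳 𝒜) (hsm 𝒴 ℬ) (psi_mem 𝒜 ℬ 𝒯 hT ht) hw⟩

/-- The Segre product as a bundled graded module over the Segre ring. -/
noncomputable def seg : GMod.{u} (agr 𝒯) :=
  { carrier := Seg hT 𝒳 𝒴
    gr := segGr hT 𝒳 𝒴
    dec := (segGr_isInternal hT 𝒳 𝒴).chooseDecomposition
    gsmul := segGradedSMul hT 𝒳 𝒴 }

/-- An element of a piece, as an element of the Segre product. -/
def Seg.ofPiece {n : ℤ} (w : X ⊗[k] Y) (hw : w ∈ GrSeg.segrePiece k 𝒳 𝒴 n) : Seg hT 𝒳 𝒴 :=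
  Seg.mk hT 𝒳 𝒴 w (piece_le 𝒳 𝒴 n hw)

theorem Seg.ofPiece_mem {n : ℤ} (w : X ⊗[k] Y) (hw : w ∈ GrSeg.segrePiece k 𝒳 𝒴 n) :
    Seg.ofPiece hT 𝒳 𝒴 w hw ∈ segGr hT 𝒳 𝒴 n := hw

/-- Induction principle for the Segre product. -/
theorem Seg.induction {P : Seg hT 𝒳 𝒴 → Prop} (h0 : P 0)
    (hadd : ∀ w w', P w → P w' → P (w + w'))
    (hp : ∀ (n : ℤ) (w : Seg hT 𝒳 𝒴), w ∈ segGr hT 𝒳 𝒴 n → P w) (w : Seg hT 𝒳 𝒴) : P w := by
  classical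
  letI := (segGr_isInternal hT 𝒳 𝒴).chooseDecomposition
  induction w using DirectSum.Decomposition.inductionOn (segGr hT 𝒳 𝒴) with
  | zero => exact h0
  | homogeneous w => exact hp _ w w.2
  | add w w' h h' => exact hadd w w' h h'

end Mod

end Groth.Agent.Lib.Helper8.GrSegA
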