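import Groth.Agent.Lib.Helper8.GrSegA

/-!
# Functoriality and exactness of the Segre product of graded modules
-/

set_option autoImplicit false
set_option linter.unusedSectionVars false
universe u

open DirectSum GrLC TensorProduct
open Groth.Agent.Lib.Helper30 Groth.Agent.Lib.Helper8.GrLCSub
open Groth.Agent.Lib.Helper93.Segre Groth.Agent.Lib.Helper93.SegreAct
open Groth.Agent.Lib.Helper8.GrSegA

namespace Groth.Agent.Lib.Helper8.GrSegB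

section Gen

variable {A : Type u} [CommRing A] {M N P : Type u} [AddCommGroup M] [Module A M]
  [AddCommGroup N] [Module A N] [AddCommGroup P] [Module A P]
  {ℳ : ℤ → AddSubgroup M} {𝒩 : ℤ → AddSubgroup N} {𝒵 : ℤ → AddSubgroup P}

theorem isGrHom_id : IsGrHom ℳ ℳ (LinearMap.id : M →ₗ[A] M) := fun _ _ h => h

theorem isGrHom_comp {f : M →ₗ[A] N} (hf : IsGrHom ℳ 𝒩 f) {g : N →ₗ[A] P}
    (hg : IsGrHom 𝒩 𝒵 g) : IsGrHom ℳ 𝒵 (g ∘ₗ f) := fun n x hx => hg n _ (hf n x hx)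

theorem isGrHom_zero : IsGrHom ℳ 𝒩 (0 : M →ₗ[A] N) := fun n _ _ => zero_mem _

end Gen

section Map

variable {k : Type u} [Field k] {R S T : Type u} [CommRing R] [CommRing S] [CommRing T]
  [Algebra k R] [Algebra k S] [Algebra k T]
  {𝒜 : ℤ → Submodule k R} [GradedAlgebra 𝒜] {ℬ : ℤ → Submodule k S} [GradedAlgebra ℬ]
  {𝒯 : ℤ → Submodule k T} [GradedAlgebra 𝒯] {ψ : T →ₐ[k] R ⊗[k] S}
  (hT : GrSeg.IsSegreRing 𝒜 ℬ 𝒯 ψ)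
variable {X : Type u} [AddCommGroup X] [Module R X] [Module k X] [IsScalarTower k R X]
  (𝒳 : ℤ → AddSubgroup X) [DirectSum.Decomposition 𝒳] [SetLike.GradedSMul 𝒜 𝒳]
variable {X' : Type u} [AddCommGroup X'] [Module R X'] [Module k X'] [IsScalarTower k R X']
  (𝒳' : ℤ → AddSubgroup X') [DirectSum.Decomposition 𝒳'] [SetLike.GradedSMul 𝒜 𝒳']
variable {Y : Type u} [AddCommGroup Y] [Module S Y] [Module k Y] [IsScalarTower k S Y]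
  (𝒴 : ℤ → AddSubgroup Y) [DirectSum.Decomposition 𝒴] [SetLike.GradedSMul ℬ 𝒴]
variable {Y' : Type u} [AddCommGroup Y'] [Module S Y'] [Module k Y'] [IsScalarTower k S Y']
  (𝒴' : ℤ → AddSubgroup Y') [DirectSum.Decomposition 𝒴'] [SetLike.GradedSMul ℬ 𝒴']

variable (k) in
/-- The tensor product of an `R`-linear and an `S`-linear map, as a `k`-linear map. -/
noncomputable def tmap (f : X →ₗ[R] X') (g : Y →ₗ[S] Y') : X ⊗[k] Y →ₗ[k] X' ⊗[k] Y' :=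
  TensorProduct.map (f.restrictScalars k) (g.restrictScalars k)

@[simp] theorem tmap_tmul (f : X →ₗ[R] X') (g : Y →ₗ[S] Y') (x : X) (y : Y) :
    tmap k f g (x ⊗ₜ[k] y) = f x ⊗ₜ[k] g y := rfl

theorem tmap_act (f : X →ₗ[R] X') (g : Y →ₗ[S] Y') (z : R ⊗[k] S) (w : X ⊗[k] Y) :
    tmap k f g (GrSeg.act k R S X Y z w) = GrSeg.act k R S X' Y' z (tmap k f g w) := by
  induction z using TensorProduct.induction_on with
  | zero => simp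
  | add z z' h h' =>
    rw [map_add, LinearMap.add_apply, map_add, h, h', map_add, LinearMap.add_apply]
  | tmul r s =>
    induction w using TensorProduct.induction_on with
    | zero => simp
    | add w w' h h' => rw [map_add, map_add, h, h', map_add, map_add]
    | tmul x y =>
      rw [GrSeg.act_tmul, tmap_tmul, tmap_tmul, GrSeg.act_tmul, map_smul, map_smul]

variable {𝒳 𝒳' 𝒴 𝒴'}

theorem tmap_mem_piece {f : X →ₗ[R] X'} (hf : IsGrHom 𝒳 𝒳' f) {g : Y →ₗ[S] Y'}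
    (hg : IsGrHom 𝒴 𝒴' g) {n : ℤ} {w : X ⊗[k] Y} (hw : w ∈ GrSeg.segrePiece k 𝒳 𝒴 n) :
    tmap k f g w ∈ GrSeg.segrePiece k 𝒳' 𝒴' n := by
  refine piece_induction 𝒳 𝒴 (P := fun w => tmap k f g w ∈ GrSeg.segrePiece k 𝒳' 𝒴' n)
    (by simp) (fun w w' h h' => by rw [map_add]; exact add_mem h h')
    (fun c w h => by rw [map_smul]; exact Submodule.smul_mem _ _ h) (fun x hx y hy => ?_) hw
  rw [tmap_tmul]
  exact tmul_mem_piece 𝒳' 𝒴' (hf n x hx) (hg n y hy)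

theorem tmap_mem_segSub {f : X →ₗ[R] X'} (hf : IsGrHom 𝒳 𝒳' f) {g : Y →ₗ[S] Y'}
    (hg : IsGrHom 𝒴 𝒴' g) {w : X ⊗[k] Y} (hw : w ∈ segSub k 𝒳 𝒴) :
    tmap k f g w ∈ segSub k 𝒳' 𝒴' := by
  refine segSub_induction 𝒳 𝒴 (P := fun w => tmap k f g w ∈ segSub k 𝒳' 𝒴')
    (by simp) (fun w w' h h' => by rw [map_add]; exact add_mem h h')
    (fun n w hw => piece_le 𝒳' 𝒴' n (tmap_mem_piece hf hg hw)) hw

/-- The Segre product of two homogeneous maps. -/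
noncomputable def segMap {f : X →ₗ[R] X'} (hf : IsGrHom 𝒳 𝒳' f) {g : Y →ₗ[S] Y'}
    (hg : IsGrHom 𝒴 𝒴' g) : Seg hT 𝒳 𝒴 →ₗ[T] Seg hT 𝒳' 𝒴' where
  toFun w := Seg.mk hT 𝒳' 𝒴' (tmap k f g (Seg.incl hT 𝒳 𝒴 w))
    (tmap_mem_segSub hf hg (Seg.incl_mem hT 𝒳 𝒴 w))
  map_add' w w' := Seg.ext hT 𝒳' 𝒴' (by
    change tmap k f g (Seg.incl hT 𝒳 𝒴 (w + w')) =
      tmap k f g (Seg.incl hT 𝒳 𝒴 w) + tmap k f g (Seg.incl hT 𝒳 𝒴 w')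
    rw [map_add, map_add])
  map_smul' t w := Seg.ext hT 𝒳' 𝒴' (by
    change tmap k f g (Seg.incl hT 𝒳 𝒴 (t • w)) =
      Seg.incl hT 𝒳' 𝒴' (t • Seg.mk hT 𝒳' 𝒴' (tmap k f g (Seg.incl hT 𝒳 𝒴 w))
        (tmap_mem_segSub hf hg (Seg.incl_mem hT 𝒳 𝒴 w)))
    rw [Seg.incl_smul, Seg.incl_smul, tmap_act]
    rfl)

theorem incl_segMap {f : X →ₗ[R] X'} (hf : IsGrHom 𝒳 𝒳' f) {g : Y →ₗ[S] Y'}
    (hg : IsGrHom 𝒴 𝒴' g) (w : Seg hT 𝒳 𝒴) :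
    Seg.incl hT 𝒳' 𝒴' (segMap hT hf hg w) = tmap k f g (Seg.incl hT 𝒳 𝒴 w) := rfl

theorem segMap_grHom {f : X →ₗ[R] X'} (hf : IsGrHom 𝒳 𝒳' f) {g : Y →ₗ[S] Y'}
    (hg : IsGrHom 𝒴 𝒴' g) :
    IsGrHom (segGr hT 𝒳 𝒴) (segGr hT 𝒳' 𝒴') (segMap hT hf hg) := by
  intro n w hw
  exact tmap_mem_piece hf hg hw

include 𝒜 ℬ in
theorem diagM_tmap {f : X →ₗ[R] X'} (hf : IsGrHom 𝒳 𝒳' f) {g : Y →ₗ[S] Y'}
    (hg : IsGrHom 𝒴 𝒴' g) (n : ℤ) (w : X ⊗[k] Y) :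
    diagM 𝒜 ℬ 𝒳' 𝒴' (hsm 𝒳' 𝒜) (hsm 𝒴' ℬ) n (tmap k f g w) =
      tmap k f g (diagM 𝒜 ℬ 𝒳 𝒴 (hsm 𝒳 𝒜) (hsm 𝒴 ℬ) n w) := by
  induction w using TensorProduct.induction_on with
  | zero => simp
  | add w w' h h' => rw [map_add, map_add, h, h', map_add, map_add]
  | tmul x y =>
    rw [tmap_tmul, diagM, TensorProduct.map_tmul, diagM, TensorProduct.map_tmul, tmap_tmul,
      projL_apply, projL_apply, projL_apply, projL_apply,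
      decompose_map_of_isGrHom 𝒳 𝒳' f hf, decompose_map_of_isGrHom 𝒴 𝒴' g hg]

end Map

section Exact

variable {k : Type u} [Field k] {R S T : Type u} [CommRing R] [CommRing S] [CommRing T]
  [Algebra k R] [Algebra k S] [Algebra k T]
  {𝒜 : ℤ → Submodule k R} [GradedAlgebra 𝒜] {ℬ : ℤ → Submodule k S} [GradedAlgebra ℬ]
  {𝒯 : ℤ → Submodule k T} [GradedAlgebra 𝒯] {ψ : T →ₐ[k] R ⊗[k] S}
  (hT : GrSeg.IsSegreRing 𝒜 ℬ 𝒯 ψ)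
variable {X : Type u} [AddCommGroup X] [Module R X] [Module k X] [IsScalarTower k R X]
  {𝒳 : ℤ → AddSubgroup X} [DirectSum.Decomposition 𝒳] [SetLike.GradedSMul 𝒜 𝒳]
variable {X' : Type u} [AddCommGroup X'] [Module R X'] [Module k X'] [IsScalarTower k R X']
  {𝒳' : ℤ → AddSubgroup X'} [DirectSum.Decomposition 𝒳'] [SetLike.GradedSMul 𝒜 𝒳']
variable {X'' : Type u} [AddCommGroup X''] [Module R X''] [Module k X''] [IsScalarTower k R X'']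
  {𝒳'' : ℤ → AddSubgroup X''} [DirectSum.Decomposition 𝒳''] [SetLike.GradedSMul 𝒜 𝒳'']
variable {Y : Type u} [AddCommGroup Y] [Module S Y] [Module k Y] [IsScalarTower k S Y]
  {𝒴 : ℤ → AddSubgroup Y} [DirectSum.Decomposition 𝒴] [SetLike.GradedSMul ℬ 𝒴]
variable {Y' : Type u} [AddCommGroup Y'] [Module S Y'] [Module k Y'] [IsScalarTower k S Y']
  {𝒴' : ℤ → AddSubgroup Y'} [DirectSum.Decomposition 𝒴'] [SetLike.GradedSMul ℬ 𝒴']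
variable {Y'' : Type u} [AddCommGroup Y''] [Module S Y''] [Module k Y''] [IsScalarTower k S Y'']
  {𝒴'' : ℤ → AddSubgroup Y''} [DirectSum.Decomposition 𝒴''] [SetLike.GradedSMul ℬ 𝒴'']

include 𝒜 ℬ in
theorem exact_left_piece {f : X' →ₗ[R] X} (hf : IsGrHom 𝒳' 𝒳 f) {g : X →ₗ[R] X''}
    (hg : IsGrHom 𝒳 𝒳'' g) (hex : ∀ x, g x = 0 → ∃ x', f x' = x) (hgf : ∀ x', g (f x') = 0)
    {n : ℤ} {w : X ⊗[k] Y} (hw : w ∈ GrSeg.segrePiece k 𝒳 𝒴 n)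
    (h0 : tmap k g (LinearMap.id : Y →ₗ[S] Y) w = 0) :
    ∃ w' ∈ GrSeg.segrePiece k 𝒳' 𝒴 n, tmap k f (LinearMap.id : Y →ₗ[S] Y) w' = w := by
  have hE : Function.Exact (f.restrictScalars k) (g.restrictScalars k) := by
    intro x
    constructor
    · intro h
      obtain ⟨x', hx'⟩ := hex x h
      exact ⟨x', hx'⟩
    · rintro ⟨x', rfl⟩
      exact hgf x'
  have h1 := Module.Flat.rTensor_exact Y hE
  obtain ⟨v, hv⟩ := (h1 w).mp h0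
  have hv' : tmap k f (LinearMap.id : Y →ₗ[S] Y) v = w := hv
  refine ⟨diagM 𝒜 ℬ 𝒳' 𝒴 (hsm 𝒳' 𝒜) (hsm 𝒴 ℬ) n v, diagM_mem 𝒳' 𝒴 n v, ?_⟩
  rw [← diagM_tmap hf isGrHom_id, hv', diagM_of_mem 𝒜 ℬ 𝒳 𝒴 (hsm 𝒳 𝒜) (hsm 𝒴 ℬ) hw]

include 𝒜 ℬ in
theorem exact_right_piece {f : Y' →ₗ[S] Y} (hf : IsGrHom 𝒴' 𝒴 f) {g : Y →ₗ[S] Y''}
    (hg : IsGrHom 𝒴 𝒴'' g) (hex : ∀ y, g y = 0 → ∃ y', f y' = y) (hgf : ∀ y', g (f y') = 0)
    {n : ℤ} {w : X ⊗[k] Y} (hw : w ∈ GrSeg.segrePiece k 𝒳 𝒴 n)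
    (h0 : tmap k (LinearMap.id : X →ₗ[R] X) g w = 0) :
    ∃ w' ∈ GrSeg.segrePiece k 𝒳 𝒴' n, tmap k (LinearMap.id : X →ₗ[R] X) f w' = w := by
  have hE : Function.Exact (f.restrictScalars k) (g.restrictScalars k) := by
    intro x
    constructor
    · intro h
      obtain ⟨x', hx'⟩ := hex x h
      exact ⟨x', hx'⟩
    · rintro ⟨x', rfl⟩
      exact hgf x'
  have h1 := Module.Flat.lTensor_exact X hE
  obtain ⟨v, hv⟩ := (h1 w).mp h0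
  have hv' : tmap k (LinearMap.id : X →ₗ[R] X) f v = w := hv
  refine ⟨diagM 𝒜 ℬ 𝒳 𝒴' (hsm 𝒳 𝒜) (hsm 𝒴' ℬ) n v, diagM_mem 𝒳 𝒴' n v, ?_⟩
  rw [← diagM_tmap isGrHom_id hf, hv', diagM_of_mem 𝒜 ℬ 𝒳 𝒴 (hsm 𝒳 𝒜) (hsm 𝒴 ℬ) hw]

/-- Exactness of the Segre product in the first variable. -/
theorem segMap_exact_left {f : X' →ₗ[R] X} (hf : IsGrHom 𝒳' 𝒳 f) {g : X →ₗ[R] X''}
    (hg : IsGrHom 𝒳 𝒳'' g) (hex : ∀ x, g x = 0 → ∃ x', f x' = x) (hgf : ∀ x', g (f x') = 0)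
    (w : Seg hT 𝒳 𝒴) (h0 : segMap hT hg (isGrHom_id (ℳ := 𝒴)) w = 0) :
    ∃ w' : Seg hT 𝒳' 𝒴, segMap hT hf (isGrHom_id (ℳ := 𝒴)) w' = w := by
  classical
  letI := (segGr_isInternal hT 𝒳 𝒴).chooseDecomposition
  letI := (segGr_isInternal hT 𝒳'' 𝒴).chooseDecomposition
  have hker := ker_isHomogeneous (segGr hT 𝒳 𝒴) (segGr hT 𝒳'' 𝒴)
    (segMap hT hg (isGrHom_id (ℳ := 𝒴))) (segMap_grHom hT hg isGrHom_id)
  have hwk : w ∈ LinearMap.ker (segMap hT hg (isGrHom_id (ℳ := 𝒴))) := h0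
  have hcomp : ∀ n, (decompose (segGr hT 𝒳 𝒴) w n : Seg hT 𝒳 𝒴) ∈
      LinearMap.range (segMap hT hf (isGrHom_id (ℳ := 𝒴))) := by
    intro n
    have h1 := hker n hwk
    have h2 : tmap k g (LinearMap.id : Y →ₗ[S] Y)
        (Seg.incl hT 𝒳 𝒴 (decompose (segGr hT 𝒳 𝒴) w n : Seg hT 𝒳 𝒴)) = 0 := by
      have := congrArg (Seg.incl hT 𝒳'' 𝒴) (LinearMap.mem_ker.mp h1)
      rw [incl_segMap, map_zero] at this
      exact this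
    obtain ⟨v, hv, hfv⟩ := exact_left_piece (𝒜 := 𝒜) (ℬ := ℬ) hf hg hex hgf
      (decompose (segGr hT 𝒳 𝒴) w n).2 h2
    exact LinearMap.mem_range.mpr ⟨(Seg.ofPiece hT 𝒳' 𝒴 v hv : Seg hT 𝒳' 𝒴), Seg.ext hT 𝒳 𝒴 hfv⟩
  have hsum : w ∈ LinearMap.range (segMap hT hf (isGrHom_id (ℳ := 𝒴))) := by
    rw [← DirectSum.sum_support_decompose (segGr hT 𝒳 𝒴) w]
    exact Submodule.sum_mem _ (fun n _ => hcomp n)
  exact hsum

/-- Exactness of the Segre product in the second variable. -/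
theorem segMap_exact_right {f : Y' →ₗ[S] Y} (hf : IsGrHom 𝒴' 𝒴 f) {g : Y →ₗ[S] Y''}
    (hg : IsGrHom 𝒴 𝒴'' g) (hex : ∀ y, g y = 0 → ∃ y', f y' = y) (hgf : ∀ y', g (f y') = 0)
    (w : Seg hT 𝒳 𝒴) (h0 : segMap hT (isGrHom_id (ℳ := 𝒳)) hg w = 0) :
    ∃ w' : Seg hT 𝒳 𝒴', segMap hT (isGrHom_id (ℳ := 𝒳)) hf w' = w := by
  classical
  letI := (segGr_isInternal hT 𝒳 𝒴).chooseDecomposition
  letI := (segGr_isInternal hT 𝒳 𝒴'').chooseDecomposition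
  have hker := ker_isHomogeneous (segGr hT 𝒳 𝒴) (segGr hT 𝒳 𝒴'')
    (segMap hT (isGrHom_id (ℳ := 𝒳)) hg) (segMap_grHom hT isGrHom_id hg)
  have hwk : w ∈ LinearMap.ker (segMap hT (isGrHom_id (ℳ := 𝒳)) hg) := h0
  have hcomp : ∀ n, (decompose (segGr hT 𝒳 𝒴) w n : Seg hT 𝒳 𝒴) ∈
      LinearMap.range (segMap hT (isGrHom_id (ℳ := 𝒳)) hf) := by
    intro n
    have h1 := hker n hwk
    have h2 : tmap k (LinearMap.id : X →ₗ[R] X) g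
        (Seg.incl hT 𝒳 𝒴 (decompose (segGr hT 𝒳 𝒴) w n : Seg hT 𝒳 𝒴)) = 0 := by
      have := congrArg (Seg.incl hT 𝒳 𝒴'') (LinearMap.mem_ker.mp h1)
      rw [incl_segMap, map_zero] at this
      exact this
    obtain ⟨v, hv, hfv⟩ := exact_right_piece (𝒜 := 𝒜) (ℬ := ℬ) hf hg hex hgf
      (decompose (segGr hT 𝒳 𝒴) w n).2 h2
    exact LinearMap.mem_range.mpr ⟨(Seg.ofPiece hT 𝒳 𝒴' v hv : Seg hT 𝒳 𝒴'), Seg.ext hT 𝒳 𝒴 hfv⟩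
  have hsum : w ∈ LinearMap.range (segMap hT (isGrHom_id (ℳ := 𝒳)) hf) := by
    rw [← DirectSum.sum_support_decompose (segGr hT 𝒳 𝒴) w]
    exact Submodule.sum_mem _ (fun n _ => hcomp n)
  exact hsum

theorem segMap_injective {f : X →ₗ[R] X'} (hf : IsGrHom 𝒳 𝒳' f) {g : Y →ₗ[S] Y'}
    (hg : IsGrHom 𝒴 𝒴' g) (hfi : Function.Injective f) (hgi : Function.Injective g) :
    Function.Injective (segMap hT hf hg) := by
  intro w w' h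
  apply Seg.ext hT 𝒳 𝒴
  have h1 := congrArg (Seg.incl hT 𝒳' 𝒴') h
  rw [incl_segMap, incl_segMap] at h1
  exact TensorProduct.map_injective_of_flat_flat (f.restrictScalars k) (g.restrictScalars k)
    hfi hgi h1

theorem segMap_surjective {f : X →ₗ[R] X'} (hf : IsGrHom 𝒳 𝒳' f) {g : Y →ₗ[S] Y'}
    (hg : IsGrHom 𝒴 𝒴' g) (hfs : Function.Surjective f) (hgs : Function.Surjective g) :
    Function.Surjective (segMap hT hf hg) := by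
  classical
  intro w
  have key : ∀ v : X' ⊗[k] Y', v ∈ segSub k 𝒳' 𝒴' →
      ∃ u : Seg hT 𝒳 𝒴, tmap k f g (Seg.incl hT 𝒳 𝒴 u) = v := by
    intro v hv
    refine segSub_induction 𝒳' 𝒴' (P := fun v => ∃ u : Seg hT 𝒳 𝒴,
      tmap k f g (Seg.incl hT 𝒳 𝒴 u) = v) ⟨0, by simp⟩ ?_ ?_ hv
    · rintro v v' ⟨u, hu⟩ ⟨u', hu'⟩
      exact ⟨u + u', by rw [map_add, map_add, hu, hu']⟩
    · intro n v hvn
      refine piece_induction 𝒳' 𝒴' (P := fun v => ∃ u : Seg hT 𝒳 𝒴,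
        tmap k f g (Seg.incl hT 𝒳 𝒴 u) = v) ⟨0, by simp⟩ ?_ ?_ ?_ hvn
      · rintro v v' ⟨u, hu⟩ ⟨u', hu'⟩
        exact ⟨u + u', by rw [map_add, map_add, hu, hu']⟩
      · rintro c v ⟨u, hu⟩
        exact ⟨c • u, by rw [map_smul, map_smul, hu]⟩
      · intro x' hx' y' hy'
        obtain ⟨x, rfl⟩ := hfs x'
        obtain ⟨y, rfl⟩ := hgs y'
        refine ⟨Seg.ofPiece hT 𝒳 𝒴 ((decompose 𝒳 x n : X) ⊗ₜ[k] (decompose 𝒴 y n : Y))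
          (tmul_mem_piece 𝒳 𝒴 (SetLike.coe_mem _) (SetLike.coe_mem _)), ?_⟩
        change tmap k f g ((decompose 𝒳 x n : X) ⊗ₜ[k] (decompose 𝒴 y n : Y)) = _
        rw [tmap_tmul, decompose_map_of_isGrHom 𝒳 𝒳' f hf, decompose_map_of_isGrHom 𝒴 𝒴' g hg,
          decompose_of_mem_same 𝒳' hx', decompose_of_mem_same 𝒴' hy']
  obtain ⟨u, hu⟩ := key (Seg.incl hT 𝒳' 𝒴' w) (Seg.incl_mem hT 𝒳' 𝒴' w)
  exact ⟨u, Seg.ext hT 𝒳' 𝒴' hu⟩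

theorem segMap_comp_apply {f : X →ₗ[R] X'} (hf : IsGrHom 𝒳 𝒳' f) {g : Y →ₗ[S] Y'}
    (hg : IsGrHom 𝒴 𝒴' g) {f' : X' →ₗ[R] X''} (hf' : IsGrHom 𝒳' 𝒳'' f') {g' : Y' →ₗ[S] Y''}
    (hg' : IsGrHom 𝒴' 𝒴'' g') (w : Seg hT 𝒳 𝒴) :
    segMap hT hf' hg' (segMap hT hf hg w) =
      segMap hT (isGrHom_comp hf hf') (isGrHom_comp hg hg') w := by
  apply Seg.ext hT 𝒳'' 𝒴''
  change tmap k f' g' (tmap k f g (Seg.incl hT 𝒳 𝒴 w)) =
    tmap k (f' ∘ₗ f) (g' ∘ₗ g) (Seg.incl hT 𝒳 𝒴 w)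
  generalize Seg.incl hT 𝒳 𝒴 w = v
  induction v using TensorProduct.induction_on with
  | zero => simp
  | add v v' h h' => rw [map_add, map_add, map_add, h, h']
  | tmul x y => rfl

theorem segMap_zero_left {g : Y →ₗ[S] Y'} (hg : IsGrHom 𝒴 𝒴' g) (w : Seg hT 𝒳 𝒴) :
    segMap hT (isGrHom_zero (ℳ := 𝒳) (𝒩 := 𝒳')) hg w = 0 := by
  apply Seg.ext hT 𝒳' 𝒴'
  change tmap k (0 : X →ₗ[R] X') g (Seg.incl hT 𝒳 𝒴 w) = 0
  generalize Seg.incl hT 𝒳 𝒴 w = v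
  induction v using TensorProduct.induction_on with
  | zero => simp
  | add v v' h h' => rw [map_add, h, h', add_zero]
  | tmul x y => rw [tmap_tmul, LinearMap.zero_apply, TensorProduct.zero_tmul]

theorem segMap_zero_right {f : X →ₗ[R] X'} (hf : IsGrHom 𝒳 𝒳' f) (w : Seg hT 𝒳 𝒴) :
    segMap hT hf (isGrHom_zero (ℳ := 𝒴) (𝒩 := 𝒴')) w = 0 := by
  apply Seg.ext hT 𝒳' 𝒴'
  change tmap k f (0 : Y →ₗ[S] Y') (Seg.incl hT 𝒳 𝒴 w) = 0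
  generalize Seg.incl hT 𝒳 𝒴 w = v
  induction v using TensorProduct.induction_on with
  | zero => simp
  | add v v' h h' => rw [map_add, h, h', add_zero]
  | tmul x y => rw [tmap_tmul, LinearMap.zero_apply, TensorProduct.tmul_zero]

theorem segMap_congr {f f' : X →ₗ[R] X'} (hf : IsGrHom 𝒳 𝒳' f) (hf' : IsGrHom 𝒳 𝒳' f')
    {g g' : Y →ₗ[S] Y'} (hg : IsGrHom 𝒴 𝒴' g) (hg' : IsGrHom 𝒴 𝒴' g')
    (e : f = f') (e' : g = g') (w : Seg hT 𝒳 𝒴) : segMap hT hf hg w = segMap hT hf' hg' w := by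
  subst e e'
  rfl

theorem segMap_id (w : Seg hT 𝒳 𝒴) :
    segMap hT (isGrHom_id (ℳ := 𝒳)) (isGrHom_id (ℳ := 𝒴)) w = w := by
  apply Seg.ext hT 𝒳 𝒴
  change tmap k (LinearMap.id : X →ₗ[R] X) (LinearMap.id : Y →ₗ[S] Y) (Seg.incl hT 𝒳 𝒴 w) = _
  generalize Seg.incl hT 𝒳 𝒴 w = v
  induction v using TensorProduct.induction_on with
  | zero => simp
  | add v v' h h' => rw [map_add, h, h']
  | tmul x y => rfl

end Exact

end Groth.Agent.Lib.Helper8.GrSegB
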