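import Groth.Agent.Lib.Helper8.GrSegB
import Groth.Agent.Lib.Helper8.GrLCBij
import Groth.Agent.Lib.Helper8.GrLCInd
import Groth.Agent.Lib.Helper8.GrInjComp

/-!
# Segre products: bijective elements, torsion, coordinates
-/

set_option autoImplicit false
set_option linter.unusedSectionVars false
universe u

open DirectSum GrLC TensorProduct
open Groth.Agent.Lib.Helper30 Groth.Agent.Lib.Helper8.GrLCSub
open Groth.Agent.Lib.Helper8.GrLCLES
open Groth.Agent.Lib.Helper93.Segre Groth.Agent.Lib.Helper93.SegreAct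
open Groth.Agent.Lib.Helper8.GrSegA Groth.Agent.Lib.Helper8.GrSegB

namespace Groth.Agent.Lib.Helper8.GrSegC

section Inst

variable {k : Type u} [Field k] {R : Type u} [CommRing R] [Algebra k R]
  {𝒜 : ℤ → Submodule k R} [GradedAlgebra 𝒜]

/-- The `k`-module structure of a graded module over a graded `k`-algebra. -/
noncomputable instance gmodK (X : GMod.{u} (agr 𝒜)) : Module k X.carrier :=
  Module.compHom X.carrier (algebraMap k R)

instance gmodTower (X : GMod.{u} (agr 𝒜)) : IsScalarTower k R X.carrier :=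
  ⟨fun c r x => by
    change (c • r) • x = algebraMap k R c • (r • x)
    rw [← mul_smul, Algebra.smul_def]⟩

instance gmodGSMul (X : GMod.{u} (agr 𝒜)) : SetLike.GradedSMul 𝒜 X.gr :=
  ⟨fun {_ _ _ _} ha hx => SetLike.GradedSMul.smul_mem (A := agr 𝒜) (B := X.gr) ha hx⟩

end Inst

section Bij

variable {k : Type u} [Field k] {R S T : Type u} [CommRing R] [CommRing S] [CommRing T]
  [Algebra k R] [Algebra k S] [Algebra k T]
  {𝒜 : ℤ → Submodule k R} [GradedAlgebra 𝒜] {ℬ : ℤ → Submodule k S} [GradedAlgebra ℬ]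
  {𝒯 : ℤ → Submodule k T} [GradedAlgebra 𝒯] {ψ : T →ₐ[k] R ⊗[k] S}
  (hT : GrSeg.IsSegreRing 𝒜 ℬ 𝒯 ψ)
variable {X : Type u} [AddCommGroup X] [Module R X] [Module k X] [IsScalarTower k R X]
  (𝒳 : ℤ → AddSubgroup X) [DirectSum.Decomposition 𝒳] [SetLike.GradedSMul 𝒜 𝒳]
variable {Y : Type u} [AddCommGroup Y] [Module S Y] [Module k Y] [IsScalarTower k S Y]
  (𝒴 : ℤ → AddSubgroup Y) [DirectSum.Decomposition 𝒴] [SetLike.GradedSMul ℬ 𝒴]

omit [DirectSum.Decomposition 𝒳] [SetLike.GradedSMul 𝒜 𝒳] [DirectSum.Decomposition 𝒴]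
  [SetLike.GradedSMul ℬ 𝒴] [GradedAlgebra 𝒜] [GradedAlgebra ℬ] in
theorem act_tmul_bijective {a : R} {b : S} (ha : Function.Bijective (fun x : X => a • x))
    (hb : Function.Bijective (fun y : Y => b • y)) :
    Function.Bijective (GrSeg.act k R S X Y (a ⊗ₜ[k] b)) := by
  have ha' : Function.Bijective (Algebra.lsmul k k X a) := ha
  have hb' : Function.Bijective (Algebra.lsmul k k Y b) := hb
  let ea : X ≃ₗ[k] X := LinearEquiv.ofBijective (Algebra.lsmul k k X a) ha'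
  let eb : Y ≃ₗ[k] Y := LinearEquiv.ofBijective (Algebra.lsmul k k Y b) hb'
  have h1 : GrSeg.act k R S X Y (a ⊗ₜ[k] b) = (TensorProduct.congr ea eb).toLinearMap := by
    apply TensorProduct.ext'
    intro x y
    rw [GrSeg.act_tmul]
    rfl
  rw [h1]
  exact (TensorProduct.congr ea eb).bijective

include hT in
theorem smul_bijective_seg {d : ℤ} {a : R} (ha : a ∈ 𝒜 d) {b : S} (hb : b ∈ ℬ d) {t : T}
    (ht : ψ t = a ⊗ₜ[k] b) (hab : Function.Bijective (fun x : X => a • x))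
    (hbb : Function.Bijective (fun y : Y => b • y)) :
    Function.Bijective (fun w : Seg hT 𝒳 𝒴 => t • w) := by
  have hact := act_tmul_bijective (k := k) (X := X) (Y := Y) hab hbb
  constructor
  · intro w w' h
    apply Seg.ext hT 𝒳 𝒴
    have h1 := congrArg (Seg.incl hT 𝒳 𝒴) h
    simp only [Seg.incl_smul, ht] at h1
    exact hact.1 h1
  · intro w
    refine Seg.induction hT 𝒳 𝒴 (P := fun w => ∃ u : Seg hT 𝒳 𝒴, t • u = w) ?_ ?_ ?_ w
    · exact ⟨0, smul_zero t⟩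
    · rintro w w' ⟨u, hu⟩ ⟨u', hu'⟩
      exact ⟨u + u', by rw [smul_add, hu, hu']⟩
    · intro n w hw
      have key : ∃ v ∈ GrSeg.segrePiece k 𝒳 𝒴 (n - d),
          GrSeg.act k R S X Y (a ⊗ₜ[k] b) v = Seg.incl hT 𝒳 𝒴 w := by
        refine piece_induction 𝒳 𝒴 (n := n) (P := fun w' => ∃ v ∈ GrSeg.segrePiece k 𝒳 𝒴 (n - d),
          GrSeg.act k R S X Y (a ⊗ₜ[k] b) v = w') ?_ ?_ ?_ ?_ hw
        · exact ⟨0, zero_mem _, map_zero _⟩
        · rintro w₁ w₂ ⟨v₁, h₁, e₁⟩ ⟨v₂, h₂, e₂⟩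
          exact ⟨v₁ + v₂, add_mem h₁ h₂, by rw [map_add, e₁, e₂]⟩
        · rintro c w₁ ⟨v₁, h₁, e₁⟩
          exact ⟨c • v₁, Submodule.smul_mem _ _ h₁, by rw [map_smul, e₁]⟩
        · intro x hx y hy
          obtain ⟨x', hx'⟩ := hab.2 x
          obtain ⟨y', hy'⟩ := hbb.2 y
          have hx'' : a • x' = x := hx'
          have hy'' : b • y' = y := hy'
          have h1 : x' ∈ 𝒳 (n - d) := by
            apply Groth.Agent.Lib.Helper93.Segre.mem_of_smul_mem 𝒜 𝒳 (hsm 𝒳 𝒜) ha hab.1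
            rw [hx'']
            exact hx
          have h2 : y' ∈ 𝒴 (n - d) := by
            apply Groth.Agent.Lib.Helper93.Segre.mem_of_smul_mem ℬ 𝒴 (hsm 𝒴 ℬ) hb hbb.1
            rw [hy'']
            exact hy
          exact ⟨x' ⊗ₜ[k] y', tmul_mem_piece 𝒳 𝒴 h1 h2, by rw [GrSeg.act_tmul, hx'', hy'']⟩
      obtain ⟨v, hv, e⟩ := key
      refine ⟨Seg.ofPiece hT 𝒳 𝒴 v hv, ?_⟩
      apply Seg.ext hT 𝒳 𝒴
      rw [Seg.incl_smul, ht]
      exact e

include hT in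
/-- If a homogeneous element of `T` of the irrelevant ideal acts bijectively through a pure tensor
of bijective elements, all local cohomology of the Segre product vanishes. -/
theorem vanM_seg_of_bij (mT : HomogeneousIdeal 𝒯) {d : ℤ} {a : R} (ha : a ∈ 𝒜 d) {b : S}
    (hb : b ∈ ℬ d) {t : T} (htd : t ∈ 𝒯 d) (htm : t ∈ mT.toIdeal)
    (ht : ψ t = a ⊗ₜ[k] b) (hab : Function.Bijective (fun x : X => a • x))
    (hbb : Function.Bijective (fun y : Y => b • y)) (n : ℕ) (g : ℤ) :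
    VanM (idealA 𝒯 mT) (seg hT 𝒳 𝒴).gr n g :=
  Groth.Agent.Lib.Helper8.GrLCBij.vanM_of_bijective (𝒜 := agr 𝒯) (ℳ := (seg hT 𝒳 𝒴).gr)
    (idealA 𝒯 mT) (i := d) (t := t) htd htm
    (smul_bijective_seg hT 𝒳 𝒴 ha hb ht hab hbb) n g

end Bij

section Coord

variable {k : Type u} [Field k] {R S : Type u} [CommRing R] [CommRing S]
  [Algebra k R] [Algebra k S] {ℬ : ℤ → Submodule k S} [GradedAlgebra ℬ]
variable {X : Type u} [AddCommGroup X] [Module R X] [Module k X] [IsScalarTower k R X]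
variable {X' : Type u} [AddCommGroup X'] [Module R X'] [Module k X'] [IsScalarTower k R X']
variable {Y : Type u} [AddCommGroup Y] [Module S Y] [Module k Y] [IsScalarTower k S Y]
  (𝒴 : ℤ → AddSubgroup Y) [DirectSum.Decomposition 𝒴] [SetLike.GradedSMul ℬ 𝒴]

include ℬ in
omit [DirectSum.Decomposition 𝒴] in
theorem ksmul_mem {n : ℤ} (c : k) {y : Y} (hy : y ∈ 𝒴 n) : c • y ∈ 𝒴 n := by
  have h1 : c • y = (algebraMap k S c) • y := by
    rw [Algebra.algebraMap_eq_smul_one, smul_assoc, one_smul]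
  rw [h1]
  have := SetLike.GradedSMul.smul_mem (A := ℬ) (B := 𝒴) (SetLike.algebraMap_mem_graded ℬ c) hy
  rwa [vadd_eq_add, zero_add] at this

variable (k) (ℬ) in
/-- The pieces as `k`-subspaces. -/
def pieceK (n : ℤ) : Submodule k Y :=
  { (𝒴 n).toAddSubmonoid with
    smul_mem' := fun c _ hy => ksmul_mem (ℬ := ℬ) 𝒴 c hy }

omit [DirectSum.Decomposition 𝒴] in
theorem mem_pieceK {n : ℤ} {y : Y} : y ∈ pieceK k ℬ 𝒴 n ↔ y ∈ 𝒴 n := Iff.rfl

theorem isInternal_pieceK : DirectSum.IsInternal (pieceK k ℬ 𝒴) := by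
  classical
  have h := DirectSum.Decomposition.isInternal 𝒴
  let e : ∀ i : ℤ, ↥(𝒴 i) ≃+ ↥(pieceK k ℬ 𝒴 i) := fun i =>
    { toFun := fun y => ⟨y.1, y.2⟩
      invFun := fun y => ⟨y.1, y.2⟩
      left_inv := fun _ => rfl
      right_inv := fun _ => rfl
      map_add' := fun _ _ => rfl }
  let E : (⨁ i, ↥(𝒴 i)) ≃+ (⨁ i, ↥(pieceK k ℬ 𝒴 i)) := DFinsupp.mapRange.addEquiv e
  have hc : ∀ z, DirectSum.coeAddMonoidHom (pieceK k ℬ 𝒴) (E z) =
      DirectSum.coeAddMonoidHom 𝒴 z := by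
    intro z
    induction z using DirectSum.induction_on with
    | zero => simp
    | of i y =>
      have : E (DirectSum.of (fun i => ↥(𝒴 i)) i y) =
          DirectSum.of (fun i => ↥(pieceK k ℬ 𝒴 i)) i (e i y) := by
        change DFinsupp.mapRange (fun i => (e i : ↥(𝒴 i) → ↥(pieceK k ℬ 𝒴 i)))
          (fun i => map_zero (e i)) (DFinsupp.single i y) = DFinsupp.single i (e i y)
        exact DFinsupp.mapRange_single
      rw [this, DirectSum.coeAddMonoidHom_of, DirectSum.coeAddMonoidHom_of]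
      rfl
    | add z z' hz hz' => rw [map_add, map_add, hz, hz', map_add]
  have hfun : ⇑(DirectSum.coeAddMonoidHom (pieceK k ℬ 𝒴)) =
      ⇑(DirectSum.coeAddMonoidHom 𝒴) ∘ ⇑E.symm := by
    funext z
    rw [Function.comp_apply, ← hc (E.symm z), E.apply_symm_apply]
  unfold DirectSum.IsInternal
  rw [hfun]
  exact h.comp E.symm.bijective

variable (k) (ℬ) in
/-- The index type of the homogeneous basis. -/
def HIdx : Type u := Σ n : ℤ, Module.Basis.ofVectorSpaceIndex k ↥(pieceK k ℬ 𝒴 n)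

variable (k) (ℬ) in
/-- A homogeneous basis. -/
noncomputable def hbasis : Module.Basis (HIdx k ℬ 𝒴) k Y :=
  (isInternal_pieceK 𝒴).collectedBasis (fun n => Module.Basis.ofVectorSpace k ↥(pieceK k ℬ 𝒴 n))

theorem hbasis_mem (i : HIdx k ℬ 𝒴) : hbasis k ℬ 𝒴 i ∈ 𝒴 i.1 :=
  (isInternal_pieceK 𝒴).collectedBasis_mem _ i

theorem hbasis_repr_of_mem_ne {n : ℤ} {y : Y} (hy : y ∈ 𝒴 n) (i : HIdx k ℬ 𝒴) (hi : n ≠ i.1) :
    (hbasis k ℬ 𝒴).repr y i = 0 := by
  obtain ⟨j, a⟩ := i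
  exact (isInternal_pieceK 𝒴).collectedBasis_repr_of_mem_ne _ hi (show y ∈ pieceK k ℬ 𝒴 n from hy)

open Classical in
variable (k X ℬ) in
/-- The coordinates of an element of `X ⊗ Y` with respect to a homogeneous basis of `Y`. -/
noncomputable def coordEquiv : X ⊗[k] Y ≃ₗ[k] (HIdx k ℬ 𝒴 →₀ X) :=
  TensorProduct.equivFinsuppOfBasisRight (hbasis k ℬ 𝒴)

variable (k X ℬ) in
/-- The `i`-th coordinate. -/
noncomputable def coord (i : HIdx k ℬ 𝒴) : X ⊗[k] Y →ₗ[k] X :=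
  (Finsupp.lapply i) ∘ₗ (coordEquiv k ℬ X 𝒴).toLinearMap

theorem coord_apply (i : HIdx k ℬ 𝒴) (w : X ⊗[k] Y) :
    coord k ℬ X 𝒴 i w = coordEquiv k ℬ X 𝒴 w i := rfl

theorem coord_tmul (i : HIdx k ℬ 𝒴) (x : X) (y : Y) :
    coord k ℬ X 𝒴 i (x ⊗ₜ[k] y) = (hbasis k ℬ 𝒴).repr y i • x := by
  classical
  rw [coord_apply]
  exact TensorProduct.equivFinsuppOfBasisRight_apply_tmul_apply _ x y i

theorem coord_act_left (i : HIdx k ℬ 𝒴) (r : R) (w : X ⊗[k] Y) :
    coord k ℬ X 𝒴 i (GrSeg.act k R S X Y (r ⊗ₜ[k] 1) w) = r • coord k ℬ X 𝒴 i w := by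
  induction w using TensorProduct.induction_on with
  | zero => simp
  | add w w' h h' => rw [map_add, map_add, h, h', map_add, smul_add]
  | tmul x y =>
    rw [GrSeg.act_tmul, one_smul, coord_tmul, coord_tmul, smul_comm]

theorem coord_tmap (i : HIdx k ℬ 𝒴) (f : X →ₗ[R] X') (w : X ⊗[k] Y) :
    coord k ℬ X' 𝒴 i (tmap k f (LinearMap.id : Y →ₗ[S] Y) w) = f (coord k ℬ X 𝒴 i w) := by
  induction w using TensorProduct.induction_on with
  | zero => simp
  | add w w' h h' => rw [map_add, map_add, h, h', map_add, map_add]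
  | tmul x y =>
    rw [tmap_tmul, coord_tmul, coord_tmul, LinearMap.id_apply, LinearMap.map_smul_of_tower]

theorem eq_sum_coord (w : X ⊗[k] Y) :
    w = ((coordEquiv k ℬ X 𝒴 w).sum fun i m => m ⊗ₜ[k] (hbasis k ℬ 𝒴) i) := by
  classical
  have h := (coordEquiv k ℬ X 𝒴).symm_apply_apply w
  rw [← TensorProduct.equivFinsuppOfBasisRight_symm_apply]
  exact h.symm

theorem eq_zero_of_coord (w : X ⊗[k] Y) (h : ∀ i, coord k ℬ X 𝒴 i w = 0) : w = 0 := by
  apply (coordEquiv k ℬ X 𝒴).injective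
  rw [map_zero]
  ext i
  exact h i

theorem mem_range_of_coord (P : Submodule R X) (w : X ⊗[k] Y)
    (h : ∀ i, coord k ℬ X 𝒴 i w ∈ P) :
    w ∈ LinearMap.range (tmap k P.subtype (LinearMap.id : Y →ₗ[S] Y)) := by
  rw [eq_sum_coord (ℬ := ℬ) 𝒴 w]
  apply Submodule.sum_mem
  intro i _
  exact ⟨(⟨coordEquiv k ℬ X 𝒴 w i, h i⟩ : ↥P) ⊗ₜ[k] (hbasis k ℬ 𝒴) i, rfl⟩

theorem coord_mem_of_mem_range (P : Submodule R X) (w : X ⊗[k] Y)
    (h : w ∈ LinearMap.range (tmap k P.subtype (LinearMap.id : Y →ₗ[S] Y)))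
    (i : HIdx k ℬ 𝒴) : coord k ℬ X 𝒴 i w ∈ P := by
  obtain ⟨v, rfl⟩ := h
  rw [coord_tmap]
  exact (coord k ℬ (↥P) 𝒴 i v).2

/-- The coordinates of an element of the piece of degree `n` are homogeneous of degree `n`. -/
theorem coord_mem_of_mem_piece (𝒳 : ℤ → AddSubgroup X)
    (hk : ∀ (n : ℤ) (c : k) (x : X), x ∈ 𝒳 n → c • x ∈ 𝒳 n) {n : ℤ} {w : X ⊗[k] Y}
    (hw : w ∈ GrSeg.segrePiece k 𝒳 𝒴 n) (i : HIdx k ℬ 𝒴) : coord k ℬ X 𝒴 i w ∈ 𝒳 n := by
  unfold GrSeg.segrePiece at hw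
  induction hw using Submodule.span_induction with
  | mem w hw =>
    obtain ⟨x, hx, y, hy, rfl⟩ := hw
    rw [coord_tmul]
    exact hk n _ x hx
  | zero => rw [map_zero]; exact zero_mem _
  | add w w' _ _ h h' => rw [map_add]; exact add_mem h h'
  | smul c w _ h => rw [map_smul]; exact hk n c _ h

/-- The coordinates of an element of the piece of degree `n` vanish at basis elements of other
degrees. -/
theorem coord_eq_zero_of_mem_piece (𝒳 : ℤ → AddSubgroup X) {n : ℤ} {w : X ⊗[k] Y}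
    (hw : w ∈ GrSeg.segrePiece k 𝒳 𝒴 n) (i : HIdx k ℬ 𝒴) (hi : n ≠ i.1) :
    coord k ℬ X 𝒴 i w = 0 := by
  unfold GrSeg.segrePiece at hw
  induction hw using Submodule.span_induction with
  | mem w hw =>
    obtain ⟨x, hx, y, hy, rfl⟩ := hw
    rw [coord_tmul, hbasis_repr_of_mem_ne 𝒴 hy i hi, zero_smul]
  | zero => rw [map_zero]
  | add w w' _ _ h h' => rw [map_add, h, h', add_zero]
  | smul c w _ h => rw [map_smul, h, smul_zero]

end Coord

section Tors

variable {k : Type u} [Field k] {R S T : Type u} [CommRing R] [CommRing S] [CommRing T]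
  [Algebra k R] [Algebra k S] [Algebra k T]
  {𝒜 : ℤ → Submodule k R} [GradedAlgebra 𝒜] {ℬ : ℤ → Submodule k S} [GradedAlgebra ℬ]
  {𝒯 : ℤ → Submodule k T} [GradedAlgebra 𝒯] {ψ : T →ₐ[k] R ⊗[k] S}
  (hT : GrSeg.IsSegreRing 𝒜 ℬ 𝒯 ψ)
variable {X : Type u} [AddCommGroup X] [Module R X] [Module k X] [IsScalarTower k R X]
  (𝒳 : ℤ → AddSubgroup X) [DirectSum.Decomposition 𝒳] [SetLike.GradedSMul 𝒜 𝒳]
variable {Y : Type u} [AddCommGroup Y] [Module S Y] [Module k Y] [IsScalarTower k S Y]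
  (𝒴 : ℤ → AddSubgroup Y) [DirectSum.Decomposition 𝒴] [SetLike.GradedSMul ℬ 𝒴]
variable (mR : HomogeneousIdeal 𝒜) (mT : HomogeneousIdeal 𝒯)
  (hmR : mR.toIdeal = Ideal.span (⋃ n ∈ Set.Ioi (0 : ℤ), (𝒜 n : Set R)))
  (hmT : mT.toIdeal = Ideal.span (⋃ n ∈ Set.Ioi (0 : ℤ), (𝒯 n : Set T)))

variable (k S) in
/-- The extension of an ideal of `R` to `R ⊗ S`. -/
def leftIdeal (I : Ideal R) : Ideal (R ⊗[k] S) :=
  Ideal.map (Algebra.TensorProduct.includeLeft : R →ₐ[k] R ⊗[k] S) I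

omit [GradedAlgebra 𝒜] in
theorem leftIdeal_pow (I : Ideal R) (j : ℕ) : leftIdeal k S (I ^ j) = (leftIdeal k S I) ^ j :=
  Ideal.map_pow _ _ _

theorem act_left_zero (I : Ideal R) (w : X ⊗[k] Y)
    (h : ∀ r ∈ I, GrSeg.act k R S X Y (r ⊗ₜ[k] 1) w = 0) :
    ∀ z ∈ leftIdeal k S I, GrSeg.act k R S X Y z w = 0 := by
  intro z hz
  unfold leftIdeal Ideal.map at hz
  induction hz using Submodule.span_induction with
  | mem z hz =>
    obtain ⟨r, hr, rfl⟩ := hz
    exact h r hr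
  | zero => simp
  | add z z' _ _ h1 h2 => rw [map_add, LinearMap.add_apply, h1, h2, add_zero]
  | smul c z _ h1 => rw [smul_eq_mul, act_mul, h1, map_zero]

include hT hmR hmT in
theorem psi_mem_leftIdeal {t : T} (ht : t ∈ mT.toIdeal) : ψ t ∈ leftIdeal k S mR.toIdeal := by
  have hle : mT.toIdeal ≤ (leftIdeal k S mR.toIdeal).comap (ψ : T →+* R ⊗[k] S) := by
    rw [hmT, Ideal.span_le]
    intro t ht
    simp only [Set.mem_iUnion, Set.mem_Ioi, exists_prop] at ht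
    obtain ⟨n, hn, htn⟩ := ht
    have h1 : ψ t ∈ GrSeg.segrePiece k 𝒜 ℬ n := psi_mem 𝒜 ℬ 𝒯 hT htn
    change ψ t ∈ leftIdeal k S mR.toIdeal
    revert h1
    generalize ψ t = z0
    intro h1
    unfold GrSeg.segrePiece at h1
    induction h1 using Submodule.span_induction with
    | mem z hz =>
      obtain ⟨a, ha, b, hb, rfl⟩ := hz
      have ha' : a ∈ mR.toIdeal := by
        rw [hmR]
        apply Ideal.subset_span
        simp only [Set.mem_iUnion, Set.mem_Ioi, exists_prop]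
        exact ⟨n, hn, ha⟩
      have e : a ⊗ₜ[k] b = ((1 : R) ⊗ₜ[k] b) * (a ⊗ₜ[k] (1 : S)) := by
        rw [Algebra.TensorProduct.tmul_mul_tmul, one_mul, mul_one]
      rw [e]
      apply Ideal.mul_mem_left
      exact Ideal.mem_map_of_mem _ ha'
    | zero => exact zero_mem _
    | add z z' _ _ h1 h2 => exact add_mem h1 h2
    | smul c z _ h1 => exact Submodule.smul_of_tower_mem _ c h1
  exact hle ht

include hT hmR hmT in
theorem psi_mem_leftIdeal_pow {t : T} (j : ℕ) (ht : t ∈ mT.toIdeal ^ j) :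
    ψ t ∈ leftIdeal k S (mR.toIdeal ^ j) := by
  rw [leftIdeal_pow]
  have h1 : (ψ : T →+* R ⊗[k] S) t ∈ Ideal.map (ψ : T →+* R ⊗[k] S) (mT.toIdeal ^ j) :=
    Ideal.mem_map_of_mem _ ht
  rw [Ideal.map_pow] at h1
  have hle : Ideal.map (ψ : T →+* R ⊗[k] S) mT.toIdeal ≤ leftIdeal k S mR.toIdeal := by
    rw [Ideal.map_le_iff_le_comap]
    intro t ht
    exact psi_mem_leftIdeal hT mR mT hmR hmT ht
  exact Ideal.pow_right_mono hle j h1

include hmR hmT in
/-- Elements of the Segre product whose coordinates are `m`-torsion are `T_+`-torsion. -/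
theorem mem_gam_seg_of_coord (w : Seg hT 𝒳 𝒴)
    (h : ∀ i, coord k ℬ X 𝒴 i (Seg.incl hT 𝒳 𝒴 w) ∈ gam mR.toIdeal X) :
    w ∈ gam mT.toIdeal (Seg hT 𝒳 𝒴) := by
  classical
  choose! jj hjj using h
  set v := Seg.incl hT 𝒳 𝒴 w with hv
  set b := coordEquiv k ℬ X 𝒴 v with hb
  refine ⟨b.support.sup jj, fun t ht => ?_⟩
  apply Seg.ext hT 𝒳 𝒴
  rw [Seg.incl_smul, map_zero]
  apply act_left_zero (mR.toIdeal ^ (b.support.sup jj)) v ?_ _
    (psi_mem_leftIdeal_pow hT mR mT hmR hmT _ ht)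
  intro r hr
  apply eq_zero_of_coord (ℬ := ℬ) 𝒴
  intro i
  rw [coord_act_left]
  by_cases hi : i ∈ b.support
  · exact hjj i r (Ideal.pow_le_pow_right (Finset.le_sup hi) hr)
  · rw [Finsupp.notMem_support_iff] at hi
    rw [coord_apply, ← hb, hi, smul_zero]

include hmR hmT in
theorem gam_seg_eq_top (hX : gam mR.toIdeal X = ⊤) :
    gam mT.toIdeal (Seg hT 𝒳 𝒴) = ⊤ := by
  rw [eq_top_iff]
  intro w _
  apply mem_gam_seg_of_coord hT 𝒳 𝒴 mR mT hmR hmT
  intro i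
  rw [hX]
  trivial

omit [DirectSum.Decomposition 𝒴] [SetLike.GradedSMul ℬ 𝒴] [GradedAlgebra ℬ] in
theorem pow_smul_bijective {g : S} (hg : Function.Bijective (fun y : Y => g • y)) (m : ℕ) :
    Function.Bijective (fun y : Y => g ^ m • y) := by
  induction m with
  | zero =>
    simp only [pow_zero, one_smul]
    exact Function.bijective_id
  | succ m ih =>
    have : (fun y : Y => g ^ (m + 1) • y) = (fun y : Y => g • y) ∘ (fun y : Y => g ^ m • y) := by
      funext y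
      simp only [Function.comp_apply]
      rw [pow_succ', mul_smul]
    rw [this]
    exact hg.comp ih

include hmR hmT in
/-- If `g` acts bijectively on `Y`, the coordinates of a `T_+`-torsion element of the Segre product
are `m`-torsion. -/
theorem coord_mem_gam_of_mem_gam [IsNoetherianRing R] {e : ℕ} (he : 0 < e) {g : S}
    (hg : g ∈ ℬ (e : ℤ)) (hgY : Function.Bijective (fun y : Y => g • y))
    (w : Seg hT 𝒳 𝒴) (hw : w ∈ gam mT.toIdeal (Seg hT 𝒳 𝒴))
    (i : HIdx k ℬ 𝒴) :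
    coord k ℬ X 𝒴 i (Seg.incl hT 𝒳 𝒴 w) ∈ gam mR.toIdeal X := by
  classical
  obtain ⟨j, hj⟩ := hw
  set v := Seg.incl hT 𝒳 𝒴 w with hv
  let Ann : Ideal R :=
    { carrier := {r | GrSeg.act k R S X Y (r ⊗ₜ[k] 1) v = 0}
      zero_mem' := by
        change GrSeg.act k R S X Y ((0 : R) ⊗ₜ[k] 1) v = 0
        rw [TensorProduct.zero_tmul, map_zero, LinearMap.zero_apply]
      add_mem' := by
        intro r r' hr hr'
        change GrSeg.act k R S X Y ((r + r') ⊗ₜ[k] 1) v = 0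
        rw [TensorProduct.add_tmul, map_add, LinearMap.add_apply, hr, hr', add_zero]
      smul_mem' := by
        intro c r hr
        change GrSeg.act k R S X Y ((c • r) ⊗ₜ[k] 1) v = 0
        have e1 : (c • r) ⊗ₜ[k] (1 : S) = (c ⊗ₜ[k] (1 : S)) * (r ⊗ₜ[k] (1 : S)) := by
          rw [Algebra.TensorProduct.tmul_mul_tmul, mul_one, smul_eq_mul]
        rw [e1, act_mul, hr, map_zero] }
  have hAnn : ∀ r, r ∈ Ann ↔ GrSeg.act k R S X Y (r ⊗ₜ[k] 1) v = 0 := fun r => Iff.rfl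
  have hle : mR.toIdeal ≤ Ann.radical := by
    rw [hmR, Ideal.span_le]
    intro x hx
    simp only [Set.mem_iUnion, Set.mem_Ioi, exists_prop] at hx
    obtain ⟨n, hn, hxn⟩ := hx
    obtain ⟨n', rfl⟩ : ∃ n' : ℕ, n = (n' : ℤ) := ⟨n.toNat, (Int.toNat_of_nonneg hn.le).symm⟩
    have h1 : x ^ e ∈ 𝒜 ((e : ℤ) * (n' : ℤ)) := by
      have := SetLike.pow_mem_graded e hxn
      rw [nsmul_eq_mul] at this
      exact this
    have h2 : g ^ n' ∈ ℬ ((e : ℤ) * (n' : ℤ)) := by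
      have := SetLike.pow_mem_graded n' hg
      rw [nsmul_eq_mul, mul_comm] at this
      exact this
    obtain ⟨t, htd, ht⟩ := exists_tmul_T 𝒜 ℬ 𝒯 hT h1 h2
    have hpos : (0 : ℤ) < (e : ℤ) * (n' : ℤ) := by
      have : (0 : ℤ) < (e : ℤ) := by exact_mod_cast he
      positivity
    have htm : t ∈ mT.toIdeal := by
      rw [hmT]
      apply Ideal.subset_span
      simp only [Set.mem_iUnion, Set.mem_Ioi, exists_prop]
      exact ⟨_, hpos, htd⟩
    have h3 : (t ^ j) • w = 0 := hj _ (Ideal.pow_mem_pow htm j)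
    have h4 := congrArg (Seg.incl hT 𝒳 𝒴) h3
    rw [Seg.incl_smul, map_zero, map_pow, ht, Algebra.TensorProduct.tmul_pow] at h4
    have e2 : ((x ^ e) ^ j) ⊗ₜ[k] ((g ^ n') ^ j) =
        ((1 : R) ⊗ₜ[k] ((g ^ n') ^ j)) * (((x ^ e) ^ j) ⊗ₜ[k] (1 : S)) := by
      rw [Algebra.TensorProduct.tmul_mul_tmul, one_mul, mul_one]
    rw [e2, act_mul] at h4
    have hb1 : Function.Bijective (fun x : X => (1 : R) • x) := by
      simp only [one_smul]
      exact Function.bijective_id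
    have hb2 : Function.Bijective (fun y : Y => (g ^ n') ^ j • y) := by
      rw [← pow_mul]
      exact pow_smul_bijective hgY _
    have hinj := (act_tmul_bijective (k := k) (X := X) (Y := Y) hb1 hb2).1
    have h5 : GrSeg.act k R S X Y (((x ^ e) ^ j) ⊗ₜ[k] (1 : S)) v = 0 := by
      apply hinj
      rw [h4, map_zero]
    change x ∈ Ann.radical
    refine ⟨e * j, ?_⟩
    rw [hAnn, pow_mul]
    exact h5
  obtain ⟨K, hK⟩ := Ideal.exists_pow_le_of_le_radical_of_fg hle (IsNoetherian.noetherian _)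
  refine ⟨K, fun r hr => ?_⟩
  rw [← coord_act_left (S := S) 𝒴, (hAnn r).mp (hK hr), map_zero]

end Tors

end Groth.Agent.Lib.Helper8.GrSegC
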