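import Groth.Agent.Lib.Helper8.GrSegC
import Groth.Agent.Lib.Helper8.GrInjDiv

/-!
# Segre products of *injective modules are acyclic (when one factor has a bijective element)
-/

set_option autoImplicit false
set_option linter.unusedSectionVars false
universe u

open DirectSum GrLC TensorProduct
open Groth.Agent.Lib.Helper30 Groth.Agent.Lib.Helper8.GrLCSub
open Groth.Agent.Lib.Helper8.GrLCLES Groth.Agent.Lib.Helper8.GrLCTors
open Groth.Agent.Lib.Helper8.GrLCInd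
open Groth.Agent.Lib.Helper93.Segre Groth.Agent.Lib.Helper93.SegreAct
open Groth.Agent.Lib.Helper8.GrSegA Groth.Agent.Lib.Helper8.GrSegB Groth.Agent.Lib.Helper8.GrSegC

namespace Groth.Agent.Lib.Helper8.GrSegD

section Gen

theorem pow_smul_bijective' {A M : Type*} [Monoid A] [MulAction A M] {a : A}
    (h : Function.Bijective (fun y : M => a • y)) (m : ℕ) :
    Function.Bijective (fun y : M => a ^ m • y) := by
  induction m with
  | zero =>
    simp only [pow_zero, one_smul]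
    exact Function.bijective_id
  | succ m ih =>
    have : (fun y : M => a ^ (m + 1) • y) = (fun y : M => a • y) ∘ (fun y : M => a ^ m • y) := by
      funext y
      simp only [Function.comp_apply]
      rw [pow_succ', mul_smul]
    rw [this]
    exact h.comp ih

variable {R : Type u} [CommRing R] {M : Type u} [AddCommGroup M] [Module R M]

theorem gam_mono {a a' : Ideal R} (h : a ≤ a') : gam a' M ≤ gam a M := by
  rintro x ⟨n, hn⟩
  exact ⟨n, fun r hr => hn r (Ideal.pow_right_mono h n hr)⟩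

theorem gam_bot : gam (⊥ : Ideal R) M = ⊤ := by
  rw [eq_top_iff]
  intro x _
  refine ⟨1, fun r hr => ?_⟩
  rw [pow_one, Ideal.mem_bot] at hr
  rw [hr, zero_smul]

theorem mem_gam_sup {b : Ideal R} {x : R} {u : M} (hu : u ∈ gam b M) {K : ℕ}
    (hK : x ^ K • u = 0) : u ∈ gam (b ⊔ Ideal.span {x}) M := by
  obtain ⟨L, hL⟩ := hu
  refine ⟨L + K, fun r hr => ?_⟩
  have h1 := Ideal.sup_pow_add_le_pow_sup_pow (I := b) (J := Ideal.span {x}) (n := L) (m := K) hr
  rw [Ideal.span_singleton_pow] at h1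
  obtain ⟨β, hβ, y, hy, rfl⟩ := Submodule.mem_sup.mp h1
  obtain ⟨s, rfl⟩ := Ideal.mem_span_singleton'.mp hy
  rw [add_smul, hL β hβ, mul_smul, hK, smul_zero, add_zero]

theorem pow_smul_of_mem_gam_sup {b : Ideal R} {x : R} {u : M}
    (hu : u ∈ gam (b ⊔ Ideal.span {x}) M) : ∃ K : ℕ, x ^ K • u = 0 := by
  obtain ⟨K, hK⟩ := hu
  refine ⟨K, hK _ ?_⟩
  apply Ideal.pow_mem_pow
  exact Ideal.mem_sup_right (Ideal.subset_span rfl)

end Gen

section GMap

variable {k : Type u} [Field k] {R S T : Type u} [CommRing R] [CommRing S] [CommRing T]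
  [Algebra k R] [Algebra k S] [Algebra k T]
  {𝒜 : ℤ → Submodule k R} [GradedAlgebra 𝒜] {ℬ : ℤ → Submodule k S} [GradedAlgebra ℬ]
  {𝒯 : ℤ → Submodule k T} [GradedAlgebra 𝒯] {ψ : T →ₐ[k] R ⊗[k] S}
  (hT : GrSeg.IsSegreRing 𝒜 ℬ 𝒯 ψ)
variable {X : Type u} [AddCommGroup X] [Module R X] [Module k X] [IsScalarTower k R X]
  {𝒳 : ℤ → AddSubgroup X} [DirectSum.Decomposition 𝒳] [SetLike.GradedSMul 𝒜 𝒳]
variable {X' : Type u} [AddCommGroup X'] [Module R X'] [Module k X'] [IsScalarTower k R X']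
  {𝒳' : ℤ → AddSubgroup X'} [DirectSum.Decomposition 𝒳'] [SetLike.GradedSMul 𝒜 𝒳']
variable {X'' : Type u} [AddCommGroup X''] [Module R X''] [Module k X''] [IsScalarTower k R X'']
  {𝒳'' : ℤ → AddSubgroup X''} [DirectSum.Decomposition 𝒳''] [SetLike.GradedSMul 𝒜 𝒳'']
variable {Y : Type u} [AddCommGroup Y] [Module S Y] [Module k Y] [IsScalarTower k S Y]
  {𝒴 : ℤ → AddSubgroup Y} [DirectSum.Decomposition 𝒴] [SetLike.GradedSMul ℬ 𝒴]
variable {Y' : Type u} [AddCommGroup Y'] [Module S Y'] [Module k Y'] [IsScalarTower k S Y']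
  {𝒴' : ℤ → AddSubgroup Y'} [DirectSum.Decomposition 𝒴'] [SetLike.GradedSMul ℬ 𝒴']
variable {Y'' : Type u} [AddCommGroup Y''] [Module S Y''] [Module k Y''] [IsScalarTower k S Y'']
  {𝒴'' : ℤ → AddSubgroup Y''} [DirectSum.Decomposition 𝒴''] [SetLike.GradedSMul ℬ 𝒴'']

/-- `segMap` between the bundled Segre products. -/
noncomputable def gsegMap {f : X →ₗ[R] X'} (hf : IsGrHom 𝒳 𝒳' f) {g : Y →ₗ[S] Y'}
    (hg : IsGrHom 𝒴 𝒴' g) : (seg hT 𝒳 𝒴).carrier →ₗ[T] (seg hT 𝒳' 𝒴').carrier :=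
  segMap hT hf hg

theorem gsegMap_gr {f : X →ₗ[R] X'} (hf : IsGrHom 𝒳 𝒳' f) {g : Y →ₗ[S] Y'}
    (hg : IsGrHom 𝒴 𝒴' g) : IsGrHom (seg hT 𝒳 𝒴).gr (seg hT 𝒳' 𝒴').gr (gsegMap hT hf hg) :=
  segMap_grHom hT hf hg

/-- The Segre product with a fixed right factor is exact. -/
theorem ses_seg_left {f : X' →ₗ[R] X} (hf : IsGrHom 𝒳' 𝒳 f) {g : X →ₗ[R] X''}
    (hg : IsGrHom 𝒳 𝒳'' g) (hinj : Function.Injective f) (hsurj : Function.Surjective g)
    (hex : ∀ x, g x = 0 → ∃ x', f x' = x) (hgf : ∀ x', g (f x') = 0) :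
    SES (seg hT 𝒳' 𝒴).gr (seg hT 𝒳 𝒴).gr (seg hT 𝒳'' 𝒴).gr
      (gsegMap hT hf (isGrHom_id (ℳ := 𝒴))) (gsegMap hT hg (isGrHom_id (ℳ := 𝒴))) where
  i_gr := segMap_grHom hT hf isGrHom_id
  p_gr := segMap_grHom hT hg isGrHom_id
  inj := segMap_injective hT hf isGrHom_id hinj (fun _ _ h => h)
  surj := segMap_surjective hT hg isGrHom_id hsurj (fun y => ⟨y, rfl⟩)
  exact := by
    ext w
    constructor
    · rintro ⟨w', rfl⟩
      rw [LinearMap.mem_ker]
      have e0 : g ∘ₗ f = 0 := by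
        ext v
        exact hgf v
      have key : ∀ u : Seg hT 𝒳' 𝒴, segMap hT hg (isGrHom_id (ℳ := 𝒴))
          (segMap hT hf (isGrHom_id (ℳ := 𝒴)) u) = 0 := by
        intro u
        rw [segMap_comp_apply, segMap_congr hT (isGrHom_comp hf hg) (isGrHom_zero)
          (isGrHom_comp (isGrHom_id (ℳ := 𝒴)) (isGrHom_id (ℳ := 𝒴)))
          (isGrHom_comp (isGrHom_id (ℳ := 𝒴)) (isGrHom_id (ℳ := 𝒴))) e0 rfl, segMap_zero_left]
      exact key w'
    · intro hw
      rw [LinearMap.mem_ker] at hw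
      obtain ⟨w', hw'⟩ := segMap_exact_left hT hf hg hex hgf w hw
      exact ⟨w', hw'⟩

/-- The Segre product with a fixed left factor is exact. -/
theorem ses_seg_right {f : Y' →ₗ[S] Y} (hf : IsGrHom 𝒴' 𝒴 f) {g : Y →ₗ[S] Y''}
    (hg : IsGrHom 𝒴 𝒴'' g) (hinj : Function.Injective f) (hsurj : Function.Surjective g)
    (hex : ∀ x, g x = 0 → ∃ x', f x' = x) (hgf : ∀ x', g (f x') = 0) :
    SES (seg hT 𝒳 𝒴').gr (seg hT 𝒳 𝒴).gr (seg hT 𝒳 𝒴'').gr
      (gsegMap hT (isGrHom_id (ℳ := 𝒳)) hf) (gsegMap hT (isGrHom_id (ℳ := 𝒳)) hg) where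
  i_gr := segMap_grHom hT isGrHom_id hf
  p_gr := segMap_grHom hT isGrHom_id hg
  inj := segMap_injective hT isGrHom_id hf (fun _ _ h => h) hinj
  surj := segMap_surjective hT isGrHom_id hg (fun y => ⟨y, rfl⟩) hsurj
  exact := by
    ext w
    constructor
    · rintro ⟨w', rfl⟩
      rw [LinearMap.mem_ker]
      have e0 : g ∘ₗ f = 0 := by
        ext v
        exact hgf v
      have key : ∀ u : Seg hT 𝒳 𝒴', segMap hT (isGrHom_id (ℳ := 𝒳)) hg
          (segMap hT (isGrHom_id (ℳ := 𝒳)) hf u) = 0 := by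
        intro u
        rw [segMap_comp_apply, segMap_congr hT
          (isGrHom_comp (isGrHom_id (ℳ := 𝒳)) (isGrHom_id (ℳ := 𝒳)))
          (isGrHom_comp (isGrHom_id (ℳ := 𝒳)) (isGrHom_id (ℳ := 𝒳)))
          (isGrHom_comp hf hg) (isGrHom_zero) rfl e0, segMap_zero_right]
      exact key w'
    · intro hw
      rw [LinearMap.mem_ker] at hw
      obtain ⟨w', hw'⟩ := segMap_exact_right hT hf hg hex hgf w hw
      exact ⟨w', hw'⟩

end GMap

section Filt

variable {k : Type u} [Field k] {R S T : Type u} [CommRing R] [CommRing S] [CommRing T]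
  [Algebra k R] [Algebra k S] [Algebra k T] [IsNoetherianRing R] [IsNoetherianRing T]
  {𝒜 : ℤ → Submodule k R} [GradedAlgebra 𝒜] {ℬ : ℤ → Submodule k S} [GradedAlgebra ℬ]
  {𝒯 : ℤ → Submodule k T} [GradedAlgebra 𝒯] {ψ : T →ₐ[k] R ⊗[k] S}
  (hT : GrSeg.IsSegreRing 𝒜 ℬ 𝒯 ψ)
variable {Y : Type u} [AddCommGroup Y] [Module S Y] [Module k Y] [IsScalarTower k S Y]
  (𝒴 : ℤ → AddSubgroup Y) [DirectSum.Decomposition 𝒴] [SetLike.GradedSMul ℬ 𝒴]
variable (mR : HomogeneousIdeal 𝒜) (mT : HomogeneousIdeal 𝒯)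
  (hmR : mR.toIdeal = Ideal.span (⋃ n ∈ Set.Ioi (0 : ℤ), (𝒜 n : Set R)))
  (hmT : mT.toIdeal = Ideal.span (⋃ n ∈ Set.Ioi (0 : ℤ), (𝒯 n : Set T)))
variable {e : ℕ} (he : 0 < e) {g : S} (hg : g ∈ ℬ (e : ℤ))
  (hgY : Function.Bijective (fun y : Y => g • y))
variable (X : GMod.{u} (agr 𝒜))

/-- `Γ_b(X)` as a graded module. -/
noncomputable def Gam (b : HomogeneousIdeal (agr 𝒜)) : GMod.{u} (agr 𝒜) :=
  gmodSub (agr 𝒜) X.gr (gam b.toIdeal X.carrier) (gam_isHomogeneous (agr 𝒜) X.gr b)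

/-- The inclusion `Γ_b(X) → X`. -/
noncomputable def gamSub (b : HomogeneousIdeal (agr 𝒜)) : (Gam X b).carrier →ₗ[R] X.carrier :=
  (gam b.toIdeal X.carrier).subtype

theorem gamSub_gr (b : HomogeneousIdeal (agr 𝒜)) : IsGrHom (Gam X b).gr X.gr (gamSub X b) :=
  fun _ _ h => h

theorem gamSub_injective (b : HomogeneousIdeal (agr 𝒜)) : Function.Injective (gamSub X b) :=
  Subtype.val_injective

theorem gamSub_mem (b : HomogeneousIdeal (agr 𝒜)) (u : (Gam X b).carrier) :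
    gamSub X b u ∈ gam b.toIdeal X.carrier := u.2

/-- Elements of `Γ_b(X)`. -/
noncomputable def gamMk (b : HomogeneousIdeal (agr 𝒜)) (u : X.carrier)
    (hu : u ∈ gam b.toIdeal X.carrier) : (Gam X b).carrier := ⟨u, hu⟩

theorem gamSub_gamMk (b : HomogeneousIdeal (agr 𝒜)) (u : X.carrier)
    (hu : u ∈ gam b.toIdeal X.carrier) : gamSub X b (gamMk X b u hu) = u := rfl

/-- The inclusion `Γ_{b₁}(X) → Γ_b(X)` for `b ≤ b₁`. -/
noncomputable def gamIncl {b b₁ : HomogeneousIdeal (agr 𝒜)} (h : b.toIdeal ≤ b₁.toIdeal) :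
    (Gam X b₁).carrier →ₗ[R] (Gam X b).carrier :=
  Submodule.inclusion (gam_mono h)

theorem gamIncl_gr {b b₁ : HomogeneousIdeal (agr 𝒜)} (h : b.toIdeal ≤ b₁.toIdeal) :
    IsGrHom (Gam X b₁).gr (Gam X b).gr (gamIncl X h) :=
  fun _ _ h => h

theorem gamIncl_injective {b b₁ : HomogeneousIdeal (agr 𝒜)} (h : b.toIdeal ≤ b₁.toIdeal) :
    Function.Injective (gamIncl X h) :=
  Submodule.inclusion_injective _

include he hg hgY hmT in
theorem step (hX : IsStarInj (agr 𝒜) X.gr) (b b₁ : HomogeneousIdeal (agr 𝒜)) {n : ℤ}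
    (hn : 0 < n) {x : R} (hx : x ∈ 𝒜 n) (hb₁ : b₁.toIdeal = b.toIdeal ⊔ Ideal.span {x})
    (h : ∀ (q : ℕ) (d : ℤ), VanM (idealA 𝒯 mT) (seg hT (Gam X b₁).gr 𝒴).gr (q + 1) d) :
    ∀ (q : ℕ) (d : ℤ), VanM (idealA 𝒯 mT) (seg hT (Gam X b).gr 𝒴).gr (q + 1) d := by
  have hle : b.toIdeal ≤ b₁.toIdeal := by rw [hb₁]; exact le_sup_left
  set i := gamIncl X hle with hi
  have hig : IsGrHom (Gam X b₁).gr (Gam X b).gr i := gamIncl_gr X hle
  set N : Submodule R (Gam X b).carrier := LinearMap.range i with hNdef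
  have hN : N.IsHomogeneous (Gam X b).gr := range_isHomogeneous (Gam X b₁).gr (Gam X b).gr i hig
  set Qm : GMod.{u} (agr 𝒜) := Q (Gam X b) N hN with hQm
  set p : (Gam X b).carrier →ₗ[R] Qm.carrier := Qmk (Gam X b) N hN with hp
  have hpg : IsGrHom (Gam X b).gr Qm.gr p := Qmk_gr hN
  have hps : Function.Surjective p := Qmk_surjective hN
  have hp0 : ∀ u, p u = 0 ↔ u ∈ N := fun u => Qmk_eq_zero hN u
  have hNmem : ∀ u : (Gam X b).carrier, u ∈ N ↔ gamSub X b u ∈ gam b₁.toIdeal X.carrier := by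
    intro u
    constructor
    · rintro ⟨v, rfl⟩
      exact gamSub_mem X b₁ v
    · intro hu
      exact ⟨gamMk X b₁ (gamSub X b u) hu, rfl⟩
  -- `x` is bijective on the quotient
  have hbij : Function.Bijective (fun y : Qm.carrier => x • y) := by
    constructor
    · intro y y' hyy'
      obtain ⟨u, rfl⟩ := hps y
      obtain ⟨u', rfl⟩ := hps y'
      have h1 : p (x • (u - u')) = 0 := by
        rw [map_smul, map_sub, smul_sub]
        exact sub_eq_zero.mpr hyy'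
      rw [hp0, hNmem, map_smul, hb₁] at h1
      obtain ⟨K, hK⟩ := pow_smul_of_mem_gam_sup h1
      rw [← mul_smul, ← pow_succ] at hK
      have h3 : gamSub X b (u - u') ∈ gam b₁.toIdeal X.carrier := by
        rw [hb₁]
        exact mem_gam_sup (gamSub_mem X b (u - u')) hK
      have h4 : p (u - u') = 0 := by
        rw [hp0, hNmem]
        exact h3
      rw [map_sub] at h4
      exact sub_eq_zero.mp h4
    · intro y
      obtain ⟨u, rfl⟩ := hps y
      obtain ⟨u', hu', c, hc⟩ := Groth.Agent.Lib.Helper8.GrInjDiv.exists_div (𝒜 := agr 𝒜) X.gr hX b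
        (x := x) (i := n) hx (gamSub X b u) (gamSub_mem X b u)
      refine ⟨p (gamMk X b u' hu'), ?_⟩
      change x • p (gamMk X b u' hu') = p u
      rw [← map_smul, ← sub_eq_zero, ← map_sub, hp0, hNmem, hb₁, map_sub, map_smul, gamSub_gamMk]
      apply mem_gam_sup _ hc
      exact Submodule.sub_mem _ (Submodule.smul_mem _ _ hu') (gamSub_mem X b u)
  -- the bijective element of `T`
  obtain ⟨n', rfl⟩ : ∃ n' : ℕ, n = (n' : ℤ) := ⟨n.toNat, (Int.toNat_of_nonneg hn.le).symm⟩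
  have h1 : x ^ e ∈ 𝒜 ((e : ℤ) * (n' : ℤ)) := by
    have := SetLike.pow_mem_graded e hx
    rw [nsmul_eq_mul] at this
    exact this
  have h2 : g ^ n' ∈ ℬ ((e : ℤ) * (n' : ℤ)) := by
    have := SetLike.pow_mem_graded n' hg
    rw [nsmul_eq_mul, mul_comm] at this
    exact this
  obtain ⟨t, htd, ht⟩ := exists_tmul_T 𝒜 ℬ 𝒯 hT h1 h2
  have hpos : (0 : ℤ) < (e : ℤ) * (n' : ℤ) := by
    have : (0 : ℤ) < (e : ℤ) := by exact_mod_cast he
    positivity
  have htm : t ∈ mT.toIdeal := by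
    rw [hmT]
    apply Ideal.subset_span
    simp only [Set.mem_iUnion, Set.mem_Ioi, exists_prop]
    exact ⟨_, hpos, htd⟩
  have hvQ : ∀ (q : ℕ) (d : ℤ), VanM (idealA 𝒯 mT) (seg hT Qm.gr 𝒴).gr q d := fun q d =>
    vanM_seg_of_bij hT Qm.gr 𝒴 mT h1 h2 htd htm ht (pow_smul_bijective' hbij e)
      (pow_smul_bijective' hgY n') q d
  -- the short exact sequence of Segre products
  have hpi : ∀ v, p (i v) = 0 := by
    intro v
    rw [hp0]
    exact ⟨v, rfl⟩
  have hS := ses_seg_left hT (𝒴 := 𝒴) hig hpg (gamIncl_injective X hle) hps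
    (fun u hu => (hp0 u).mp hu) hpi
  intro q d
  exact les_mid (idealA 𝒯 mT) hS (q + 1) d (h q d) (hvQ (q + 1) d)

include he hg hgY hmT in
theorem filt (hX : IsStarInj (agr 𝒜) X.gr) (l : List R) :
    (∀ x ∈ l, ∃ n : ℤ, 0 < n ∧ x ∈ 𝒜 n) →
    ∀ (b b' : HomogeneousIdeal (agr 𝒜)), b'.toIdeal = b.toIdeal ⊔ Ideal.span {x | x ∈ l} →
    (∀ (q : ℕ) (d : ℤ), VanM (idealA 𝒯 mT) (seg hT (Gam X b').gr 𝒴).gr (q + 1) d) →
    ∀ (q : ℕ) (d : ℤ), VanM (idealA 𝒯 mT) (seg hT (Gam X b).gr 𝒴).gr (q + 1) d := by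
  induction l with
  | nil =>
    intro _ b b' hbb' h
    have e1 : {x : R | x ∈ ([] : List R)} = ∅ := by
      ext x
      simp
    rw [e1, Ideal.span_empty, sup_bot_eq] at hbb'
    have : b' = b := HomogeneousIdeal.ext hbb'
    subst this
    exact h
  | cons x l ih =>
    intro hl b b' hbb' h
    obtain ⟨n, hn, hxn⟩ := hl x (List.mem_cons_self)
    have hhom : (b.toIdeal ⊔ Ideal.span {x}).IsHomogeneous (agr 𝒜) := by
      apply Ideal.IsHomogeneous.sup b.isHomogeneous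
      apply Ideal.homogeneous_span
      intro y hy
      rw [Set.mem_singleton_iff] at hy
      rw [hy]
      exact ⟨n, hxn⟩
    let b₁ : HomogeneousIdeal (agr 𝒜) := ⟨b.toIdeal ⊔ Ideal.span {x}, hhom⟩
    have e1 : {y : R | y ∈ x :: l} = insert x {y : R | y ∈ l} := by
      ext y
      simp [List.mem_cons]
    have hb' : b'.toIdeal = b₁.toIdeal ⊔ Ideal.span {y | y ∈ l} := by
      rw [hbb', e1, Ideal.span_insert, ← sup_assoc]
    have h1 := ih (fun y hy => hl y (List.mem_cons_of_mem x hy)) b₁ b' hb' h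
    exact step hT 𝒴 mT hmT he hg hgY X hX b b₁ hn hxn rfl h1

include he hg hgY hmT hmR in
/-- The Segre product of a *injective module with a module having a bijective homogeneous
element of positive degree has no higher local cohomology. -/
theorem vanM_seg_starInj (hX : IsStarInj (agr 𝒜) X.gr) (q : ℕ) (d : ℤ) :
    VanM (idealA 𝒯 mT) (seg hT X.gr 𝒴).gr (q + 1) d := by
  classical
  -- finitely many homogeneous generators of positive degree
  have hfg : (Ideal.span (⋃ n ∈ Set.Ioi (0 : ℤ), (𝒜 n : Set R))).FG := by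
    rw [← hmR]
    exact IsNoetherian.noetherian _
  obtain ⟨s, hs, hspan⟩ := (Submodule.fg_span_iff_fg_span_finset_subset _).mp hfg
  have hl : ∀ x ∈ s.toList, ∃ n : ℤ, 0 < n ∧ x ∈ 𝒜 n := by
    intro x hx
    rw [Finset.mem_toList] at hx
    have := hs hx
    simp only [Set.mem_iUnion, Set.mem_Ioi, exists_prop] at this
    exact this
  let b0 : HomogeneousIdeal (agr 𝒜) := ⊥
  have hb : (idealA 𝒜 mR).toIdeal = b0.toIdeal ⊔ Ideal.span {x | x ∈ s.toList} := by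
    have e1 : {x : R | x ∈ s.toList} = (s : Set R) := by
      ext x
      simp
    rw [e1]
    change mR.toIdeal = ⊥ ⊔ Ideal.span (s : Set R)
    rw [bot_sup_eq, hmR]
    exact hspan
  -- the torsion part
  have htors : gam mR.toIdeal (Gam X (idealA 𝒜 mR)).carrier = ⊤ := by
    rw [eq_top_iff]
    intro u _
    obtain ⟨K, hK⟩ := gamSub_mem X (idealA 𝒜 mR) u
    refine ⟨K, fun r hr => ?_⟩
    apply gamSub_injective X (idealA 𝒜 mR)
    rw [map_smul, map_zero]
    exact hK r hr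
  have h0 : ∀ (q : ℕ) (d : ℤ),
      VanM (idealA 𝒯 mT) (seg hT (Gam X (idealA 𝒜 mR)).gr 𝒴).gr (q + 1) d := by
    intro q d
    apply vanM_of_tors (idealA 𝒯 mT)
    exact gam_seg_eq_top hT (Gam X (idealA 𝒜 mR)).gr 𝒴 mR mT hmR hmT htors
  have h1 := filt hT 𝒴 mT hmT he hg hgY X hX s.toList hl b0 (idealA 𝒜 mR) hb h0 q d
  -- `Γ_0(X) = X`
  have htop : ∀ x : X.carrier, x ∈ gam b0.toIdeal X.carrier := by
    intro x
    have : gam b0.toIdeal X.carrier = ⊤ := gam_bot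
    rw [this]
    trivial
  let f' : X.carrier →ₗ[R] (Gam X b0).carrier :=
    LinearMap.codRestrict (gam b0.toIdeal X.carrier) LinearMap.id htop
  have hf' : IsGrHom X.gr (Gam X b0).gr f' := fun _ _ h => h
  have hid : IsGrHom 𝒴 𝒴 (LinearMap.id : Y →ₗ[S] Y) := isGrHom_id
  refine vanM_of_retract (idealA 𝒯 mT) (gsegMap hT (gamSub_gr X b0) hid) (gsegMap_gr hT _ _)
    (gsegMap hT hf' hid) (gsegMap_gr hT _ _) ?_ (q + 1) d h1
  intro y
  have key : ∀ u : Seg hT X.gr 𝒴, segMap hT (gamSub_gr X b0) hid (segMap hT hf' hid u) = u := by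
    intro u
    rw [segMap_comp_apply, segMap_congr hT (isGrHom_comp hf' (gamSub_gr X b0)) (isGrHom_id)
      (isGrHom_comp hid hid) (isGrHom_id) rfl rfl, segMap_id]
  exact key y

end Filt

end Groth.Agent.Lib.Helper8.GrSegD
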