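import Groth.Agent.Lib.Helper8.GrSegD

/-!
# Local cohomology of a Segre product with a module having a bijective element
-/

set_option autoImplicit false
set_option linter.unusedSectionVars false
universe u

open DirectSum GrLC TensorProduct
open Groth.Agent.Lib.Helper30 Groth.Agent.Lib.Helper8.GrLCSub
open Groth.Agent.Lib.Helper8.GrLCBase
open Groth.Agent.Lib.Helper8.GrLCLES Groth.Agent.Lib.Helper8.GrLCTors
open Groth.Agent.Lib.Helper8.GrAcyc
open Groth.Agent.Lib.Helper93.Segre Groth.Agent.Lib.Helper93.SegreAct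
open Groth.Agent.Lib.Helper8.GrSegA Groth.Agent.Lib.Helper8.GrSegB Groth.Agent.Lib.Helper8.GrSegC
open Groth.Agent.Lib.Helper8.GrSegD

namespace Groth.Agent.Lib.Helper8.GrSegE

section Compare

variable {k : Type u} [Field k] {R S T : Type u} [CommRing R] [CommRing S] [CommRing T]
  [Algebra k R] [Algebra k S] [Algebra k T]
  {𝒜 : ℤ → Submodule k R} [GradedAlgebra 𝒜] {ℬ : ℤ → Submodule k S} [GradedAlgebra ℬ]
  {𝒯 : ℤ → Submodule k T} [GradedAlgebra 𝒯] {ψ : T →ₐ[k] R ⊗[k] S}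
  (hT : GrSeg.IsSegreRing 𝒜 ℬ 𝒯 ψ)
variable {M : Type u} [AddCommGroup M] [Module R M] [Module k M] [IsScalarTower k R M]
  {ℳ : ℤ → AddSubgroup M} [DirectSum.Decomposition ℳ] [SetLike.GradedSMul 𝒜 ℳ]
variable {N : Type u} [AddCommGroup N] [Module S N] [Module k N] [IsScalarTower k S N]
  {𝒩 : ℤ → AddSubgroup N} [DirectSum.Decomposition 𝒩] [SetLike.GradedSMul ℬ 𝒩]
variable {P : Type u} [AddCommGroup P] [Module T P] [Module k P] [IsScalarTower k T P]
  {𝒬 : ℤ → AddSubgroup P} [DirectSum.Decomposition 𝒬] [SetLike.GradedSMul 𝒯 𝒬]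
  {φ : P →ₗ[k] M ⊗[k] N} (hP : GrSeg.IsSegreMod ψ ℳ 𝒩 𝒬 φ)

include hP in
theorem phi_mem_segSub (p : P) : φ p ∈ segSub k ℳ 𝒩 := by
  classical
  induction p using DirectSum.Decomposition.inductionOn 𝒬 with
  | zero => rw [map_zero]; exact zero_mem _
  | homogeneous p =>
    exact piece_le ℳ 𝒩 _ ((mem_piece_iff ℳ 𝒩 𝒬 hP).mp p.2)
  | add p p' h h' => rw [map_add]; exact add_mem h h'

/-- The comparison map from an abstract Segre product to the concrete one. -/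
noncomputable def cmp : P →ₗ[T] (seg hT ℳ 𝒩).carrier where
  toFun p := Seg.mk hT ℳ 𝒩 (φ p) (phi_mem_segSub hP p)
  map_add' p p' := Seg.ext hT ℳ 𝒩 (by
    change φ (p + p') = φ p + φ p'
    exact map_add φ p p')
  map_smul' t p := Seg.ext hT ℳ 𝒩 (by
    change φ (t • p) = GrSeg.act k R S M N (ψ t) (φ p)
    exact hP.map_smul t p)

theorem incl_cmp (p : P) : Seg.incl hT ℳ 𝒩 (cmp hT hP p) = φ p := rfl

theorem cmp_injective : Function.Injective (cmp hT hP) := by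
  intro p p' h
  apply hP.injective
  have := congrArg (Seg.incl hT ℳ 𝒩) h
  exact this

theorem cmp_mem_iff (n : ℤ) (p : P) : cmp hT hP p ∈ (seg hT ℳ 𝒩).gr n ↔ p ∈ 𝒬 n :=
  (mem_piece_iff ℳ 𝒩 𝒬 hP).symm

theorem cmp_surjective : Function.Surjective (cmp hT hP) := by
  intro w
  refine Seg.induction hT ℳ 𝒩 (P := fun w => ∃ p : P, cmp hT hP p = w) ?_ ?_ ?_ w
  · exact ⟨0, map_zero _⟩
  · rintro w w' ⟨p, hp⟩ ⟨p', hp'⟩
    exact ⟨p + p', by rw [map_add, hp, hp']; rfl⟩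
  · intro n w hw
    have h1 : Seg.incl hT ℳ 𝒩 w ∈ φ '' (𝒬 n : Set P) := by
      rw [hP.image_piece n]
      exact hw
    obtain ⟨p, -, hp⟩ := h1
    exact ⟨p, Seg.ext hT ℳ 𝒩 hp⟩

end Compare

section Gen

variable {k : Type u} [Field k] {R S : Type u} [CommRing R] [CommRing S]
  [Algebra k R] [Algebra k S]
  {𝒜 : ℤ → Submodule k R} [GradedAlgebra 𝒜] {ℬ : ℤ → Submodule k S} [GradedAlgebra ℬ]
variable {X : Type u} [AddCommGroup X] [Module R X] [Module k X] [IsScalarTower k R X]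
  (𝒳 : ℤ → AddSubgroup X) [DirectSum.Decomposition 𝒳] [SetLike.GradedSMul 𝒜 𝒳]
variable {X' : Type u} [AddCommGroup X'] [Module R X'] [Module k X'] [IsScalarTower k R X']
variable {X'' : Type u} [AddCommGroup X''] [Module R X''] [Module k X''] [IsScalarTower k R X'']
variable {Y : Type u} [AddCommGroup Y] [Module S Y] [Module k Y] [IsScalarTower k S Y]
  (𝒴 : ℤ → AddSubgroup Y) [DirectSum.Decomposition 𝒴] [SetLike.GradedSMul ℬ 𝒴]

theorem tmap_comp_id (f : X →ₗ[R] X') (f' : X' →ₗ[R] X'') (w : X ⊗[k] Y) :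
    tmap k f' (LinearMap.id : Y →ₗ[S] Y) (tmap k f (LinearMap.id : Y →ₗ[S] Y) w) =
      tmap k (f' ∘ₗ f) (LinearMap.id : Y →ₗ[S] Y) w := by
  induction w using TensorProduct.induction_on with
  | zero => simp
  | add w w' h h' => rw [map_add, map_add, map_add, h, h']
  | tmul x y => rfl

theorem tmap_zero_id (w : X ⊗[k] Y) :
    tmap k (0 : X →ₗ[R] X') (LinearMap.id : Y →ₗ[S] Y) w = 0 := by
  induction w using TensorProduct.induction_on with
  | zero => simp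
  | add w w' h h' => rw [map_add, h, h', add_zero]
  | tmul x y =>
    rw [tmap_tmul, LinearMap.zero_apply, TensorProduct.zero_tmul]

include 𝒜 in
/-- The coordinates of an element of the Segre part are homogeneous. -/
theorem coord_mem_deg {w : X ⊗[k] Y} (hw : w ∈ segSub k 𝒳 𝒴) (i : HIdx k ℬ 𝒴) :
    coord k ℬ X 𝒴 i w ∈ 𝒳 i.1 := by
  refine segSub_induction 𝒳 𝒴 (P := fun w => coord k ℬ X 𝒴 i w ∈ 𝒳 i.1) ?_ ?_ ?_ hw
  · rw [map_zero]; exact zero_mem _
  · intro w w' h h'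
    rw [map_add]
    exact add_mem h h'
  · intro n w hw
    by_cases hn : n = i.1
    · subst hn
      exact coord_mem_of_mem_piece 𝒴 𝒳 (fun n c x hx => ksmul_mem (ℬ := 𝒜) 𝒳 c hx) hw i
    · rw [coord_eq_zero_of_mem_piece 𝒴 𝒳 hw i hn]
      exact zero_mem _

theorem mem_segSub_of_coord {w : X ⊗[k] Y} (h : ∀ i, coord k ℬ X 𝒴 i w ∈ 𝒳 i.1) :
    w ∈ segSub k 𝒳 𝒴 := by
  rw [eq_sum_coord (ℬ := ℬ) 𝒴 w]
  apply Submodule.sum_mem
  intro i _
  exact piece_le 𝒳 𝒴 i.1 (tmul_mem_piece 𝒳 𝒴 (h i) (hbasis_mem 𝒴 i))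

end Gen

section Res

variable {k : Type u} [Field k] {R S T : Type u} [CommRing R] [CommRing S] [CommRing T]
  [Algebra k R] [Algebra k S] [Algebra k T]
  {𝒜 : ℤ → Submodule k R} [GradedAlgebra 𝒜] {ℬ : ℤ → Submodule k S} [GradedAlgebra ℬ]
  {𝒯 : ℤ → Submodule k T} [GradedAlgebra 𝒯] {ψ : T →ₐ[k] R ⊗[k] S}
  (hT : GrSeg.IsSegreRing 𝒜 ℬ 𝒯 ψ)
variable {M : Type u} [AddCommGroup M] [Module R M] [Module k M] [IsScalarTower k R M]
  {ℳ : ℤ → AddSubgroup M} [DirectSum.Decomposition ℳ] [SetLike.GradedSMul 𝒜 ℳ]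
variable {N : Type u} [AddCommGroup N] [Module S N] [Module k N] [IsScalarTower k S N]
  {𝒩 : ℤ → AddSubgroup N} [DirectSum.Decomposition 𝒩] [SetLike.GradedSMul ℬ 𝒩]
variable {P : Type u} [AddCommGroup P] [Module T P] [Module k P] [IsScalarTower k T P]
  {𝒬 : ℤ → AddSubgroup P} [DirectSum.Decomposition 𝒬] [SetLike.GradedSMul 𝒯 𝒬]
  {φ : P →ₗ[k] M ⊗[k] N} (hP : GrSeg.IsSegreMod ψ ℳ 𝒩 𝒬 φ)
variable (E : StarInjRes (agr 𝒜) (agr ℳ))

theorem eps_gr : IsGrHom ℳ (E.X 0).gr E.ε := fun i x hx => E.ε_grHom i x hx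

theorem idN_gr : IsGrHom 𝒩 𝒩 (LinearMap.id : N →ₗ[S] N) := isGrHom_id

/-- The Segre product of a *injective resolution of `M` with `N`, a resolution of `P = M # N`. -/
noncomputable def segRes : GrRes (agr 𝒯) (agr 𝒬) where
  X p := seg hT (E.X p).gr 𝒩
  d p := gsegMap hT (E.d_grHom p) (idN_gr (𝒩 := 𝒩))
  ε := (gsegMap hT (eps_gr E) (idN_gr (𝒩 := 𝒩))) ∘ₗ (cmp hT hP)
  d_grHom p := gsegMap_gr hT _ _
  ε_grHom := by
    intro n p hp
    apply gsegMap_gr hT (eps_gr E) (idN_gr (𝒩 := 𝒩)) n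
    exact (cmp_mem_iff hT hP n p).mpr hp
  ε_injective := by
    have h1 : Function.Injective (segMap hT (eps_gr E) (idN_gr (𝒩 := 𝒩))) :=
      segMap_injective hT _ _ E.ε_injective (fun _ _ h => h)
    exact h1.comp (cmp_injective hT hP)
  exact_zero := by
    ext w
    constructor
    · intro hw
      rw [LinearMap.mem_ker] at hw
      obtain ⟨w', hw'⟩ := segMap_exact_left hT (eps_gr E) (E.d_grHom 0)
        (fun x hx => by
          have : x ∈ LinearMap.ker (E.d 0) := hx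
          rw [E.exact_zero] at this
          exact this)
        (fun m => by
          have : E.ε m ∈ LinearMap.ker (E.d 0) := by
            rw [E.exact_zero]
            exact ⟨m, rfl⟩
          exact this) w hw
      obtain ⟨p, hp⟩ := cmp_surjective hT hP w'
      refine ⟨p, ?_⟩
      rw [LinearMap.comp_apply, hp]
      exact hw'
    · rintro ⟨p, rfl⟩
      rw [LinearMap.mem_ker, LinearMap.comp_apply]
      have e0 : E.d 0 ∘ₗ E.ε = 0 := by
        ext m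
        have : E.ε m ∈ LinearMap.ker (E.d 0) := by
          rw [E.exact_zero]
          exact ⟨m, rfl⟩
        exact this
      have key : ∀ u : Seg hT ℳ 𝒩, segMap hT (E.d_grHom 0) (idN_gr (𝒩 := 𝒩))
          (segMap hT (eps_gr E) (idN_gr (𝒩 := 𝒩)) u) = 0 := by
        intro u
        rw [segMap_comp_apply, segMap_congr hT (isGrHom_comp (eps_gr E) (E.d_grHom 0))
          (isGrHom_zero) (isGrHom_comp (idN_gr (𝒩 := 𝒩)) (idN_gr (𝒩 := 𝒩)))
          (isGrHom_comp (idN_gr (𝒩 := 𝒩)) (idN_gr (𝒩 := 𝒩))) e0 rfl, segMap_zero_left]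
      exact key _
  exact_succ n := by
    ext w
    constructor
    · intro hw
      rw [LinearMap.mem_ker] at hw
      obtain ⟨w', hw'⟩ := segMap_exact_left hT (E.d_grHom n) (E.d_grHom (n + 1))
        (fun x hx => by
          have : x ∈ LinearMap.ker (E.d (n + 1)) := hx
          rw [E.exact_succ] at this
          exact this)
        (fun m => by
          have : E.d n m ∈ LinearMap.ker (E.d (n + 1)) := by
            rw [E.exact_succ]
            exact ⟨m, rfl⟩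
          exact this) w hw
      exact ⟨w', hw'⟩
    · rintro ⟨u, rfl⟩
      rw [LinearMap.mem_ker]
      have e0 : E.d (n + 1) ∘ₗ E.d n = 0 := by
        ext m
        have : E.d n m ∈ LinearMap.ker (E.d (n + 1)) := by
          rw [E.exact_succ]
          exact ⟨m, rfl⟩
        exact this
      have key : ∀ u : Seg hT (E.X n).gr 𝒩, segMap hT (E.d_grHom (n + 1)) (idN_gr (𝒩 := 𝒩))
          (segMap hT (E.d_grHom n) (idN_gr (𝒩 := 𝒩)) u) = 0 := by
        intro u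
        rw [segMap_comp_apply, segMap_congr hT (isGrHom_comp (E.d_grHom n) (E.d_grHom (n + 1)))
          (isGrHom_zero) (isGrHom_comp (idN_gr (𝒩 := 𝒩)) (idN_gr (𝒩 := 𝒩)))
          (isGrHom_comp (idN_gr (𝒩 := 𝒩)) (idN_gr (𝒩 := 𝒩))) e0 rfl, segMap_zero_left]
      exact key u

end Res

section Main

variable {k : Type u} [Field k] {R S T : Type u} [CommRing R] [CommRing S] [CommRing T]
  [Algebra k R] [Algebra k S] [Algebra k T] [IsNoetherianRing R] [IsNoetherianRing T]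
  {𝒜 : ℤ → Submodule k R} [GradedAlgebra 𝒜] {ℬ : ℤ → Submodule k S} [GradedAlgebra ℬ]
  {𝒯 : ℤ → Submodule k T} [GradedAlgebra 𝒯] {ψ : T →ₐ[k] R ⊗[k] S}
  (hT : GrSeg.IsSegreRing 𝒜 ℬ 𝒯 ψ)
variable {M : Type u} [AddCommGroup M] [Module R M] [Module k M] [IsScalarTower k R M]
  {ℳ : ℤ → AddSubgroup M} [DirectSum.Decomposition ℳ] [SetLike.GradedSMul 𝒜 ℳ]
variable {N : Type u} [AddCommGroup N] [Module S N] [Module k N] [IsScalarTower k S N]
  {𝒩 : ℤ → AddSubgroup N} [DirectSum.Decomposition 𝒩] [SetLike.GradedSMul ℬ 𝒩]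
variable {P : Type u} [AddCommGroup P] [Module T P] [Module k P] [IsScalarTower k T P]
  {𝒬 : ℤ → AddSubgroup P} [DirectSum.Decomposition 𝒬] [SetLike.GradedSMul 𝒯 𝒬]
  {φ : P →ₗ[k] M ⊗[k] N} (hP : GrSeg.IsSegreMod ψ ℳ 𝒩 𝒬 φ)
variable (mR : HomogeneousIdeal 𝒜) (mT : HomogeneousIdeal 𝒯)
  (hmR : mR.toIdeal = Ideal.span (⋃ n ∈ Set.Ioi (0 : ℤ), (𝒜 n : Set R)))
  (hmT : mT.toIdeal = Ideal.span (⋃ n ∈ Set.Ioi (0 : ℤ), (𝒯 n : Set T)))
variable {e : ℕ} (he : 0 < e) {g : S} (hg : g ∈ ℬ (e : ℤ))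
  (hgN : Function.Bijective (fun y : N => g • y))
variable (E : StarInjRes (agr 𝒜) (agr ℳ)) (q : ℕ)

/-- The inclusion of the terms of the Segre resolution into the tensor product. -/
noncomputable def xincl (p : ℕ) :
    ((segRes hT hP E).X p).carrier →+ (E.X p).carrier ⊗[k] N :=
  (Seg.incl hT (E.X p).gr 𝒩).toAddMonoidHom

theorem xincl_injective (p : ℕ) : Function.Injective (xincl hT hP E p) :=
  Seg.incl_injective hT (E.X p).gr 𝒩

theorem xincl_d (p : ℕ) (z : ((segRes hT hP E).X p).carrier) :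
    xincl hT hP E (p + 1) ((segRes hT hP E).d p z) =
      tmap k (E.d p) (LinearMap.id : N →ₗ[S] N) (xincl hT hP E p z) := rfl

theorem xincl_smul (p : ℕ) (t : T) (z : ((segRes hT hP E).X p).carrier) :
    xincl hT hP E p (t • z) = GrSeg.act k R S _ N (ψ t) (xincl hT hP E p z) := rfl

theorem xincl_mem (p : ℕ) (z : ((segRes hT hP E).X p).carrier) :
    xincl hT hP E p z ∈ segSub k (E.X p).gr 𝒩 := Seg.incl_mem hT (E.X p).gr 𝒩 z

theorem xincl_mem_piece (p : ℕ) (n : ℤ) (z : ((segRes hT hP E).X p).carrier) :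
    z ∈ ((segRes hT hP E).X p).gr n ↔
      xincl hT hP E p z ∈ GrSeg.segrePiece k (E.X p).gr 𝒩 n := Iff.rfl

/-- Elements of the Segre part, as elements of the terms of the Segre resolution. -/
noncomputable def xmk (p : ℕ) (w : (E.X p).carrier ⊗[k] N) (hw : w ∈ segSub k (E.X p).gr 𝒩) :
    ((segRes hT hP E).X p).carrier := Seg.mk hT (E.X p).gr 𝒩 w hw

theorem xincl_xmk (p : ℕ) (w : (E.X p).carrier ⊗[k] N) (hw : w ∈ segSub k (E.X p).gr 𝒩) :
    xincl hT hP E p (xmk hT hP E p w hw) = w := rfl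

include hmR hmT in
theorem mem_gam_of_coord (p : ℕ) (z : ((segRes hT hP E).X p).carrier)
    (h : ∀ i, coord k ℬ _ 𝒩 i (xincl hT hP E p z) ∈ gam mR.toIdeal (E.X p).carrier) :
    z ∈ gam (idealA 𝒯 mT).toIdeal ((segRes hT hP E).X p).carrier :=
  mem_gam_seg_of_coord hT (E.X p).gr 𝒩 mR mT hmR hmT z h

include hmR hmT he hg hgN in
theorem coord_mem_gam (p : ℕ) (z : ((segRes hT hP E).X p).carrier)
    (hz : z ∈ gam (idealA 𝒯 mT).toIdeal ((segRes hT hP E).X p).carrier) (i : HIdx k ℬ 𝒩) :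
    coord k ℬ _ 𝒩 i (xincl hT hP E p z) ∈ gam mR.toIdeal (E.X p).carrier :=
  coord_mem_gam_of_mem_gam hT (E.X p).gr 𝒩 mR mT hmR hmT he hg hgN z hz i

include hmR hmT he hg hgN in
theorem coord_cocyc (z : ↥((segRes hT hP E).cocyc (idealA 𝒯 mT).toIdeal q)) (i : HIdx k ℬ 𝒩) :
    coord k ℬ _ 𝒩 i (xincl hT hP E q z.1) ∈ E.cocyc (idealA 𝒜 mR) q := by
  refine ⟨coord_mem_gam hT hP mR mT hmR hmT he hg hgN E q z.1 z.2.1 i, ?_⟩
  change E.d q (coord k ℬ _ 𝒩 i (xincl hT hP E q z.1)) = 0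
  rw [← coord_tmap (S := S) 𝒩, ← xincl_d]
  have : (segRes hT hP E).d q z.1 = 0 := z.2.2
  rw [this, map_zero, map_zero]

/-- The inclusion `Z ⊗ N → E^q ⊗ N` of the cocycles. -/
noncomputable def iotaZ :
    ↥(E.cocyc (idealA 𝒜 mR) q) ⊗[k] N →ₗ[k] (E.X q).carrier ⊗[k] N :=
  tmap k (E.cocyc (idealA 𝒜 mR) q).subtype (LinearMap.id : N →ₗ[S] N)

omit [IsNoetherianRing R] [GradedAlgebra ℬ] [DirectSum.Decomposition 𝒩] [SetLike.GradedSMul ℬ 𝒩] in
theorem iotaZ_injective : Function.Injective (iotaZ mR E q (N := N) (S := S)) := by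
  unfold iotaZ tmap
  apply TensorProduct.map_injective_of_flat_flat
  · exact Subtype.val_injective
  · exact fun _ _ h => h

variable [hk : Module k (E.H (idealA 𝒜 mR) q)]
  [hkt : @IsScalarTower k R (E.H (idealA 𝒜 mR) q) _ _ hk.toSMul]

/-- The projection `Z ⊗ N → H ⊗ N`. -/
noncomputable def piH :
    ↥(E.cocyc (idealA 𝒜 mR) q) ⊗[k] N →ₗ[k] (E.H (idealA 𝒜 mR) q) ⊗[k] N :=
  tmap k (E.toH (idealA 𝒜 mR) q) (LinearMap.id : N →ₗ[S] N)

/-- The map `range (Z ⊗ N → E^q ⊗ N) → H ⊗ N`. -/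
noncomputable def theta0' :
    ↥(LinearMap.range (iotaZ mR E q (N := N) (S := S))) →ₗ[k] (E.H (idealA 𝒜 mR) q) ⊗[k] N :=
  (piH (S := S) mR E q) ∘ₗ
    (LinearEquiv.ofInjective (iotaZ mR E q (N := N) (S := S))
      (iotaZ_injective mR E q)).symm.toLinearMap

omit [IsNoetherianRing R] [IsNoetherianRing T] in
theorem theta0'_iota (v : ↥(E.cocyc (idealA 𝒜 mR) q) ⊗[k] N)
    (w : ↥(LinearMap.range (iotaZ mR E q (N := N) (S := S))))
    (hw : iotaZ (S := S) mR E q v = w.1) :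
    theta0' (S := S) mR E q w = piH (S := S) mR E q v := by
  unfold theta0'
  rw [LinearMap.comp_apply]
  congr 1
  rw [LinearEquiv.coe_coe, LinearEquiv.symm_apply_eq]
  apply Subtype.ext
  rw [LinearEquiv.ofInjective_apply]
  exact hw.symm

include hmR hmT he hg hgN in
omit hk hkt in
theorem xincl_mem_range (z : ↥((segRes hT hP E).cocyc (idealA 𝒯 mT).toIdeal q)) :
    xincl hT hP E q z.1 ∈ LinearMap.range (iotaZ mR E q (N := N) (S := S)) :=
  mem_range_of_coord 𝒩 (E.cocyc (idealA 𝒜 mR) q) _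
    (coord_cocyc hT hP mR mT hmR hmT he hg hgN E q z)

/-- The map from cocycles of the Segre resolution to `H ⊗ N`. -/
noncomputable def theta0 :
    ↥((segRes hT hP E).cocyc (idealA 𝒯 mT).toIdeal q) →+ (E.H (idealA 𝒜 mR) q) ⊗[k] N where
  toFun z := theta0' (S := S) mR E q
    ⟨xincl hT hP E q z.1, xincl_mem_range hT hP mR mT hmR hmT he hg hgN E q z⟩
  map_zero' := by
    have : (⟨xincl hT hP E q (0 : ↥((segRes hT hP E).cocyc (idealA 𝒯 mT).toIdeal q)).1,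
        xincl_mem_range hT hP mR mT hmR hmT he hg hgN E q 0⟩ :
        ↥(LinearMap.range (iotaZ mR E q (N := N) (S := S)))) = 0 :=
      Subtype.ext (map_zero _)
    rw [this, map_zero]
  map_add' z z' := by
    have : (⟨xincl hT hP E q (z + z').1,
        xincl_mem_range hT hP mR mT hmR hmT he hg hgN E q (z + z')⟩ :
        ↥(LinearMap.range (iotaZ mR E q (N := N) (S := S)))) =
        ⟨xincl hT hP E q z.1, xincl_mem_range hT hP mR mT hmR hmT he hg hgN E q z⟩ +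
        ⟨xincl hT hP E q z'.1, xincl_mem_range hT hP mR mT hmR hmT he hg hgN E q z'⟩ :=
      Subtype.ext (map_add _ _ _)
    rw [this, map_add]

theorem theta0_eq (z : ↥((segRes hT hP E).cocyc (idealA 𝒯 mT).toIdeal q))
    (v : ↥(E.cocyc (idealA 𝒜 mR) q) ⊗[k] N)
    (hv : iotaZ (S := S) mR E q v = xincl hT hP E q z.1) :
    theta0 hT hP mR mT hmR hmT he hg hgN E q z = piH (S := S) mR E q v :=
  theta0'_iota mR E q v _ hv

theorem theta0_smul (t : T) (z : ↥((segRes hT hP E).cocyc (idealA 𝒯 mT).toIdeal q)) :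
    theta0 hT hP mR mT hmR hmT he hg hgN E q (t • z) =
      GrSeg.act k R S _ N (ψ t) (theta0 hT hP mR mT hmR hmT he hg hgN E q z) := by
  obtain ⟨v, hv⟩ := xincl_mem_range hT hP mR mT hmR hmT he hg hgN E q z
  rw [theta0_eq hT hP mR mT hmR hmT he hg hgN E q z v hv,
    theta0_eq hT hP mR mT hmR hmT he hg hgN E q (t • z) (GrSeg.act k R S _ N (ψ t) v)]
  · unfold piH
    rw [tmap_act]
  · have h1 : ((t • z : ↥((segRes hT hP E).cocyc (idealA 𝒯 mT).toIdeal q)) :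
        ((segRes hT hP E).X q).carrier) = t • z.1 := rfl
    rw [h1, xincl_smul, ← hv]
    unfold iotaZ
    rw [tmap_act]

theorem theta0_of_cobdy (z : ↥((segRes hT hP E).cocyc (idealA 𝒯 mT).toIdeal q))
    (hz : z.1 ∈ (segRes hT hP E).cobdy (idealA 𝒯 mT).toIdeal q) :
    theta0 hT hP mR mT hmR hmT he hg hgN E q z = 0 := by
  cases q with
  | zero =>
    rw [GrRes.mem_cobdy_zero] at hz
    have : z = 0 := Subtype.ext hz
    rw [this, map_zero]
  | succ q' =>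
    rw [GrRes.mem_cobdy_succ] at hz
    obtain ⟨y, hy, hyz⟩ := hz
    have hc := coord_mem_gam hT hP mR mT hmR hmT he hg hgN E q' y hy
    obtain ⟨u, hu⟩ := mem_range_of_coord 𝒩 (gam (idealA 𝒜 mR).toIdeal (E.X q').carrier) _ hc
    let δ : ↥(gam (idealA 𝒜 mR).toIdeal (E.X q').carrier) →ₗ[R]
        ↥(E.cocyc (idealA 𝒜 mR) (q' + 1)) :=
      LinearMap.codRestrict (E.cocyc (idealA 𝒜 mR) (q' + 1))
        (E.d q' ∘ₗ (gam (idealA 𝒜 mR).toIdeal (E.X q').carrier).subtype)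
        (fun x => ⟨gam_map (idealA 𝒜 mR).toIdeal (E.d q') x.2, by
          have : E.d q' x.1 ∈ LinearMap.ker (E.d (q' + 1)) := by
            rw [E.exact_succ]
            exact ⟨x.1, rfl⟩
          exact this⟩)
    have hv : iotaZ (S := S) mR E (q' + 1) (tmap k δ (LinearMap.id : N →ₗ[S] N) u) =
        xincl hT hP E (q' + 1) z.1 := by
      unfold iotaZ
      rw [tmap_comp_id, ← hyz, xincl_d, ← hu, tmap_comp_id]
      rfl
    rw [theta0_eq hT hP mR mT hmR hmT he hg hgN E (q' + 1) z _ hv]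
    unfold piH
    rw [tmap_comp_id]
    have h0 : E.toH (idealA 𝒜 mR) (q' + 1) ∘ₗ δ = 0 := by
      ext x
      rw [LinearMap.comp_apply, LinearMap.zero_apply, Submodule.mkQ_apply,
        Submodule.Quotient.mk_eq_zero, Submodule.mem_comap]
      change E.d q' x.1 ∈ E.cobdy (idealA 𝒜 mR) (q' + 1)
      rw [mem_cobdy_succ]
      exact ⟨x.1, x.2, rfl⟩
    rw [h0, tmap_zero_id]

theorem cobdy_of_theta0 (z : ↥((segRes hT hP E).cocyc (idealA 𝒯 mT).toIdeal q))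
    (h : theta0 hT hP mR mT hmR hmT he hg hgN E q z = 0) :
    z.1 ∈ (segRes hT hP E).cobdy (idealA 𝒯 mT).toIdeal q := by
  classical
  obtain ⟨v, hv⟩ := xincl_mem_range hT hP mR mT hmR hmT he hg hgN E q z
  rw [theta0_eq hT hP mR mT hmR hmT he hg hgN E q z v hv] at h
  have hB : ∀ i, coord k ℬ _ 𝒩 i (xincl hT hP E q z.1) ∈ E.cobdy (idealA 𝒜 mR) q := by
    intro i
    have h1 := congrArg (coord k ℬ _ 𝒩 i) h
    unfold piH at h1
    rw [coord_tmap, map_zero, Submodule.mkQ_apply, Submodule.Quotient.mk_eq_zero,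
      Submodule.mem_comap] at h1
    rw [← hv]
    unfold iotaZ
    rw [coord_tmap]
    exact h1
  cases q with
  | zero =>
    rw [GrRes.mem_cobdy_zero]
    apply xincl_injective hT hP E 0
    rw [map_zero]
    apply eq_zero_of_coord (ℬ := ℬ) 𝒩
    intro i
    have := hB i
    rw [GrLCBase.mem_cobdy_zero] at this
    exact this
  | succ q' =>
    rw [GrRes.mem_cobdy_succ]
    have hdeg : ∀ i, coord k ℬ _ 𝒩 i (xincl hT hP E (q' + 1) z.1) ∈ (E.X (q' + 1)).gr i.1 :=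
      fun i => coord_mem_deg (𝒜 := 𝒜) (E.X (q' + 1)).gr 𝒩 (xincl_mem hT hP E (q' + 1) z.1) i
    have hex : ∀ i, ∃ y ∈ gam (idealA 𝒜 mR).toIdeal (E.X q').carrier,
        y ∈ (E.X q').gr i.1 ∧ E.d q' y = coord k ℬ _ 𝒩 i (xincl hT hP E (q' + 1) z.1) :=
      fun i => cobdy_homog E (idealA 𝒜 mR) (hB i) (hdeg i)
    choose y hy1 hy2 hy3 using hex
    set b := coordEquiv k ℬ (E.X (q' + 1)).carrier 𝒩 (xincl hT hP E (q' + 1) z.1) with hb
    set v' : (E.X q').carrier ⊗[k] N := ∑ i ∈ b.support, y i ⊗ₜ[k] hbasis k ℬ 𝒩 i with hv'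
    have hv'seg : v' ∈ segSub k (E.X q').gr 𝒩 := by
      apply Submodule.sum_mem
      intro i _
      exact piece_le (E.X q').gr 𝒩 i.1 (tmul_mem_piece (E.X q').gr 𝒩 (hy2 i) (hbasis_mem 𝒩 i))
    have hdv' : tmap k (E.d q') (LinearMap.id : N →ₗ[S] N) v' =
        xincl hT hP E (q' + 1) z.1 := by
      rw [hv', map_sum]
      conv_rhs => rw [eq_sum_coord (ℬ := ℬ) 𝒩 (xincl hT hP E (q' + 1) z.1)]
      rw [← hb, Finsupp.sum]
      apply Finset.sum_congr rfl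
      intro i _
      rw [tmap_tmul, hy3 i, LinearMap.id_apply]
      rfl
    refine ⟨xmk hT hP E q' v' hv'seg, ?_, ?_⟩
    · apply mem_gam_of_coord hT hP mR mT hmR hmT E q'
      intro j
      rw [xincl_xmk, hv', map_sum]
      apply Submodule.sum_mem
      intro i _
      rw [coord_tmul]
      exact Submodule.smul_of_tower_mem _ _ (hy1 i)
    · apply xincl_injective hT hP E (q' + 1)
      rw [xincl_d, xincl_xmk]
      exact hdv'

variable (𝒢R : ℤ → AddSubgroup (E.H (idealA 𝒜 mR) q))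
  (h𝒢R : ∀ (n : ℤ) (x : E.H (idealA 𝒜 mR) q), x ∈ 𝒢R n ↔
    ∃ ζ : ↥(E.cocyc (idealA 𝒜 mR) q), (ζ : (E.X q).carrier) ∈ (E.X q).gr n ∧
      E.toH (idealA 𝒜 mR) q ζ = x)

include h𝒢R in
theorem theta0_mem_piece (n : ℤ) (z : ↥((segRes hT hP E).cocyc (idealA 𝒯 mT).toIdeal q))
    (hz : z.1 ∈ ((segRes hT hP E).X q).gr n) :
    theta0 hT hP mR mT hmR hmT he hg hgN E q z ∈ GrSeg.segrePiece k 𝒢R 𝒩 n := by
  classical
  have hw : xincl hT hP E q z.1 ∈ GrSeg.segrePiece k (E.X q).gr 𝒩 n := hz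
  have hc := coord_cocyc hT hP mR mT hmR hmT he hg hgN E q z
  set b := coordEquiv k ℬ (E.X q).carrier 𝒩 (xincl hT hP E q z.1) with hb
  have hbc : ∀ i, b i = coord k ℬ _ 𝒩 i (xincl hT hP E q z.1) := fun i => rfl
  set v : ↥(E.cocyc (idealA 𝒜 mR) q) ⊗[k] N :=
    ∑ i ∈ b.support, (⟨b i, hc i⟩ : ↥(E.cocyc (idealA 𝒜 mR) q)) ⊗ₜ[k] hbasis k ℬ 𝒩 i with hv
  have hiv : iotaZ (S := S) mR E q v = xincl hT hP E q z.1 := by
    rw [hv, map_sum]
    conv_rhs => rw [eq_sum_coord (ℬ := ℬ) 𝒩 (xincl hT hP E q z.1)]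
    rw [← hb, Finsupp.sum]
    apply Finset.sum_congr rfl
    intro i _
    rfl
  rw [theta0_eq hT hP mR mT hmR hmT he hg hgN E q z v hiv, hv, map_sum]
  apply Submodule.sum_mem
  intro i hi
  unfold piH
  rw [tmap_tmul, LinearMap.id_apply]
  by_cases hn : n = i.1
  · apply Submodule.subset_span
    refine ⟨_, (h𝒢R n _).mpr ⟨⟨b i, hc i⟩, ?_, rfl⟩, _, ?_, rfl⟩
    · exact coord_mem_of_mem_piece 𝒩 (E.X q).gr
        (fun n c x hx => ksmul_mem (ℬ := 𝒜) (E.X q).gr c hx) hw i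
    · rw [hn]
      exact hbasis_mem 𝒩 i
  · exfalso
    rw [Finsupp.mem_support_iff] at hi
    exact hi (coord_eq_zero_of_mem_piece 𝒩 (E.X q).gr hw i hn)

omit hk hkt in
include hmR hmT in
theorem exists_cocyc_tmul (n : ℤ) (ζ : ↥(E.cocyc (idealA 𝒜 mR) q))
    (hζ : (ζ : (E.X q).carrier) ∈ (E.X q).gr n) {y : N} (hy : y ∈ 𝒩 n) :
    ∃ z : ↥((segRes hT hP E).cocyc (idealA 𝒯 mT).toIdeal q),
      z.1 ∈ ((segRes hT hP E).X q).gr n ∧ xincl hT hP E q z.1 = ζ.1 ⊗ₜ[k] y := by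
  have hw : ζ.1 ⊗ₜ[k] y ∈ GrSeg.segrePiece k (E.X q).gr 𝒩 n :=
    tmul_mem_piece (E.X q).gr 𝒩 hζ hy
  set z0 := xmk hT hP E q (ζ.1 ⊗ₜ[k] y) (piece_le (E.X q).gr 𝒩 n hw) with hz0
  have hz1 : z0 ∈ gam (idealA 𝒯 mT).toIdeal ((segRes hT hP E).X q).carrier := by
    apply mem_gam_of_coord hT hP mR mT hmR hmT E q
    intro i
    rw [xincl_xmk, coord_tmul]
    exact Submodule.smul_of_tower_mem _ _ ζ.2.1
  have hz2 : (segRes hT hP E).d q z0 = 0 := by
    apply xincl_injective hT hP E (q + 1)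
    rw [xincl_d, xincl_xmk, tmap_tmul, map_zero]
    have : E.d q ζ.1 = 0 := ζ.2.2
    rw [this, TensorProduct.zero_tmul]
  exact ⟨⟨z0, hz1, hz2⟩, hw, rfl⟩

include hT hP hmR hmT he hg hgN h𝒢R in
/-- **Local cohomology of a Segre product with a module having a bijective element.** -/
theorem exists_isSegreMod (F : StarInjRes (agr 𝒯) (agr 𝒬))
    [hkF : Module k (F.H (idealA 𝒯 mT) q)]
    [hktF : @IsScalarTower k T (F.H (idealA 𝒯 mT) q) _ _ hkF.toSMul]
    (𝒢T : ℤ → AddSubgroup (F.H (idealA 𝒯 mT) q)) [dT : DirectSum.Decomposition 𝒢T]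
    (h𝒢T : ∀ (n : ℤ) (x : F.H (idealA 𝒯 mT) q), x ∈ 𝒢T n ↔ x ∈ F.Hgr (idealA 𝒯 mT) q n) :
    ∃ φ' : F.H (idealA 𝒯 mT) q →ₗ[k] (E.H (idealA 𝒜 mR) q) ⊗[k] N,
      GrSeg.IsSegreMod ψ 𝒢R 𝒩 𝒢T φ' := by
  have hX : ∀ (n j : ℕ) (d : ℤ), VanM (idealA 𝒯 mT) ((segRes hT hP E).X n).gr (j + 1) d :=
    fun n j d => vanM_seg_starInj hT 𝒩 mR mT hmR hmT he hg hgN (E.X n) (E.starInj n) j d
  obtain ⟨Ψ, hΨ⟩ := GrAcycMain.main' (segRes hT hP E) F (idealA 𝒯 mT) hX q
  set tH := ((segRes hT hP E).toH (idealA 𝒯 mT).toIdeal q) with htH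
  have hsurj : Function.Surjective tH := Submodule.mkQ_surjective _
  set th0 := theta0 hT hP mR mT hmR hmT he hg hgN E q with hth0
  have hker : tH.toAddMonoidHom.ker ≤ th0.ker := by
    intro z hz
    rw [AddMonoidHom.mem_ker] at hz ⊢
    have hz' : tH z = 0 := hz
    rw [htH, GrRes.toH_eq_zero_iff] at hz'
    exact theta0_of_cobdy hT hP mR mT hmR hmT he hg hgN E q z hz'
  set θ : (segRes hT hP E).H (idealA 𝒯 mT).toIdeal q →+ (E.H (idealA 𝒜 mR) q) ⊗[k] N :=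
    AddMonoidHom.liftOfRightInverse tH.toAddMonoidHom (Function.surjInv hsurj)
      (Function.rightInverse_surjInv hsurj) ⟨th0, hker⟩ with hθ
  have hθz : ∀ z, θ (tH z) = th0 z := by
    intro z
    exact AddMonoidHom.liftOfRightInverse_comp_apply tH.toAddMonoidHom (Function.surjInv hsurj)
      (Function.rightInverse_surjInv hsurj) ⟨th0, hker⟩ z
  have hθsmul : ∀ (t : T) (x : (segRes hT hP E).H (idealA 𝒯 mT).toIdeal q),
      θ (t • x) = GrSeg.act k R S _ N (ψ t) (θ x) := by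
    intro t x
    obtain ⟨z, rfl⟩ := hsurj x
    rw [← map_smul, hθz, hθz]
    exact theta0_smul hT hP mR mT hmR hmT he hg hgN E q t z
  letI : SMul k (F.H (idealA 𝒯 mT) q) := hkF.toSMul
  have hksmul : ∀ (c : k) (h : F.H (idealA 𝒯 mT) q), c • h = algebraMap k T c • h := by
    intro c h
    rw [Algebra.algebraMap_eq_smul_one]
    exact (smul_one_smul T c h).symm
  let φ' : F.H (idealA 𝒯 mT) q →ₗ[k] (E.H (idealA 𝒜 mR) q) ⊗[k] N :=
    { toFun := fun h => θ (Ψ.symm h)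
      map_add' := fun h h' => by rw [map_add, map_add]
      map_smul' := fun c h => by
        rw [RingHom.id_apply, hksmul, map_smul, hθsmul, AlgHom.commutes,
          Algebra.algebraMap_eq_smul_one, map_smul, LinearMap.smul_apply, act_one] }
  have hφ' : ∀ h, φ' h = θ (Ψ.symm h) := fun h => rfl
  refine ⟨φ', ?_, ?_, ?_⟩
  · -- injectivity
    rw [injective_iff_map_eq_zero]
    intro h hh
    rw [hφ'] at hh
    obtain ⟨z, hz⟩ := hsurj (Ψ.symm h)
    rw [← hz, hθz] at hh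
    have h1 := cobdy_of_theta0 hT hP mR mT hmR hmT he hg hgN E q z hh
    rw [← GrRes.toH_eq_zero_iff, ← htH, hz] at h1
    exact (LinearEquiv.map_eq_zero_iff Ψ.symm).mp h1
  · -- image of the pieces
    intro n
    ext w
    constructor
    · rintro ⟨h, hh, rfl⟩
      have h1 : h ∈ F.Hgr (idealA 𝒯 mT) q n := (h𝒢T n h).mp hh
      have h2 : Ψ.symm h ∈ (segRes hT hP E).Hgr (idealA 𝒯 mT).toIdeal q n := by
        rw [hΨ n, LinearEquiv.apply_symm_apply]
        exact h1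
      obtain ⟨z, hzn, hz⟩ := h2
      rw [hφ', ← hz]
      change θ (tH z) ∈ _
      rw [hθz]
      exact theta0_mem_piece hT hP mR mT hmR hmT he hg hgN E q 𝒢R h𝒢R n z hzn
    · intro hw
      have key : ∀ w ∈ Submodule.span k
          {x : (E.H (idealA 𝒜 mR) q) ⊗[k] N | ∃ a ∈ 𝒢R n, ∃ b ∈ 𝒩 n, x = a ⊗ₜ[k] b},
          ∃ h ∈ 𝒢T n, φ' h = w := by
        intro w hw'
        induction hw' using Submodule.span_induction with
        | mem w hw =>
          obtain ⟨x, hx, y, hy, rfl⟩ := hw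
          obtain ⟨ζ, hζ, rfl⟩ := (h𝒢R n x).mp hx
          obtain ⟨z, hzn, hz⟩ := exists_cocyc_tmul hT hP mR mT hmR hmT E q n ζ hζ hy
          refine ⟨Ψ (tH z), (h𝒢T n _).mpr ((hΨ n _).mp ⟨z, hzn, rfl⟩), ?_⟩
          rw [hφ', LinearEquiv.symm_apply_apply, hθz]
          have := theta0_eq hT hP mR mT hmR hmT he hg hgN E q z (ζ ⊗ₜ[k] y) hz.symm
          rw [hth0, this]
          rfl
        | zero => exact ⟨0, zero_mem _, map_zero _⟩
        | add w w' _ _ h1 h2 =>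
          obtain ⟨a, ha, rfl⟩ := h1
          obtain ⟨a', ha', rfl⟩ := h2
          exact ⟨a + a', add_mem ha ha', map_add _ _ _⟩
        | smul c w _ h1 =>
          obtain ⟨a, ha, rfl⟩ := h1
          refine ⟨c • a, ?_, map_smul _ _ _⟩
          rw [h𝒢T] at ha ⊢
          rw [hksmul]
          obtain ⟨z, hzn, rfl⟩ := ha
          refine ⟨algebraMap k T c • z, ?_, map_smul _ _ _⟩
          have h0 : algebraMap k T c ∈ agr 𝒯 0 := SetLike.algebraMap_mem_graded 𝒯 c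
          have := SetLike.GradedSMul.smul_mem (A := agr 𝒯) (B := (F.X q).gr) h0 hzn
          rw [vadd_eq_add, zero_add] at this
          exact this
      obtain ⟨h, hh, rfl⟩ := key w hw
      exact ⟨h, hh, rfl⟩
  · -- equivariance
    intro t h
    rw [hφ', hφ', map_smul, hθsmul]

end Main

end Groth.Agent.Lib.Helper8.GrSegE
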