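import Groth.Agent.Lib.Helper8.GrLCCM
import Groth.Agent.Lib.Helper8.GrStarLocal
import Groth.Agent.Lib.Helper99.CMGlueA
import Groth.Agent.Lib.Helper11.CMLocalize
import Groth.Agent.Lib.Helper24.ExtReesE

/-!
# Vanishing of graded local cohomology below the dimension implies Cohen–Macaulay
-/

set_option autoImplicit false
set_option linter.unusedSectionVars false
universe u

open DirectSum GrLC
open Groth.Agent.Lib.Helper8.GrLCLES

namespace Groth.Agent.Lib.Helper8.GrSegF

variable {R : Type u} [CommRing R] [IsNoetherianRing R] {𝒜 : ℤ → AddSubgroup R} [GradedRing 𝒜]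

/-- A positively graded Noetherian *local ring whose graded local cohomology vanishes below the
dimension is a Cohen–Macaulay ring. -/
theorem cm_of_vanM (hpos : ∀ n : ℤ, n < 0 → 𝒜 n = ⊥) (m : HomogeneousIdeal 𝒜)
    (hm : IsStarLocal 𝒜 m) (d : ℕ) (hd : ringKrullDim R = d)
    (h : ∀ i : ℕ, i < d → ∀ g : ℤ, VanM m 𝒜 i g) : LocCoh.IsCohenMacaulayRing R := by
  classical
  haveI hmax : m.toIdeal.IsMaximal :=
    Groth.Agent.Lib.Helper8.GrLCPieces.isMaximal_of_isStarLocal hpos m hm
  have hht : m.toIdeal.height = d := by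
    have := Groth.Agent.Lib.Helper8.GrHeight.ringKrullDim_eq_height 𝒜 m hm
    rw [hd] at this
    exact (WithBot.coe_injective this).symm
  have hIM : m.toIdeal • (⊤ : Submodule R R) ≠ ⊤ := by
    rw [smul_eq_mul, Ideal.mul_top]
    exact hmax.ne_top
  have hsub : ∀ i : ℕ, i < d → Subsingleton (LocCoh.H m.toIdeal i R) := fun i hi =>
    (Groth.Agent.Lib.Helper8.GrLCCompareRows.subsingleton_iff_vanM (ℳ := 𝒜) m i).mpr (h i hi)
  have hdepth : (d : ℕ∞) ≤ LocCoh.idealDepth m.toIdeal R := by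
    by_contra hcon
    rw [not_le] at hcon
    obtain ⟨n, hn⟩ := ENat.ne_top_iff_exists.mp (ne_top_of_lt hcon)
    rw [← hn] at hcon
    have hnd : n < d := by exact_mod_cast hcon
    have h1 := (Groth.Agent.Lib.Helper92.LC.idealDepth_eq_iff m.toIdeal R hIM n).mp hn.symm
    have hs := hsub n hnd
    have hnt := h1.2
    exact (not_subsingleton_iff_nontrivial.mpr hnt) hs
  haveI hCMm : LocCoh.IsCohenMacaulayLocalRing (Localization.AtPrime m.toIdeal) :=
    Groth.Agent.Lib.Helper99.CM.isCMLocal_of_height_le_idealDepth R m.toIdeal (by rw [hht]; exact hdepth)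
  refine { isCohenMacaulayLocalRing_localization := fun P hP => ?_ }
  haveI hq : (Ideal.homogeneousCore 𝒜 P).toIdeal.IsPrime := hP.homogeneousCore
  have hle : (Ideal.homogeneousCore 𝒜 P).toIdeal ≤ m.toIdeal := by
    exact _root_.toIdeal_le_toIdeal_iff.mpr
      (Groth.Agent.Lib.Helper8.GrStarLocal.le_of_isStarLocal 𝒜 m hm (Ideal.homogeneousCore 𝒜 P)
        hq.ne_top)
  have h2 : LocCoh.IsCohenMacaulayLocalRing
      (Localization.AtPrime (Ideal.homogeneousCore 𝒜 P).toIdeal) :=
    Groth.Agent.Lib.Helper11.CMLocalize.isCohenMacaulayLocalRing_atPrime_of_le R m.toIdeal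
      (Ideal.homogeneousCore 𝒜 P).toIdeal hle
  exact Groth.Agent.Lib.Helper24.ExtRees.cm_of_cm_core 𝒜 P h2

end Groth.Agent.Lib.Helper8.GrSegF
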