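import Groth.Agent.Lib.Helper8.GrSegE

/-!
# Vanishing of the local cohomology of a Segre product with a module having a bijective element
-/

set_option autoImplicit false
set_option linter.unusedSectionVars false
universe u

open DirectSum GrLC TensorProduct
open Groth.Agent.Lib.Helper30 Groth.Agent.Lib.Helper8.GrLCSub
open Groth.Agent.Lib.Helper8.GrLCBase
open Groth.Agent.Lib.Helper8.GrLCLES Groth.Agent.Lib.Helper8.GrLCTors
open Groth.Agent.Lib.Helper8.GrAcyc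
open Groth.Agent.Lib.Helper93.Segre Groth.Agent.Lib.Helper93.SegreAct
open Groth.Agent.Lib.Helper8.GrSegA Groth.Agent.Lib.Helper8.GrSegB Groth.Agent.Lib.Helper8.GrSegC
open Groth.Agent.Lib.Helper8.GrSegD Groth.Agent.Lib.Helper8.GrSegE

namespace Groth.Agent.Lib.Helper8.GrSegG

variable {k : Type u} [Field k] {R S T : Type u} [CommRing R] [CommRing S] [CommRing T]
  [Algebra k R] [Algebra k S] [Algebra k T] [IsNoetherianRing R] [IsNoetherianRing T]
  {𝒜 : ℤ → Submodule k R} [GradedAlgebra 𝒜] {ℬ : ℤ → Submodule k S} [GradedAlgebra ℬ]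
  {𝒯 : ℤ → Submodule k T} [GradedAlgebra 𝒯] {ψ : T →ₐ[k] R ⊗[k] S}
  (hT : GrSeg.IsSegreRing 𝒜 ℬ 𝒯 ψ)
variable {M : Type u} [AddCommGroup M] [Module R M] [Module k M] [IsScalarTower k R M]
  {ℳ : ℤ → AddSubgroup M} [DirectSum.Decomposition ℳ] [SetLike.GradedSMul 𝒜 ℳ]
variable {N : Type u} [AddCommGroup N] [Module S N] [Module k N] [IsScalarTower k S N]
  {𝒩 : ℤ → AddSubgroup N} [DirectSum.Decomposition 𝒩] [SetLike.GradedSMul ℬ 𝒩]
variable {P : Type u} [AddCommGroup P] [Module T P] [Module k P] [IsScalarTower k T P]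
  {𝒬 : ℤ → AddSubgroup P} [DirectSum.Decomposition 𝒬] [SetLike.GradedSMul 𝒯 𝒬]
  {φ : P →ₗ[k] M ⊗[k] N} (hP : GrSeg.IsSegreMod ψ ℳ 𝒩 𝒬 φ)
variable (mR : HomogeneousIdeal 𝒜) (mT : HomogeneousIdeal 𝒯)
  (hmR : mR.toIdeal = Ideal.span (⋃ n ∈ Set.Ioi (0 : ℤ), (𝒜 n : Set R)))
  (hmT : mT.toIdeal = Ideal.span (⋃ n ∈ Set.Ioi (0 : ℤ), (𝒯 n : Set T)))
variable {e : ℕ} (he : 0 < e) {g : S} (hg : g ∈ ℬ (e : ℤ))
  (hgN : Function.Bijective (fun y : N => g • y))
variable (E : StarInjRes (agr 𝒜) (agr ℳ)) (q : ℕ)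

include hT hP hmR hmT he hg hgN in
/-- If `H^q_m(M) = 0` and `N` has a bijective homogeneous element of positive degree, then
`H^q_{T_+}(M # N) = 0`. -/
theorem vanM_of_H_zero (hzero : ∀ x : E.H (idealA 𝒜 mR) q, x = 0) (d : ℤ) :
    VanM (idealA 𝒯 mT) (agr 𝒬) q d := by
  intro F
  have hX : ∀ (n j : ℕ) (d : ℤ), VanM (idealA 𝒯 mT) ((segRes hT hP E).X n).gr (j + 1) d :=
    fun n j d => vanM_seg_starInj hT 𝒩 mR mT hmR hmT he hg hgN (E.X n) (E.starInj n) j d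
  obtain ⟨Ψ, hΨ⟩ := GrAcycMain.main' (segRes hT hP E) F (idealA 𝒯 mT) hX q
  letI hk : Module k (E.H (idealA 𝒜 mR) q) := Module.compHom _ (algebraMap k R)
  haveI hkt : IsScalarTower k R (E.H (idealA 𝒜 mR) q) := ⟨fun c r x => by
    change (c • r) • x = algebraMap k R c • (r • x)
    rw [Algebra.smul_def, mul_smul]⟩
  have hsub : Subsingleton ((E.H (idealA 𝒜 mR) q) ⊗[k] N) := by
    haveI : Subsingleton (E.H (idealA 𝒜 mR) q) := ⟨fun a b => by rw [hzero a, hzero b]⟩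
    infer_instance
  have hXH : ∀ x : (segRes hT hP E).H (idealA 𝒯 mT).toIdeal q, x = 0 := by
    intro x
    obtain ⟨z, rfl⟩ := Submodule.mkQ_surjective _ x
    change (segRes hT hP E).toH (idealA 𝒯 mT).toIdeal q z = 0
    rw [GrRes.toH_eq_zero_iff]
    exact cobdy_of_theta0 hT hP mR mT hmR hmT he hg hgN E q z (Subsingleton.elim _ _)
  have hFH : ∀ y : F.H (idealA 𝒯 mT) q, y = 0 := by
    intro y
    have := hXH (Ψ.symm y)
    exact (LinearEquiv.map_eq_zero_iff Ψ.symm).mp this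
  rw [← vanM_iff (idealA 𝒯 mT) F, vanM_iff_hcomp (idealA 𝒯 mT) F, eq_bot_iff]
  intro x _
  rw [hFH x]
  exact Submodule.zero_mem _

end Groth.Agent.Lib.Helper8.GrSegG
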