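import Groth.Agent.Lib.Helper8.GrSegF
import Groth.Agent.Lib.Helper8.GrSegG

/-!
# Homogeneous prime avoidance and homogeneous parameters in dimension one
-/

set_option autoImplicit false
set_option linter.unusedSectionVars false
universe u

open DirectSum GrLC

namespace Groth.Agent.Lib.Helper8.GrSegH

section Avoid

variable {R : Type u} [CommRing R] (𝒜 : ℤ → AddSubgroup R) [GradedRing 𝒜]

theorem exists_homog_not_mem (b p : Ideal R) (hb : b.IsHomogeneous 𝒜) (hbp : ¬ b ≤ p) :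
    ∃ n : ℤ, ∃ y ∈ 𝒜 n, y ∈ b ∧ y ∉ p := by
  classical
  obtain ⟨z, hzb, hzp⟩ := SetLike.not_le_iff_exists.mp hbp
  by_contra hcon
  push Not at hcon
  apply hzp
  rw [← DirectSum.sum_support_decompose 𝒜 z]
  apply Ideal.sum_mem
  intro i _
  exact hcon i _ (decompose 𝒜 z i).2 (hb i hzb)

theorem inf_isHomogeneous (s : Finset (Ideal R)) (hs : ∀ p ∈ s, p.IsHomogeneous 𝒜) :
    (s.inf id).IsHomogeneous 𝒜 := by
  classical
  induction s using Finset.induction with
  | empty =>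
    rw [Finset.inf_empty]
    exact Ideal.IsHomogeneous.top 𝒜
  | insert p s _ ih =>
    rw [Finset.inf_insert]
    exact Ideal.IsHomogeneous.inf (hs p (Finset.mem_insert_self p s))
      (ih (fun q hq => hs q (Finset.mem_insert_of_mem hq)))

/-- Homogeneous prime avoidance. -/
theorem avoid : ∀ (s : Finset (Ideal R)), (∀ p ∈ s, p.IsPrime ∧ p.IsHomogeneous 𝒜) →
    ∀ (a : Ideal R), a.IsHomogeneous 𝒜 →
    (∀ n : ℤ, n ≤ 0 → ∀ y ∈ 𝒜 n, y ∈ a → y = 0) → (∀ p ∈ s, ¬ a ≤ p) →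
    ∃ n : ℕ, 0 < n ∧ ∃ x ∈ 𝒜 (n : ℤ), x ∈ a ∧ ∀ p ∈ s, x ∉ p := by
  classical
  intro s
  induction s using Finset.strongInduction with
  | H s ih =>
  intro hs a ha ha0 hnot
  by_cases hse : s = ∅
  · subst hse
    exact ⟨1, one_pos, 0, zero_mem _, zero_mem _, fun p hp => absurd hp (Finset.notMem_empty p)⟩
  obtain ⟨p, hp⟩ := Finset.nonempty_iff_ne_empty.mpr hse
  set s'' := (s.erase p).filter (fun p' => ¬ p' ≤ p) with hs''
  have hsub : s'' ⊆ s := fun q hq => Finset.mem_of_mem_erase (Finset.mem_filter.mp hq).1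
  have hss : s'' ⊂ s := by
    refine Finset.ssubset_iff_subset_ne.mpr ⟨hsub, fun h => ?_⟩
    have : p ∈ s'' := h ▸ hp
    exact (Finset.notMem_erase p s) (Finset.mem_filter.mp this).1
  obtain ⟨n₀, hn₀, x₀, hx₀d, hx₀a, hx₀s⟩ := ih s'' hss (fun q hq => hs q (hsub hq)) a ha ha0
    (fun q hq => hnot q (hsub hq))
  have hpp := (hs p hp).1
  have key : ∀ x : R, x ∉ p → (∀ q ∈ s'', x ∉ q) → ∀ q ∈ s, x ∉ q := by
    intro x hxp hxs q hq
    by_cases hqp : q = p
    · rw [hqp]; exact hxp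
    by_cases hle : q ≤ p
    · exact fun h => hxp (hle h)
    · exact hxs q (Finset.mem_filter.mpr ⟨Finset.mem_erase.mpr ⟨hqp, hq⟩, hle⟩)
  by_cases hx₀p : x₀ ∈ p
  · -- build `y`
    set b : Ideal R := (insert a s'').inf id with hb
    have hbh : b.IsHomogeneous 𝒜 := by
      apply inf_isHomogeneous
      intro q hq
      rcases Finset.mem_insert.mp hq with rfl | hq
      · exact ha
      · exact (hs q (hsub hq)).2
    have hbp : ¬ b ≤ p := by
      intro h
      obtain ⟨q, hq, hqp⟩ := (Ideal.IsPrime.inf_le' hpp).mp h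
      rcases Finset.mem_insert.mp hq with rfl | hq
      · exact hnot p hp hqp
      · exact (Finset.mem_filter.mp hq).2 hqp
    obtain ⟨j, y, hyd, hyb, hyp⟩ := exists_homog_not_mem 𝒜 b p hbh hbp
    have hya : y ∈ a := (Finset.inf_le (Finset.mem_insert_self a s'') : b ≤ id a) hyb
    have hyq : ∀ q ∈ s'', y ∈ q := fun q hq =>
      (Finset.inf_le (Finset.mem_insert_of_mem hq) : b ≤ id q) hyb
    have hj : 0 < j := by
      by_contra hj
      rw [not_lt] at hj
      apply hyp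
      rw [ha0 j hj y hyd hya]
      exact zero_mem _
    obtain ⟨j', rfl⟩ : ∃ j' : ℕ, j = (j' : ℤ) := ⟨j.toNat, (Int.toNat_of_nonneg hj.le).symm⟩
    have hj' : 0 < j' := by exact_mod_cast hj
    have h1 : x₀ ^ j' ∈ 𝒜 ((j' * n₀ : ℕ) : ℤ) := by
      have := SetLike.pow_mem_graded j' hx₀d
      rw [nsmul_eq_mul] at this
      push_cast
      exact this
    have h2 : y ^ n₀ ∈ 𝒜 ((j' * n₀ : ℕ) : ℤ) := by
      have := SetLike.pow_mem_graded n₀ hyd
      rw [nsmul_eq_mul, mul_comm] at this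
      push_cast
      exact this
    refine ⟨j' * n₀, Nat.mul_pos hj' hn₀, x₀ ^ j' + y ^ n₀, add_mem h1 h2,
      add_mem (Ideal.pow_mem_of_mem a hx₀a j' hj') (Ideal.pow_mem_of_mem a hya n₀ hn₀), ?_⟩
    apply key
    · intro h
      have h3 : x₀ ^ j' ∈ p := Ideal.pow_mem_of_mem p hx₀p j' hj'
      have h4 : y ^ n₀ ∈ p := (Ideal.add_mem_iff_right p h3).mp h
      exact hyp (hpp.mem_of_pow_mem n₀ h4)
    · intro q hq h
      have hqp := (hs q (hsub hq)).1
      have h3 : y ^ n₀ ∈ q := Ideal.pow_mem_of_mem q (hyq q hq) n₀ hn₀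
      have h4 : x₀ ^ j' ∈ q := (Ideal.add_mem_iff_left q h3).mp h
      exact hx₀s q hq (hqp.mem_of_pow_mem j' h4)
  · exact ⟨n₀, hn₀, x₀, hx₀d, hx₀a, key x₀ hx₀p hx₀s⟩

end Avoid

section Param

variable {R : Type u} [CommRing R] [IsNoetherianRing R] (𝒜 : ℤ → AddSubgroup R) [GradedRing 𝒜]

/-- In a one-dimensional positively graded Noetherian *local ring without `m`-torsion there is a
homogeneous regular element of positive degree generating an `m`-primary ideal. -/
theorem exists_param (hpos : ∀ n : ℤ, n < 0 → 𝒜 n = ⊥) (m : HomogeneousIdeal 𝒜)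
    (hm : GrLC.IsStarLocal 𝒜 m)
    (hm0 : ∀ n : ℤ, n ≤ 0 → ∀ y ∈ 𝒜 n, y ∈ m.toIdeal → y = 0)
    (hgam : gam m.toIdeal R = ⊥) (hdim : ringKrullDim R = 1) :
    ∃ n : ℕ, 0 < n ∧ ∃ x ∈ 𝒜 (n : ℤ), x ∈ m.toIdeal ∧ IsSMulRegular R x ∧
      m.toIdeal ≤ (Ideal.span {x}).radical := by
  classical
  have hfin : (associatedPrimes R R).Finite := associatedPrimes.finite R R
  set s : Finset (Ideal R) :=
    hfin.toFinset.image (fun P => (P.homogeneousCore 𝒜).toIdeal) with hs
  have hs1 : ∀ p ∈ s, p.IsPrime ∧ p.IsHomogeneous 𝒜 := by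
    intro p hp
    obtain ⟨P, hP, rfl⟩ := Finset.mem_image.mp hp
    rw [Set.Finite.mem_toFinset] at hP
    have hPp : P.IsPrime := (AssociatedPrimes.mem_iff.mp hP).isPrime
    exact ⟨hPp.homogeneousCore, (P.homogeneousCore 𝒜).isHomogeneous⟩
  have hnot : ∀ p ∈ s, ¬ m.toIdeal ≤ p := by
    intro p hp hle
    obtain ⟨P, hP, rfl⟩ := Finset.mem_image.mp hp
    rw [Set.Finite.mem_toFinset] at hP
    have hmP : m.toIdeal ≤ P := hle.trans (Ideal.toIdeal_homogeneousCore_le 𝒜 P)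
    rw [AssociatedPrimes.mem_iff, isAssociatedPrime_iff] at hP
    obtain ⟨hprime, z, hz⟩ := hP
    have hz0 : z ≠ 0 := by
      rintro rfl
      apply hprime.ne_top
      rw [hz, eq_top_iff]
      intro r _
      rw [Submodule.mem_colon_singleton, smul_zero]
      exact Submodule.zero_mem _
    have hzg : z ∈ gam m.toIdeal R := ⟨1, fun r hr => by
      rw [pow_one] at hr
      have := hmP hr
      rw [hz, Submodule.mem_colon_singleton, Submodule.mem_bot] at this
      exact this⟩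
    rw [hgam, Submodule.mem_bot] at hzg
    exact hz0 hzg
  obtain ⟨n, hn, x, hxd, hxm, hxs⟩ := avoid 𝒜 s hs1 m.toIdeal m.isHomogeneous hm0 hnot
  have hxP : ∀ P ∈ associatedPrimes R R, x ∉ P := by
    intro P hP hxP
    apply hxs _ (Finset.mem_image.mpr ⟨P, (Set.Finite.mem_toFinset hfin).mpr hP, rfl⟩)
    exact Ideal.mem_homogeneousCore_of_homogeneous_of_mem ⟨_, hxd⟩ hxP
  have hzd : x ∉ {r : R | ∃ y : R, y ≠ 0 ∧ r • y = 0} := by
    rw [← biUnion_associatedPrimes_eq_zero_divisors R R]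
    intro h
    obtain ⟨p, hp, hvmem⟩ := Set.mem_iUnion₂.mp h
    exact hxP p hp hvmem
  have hreg : IsSMulRegular R x := by
    intro y y' hyy'
    by_contra hne
    apply hzd
    refine ⟨y - y', sub_ne_zero.mpr hne, ?_⟩
    rw [smul_sub]
    exact sub_eq_zero.mpr hyy'
  refine ⟨n, hn, x, hxd, hxm, hreg, ?_⟩
  have hxh : (Ideal.span {x}).IsHomogeneous 𝒜 :=
    Ideal.homogeneous_span 𝒜 {x} (by rintro y rfl; exact ⟨_, hxd⟩)
  have hmax : m.toIdeal.IsMaximal :=
    Groth.Agent.Lib.Helper8.GrLCPieces.isMaximal_of_isStarLocal hpos m hm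
  rw [hxh.radical_eq]
  apply le_sInf
  rintro p ⟨hph, hxp, hpp⟩
  have hxp' : x ∈ p := hxp (Ideal.subset_span rfl)
  have hple : p ≤ m.toIdeal :=
    _root_.toIdeal_le_toIdeal_iff.mpr
      (Groth.Agent.Lib.Helper8.GrStarLocal.le_of_isStarLocal 𝒜 m hm ⟨p, hph⟩ hpp.ne_top)
  by_contra hcon
  have hlt : p < m.toIdeal := lt_of_le_of_ne hple (fun h => hcon h.ge)
  obtain ⟨q, hq, hqp⟩ := Ideal.exists_minimalPrimes_le (I := ⊥) (J := p) bot_le
  have hqA : q ∈ associatedPrimes R R := by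
    apply Module.associatedPrimes.minimalPrimes_annihilator_subset_associatedPrimes R R
    have : Module.annihilator R R = ⊥ := Module.annihilator_eq_bot.mpr inferInstance
    rw [this]
    exact hq
  have hxq : x ∉ q := hxP q hqA
  have hqlt : q < p := lt_of_le_of_ne hqp (fun h => hxq (h ▸ hxp'))
  haveI : q.IsPrime := hq.1.1
  have h1 : q.height < p.height := Ideal.height_strict_mono_of_isPrime_of_isPrime hqlt
  have h2 : p.height < m.toIdeal.height := Ideal.height_strict_mono_of_isPrime_of_isPrime hlt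
  have h3 : (m.toIdeal.height : WithBot ℕ∞) ≤ ringKrullDim R :=
    Ideal.height_le_ringKrullDim_of_ne_top hmax.ne_top
  rw [hdim] at h3
  have h4 : m.toIdeal.height ≤ 1 := by exact_mod_cast h3
  have h5 : (1 : ℕ∞) ≤ p.height := Order.one_le_iff_pos.mpr (lt_of_le_of_lt bot_le h1)
  have h6 : p.height < 1 := lt_of_lt_of_le h2 h4
  exact absurd h5 (not_le.mpr h6)

end Param

end Groth.Agent.Lib.Helper8.GrSegH
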