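import Groth.Agent.Lib.Helper8.GrSegH

/-!
# The ideal transform of a one-dimensional graded ring

For a homogeneous regular element `x` generating an `m`-primary ideal we construct a graded module
`L ⊇ R` on which `x` acts bijectively and such that `L / R` is `m`-torsion.
-/

set_option autoImplicit false
set_option linter.unusedSectionVars false
universe u

open DirectSum GrLC
open Groth.Agent.Lib.Helper30
open Groth.Agent.Lib.Helper8.GrLCBase Groth.Agent.Lib.Helper8.GrLCLES
open Groth.Agent.Lib.Helper8.GrSegD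

namespace Groth.Agent.Lib.Helper8.GrSegI

variable {R : Type u} [CommRing R] [IsNoetherianRing R] (𝒜 : ℤ → AddSubgroup R) [GradedRing 𝒜]

theorem exists_transform (m : HomogeneousIdeal 𝒜) {n : ℤ} {x : R} (hx : x ∈ 𝒜 n)
    (hreg : IsSMulRegular R x) (hrad : m.toIdeal ≤ (Ideal.span {x}).radical) :
    ∃ (L : GMod.{u} 𝒜) (ι : R →ₗ[R] L.carrier), IsGrHom 𝒜 L.gr ι ∧ Function.Injective ι ∧
      Function.Bijective (fun u : L.carrier => x • u) ∧
      (∀ u : L.carrier, ∃ N : ℕ, ∀ a ∈ m.toIdeal ^ N, ∃ r, ι r = a • u) ∧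
      ∀ u : L.carrier, ∃ (t : ℕ) (r : R), ι r = x ^ t • u := by
  classical
  set E := starInjRes 𝒜 𝒜 with hE
  obtain ⟨H0, hH0, hle, hull, -⟩ := exists_isStarInjHull_of_embedding 𝒜 (E.X 0).gr 𝒜
    (E.starInj 0) E.ε E.ε_grHom E.ε_injective
  set H : GMod.{u} 𝒜 := gmodSub 𝒜 (E.X 0).gr H0 hH0 with hH
  set f : R →ₗ[R] H.carrier := E.ε.codRestrict H0 hle with hf
  have hfgr : IsGrHom 𝒜 H.gr f := hull.grHom
  have hfinj : Function.Injective f := hull.injective
  -- `x` is injective on `H`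
  have hinjH : ∀ u : H.carrier, x • u = 0 → u = 0 := by
    intro u hu
    by_contra hne
    have hK : LinearMap.ker (x • (LinearMap.id : H.carrier →ₗ[R] H.carrier)) ≠ ⊥ := by
      intro hb
      apply hne
      have : u ∈ LinearMap.ker (x • (LinearMap.id : H.carrier →ₗ[R] H.carrier)) := by
        rw [LinearMap.mem_ker, LinearMap.smul_apply, LinearMap.id_apply]
        exact hu
      rw [hb] at this
      exact this
    apply inf_range_ne_bot_of_isStarEss 𝒜 𝒜 H.gr f hull.toIsStarEss _ hK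
    rw [eq_bot_iff]
    rintro v ⟨hv1, ⟨r, rfl⟩⟩
    have h1 : x • f r = 0 := by
      have := LinearMap.mem_ker.mp hv1
      rwa [LinearMap.smul_apply, LinearMap.id_apply] at this
    rw [← map_smul] at h1
    have h2 : x • r = 0 := hfinj (by rw [h1, map_zero])
    have h3 : r = 0 := hreg (by
      change x • r = x • 0
      rw [h2, smul_zero])
    rw [h3, map_zero]
    exact Submodule.zero_mem _
  have hpowinj : ∀ (c : ℕ) (v : H.carrier), x ^ c • v = 0 → v = 0 := by
    intro c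
    induction c with
    | zero =>
      intro v hv
      simpa using hv
    | succ c ih =>
      intro v hv
      rw [pow_succ, mul_smul] at hv
      exact hinjH v (ih _ hv)
  -- `x` is surjective on `H`
  have hsurjH : ∀ u : H.carrier, ∃ u' : H.carrier, x • u' = u := by
    intro u
    have hu : u ∈ gam (⊥ : HomogeneousIdeal 𝒜).toIdeal H.carrier := by
      rw [HomogeneousIdeal.toIdeal_bot, gam_bot]
      trivial
    obtain ⟨e', -, c, hc⟩ := Groth.Agent.Lib.Helper8.GrInjDiv.exists_div H.gr hull.starInj ⊥ hx u hu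
    exact ⟨e', sub_eq_zero.mp (hpowinj c _ hc)⟩
  have hxpow : ∀ t : ℕ, x ^ t ∈ 𝒜 (t • n) := fun t => SetLike.pow_mem_graded t hx
  let L0 : Submodule R H.carrier :=
    { carrier := {u | ∃ t : ℕ, x ^ t • u ∈ LinearMap.range f}
      zero_mem' := ⟨0, by rw [smul_zero]; exact Submodule.zero_mem _⟩
      add_mem' := by
        rintro u v ⟨t, ht⟩ ⟨t', ht'⟩
        refine ⟨t + t', ?_⟩
        rw [smul_add]
        apply Submodule.add_mem
        · rw [add_comm, pow_add, mul_smul]
          exact Submodule.smul_mem _ _ ht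
        · rw [pow_add, mul_smul]
          exact Submodule.smul_mem _ _ ht'
      smul_mem' := by
        rintro c u ⟨t, ht⟩
        exact ⟨t, by rw [smul_comm]; exact Submodule.smul_mem _ _ ht⟩ }
  have hL0 : L0.IsHomogeneous H.gr := by
    intro i u hu
    obtain ⟨t, r, hr⟩ := hu
    refine ⟨t, (decompose 𝒜 r (t • n + i) : R), ?_⟩
    rw [decompose_map_of_isGrHom 𝒜 H.gr f hfgr, hr,
      Groth.Agent.Lib.Helper30.decompose_smul_of_mem 𝒜 H.gr (hxpow t) u i]
  set L : GMod.{u} 𝒜 := gmodSub 𝒜 H.gr L0 hL0 with hL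
  have hfL : ∀ r, f r ∈ L0 := fun r => ⟨0, r, by rw [pow_zero, one_smul]⟩
  refine ⟨L, f.codRestrict L0 hfL, ?_, ?_, ⟨?_, ?_⟩, ?_, ?_⟩
  · intro g r hr
    exact hfgr g r hr
  · intro r r' h
    apply hfinj
    exact congrArg Subtype.val h
  · intro (u : ↥L0) (v : ↥L0) huv
    have h1 : x • (u : H.carrier) = x • (v : H.carrier) := congrArg Subtype.val huv
    apply Subtype.ext
    have h2 : x • ((u : H.carrier) - (v : H.carrier)) = 0 := by rw [smul_sub, h1, sub_self]
    exact sub_eq_zero.mp (hinjH _ h2)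
  · intro (u : ↥L0)
    obtain ⟨u', hu'⟩ := hsurjH (u : H.carrier)
    obtain ⟨t, ht⟩ := u.2
    refine ⟨⟨u', t + 1, ?_⟩, Subtype.ext hu'⟩
    rw [pow_succ, mul_smul, hu']
    exact ht
  · intro (u : ↥L0)
    obtain ⟨t, r, hr⟩ := u.2
    have hrad' : m.toIdeal ≤ (Ideal.span {x ^ t}).radical := by
      by_cases ht : t = 0
      · subst ht
        rw [pow_zero, Ideal.span_singleton_one, Ideal.radical_top]
        exact le_top
      · rw [← Ideal.span_singleton_pow, Ideal.radical_pow _ ht]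
        exact hrad
    obtain ⟨N, hN⟩ := Ideal.exists_pow_le_of_le_radical_of_fg hrad'
      ((isNoetherianRing_iff_ideal_fg R).mp inferInstance _)
    refine ⟨N, fun a ha => ?_⟩
    obtain ⟨b, hb⟩ := Ideal.mem_span_singleton'.mp (hN ha)
    refine ⟨b • r, Subtype.ext ?_⟩
    change f (b • r) = a • (u : H.carrier)
    rw [map_smul, hr, ← mul_smul, hb]
  · intro (u : ↥L0)
    obtain ⟨t, r, hr⟩ := u.2
    exact ⟨t, r, Subtype.ext hr⟩

/-- The transform together with its cokernel: a short exact sequence `0 → R → L → C → 0` of graded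
modules with `x` bijective on `L`, `C` an `m`-torsion module, and `H^1_m(R)_d = 0 ↔ C_d = 0`. -/
theorem exists_transform' (m : HomogeneousIdeal 𝒜) {n : ℤ} {x : R} (hx : x ∈ 𝒜 n)
    (hxm : x ∈ m.toIdeal)
    (hreg : IsSMulRegular R x) (hrad : m.toIdeal ≤ (Ideal.span {x}).radical) :
    ∃ (L C : GMod.{u} 𝒜) (ι : R →ₗ[R] L.carrier) (π : L.carrier →ₗ[R] C.carrier),
      SES 𝒜 L.gr C.gr ι π ∧ Function.Bijective (fun u : L.carrier => x • u) ∧
      gam m.toIdeal C.carrier = ⊤ ∧ (∀ d : ℤ, (VanM m 𝒜 1 d ↔ C.gr d = ⊥)) ∧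
      ∀ u : L.carrier, ∃ (t : ℕ) (r : R), ι r = x ^ t • u := by
  classical
  obtain ⟨L, ι, hιgr, hιinj, hbij, htors, hpw⟩ := exists_transform 𝒜 m hx hreg hrad
  have hB : (LinearMap.range ι).IsHomogeneous L.gr := range_isHomogeneous 𝒜 L.gr ι hιgr
  have hCt0 : gam m.toIdeal (L.carrier ⧸ LinearMap.range ι) = ⊤ := by
    rw [eq_top_iff]
    intro c _
    obtain ⟨u, rfl⟩ := Submodule.mkQ_surjective (LinearMap.range ι) c
    obtain ⟨N, hN⟩ := htors u
    refine ⟨N, fun a ha => ?_⟩
    obtain ⟨r, hr⟩ := hN a ha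
    rw [← map_smul, ← hr]
    exact (Submodule.Quotient.mk_eq_zero _).mpr ⟨r, rfl⟩
  let C : GMod.{u} 𝒜 := gmodQuot 𝒜 L.gr (LinearMap.range ι) hB
  let π : L.carrier →ₗ[R] C.carrier := (LinearMap.range ι).mkQ
  have hS : SES 𝒜 L.gr C.gr ι π :=
    { i_gr := hιgr
      p_gr := isGrHom_mkQ L.gr (LinearMap.range ι)
      inj := hιinj
      surj := Submodule.mkQ_surjective _
      exact := (Submodule.ker_mkQ _).symm }
  have hCt : gam m.toIdeal C.carrier = ⊤ := hCt0
  have hLv : ∀ q d, VanM m L.gr q d := fun q d =>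
    Groth.Agent.Lib.Helper8.GrLCWhole.vanM_of_bijective m hx hxm hbij q d
  refine ⟨L, C, ι, π, hS, hbij, hCt, fun d => ⟨fun h => ?_, fun h => ?_⟩, hpw⟩
  · have h0 : VanM m C.gr 0 d := les_right m hS 0 d (hLv 0 d) h
    rw [vanM_zero_iff] at h0
    rw [eq_bot_iff]
    intro c hc
    rw [AddSubgroup.mem_bot]
    exact h0 c hc (by rw [hCt]; trivial)
  · have h0 : VanM m C.gr 0 d := by
      rw [vanM_zero_iff]
      intro c hc _
      rw [h, AddSubgroup.mem_bot] at hc
      exact hc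
    exact les_left m hS 0 d h0 (hLv 1 d)

end Groth.Agent.Lib.Helper8.GrSegI
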