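import Groth.Agent.Lib.Helper8.GrSegI
import Groth.Agent.Lib.Helper8.GrLCWhole

/-!
# Segre products with a one-dimensional factor: auxiliary constructions
-/

set_option autoImplicit false
set_option linter.unusedSectionVars false
universe u

open DirectSum GrLC TensorProduct
open Groth.Agent.Lib.Helper30 Groth.Agent.Lib.Helper8.GrLCSub
open Groth.Agent.Lib.Helper8.GrLCBase
open Groth.Agent.Lib.Helper8.GrLCLES Groth.Agent.Lib.Helper8.GrLCTors
open Groth.Agent.Lib.Helper93.Segre Groth.Agent.Lib.Helper93.SegreAct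
open Groth.Agent.Lib.Helper8.GrSegA Groth.Agent.Lib.Helper8.GrSegB Groth.Agent.Lib.Helper8.GrSegC
open Groth.Agent.Lib.Helper8.GrSegD Groth.Agent.Lib.Helper8.GrSegE

namespace Groth.Agent.Lib.Helper8.GrSegJ

section Swap

variable {k : Type u} [Field k] {R S T : Type u} [CommRing R] [CommRing S] [CommRing T]
  [Algebra k R] [Algebra k S] [Algebra k T]
  {𝒜 : ℤ → Submodule k R} [GradedAlgebra 𝒜] {ℬ : ℤ → Submodule k S} [GradedAlgebra ℬ]
  {𝒯 : ℤ → Submodule k T} [GradedAlgebra 𝒯] {ψ : T →ₐ[k] R ⊗[k] S}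

/-- The presentation of the Segre product with the factors exchanged. -/
noncomputable def swapPsi (ψ : T →ₐ[k] R ⊗[k] S) : T →ₐ[k] S ⊗[k] R :=
  ((Algebra.TensorProduct.comm k R S) : R ⊗[k] S →ₐ[k] S ⊗[k] R).comp ψ

theorem swapPsi_apply (t : T) : swapPsi ψ t = Algebra.TensorProduct.comm k R S (ψ t) := rfl

theorem isSegreRing_swap (hT : GrSeg.IsSegreRing 𝒜 ℬ 𝒯 ψ) :
    GrSeg.IsSegreRing ℬ 𝒜 𝒯 (swapPsi ψ) := by
  refine ⟨fun a b h => hT.1 ((Algebra.TensorProduct.comm k R S).injective h), fun n => ?_⟩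
  have h1 : (𝒯 n).map (swapPsi ψ).toLinearMap =
      ((𝒯 n).map ψ.toLinearMap).map (Algebra.TensorProduct.comm k R S).toLinearMap := by
    rw [← Submodule.map_comp]
    rfl
  rw [h1, hT.2 n]
  unfold GrSeg.segrePiece
  rw [Submodule.map_span]
  congr 1
  ext z
  constructor
  · rintro ⟨_, ⟨a, ha, b, hb, rfl⟩, rfl⟩
    exact ⟨b, hb, a, ha, by simp⟩
  · rintro ⟨b, hb, a, ha, rfl⟩
    exact ⟨a ⊗ₜ b, ⟨a, ha, b, hb, rfl⟩, by simp⟩

theorem act_self (z w : R ⊗[k] S) : GrSeg.act k R S R S z w = z * w := by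
  induction z using TensorProduct.induction_on with
  | zero => simp
  | tmul r s =>
    induction w using TensorProduct.induction_on with
    | zero => simp
    | tmul r' s' =>
      rw [GrSeg.act_tmul, Algebra.TensorProduct.tmul_mul_tmul, smul_eq_mul, smul_eq_mul]
    | add w w' h h' => rw [map_add, h, h', mul_add]
  | add z z' h h' => rw [map_add, LinearMap.add_apply, h, h', add_mul]

instance gsmulSelf : SetLike.GradedSMul 𝒜 (agr 𝒜) :=
  ⟨fun {i j a b} ha hb => by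
    change a * b ∈ 𝒜 (i + j)
    exact SetLike.GradedMul.mul_mem ha hb⟩

theorem isSegreMod_self (hT : GrSeg.IsSegreRing 𝒜 ℬ 𝒯 ψ) :
    GrSeg.IsSegreMod ψ (agr 𝒜) (agr ℬ) (agr 𝒯) ψ.toLinearMap where
  injective := hT.1
  image_piece n := by
    ext z
    constructor
    · rintro ⟨t, ht, rfl⟩
      have h1 : ψ t ∈ (𝒯 n).map ψ.toLinearMap := ⟨t, ht, rfl⟩
      rw [hT.2 n] at h1
      exact h1
    · intro hz
      have h1 : z ∈ (𝒯 n).map ψ.toLinearMap := by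
        rw [hT.2 n]
        exact hz
      obtain ⟨t, ht, rfl⟩ := h1
      exact ⟨t, ht, rfl⟩
  map_smul t p := by
    change ψ (t * p) = _
    rw [map_mul, act_self]
    rfl

end Swap

section Right

variable {k : Type u} [Field k] {R S T : Type u} [CommRing R] [CommRing S] [CommRing T]
  [Algebra k R] [Algebra k S] [Algebra k T]
  {𝒜 : ℤ → Submodule k R} [GradedAlgebra 𝒜] {ℬ : ℤ → Submodule k S} [GradedAlgebra ℬ]
  {𝒯 : ℤ → Submodule k T} [GradedAlgebra 𝒯] {ψ : T →ₐ[k] R ⊗[k] S}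
  (hT : GrSeg.IsSegreRing 𝒜 ℬ 𝒯 ψ)
variable {X : Type u} [AddCommGroup X] [Module R X] [Module k X] [IsScalarTower k R X]
  (𝒳 : ℤ → AddSubgroup X) [DirectSum.Decomposition 𝒳] [SetLike.GradedSMul 𝒜 𝒳]
variable {Y : Type u} [AddCommGroup Y] [Module S Y] [Module k Y] [IsScalarTower k S Y]
  (𝒴 : ℤ → AddSubgroup Y) [DirectSum.Decomposition 𝒴] [SetLike.GradedSMul ℬ 𝒴]
variable (mS : HomogeneousIdeal ℬ) (mT : HomogeneousIdeal 𝒯)
  (hmS : mS.toIdeal = Ideal.span (⋃ n ∈ Set.Ioi (0 : ℤ), (ℬ n : Set S)))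
  (hmT : mT.toIdeal = Ideal.span (⋃ n ∈ Set.Ioi (0 : ℤ), (𝒯 n : Set T)))

variable (k R) in
/-- The extension of an ideal of `S` to `R ⊗ S`. -/
def rightIdeal (I : Ideal S) : Ideal (R ⊗[k] S) :=
  Ideal.map (Algebra.TensorProduct.includeRight : S →ₐ[k] R ⊗[k] S) I

omit [GradedAlgebra ℬ] in
theorem rightIdeal_pow (I : Ideal S) (j : ℕ) :
    rightIdeal k R (I ^ j) = (rightIdeal k R I) ^ j :=
  Ideal.map_pow _ _ _

theorem act_right_zero (I : Ideal S) (w : X ⊗[k] Y)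
    (h : ∀ r ∈ I, GrSeg.act k R S X Y ((1 : R) ⊗ₜ[k] r) w = 0) :
    ∀ z ∈ rightIdeal k R I, GrSeg.act k R S X Y z w = 0 := by
  intro z hz
  unfold rightIdeal Ideal.map at hz
  induction hz using Submodule.span_induction with
  | mem z hz =>
    obtain ⟨r, hr, rfl⟩ := hz
    exact h r hr
  | zero => simp
  | add z z' _ _ h1 h2 => rw [map_add, LinearMap.add_apply, h1, h2, add_zero]
  | smul c z _ h1 => rw [smul_eq_mul, act_mul, h1, map_zero]

include hT hmS hmT in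
theorem psi_mem_rightIdeal {t : T} (ht : t ∈ mT.toIdeal) : ψ t ∈ rightIdeal k R mS.toIdeal := by
  have hle : mT.toIdeal ≤ (rightIdeal k R mS.toIdeal).comap (ψ : T →+* R ⊗[k] S) := by
    rw [hmT, Ideal.span_le]
    intro t ht
    simp only [Set.mem_iUnion, Set.mem_Ioi, exists_prop] at ht
    obtain ⟨n, hn, htn⟩ := ht
    have h1 : ψ t ∈ GrSeg.segrePiece k 𝒜 ℬ n := psi_mem 𝒜 ℬ 𝒯 hT htn
    change ψ t ∈ rightIdeal k R mS.toIdeal
    revert h1
    generalize ψ t = z0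
    intro h1
    unfold GrSeg.segrePiece at h1
    induction h1 using Submodule.span_induction with
    | mem z hz =>
      obtain ⟨a, ha, b, hb, rfl⟩ := hz
      have hb' : b ∈ mS.toIdeal := by
        rw [hmS]
        apply Ideal.subset_span
        simp only [Set.mem_iUnion, Set.mem_Ioi, exists_prop]
        exact ⟨n, hn, hb⟩
      have e : a ⊗ₜ[k] b = (a ⊗ₜ[k] (1 : S)) * ((1 : R) ⊗ₜ[k] b) := by
        rw [Algebra.TensorProduct.tmul_mul_tmul, one_mul, mul_one]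
      rw [e]
      apply Ideal.mul_mem_left
      exact Ideal.mem_map_of_mem _ hb'
    | zero => exact zero_mem _
    | add z z' _ _ h1 h2 => exact add_mem h1 h2
    | smul c z _ h1 => exact Submodule.smul_of_tower_mem _ c h1
  exact hle ht

include hT hmS hmT in
theorem psi_mem_rightIdeal_pow {t : T} (j : ℕ) (ht : t ∈ mT.toIdeal ^ j) :
    ψ t ∈ rightIdeal k R (mS.toIdeal ^ j) := by
  rw [rightIdeal_pow]
  have h1 : (ψ : T →+* R ⊗[k] S) t ∈ Ideal.map (ψ : T →+* R ⊗[k] S) (mT.toIdeal ^ j) :=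
    Ideal.mem_map_of_mem _ ht
  rw [Ideal.map_pow] at h1
  have hle : Ideal.map (ψ : T →+* R ⊗[k] S) mT.toIdeal ≤ rightIdeal k R mS.toIdeal := by
    rw [Ideal.map_le_iff_le_comap]
    intro t ht
    exact psi_mem_rightIdeal hT mS mT hmS hmT ht
  exact Ideal.pow_right_mono hle j h1

omit [GradedAlgebra 𝒜] [GradedAlgebra ℬ] in
theorem exists_pow_kill_right (I : Ideal S) (hY : gam I Y = ⊤) (v : X ⊗[k] Y) :
    ∃ N : ℕ, ∀ r ∈ I ^ N, GrSeg.act k R S X Y ((1 : R) ⊗ₜ[k] r) v = 0 := by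
  induction v using TensorProduct.induction_on with
  | zero => exact ⟨0, fun r _ => map_zero _⟩
  | tmul x y =>
    have hy : y ∈ gam I Y := by rw [hY]; trivial
    obtain ⟨N, hN⟩ := hy
    refine ⟨N, fun r hr => ?_⟩
    rw [GrSeg.act_tmul, hN r hr, TensorProduct.tmul_zero]
  | add v v' h h' =>
    obtain ⟨N, hN⟩ := h
    obtain ⟨N', hN'⟩ := h'
    refine ⟨N + N', fun r hr => ?_⟩
    rw [map_add, hN r (Ideal.pow_le_pow_right (Nat.le_add_right N N') hr),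
      hN' r (Ideal.pow_le_pow_right (Nat.le_add_left N' N) hr), add_zero]

include hmS hmT in
/-- The Segre product with a torsion right factor is torsion. -/
theorem gam_seg_eq_top_right (hY : gam mS.toIdeal Y = ⊤) :
    gam mT.toIdeal (Seg hT 𝒳 𝒴) = ⊤ := by
  rw [eq_top_iff]
  intro w _
  obtain ⟨N, hN⟩ := exists_pow_kill_right (R := R) (X := X) mS.toIdeal hY (Seg.incl hT 𝒳 𝒴 w)
  refine ⟨N, fun t ht => ?_⟩
  apply Seg.ext hT 𝒳 𝒴
  rw [Seg.incl_smul, map_zero]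
  exact act_right_zero (mS.toIdeal ^ N) _ hN _ (psi_mem_rightIdeal_pow hT mS mT hmS hmT N ht)

omit [GradedAlgebra 𝒜] [GradedAlgebra ℬ] [IsScalarTower k R X] [IsScalarTower k S Y]
  [Module R X] [Module S Y] in
theorem tmul_ne_zero {x : X} {y : Y} (hx : x ≠ 0) (hy : y ≠ 0) : x ⊗ₜ[k] y ≠ 0 := by
  intro h
  have h1 : ¬ ∀ φ : Module.Dual k X, φ x = 0 :=
    fun hh => hx ((Module.forall_dual_apply_eq_zero_iff k x).mp hh)
  have h2 : ¬ ∀ φ : Module.Dual k Y, φ y = 0 :=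
    fun hh => hy ((Module.forall_dual_apply_eq_zero_iff k y).mp hh)
  push Not at h1 h2
  obtain ⟨f, hf⟩ := h1
  obtain ⟨g, hg⟩ := h2
  have h3 := congrArg (fun z => TensorProduct.lid k k (TensorProduct.map f g z)) h
  simp only [TensorProduct.map_tmul, map_zero, TensorProduct.lid_tmul, smul_eq_mul] at h3
  have h4 : f x * g y = 0 := h3
  rcases mul_eq_zero.mp h4 with h5 | h5
  · exact hf h5
  · exact hg h5

/-- The degree `d` piece of a Segre product vanishes iff one of the factors does. -/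
theorem segGr_eq_bot_iff (d : ℤ) :
    (∀ w ∈ segGr hT 𝒳 𝒴 d, w = 0) ↔ (𝒳 d = ⊥ ∨ 𝒴 d = ⊥) := by
  constructor
  · intro h
    by_contra hcon
    push Not at hcon
    obtain ⟨hX, hY⟩ := hcon
    obtain ⟨x, hx, hx0⟩ : ∃ x ∈ 𝒳 d, x ≠ 0 := by
      by_contra hh
      push Not at hh
      apply hX
      rw [eq_bot_iff]
      intro x hx
      rw [AddSubgroup.mem_bot]
      exact hh x hx
    obtain ⟨y, hy, hy0⟩ : ∃ y ∈ 𝒴 d, y ≠ 0 := by
      by_contra hh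
      push Not at hh
      apply hY
      rw [eq_bot_iff]
      intro y hy
      rw [AddSubgroup.mem_bot]
      exact hh y hy
    have h1 := h (Seg.ofPiece hT 𝒳 𝒴 (x ⊗ₜ[k] y) (tmul_mem_piece 𝒳 𝒴 hx hy))
      (Seg.ofPiece_mem hT 𝒳 𝒴 _ _)
    have h2 := congrArg (Seg.incl hT 𝒳 𝒴) h1
    rw [map_zero] at h2
    exact tmul_ne_zero hx0 hy0 h2
  · intro h w hw
    apply Seg.ext hT 𝒳 𝒴
    rw [map_zero]
    have hw' : Seg.incl hT 𝒳 𝒴 w ∈ GrSeg.segrePiece k 𝒳 𝒴 d := hw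
    have hbot : GrSeg.segrePiece k 𝒳 𝒴 d = ⊥ := by
      unfold GrSeg.segrePiece
      rw [Submodule.span_eq_bot]
      rintro z ⟨a, ha, b, hb, rfl⟩
      rcases h with h | h
      · rw [h, AddSubgroup.mem_bot] at ha
        rw [ha, TensorProduct.zero_tmul]
      · rw [h, AddSubgroup.mem_bot] at hb
        rw [hb, TensorProduct.tmul_zero]
    rw [hbot, Submodule.mem_bot] at hw'
    exact hw'

end Right

section Congr

variable {A : Type u} [CommRing A] {𝒜' : ℤ → AddSubgroup A} [GradedRing 𝒜']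

theorem vanM_congr_gr (a : HomogeneousIdeal 𝒜') {M : Type u} [AddCommGroup M] [Module A M]
    (ℳ ℳ' : ℤ → AddSubgroup M) [DirectSum.Decomposition ℳ] [SetLike.GradedSMul 𝒜' ℳ]
    [DirectSum.Decomposition ℳ'] [SetLike.GradedSMul 𝒜' ℳ']
    (h : ∀ n x, x ∈ ℳ n → x ∈ ℳ' n) (h' : ∀ n x, x ∈ ℳ' n → x ∈ ℳ n) (q : ℕ) (d : ℤ)
    (hv : VanM a ℳ q d) : VanM a ℳ' q d :=
  vanM_of_retract (ℳ := ℳ) (ℳ'' := ℳ') a LinearMap.id (fun n x hx => h n x hx) LinearMap.id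
    (fun n x hx => h' n x hx) (fun _ => rfl) q d hv

end Congr

section Core

variable {k : Type u} [Field k] {R S T : Type u} [CommRing R] [CommRing S] [CommRing T]
  [Algebra k R] [Algebra k S] [Algebra k T] [IsNoetherianRing R] [IsNoetherianRing T]
  {𝒜 : ℤ → Submodule k R} [GradedAlgebra 𝒜] {ℬ : ℤ → Submodule k S} [GradedAlgebra ℬ]
  {𝒯 : ℤ → Submodule k T} [GradedAlgebra 𝒯] {ψ : T →ₐ[k] R ⊗[k] S}
  (hT : GrSeg.IsSegreRing 𝒜 ℬ 𝒯 ψ)
variable {X : Type u} [AddCommGroup X] [Module R X] [Module k X] [IsScalarTower k R X]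
  (𝒳 : ℤ → AddSubgroup X) [DirectSum.Decomposition 𝒳] [SetLike.GradedSMul 𝒜 𝒳]
variable {Y : Type u} [AddCommGroup Y] [Module S Y] [Module k Y] [IsScalarTower k S Y]
  (𝒴 : ℤ → AddSubgroup Y) [DirectSum.Decomposition 𝒴] [SetLike.GradedSMul ℬ 𝒴]
variable (mR : HomogeneousIdeal 𝒜) (mS : HomogeneousIdeal ℬ) (mT : HomogeneousIdeal 𝒯)
  (hmR : mR.toIdeal = Ideal.span (⋃ n ∈ Set.Ioi (0 : ℤ), (𝒜 n : Set R)))
  (hmS : mS.toIdeal = Ideal.span (⋃ n ∈ Set.Ioi (0 : ℤ), (ℬ n : Set S)))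
  (hmT : mT.toIdeal = Ideal.span (⋃ n ∈ Set.Ioi (0 : ℤ), (𝒯 n : Set T)))

omit [IsNoetherianRing R] [IsNoetherianRing T] in
theorem isSegreMod_seg [DirectSum.Decomposition (segGr hT 𝒳 𝒴)] :
    GrSeg.IsSegreMod ψ 𝒳 𝒴 (segGr hT 𝒳 𝒴) (Seg.incl hT 𝒳 𝒴) where
  injective := Seg.incl_injective hT 𝒳 𝒴
  image_piece := fun n => by
    ext z
    constructor
    · rintro ⟨w, hw, rfl⟩
      exact hw
    · intro hz
      exact ⟨Seg.ofPiece hT 𝒳 𝒴 z hz, Seg.ofPiece_mem hT 𝒳 𝒴 z hz, rfl⟩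
  map_smul := fun t p => Seg.incl_smul hT 𝒳 𝒴 t p

omit [IsNoetherianRing R] in
/-- The local cohomology of `T` computed on the concrete Segre product. -/
theorem vanM_T_iff (q : ℕ) (d : ℤ) :
    VanM (idealA 𝒯 mT) (agr 𝒯) q d ↔
      VanM (idealA 𝒯 mT) (seg hT (agr 𝒜) (agr ℬ)).gr q d := by
  have hP := isSegreMod_self hT
  let e : T ≃ₗ[T] (seg hT (agr 𝒜) (agr ℬ)).carrier :=
    LinearEquiv.ofBijective (cmp hT hP) ⟨cmp_injective hT hP, cmp_surjective hT hP⟩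
  have he1 : IsGrHom (agr 𝒯) (seg hT (agr 𝒜) (agr ℬ)).gr (e : T →ₗ[T] _) :=
    fun n p hp => (cmp_mem_iff hT hP n p).mpr hp
  have he2 : IsGrHom (seg hT (agr 𝒜) (agr ℬ)).gr (agr 𝒯) (e.symm : _ →ₗ[T] T) := by
    intro n w hw
    have h1 : cmp hT hP (e.symm w) = w := e.apply_symm_apply w
    rw [← h1] at hw
    exact (cmp_mem_iff hT hP n _).mp hw
  constructor
  · intro h
    exact vanM_of_retract (idealA 𝒯 mT) (e : T →ₗ[T] _) he1 (e.symm : _ →ₗ[T] T) he2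
      (fun y => e.apply_symm_apply y) q d h
  · intro h
    exact vanM_of_retract (idealA 𝒯 mT) (e.symm : _ →ₗ[T] T) he2 (e : T →ₗ[T] _) he1
      (fun y => e.symm_apply_apply y) q d h

include hmR hmT in
/-- Vanishing for the Segre product with a module having a bijective element. -/
theorem vanM_seg_of_zero (L : GMod.{u} (agr ℬ)) {e : ℕ} (he : 0 < e) {g : S}
    (hg : g ∈ ℬ (e : ℤ)) (hgL : Function.Bijective (fun y : L.carrier => g • y))
    (q : ℕ) (hz : ∀ g' : ℤ, VanM (idealA 𝒜 mR) (agr 𝒜) q g') (d : ℤ) :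
    VanM (idealA 𝒯 mT) (seg hT (agr 𝒜) L.gr).gr q d := by
  letI dQ : DirectSum.Decomposition (segGr hT (agr 𝒜) L.gr) := (seg hT (agr 𝒜) L.gr).dec
  haveI : SetLike.GradedSMul 𝒯 (segGr hT (agr 𝒜) L.gr) :=
    ⟨fun {i j a b} ha hb => (segGradedSMul hT (agr 𝒜) L.gr).smul_mem ha hb⟩
  have hP := isSegreMod_seg hT (agr 𝒜) L.gr
  let E : StarInjRes (agr 𝒜) (agr (agr 𝒜)) := starInjRes (agr 𝒜) (agr (agr 𝒜))
  have hz' : ∀ g' : ℤ, VanM (idealA 𝒜 mR) (agr (agr 𝒜)) q g' := fun g' =>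
    vanM_of_retract (ℳ := agr 𝒜) (ℳ'' := agr (agr 𝒜)) (idealA 𝒜 mR)
      (LinearMap.id : R →ₗ[R] R) (fun _ _ h => h)
      (LinearMap.id : R →ₗ[R] R) (fun _ _ h => h) (fun _ => rfl) q g' (hz g')
  have hsub := Groth.Agent.Lib.Helper8.GrLCWhole.subsingleton_H_of_vanM (idealA 𝒜 mR) E q hz'
  have hzero : ∀ x : E.H (idealA 𝒜 mR) q, x = 0 := fun x => Subsingleton.elim _ _
  have h1 := Groth.Agent.Lib.Helper8.GrSegG.vanM_of_H_zero hT hP mR mT hmR hmT he hg hgL E q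
    hzero d
  haveI : SetLike.GradedSMul (agr 𝒯) (segGr hT (agr 𝒜) L.gr) := segGradedSMul hT (agr 𝒜) L.gr
  have h2 : VanM (idealA 𝒯 mT) (segGr hT (agr 𝒜) L.gr) q d :=
    vanM_congr_gr (idealA 𝒯 mT) (agr (segGr hT (agr 𝒜) L.gr)) (segGr hT (agr 𝒜) L.gr)
      (fun _ _ h => h) (fun _ _ h => h) q d h1
  exact h2

include hT hmR hmS hmT in
/-- The local cohomology of the Segre product below the dimension of the first factor, when the
second factor admits a transform. -/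
theorem core (L C : GMod.{u} (agr ℬ)) (ι : S →ₗ[S] L.carrier) (π : L.carrier →ₗ[S] C.carrier)
    (hS : SES (agr ℬ) L.gr C.gr ι π) {e : ℕ} (he : 0 < e) {g : S} (hg : g ∈ ℬ (e : ℤ))
    (hgL : Function.Bijective (fun y : L.carrier => g • y))
    (hC : gam mS.toIdeal C.carrier = ⊤) (s : ℕ)
    (hz : ∀ q : ℕ, q < s → ∀ g' : ℤ, VanM (idealA 𝒜 mR) (agr 𝒜) q g') :
    (0 < s → ∀ d : ℤ, VanM (idealA 𝒯 mT) (agr 𝒯) 0 d) ∧
    (∀ q : ℕ, 2 ≤ q → q < s → ∀ d : ℤ, VanM (idealA 𝒯 mT) (agr 𝒯) q d) ∧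
    (2 ≤ s → ∀ d : ℤ, (VanM (idealA 𝒯 mT) (agr 𝒯) 1 d ↔ (agr 𝒜 d = ⊥ ∨ C.gr d = ⊥))) := by
  have hSES := ses_seg_right hT (𝒳 := agr 𝒜) hS.i_gr hS.p_gr hS.inj hS.surj
    (fun x hx => by
      have : x ∈ LinearMap.ker π := hx
      rw [← hS.exact] at this
      exact this)
    (fun x' => hS.p_i x')
  have hP2 : ∀ q : ℕ, q < s → ∀ d : ℤ, VanM (idealA 𝒯 mT) (seg hT (agr 𝒜) L.gr).gr q d :=
    fun q hq d => vanM_seg_of_zero hT mR mT hmR hmT L he hg hgL q (hz q hq) d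
  have hP3t : gam (idealA 𝒯 mT).toIdeal (seg hT (agr 𝒜) C.gr).carrier = ⊤ :=
    gam_seg_eq_top_right hT (agr 𝒜) C.gr mS mT hmS hmT hC
  have hP3 : ∀ (n : ℕ) (d : ℤ), VanM (idealA 𝒯 mT) (seg hT (agr 𝒜) C.gr).gr (n + 1) d :=
    fun n d => vanM_of_tors (idealA 𝒯 mT) hP3t n d
  have hP3z : ∀ d : ℤ, VanM (idealA 𝒯 mT) (seg hT (agr 𝒜) C.gr).gr 0 d ↔
      (agr 𝒜 d = ⊥ ∨ C.gr d = ⊥) := by
    intro d
    rw [vanM_zero_iff, ← segGr_eq_bot_iff hT (agr 𝒜) C.gr d]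
    constructor
    · intro h w hw
      exact h w hw (by rw [hP3t]; trivial)
    · intro h w hw _
      exact h w hw
  refine ⟨fun hs d => ?_, fun q hq2 hqs d => ?_, fun hs d => ⟨fun h => ?_, fun h => ?_⟩⟩
  · rw [vanM_T_iff hT mT]
    exact les_left_zero (idealA 𝒯 mT) hSES d (hP2 0 hs d)
  · rw [vanM_T_iff hT mT]
    obtain ⟨n, rfl⟩ : ∃ n, q = n + 2 := ⟨q - 2, by omega⟩
    exact les_left (idealA 𝒯 mT) hSES (n + 1) d (hP3 n d) (hP2 (n + 2) hqs d)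
  · rw [vanM_T_iff hT mT] at h
    exact (hP3z d).mp (les_right (idealA 𝒯 mT) hSES 0 d (hP2 0 (by omega) d) h)
  · rw [vanM_T_iff hT mT]
    exact les_left (idealA 𝒯 mT) hSES 0 d ((hP3z d).mpr h) (hP2 1 (by omega) d)

end Core

end Groth.Agent.Lib.Helper8.GrSegJ
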