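import Groth.Agent.Lib.Helper8.GrSegJ
import Groth.Agent.Lib.Helper8.GrIrrelLocal
import Groth.Agent.Lib.Helper8.GrLCPolyArtMain
import Groth.Agent.Lib.Helper90.SegF
import Groth.Agent.S18646
import Groth.Agent.S18647

/-!
# Segre products with a one-dimensional Cohen–Macaulay factor
-/

set_option autoImplicit false
set_option linter.unusedSectionVars false
universe u

open DirectSum GrLC TensorProduct
open Groth.Agent.Lib.Helper30 Groth.Agent.Lib.Helper8.GrLCSub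
open Groth.Agent.Lib.Helper8.GrLCBase
open Groth.Agent.Lib.Helper8.GrLCLES Groth.Agent.Lib.Helper8.GrLCTors

namespace Groth.Agent.Lib.Helper8.GrSegK

section Field0

variable {k : Type u} [Field k] {A : Type u} [CommRing A] [Algebra k A]
  (𝒞 : ℤ → Submodule k A) [GradedAlgebra 𝒞]

theorem isField_deg0 [Nontrivial A] (h0 : 𝒞 0 = Submodule.span k {(1 : A)}) :
    IsField (deg0 (agr 𝒞)) := by
  have hmem : ∀ x : deg0 (agr 𝒞), ∃ c : k, (x : A) = algebraMap k A c := by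
    intro x
    have hx : (x : A) ∈ 𝒞 0 := x.2
    rw [h0] at hx
    obtain ⟨c, hc⟩ := Submodule.mem_span_singleton.mp hx
    exact ⟨c, by rw [← hc, Algebra.algebraMap_eq_smul_one]⟩
  refine ⟨⟨0, 1, fun h => ?_⟩, fun a b => mul_comm a b, fun {a} ha => ?_⟩
  · exact zero_ne_one (α := A) (congrArg Subtype.val h)
  · obtain ⟨c, hc⟩ := hmem a
    have hc0 : c ≠ 0 := by
      rintro rfl
      apply ha
      apply Subtype.ext
      rw [hc, map_zero]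
      rfl
    refine ⟨⟨algebraMap k A c⁻¹, SetLike.algebraMap_mem_graded 𝒞 c⁻¹⟩, Subtype.ext ?_⟩
    change (a : A) * algebraMap k A c⁻¹ = 1
    rw [hc, ← map_mul, mul_inv_cancel₀ hc0, map_one]

theorem hpos_agr (hpos : ∀ n : ℤ, n < 0 → 𝒞 n = ⊥) : ∀ n : ℤ, n < 0 → agr 𝒞 n = ⊥ := by
  intro n hn
  rw [eq_bot_iff]
  intro x hx
  have hx' : x ∈ 𝒞 n := hx
  rw [hpos n hn, Submodule.mem_bot] at hx'
  rw [AddSubgroup.mem_bot]
  exact hx'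

theorem exists_irrel : ∃ m : HomogeneousIdeal 𝒞,
    m.toIdeal = Ideal.span (⋃ n ∈ Set.Ioi (0 : ℤ), (𝒞 n : Set A)) := by
  refine ⟨⟨Ideal.span (⋃ n ∈ Set.Ioi (0 : ℤ), (𝒞 n : Set A)), ?_⟩, rfl⟩
  apply Ideal.homogeneous_span
  intro x hx
  simp only [Set.mem_iUnion, Set.mem_Ioi, SetLike.mem_coe, exists_prop] at hx
  obtain ⟨n, -, hxn⟩ := hx
  exact ⟨n, hxn⟩

theorem irrel_zero (hpos : ∀ n : ℤ, n < 0 → 𝒞 n = ⊥) (m : HomogeneousIdeal 𝒞)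
    (hm : m.toIdeal = Ideal.span (⋃ n ∈ Set.Ioi (0 : ℤ), (𝒞 n : Set A))) :
    ∀ n : ℤ, n ≤ 0 → ∀ y ∈ agr 𝒞 n, y ∈ (idealA 𝒞 m).toIdeal → y = 0 := by
  intro n hn y hy hym
  have hym' : y ∈ Ideal.span (⋃ n ∈ Set.Ioi (0 : ℤ), ((agr 𝒞) n : Set A)) := by
    have : y ∈ m.toIdeal := hym
    rw [hm] at this
    exact this
  exact Groth.Agent.Lib.Helper8.GrLCPieces.eq_zero_of_mem_irrelevant (hpos_agr 𝒞 hpos) hy hn hym'

theorem nontrivial_of_dim (n : ℕ) (h : ringKrullDim A = n) : Nontrivial A := by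
  by_contra hn
  rw [not_nontrivial_iff_subsingleton] at hn
  rw [ringKrullDim_eq_bot_of_subsingleton] at h
  exact WithBot.bot_ne_coe h

end Field0

section Main

open Groth.Agent.Lib.Helper8.GrSegJ

/-- The transform of the one-dimensional factor together with the Cohen–Macaulay criterion. -/
theorem main_aux (k : Type u) [Field k] (R : Type u) [CommRing R] [Algebra k R]
    (𝒜 : ℤ → Submodule k R) [GradedAlgebra 𝒜] (hposR : ∀ n : ℤ, n < 0 → 𝒜 n = ⊥)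
    (h0R : 𝒜 0 = Submodule.span k {(1 : R)}) [Algebra.FiniteType k R] (S : Type u) [CommRing S]
    [Algebra k S] (ℬ : ℤ → Submodule k S) [GradedAlgebra ℬ] (hposS : ∀ n : ℤ, n < 0 → ℬ n = ⊥)
    (h0S : ℬ 0 = Submodule.span k {(1 : S)}) [Algebra.FiniteType k S] (T : Type u) [CommRing T]
    [Algebra k T] (𝒯 : ℤ → Submodule k T) [GradedAlgebra 𝒯] (ψ : T →ₐ[k] TensorProduct k R S)
    (hψ : Function.Injective ψ)
    (hdegT : ∀ n : ℤ, (𝒯 n).map ψ.toLinearMap = Submodule.span k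
      {x : TensorProduct k R S | ∃ a ∈ 𝒜 n, ∃ b ∈ ℬ n, x = a ⊗ₜ[k] b})
    [LocCoh.IsCohenMacaulayRing R] [LocCoh.IsCohenMacaulayRing S] (mR : HomogeneousIdeal 𝒜)
    (hmR : mR.toIdeal = Ideal.span (⋃ n ∈ Set.Ioi (0 : ℤ), (𝒜 n : Set R)))
    (hr : ringKrullDim R = 1) (s : ℕ) (hs : ringKrullDim S = s)
    (h1s : 1 ≤ s) :
    ∃ (e : ℕ) (x : R) (L C : GMod.{u} (agr 𝒜)) (ι : R →ₗ[R] L.carrier)
      (π : L.carrier →ₗ[R] C.carrier),
      0 < e ∧ x ∈ agr 𝒜 (e : ℤ) ∧ IsSMulRegular R x ∧ SES (agr 𝒜) L.gr C.gr ι π ∧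
      Function.Bijective (fun u : L.carrier => x • u) ∧
      (∀ u : L.carrier, ∃ (t : ℕ) (r : R), ι r = x ^ t • u) ∧
      (∀ d : ℤ, (VanM (idealA 𝒜 mR) (agr 𝒜) 1 d ↔ C.gr d = ⊥)) ∧
      (2 ≤ s → (LocCoh.IsCohenMacaulayRing T ↔ ∀ n : ℤ, agr ℬ n = ⊥ ∨ C.gr n = ⊥)) ∧
      (s = 1 → LocCoh.IsCohenMacaulayRing T) := by
  classical
  have hT : GrSeg.IsSegreRing 𝒜 ℬ 𝒯 ψ := ⟨hψ, hdegT⟩
  haveI : IsNoetherianRing R := Algebra.FiniteType.isNoetherianRing k R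
  haveI : IsNoetherianRing S := Algebra.FiniteType.isNoetherianRing k S
  haveI : IsNoetherianRing T :=
    Groth.Agent.S18646.result k R 𝒜 hposR h0R S ℬ hposS h0S T 𝒯 ψ hψ hdegT
  have hr' : ringKrullDim R = ((1 : ℕ) : WithBot ℕ∞) := by
    rw [hr]
    rfl
  have hdimT : ringKrullDim T = ((s : ℕ) : WithBot ℕ∞) := by
    have h := Groth.Agent.S18647.result k R 𝒜 hposR h0R S ℬ hposS h0S T 𝒯 ψ hψ hdegT 1 s hr' hs
      le_rfl h1s
    rw [h]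
    congr 1
    omega
  haveI : Nontrivial R := nontrivial_of_dim 1 hr'
  haveI : Nontrivial S := nontrivial_of_dim s hs
  haveI : Nontrivial T := nontrivial_of_dim s hdimT
  have hT' : GrSeg.IsSegreRing ℬ 𝒜 𝒯 (swapPsi ψ) := isSegreRing_swap hT
  obtain ⟨mS, hmS⟩ := exists_irrel ℬ
  obtain ⟨mT, hmT⟩ := exists_irrel 𝒯
  have hposT : ∀ n : ℤ, n < 0 → 𝒯 n = ⊥ := Groth.Agent.Lib.Helper90.Seg.segRing_neg hT hposR
  have h0T : 𝒯 0 = Submodule.span k {(1 : T)} :=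
    Groth.Agent.Lib.Helper90.Seg.segRing_zero hT h0R h0S
  have hlocR : IsStarLocal (agr 𝒜) (idealA 𝒜 mR) :=
    Groth.Agent.Lib.Helper8.GrIrrelLocal.isStarLocal (hpos_agr 𝒜 hposR) (isField_deg0 𝒜 h0R)
      (idealA 𝒜 mR) hmR
  have hlocS : IsStarLocal (agr ℬ) (idealA ℬ mS) :=
    Groth.Agent.Lib.Helper8.GrIrrelLocal.isStarLocal (hpos_agr ℬ hposS) (isField_deg0 ℬ h0S)
      (idealA ℬ mS) hmS
  have hlocT : IsStarLocal (agr 𝒯) (idealA 𝒯 mT) :=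
    Groth.Agent.Lib.Helper8.GrIrrelLocal.isStarLocal (hpos_agr 𝒯 hposT) (isField_deg0 𝒯 h0T)
      (idealA 𝒯 mT) hmT
  have hzS : ∀ q : ℕ, q < s → ∀ g' : ℤ, VanM (idealA ℬ mS) (agr ℬ) q g' := fun q hq g' =>
    Groth.Agent.Lib.Helper8.GrLCCM.vanM_of_cm (hpos_agr ℬ hposS) (idealA ℬ mS) hlocS s hs q hq g'
  have hzR0 : ∀ g' : ℤ, VanM (idealA 𝒜 mR) (agr 𝒜) 0 g' := fun g' =>
    Groth.Agent.Lib.Helper8.GrLCCM.vanM_of_cm (hpos_agr 𝒜 hposR) (idealA 𝒜 mR) hlocR 1 hr' 0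
      one_pos g'
  have hgamR : gam (idealA 𝒜 mR).toIdeal R = ⊥ :=
    Groth.Agent.Lib.Helper8.GrLCPolyArtMain.gam_eq_bot_of_vanM (idealA 𝒜 mR) (agr 𝒜) hzR0
  obtain ⟨e, he, x, hxe, hxm, hxreg, hxrad⟩ :=
    Groth.Agent.Lib.Helper8.GrSegH.exists_param (agr 𝒜) (hpos_agr 𝒜 hposR) (idealA 𝒜 mR) hlocR
      (irrel_zero 𝒜 hposR mR hmR) hgamR hr
  obtain ⟨L, C, ι, π, hSES, hbij, hCt, hiff, hpw⟩ :=
    Groth.Agent.Lib.Helper8.GrSegI.exists_transform' (agr 𝒜) (idealA 𝒜 mR) hxe hxm hxreg hxrad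
  obtain ⟨c0, c2, c1⟩ := core hT' mS mR mT hmS hmR hmT L C ι π hSES he hxe hbij hCt s hzS
  have hcm : (∀ i : ℕ, i < s → ∀ g : ℤ, VanM (idealA 𝒯 mT) (agr 𝒯) i g) →
      LocCoh.IsCohenMacaulayRing T := fun h =>
    Groth.Agent.Lib.Helper8.GrSegF.cm_of_vanM (hpos_agr 𝒯 hposT) (idealA 𝒯 mT) hlocT s hdimT h
  refine ⟨e, x, L, C, ι, π, he, hxe, hxreg, hSES, hbij, hpw, hiff,
    fun h2s => ⟨fun hCM n => ?_, fun h => ?_⟩, fun hs1 => ?_⟩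
  · haveI := hCM
    have h1 : VanM (idealA 𝒯 mT) (agr 𝒯) 1 n :=
      Groth.Agent.Lib.Helper8.GrLCCM.vanM_of_cm (hpos_agr 𝒯 hposT) (idealA 𝒯 mT) hlocT s hdimT 1
        (by omega) n
    exact (c1 h2s n).mp h1
  · apply hcm
    intro i hi g
    rcases Nat.lt_or_ge i 2 with hi2 | hi2
    · interval_cases i
      · exact c0 (by omega) g
      · exact (c1 h2s g).mpr (h g)
    · exact c2 i hi2 hi g
  · apply hcm
    intro i hi g
    have hi0 : i = 0 := by omega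
    subst hi0
    exact c0 (by omega) g

theorem main (k : Type u) [Field k] (R : Type u) [CommRing R] [Algebra k R]
    (𝒜 : ℤ → Submodule k R) [GradedAlgebra 𝒜] (hposR : ∀ n : ℤ, n < 0 → 𝒜 n = ⊥)
    (h0R : 𝒜 0 = Submodule.span k {(1 : R)}) [Algebra.FiniteType k R] (S : Type u) [CommRing S]
    [Algebra k S] (ℬ : ℤ → Submodule k S) [GradedAlgebra ℬ] (hposS : ∀ n : ℤ, n < 0 → ℬ n = ⊥)
    (h0S : ℬ 0 = Submodule.span k {(1 : S)}) [Algebra.FiniteType k S] (T : Type u) [CommRing T]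
    [Algebra k T] (𝒯 : ℤ → Submodule k T) [GradedAlgebra 𝒯] (ψ : T →ₐ[k] TensorProduct k R S)
    (hψ : Function.Injective ψ)
    (hdegT : ∀ n : ℤ, (𝒯 n).map ψ.toLinearMap = Submodule.span k
      {x : TensorProduct k R S | ∃ a ∈ 𝒜 n, ∃ b ∈ ℬ n, x = a ⊗ₜ[k] b})
    [LocCoh.IsCohenMacaulayRing R] [LocCoh.IsCohenMacaulayRing S] (mR : HomogeneousIdeal 𝒜)
    (hmR : mR.toIdeal = Ideal.span (⋃ n ∈ Set.Ioi (0 : ℤ), (𝒜 n : Set R)))
    (I : GrLC.StarInjRes 𝒜 𝒜) (hr : ringKrullDim R = 1) (s : ℕ) (hs : ringKrullDim S = s)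
    (h1s : 1 ≤ s) :
    (2 ≤ s → (LocCoh.IsCohenMacaulayRing T ↔ ∀ n : ℤ, I.Hcomp mR 1 n = ⊥ ∨ ℬ n = ⊥)) ∧
      (s = 1 → LocCoh.IsCohenMacaulayRing T) := by
  obtain ⟨e, x, L, C, ι, π, -, -, -, -, -, -, hiff, h2, h1⟩ :=
    main_aux k R 𝒜 hposR h0R S ℬ hposS h0S T 𝒯 ψ hψ hdegT mR hmR hr s hs h1s
  have hconv : ∀ n : ℤ, (agr ℬ n = ⊥ ∨ C.gr n = ⊥) ↔ (I.Hcomp mR 1 n = ⊥ ∨ ℬ n = ⊥) := by
    intro n
    have h1 : C.gr n = ⊥ ↔ I.Hcomp mR 1 n = ⊥ := by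
      rw [← hiff n, hcomp_eq_bot_iff_vanM 𝒜 𝒜 I mR 1 n]
    have h2 : agr ℬ n = ⊥ ↔ ℬ n = ⊥ := by
      constructor
      · intro h
        rw [eq_bot_iff]
        intro b hb
        have hb' : b ∈ agr ℬ n := hb
        rw [h, AddSubgroup.mem_bot] at hb'
        rw [Submodule.mem_bot]
        exact hb'
      · intro h
        rw [eq_bot_iff]
        intro b hb
        have hb' : b ∈ ℬ n := hb
        rw [h, Submodule.mem_bot] at hb'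
        rw [AddSubgroup.mem_bot]
        exact hb'
    rw [h1, h2, or_comm]
  refine ⟨fun h2s => ?_, h1⟩
  rw [h2 h2s]
  exact forall_congr' hconv

end Main

end Groth.Agent.Lib.Helper8.GrSegK
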