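import Groth.Agent.Lib.Helper8.GrSegK
import Groth.Agent.Lib.Helper90.SegB

/-!
# Segre products with a one-dimensional standard graded factor
-/

set_option autoImplicit false
set_option linter.unusedSectionVars false
universe u

open DirectSum GrLC TensorProduct
open Groth.Agent.Lib.Helper30 Groth.Agent.Lib.Helper8.GrLCSub
open Groth.Agent.Lib.Helper8.GrLCBase
open Groth.Agent.Lib.Helper8.GrLCLES Groth.Agent.Lib.Helper8.GrLCTors
open Groth.Agent.Lib.Helper8.GrSegK

namespace Groth.Agent.Lib.Helper8.GrSegL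

section Std

variable {k : Type u} [Field k] {A : Type u} [CommRing A] [Algebra k A] [IsNoetherianRing A]
  (𝒞 : ℤ → Submodule k A) [GradedAlgebra 𝒞]
  (hpos : ∀ n : ℤ, n < 0 → 𝒞 n = ⊥) (h0 : 𝒞 0 = Submodule.span k {(1 : A)})
  (hstd : Ideal.span (⋃ n ∈ Set.Ioi (0 : ℤ), (𝒞 n : Set A)) =
    Ideal.span ((𝒞 1 : Submodule k A) : Set A))

include hpos h0 hstd in
theorem exists_not_nilp (hdim : 1 ≤ ringKrullDim A) (e : ℕ) : ∃ a ∈ 𝒞 1, a ^ e ≠ 0 := by
  classical
  by_contra hcon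
  push Not at hcon
  haveI : Nontrivial A := by
    by_contra hn
    rw [not_nontrivial_iff_subsingleton] at hn
    rw [ringKrullDim_eq_bot_of_subsingleton] at hdim
    simp at hdim
  obtain ⟨m, hm⟩ := exists_irrel 𝒞
  have hloc : IsStarLocal (agr 𝒞) (idealA 𝒞 m) :=
    Groth.Agent.Lib.Helper8.GrIrrelLocal.isStarLocal (hpos_agr 𝒞 hpos) (isField_deg0 𝒞 h0)
      (idealA 𝒞 m) hm
  have hmax : m.toIdeal.IsMaximal :=
    Groth.Agent.Lib.Helper8.GrLCPieces.isMaximal_of_isStarLocal (hpos_agr 𝒞 hpos) (idealA 𝒞 m) hloc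
  have hnil : m.toIdeal ≤ nilradical A := by
    rw [hm, hstd, Ideal.span_le]
    intro a ha
    exact ⟨e, hcon a ha⟩
  have h0dim : Ring.KrullDimLE 0 A := by
    rw [Ring.krullDimLE_zero_iff]
    intro p hp
    have hle : m.toIdeal ≤ p := hnil.trans (nilradical_le_prime p)
    rw [← hmax.eq_of_le hp.ne_top hle]
    exact hmax
  rw [Ring.krullDimLE_iff] at h0dim
  have h2 := hdim.trans h0dim
  norm_num at h2

include hpos h0 hstd in
theorem piece_ne_bot (hdim : 1 ≤ ringKrullDim A) (n : ℕ) : 𝒞 (n : ℤ) ≠ ⊥ := by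
  obtain ⟨a, ha, han⟩ := exists_not_nilp 𝒞 hpos h0 hstd hdim n
  intro h
  have h1 : a ^ n ∈ 𝒞 (n : ℤ) := by
    have := SetLike.pow_mem_graded n ha
    rwa [nsmul_eq_mul, mul_one] at this
  rw [h, Submodule.mem_bot] at h1
  exact han h1

include hpos h0 hstd in
theorem piece_eq_of_deg_one {a : A} (h1 : ∀ b ∈ 𝒞 1, ∃ c : k, b = c • a) :
    ∀ n : ℕ, ∀ r ∈ 𝒞 (n : ℤ), ∃ c : k, r = c • a ^ n := by
  classical
  obtain ⟨m, x, hx⟩ := Groth.Agent.Lib.Helper90.Seg.exists_isStd 𝒞 hpos h0 hstd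
  intro n
  induction n with
  | zero =>
    intro r hr
    rw [Nat.cast_zero, h0] at hr
    obtain ⟨c, rfl⟩ := Submodule.mem_span_singleton.mp hr
    exact ⟨c, by rw [pow_zero]⟩
  | succ n ih =>
    intro r hr
    have hr' : r ∈ 𝒞 ((n : ℤ) + 1) := by
      push_cast at hr
      exact hr
    obtain ⟨g, hg, rfl⟩ := hx.succ n (by positivity) r hr'
    choose c hc using fun i => h1 (x i) (hx.mem i)
    choose d hd using fun i => ih (g i) (hg i)
    refine ⟨∑ i, c i * d i, ?_⟩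
    rw [Finset.sum_smul]
    apply Finset.sum_congr rfl
    intro i _
    rw [hc i, hd i, smul_mul_smul_comm, pow_succ']

end Std

section Poly

variable {k : Type u} [Field k] {R : Type u} [CommRing R] [Algebra k R] [IsNoetherianRing R]
  (𝒜 : ℤ → Submodule k R) [GradedAlgebra 𝒜]
  (hpos : ∀ n : ℤ, n < 0 → 𝒜 n = ⊥) (h0 : 𝒜 0 = Submodule.span k {(1 : R)})
  (hstd : Ideal.span (⋃ n ∈ Set.Ioi (0 : ℤ), (𝒜 n : Set R)) =
    Ideal.span ((𝒜 1 : Submodule k R) : Set R))

include hpos in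
/-- A graded algebra all of whose pieces are spanned by the powers of a non-nilpotent element of
degree one is a polynomial ring. -/
theorem poly_of_pieces [Nontrivial R] {a : R} (ha : a ∈ 𝒜 1) (hane : ∀ n : ℕ, a ^ n ≠ 0)
    (hR : ∀ n : ℕ, ∀ r ∈ 𝒜 (n : ℤ), ∃ c : k, r = c • a ^ n) :
    Nonempty (R ≃ₐ[k] Polynomial k) := by
  classical
  have hpow : ∀ n : ℕ, a ^ n ∈ 𝒜 (n : ℤ) := by
    intro n
    have := SetLike.pow_mem_graded n ha
    rwa [nsmul_eq_mul, mul_one] at this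
  let f : Polynomial k →ₐ[k] R := Polynomial.aeval a
  have hsurj : Function.Surjective f := by
    intro r
    induction r using DirectSum.Decomposition.inductionOn 𝒜 with
    | zero => exact ⟨0, map_zero f⟩
    | add r r' hr hr' =>
      obtain ⟨p, hp⟩ := hr
      obtain ⟨p', hp'⟩ := hr'
      exact ⟨p + p', by rw [map_add, hp, hp']⟩
    | @homogeneous i r =>
      rcases lt_or_ge i 0 with hi | hi
      · have hr : (r : R) = 0 := by
          have h1 : ∀ y : R, y ∈ 𝒜 i → y = 0 := by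
            intro y hy
            rw [hpos i hi, Submodule.mem_bot] at hy
            exact hy
          exact h1 _ r.2
        exact ⟨0, by rw [map_zero, hr]⟩
      · obtain ⟨n, rfl⟩ : ∃ n : ℕ, i = (n : ℤ) := ⟨i.toNat, (Int.toNat_of_nonneg hi).symm⟩
        obtain ⟨c, hc⟩ := hR n r r.2
        refine ⟨c • Polynomial.X ^ n, ?_⟩
        rw [hc, map_smul, map_pow]
        change c • (Polynomial.aeval a Polynomial.X) ^ n = _
        rw [Polynomial.aeval_X]
  have key : ∀ (s : Finset ℕ) (c : ℕ → k), ∑ i ∈ s, c i • a ^ i = 0 → ∀ j ∈ s, c j = 0 := by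
    intro s c hsum j hj
    have h1 : ∀ i : ℕ, c i • a ^ i ∈ 𝒜 (i : ℤ) := fun i => Submodule.smul_mem _ _ (hpow i)
    have h2 : ((decompose 𝒜 (∑ i ∈ s, c i • a ^ i)) (j : ℤ) : R) = 0 := by
      rw [hsum, decompose_zero]
      rfl
    rw [decompose_sum, DFinsupp.finset_sum_apply, AddSubmonoidClass.coe_finset_sum,
      Finset.sum_eq_single j] at h2
    · rw [decompose_of_mem_same 𝒜 (h1 j)] at h2
      exact (smul_eq_zero.mp h2).resolve_right (hane j)
    · intro i _ hij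
      rw [decompose_of_mem_ne 𝒜 (h1 i) (by exact_mod_cast hij)]
    · intro hj'
      exact absurd hj hj'
  have hinj : Function.Injective f := by
    rw [injective_iff_map_eq_zero]
    intro p hp
    have hp' : ∑ i ∈ Finset.range (p.natDegree + 1), p.coeff i • a ^ i = 0 := by
      rw [← Polynomial.aeval_eq_sum_range]
      exact hp
    ext j
    rw [Polynomial.coeff_zero]
    by_cases hj : j ∈ Finset.range (p.natDegree + 1)
    · exact key _ _ hp' j hj
    · rw [Finset.mem_range, not_lt] at hj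
      exact Polynomial.coeff_eq_zero_of_natDegree_lt (by omega)
  exact ⟨(AlgEquiv.ofBijective f ⟨hinj, hsurj⟩).symm⟩

include hpos h0 in
/-- In a standard graded ring which is abstractly a polynomial ring in one variable, the piece of
degree one is at most one-dimensional. -/
theorem deg_one_of_poly (φ : R ≃ₐ[k] Polynomial k) :
    ∃ a ∈ 𝒜 1, ∀ b ∈ 𝒜 1, ∃ c : k, b = c • a := by
  classical
  haveI : IsPrincipalIdealRing R :=
    IsPrincipalIdealRing.of_surjective (φ.symm : Polynomial k →+* R) φ.symm.surjective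
  obtain ⟨m, hm⟩ := exists_irrel 𝒜
  obtain ⟨g, hg⟩ := (IsPrincipalIdealRing.principal m.toIdeal).principal
  have hgm : g ∈ m.toIdeal := by
    rw [hg]
    exact Submodule.mem_span_singleton_self g
  have hg0 : ∀ j : ℤ, j ≤ 0 → (decompose 𝒜 g j : R) = 0 := by
    intro j hj
    have h1 : (decompose 𝒜 g j : R) ∈ m.toIdeal := m.isHomogeneous j hgm
    exact irrel_zero 𝒜 hpos m hm j hj _ (decompose 𝒜 g j).2 h1
  have key : ∀ h : R, ((decompose 𝒜 (h * g)) 1 : R) =
      (decompose 𝒜 h 0 : R) * (decompose 𝒜 g 1 : R) := by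
    intro h
    induction h using DirectSum.Decomposition.inductionOn 𝒜 with
    | zero => simp
    | add h h' ih ih' =>
      rw [add_mul, decompose_add, DirectSum.add_apply, Submodule.coe_add, ih, ih', decompose_add,
        DirectSum.add_apply, Submodule.coe_add, add_mul]
    | @homogeneous i h =>
      have h1 := DirectSum.coe_decompose_mul_add_of_left_mem 𝒜 (i := i) (j := 1 - i) h.2 (b := g)
      rw [show i + (1 - i) = 1 by ring] at h1
      rw [h1]
      by_cases hi : i = 0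
      · subst hi
        rw [decompose_of_mem_same 𝒜 h.2, sub_zero]
      · rw [decompose_of_mem_ne 𝒜 h.2 hi, zero_mul]
        rcases lt_or_gt_of_ne hi with hneg | hpos'
        · have hz : ∀ y : R, y ∈ 𝒜 i → y = 0 := by
            intro y hy
            rw [hpos i hneg, Submodule.mem_bot] at hy
            exact hy
          rw [hz _ h.2, zero_mul]
        · rw [hg0 (1 - i) (by omega), mul_zero]
  refine ⟨(decompose 𝒜 g 1 : R), (decompose 𝒜 g 1).2, fun b hb => ?_⟩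
  have hbm : b ∈ m.toIdeal := by
    rw [hm]
    apply Ideal.subset_span
    simp only [Set.mem_iUnion, Set.mem_Ioi, SetLike.mem_coe, exists_prop]
    exact ⟨1, one_pos, hb⟩
  rw [hg] at hbm
  obtain ⟨h, rfl⟩ := Ideal.mem_span_singleton'.mp hbm
  have h2 := key h
  rw [decompose_of_mem_same 𝒜 hb] at h2
  have h3 : ∀ y : R, y ∈ 𝒜 0 → ∃ c : k, c • (1 : R) = y := by
    intro y hy
    rw [h0] at hy
    exact Submodule.mem_span_singleton.mp hy
  obtain ⟨c, hc⟩ := h3 _ (decompose 𝒜 h 0).2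
  refine ⟨c, ?_⟩
  rw [h2, ← hc, smul_mul_assoc, one_mul]

end Poly

section Trans

variable {k : Type u} [Field k] {R : Type u} [CommRing R] [Algebra k R] [IsNoetherianRing R]
  (𝒜 : ℤ → Submodule k R) [GradedAlgebra 𝒜]
  (hpos : ∀ n : ℤ, n < 0 → 𝒜 n = ⊥) (h0 : 𝒜 0 = Submodule.span k {(1 : R)})
  (hstd : Ideal.span (⋃ n ∈ Set.Ioi (0 : ℤ), (𝒜 n : Set R)) =
    Ideal.span ((𝒜 1 : Submodule k R) : Set R))
variable {e : ℕ} (he : 0 < e) {x : R} (hxe : x ∈ agr 𝒜 (e : ℤ)) (hxreg : IsSMulRegular R x)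
  (L C : GMod.{u} (agr 𝒜)) (ι : R →ₗ[R] L.carrier) (π : L.carrier →ₗ[R] C.carrier)
  (hS : SES (agr 𝒜) L.gr C.gr ι π) (hbij : Function.Bijective (fun u : L.carrier => x • u))

include hpos h0 hstd he hxe hS hbij in
theorem pieces_of_C0 [Nontrivial R] (hdim : 1 ≤ ringKrullDim R) (hC0 : C.gr 0 = ⊥) :
    ∃ a ∈ 𝒜 1, (∀ n : ℕ, a ^ n ≠ 0) ∧ ∀ n : ℕ, ∀ r ∈ 𝒜 (n : ℤ), ∃ c : k, r = c • a ^ n := by
  classical
  have hL0 : ∀ u ∈ L.gr 0, ∃ c : k, u = ι (algebraMap k R c) := by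
    intro u hu
    have h1 : π u ∈ C.gr 0 := hS.p_gr 0 u hu
    rw [hC0, AddSubgroup.mem_bot] at h1
    have h2 : u ∈ LinearMap.ker π := h1
    rw [← hS.exact] at h2
    obtain ⟨r, rfl⟩ := h2
    have hr : r ∈ agr 𝒜 0 := mem_piece_of_map_mem_piece (agr 𝒜) L.gr ι hS.i_gr hS.inj hu
    have hr' : r ∈ 𝒜 0 := hr
    rw [h0] at hr'
    obtain ⟨c, rfl⟩ := Submodule.mem_span_singleton.mp hr'
    exact ⟨c, by rw [Algebra.algebraMap_eq_smul_one]⟩
  obtain ⟨a, ha, hae⟩ := exists_not_nilp 𝒜 hpos h0 hstd hdim e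
  have hLe : ∀ u ∈ L.gr (e : ℤ), ∃ c : k, u = ι (c • x) := by
    intro u hu
    obtain ⟨v, hv⟩ := hbij.2 u
    have hv1 : x • v = u := hv
    have hv' : x • v ∈ L.gr (e : ℤ) := by
      rw [hv1]
      exact hu
    have hv0 : v ∈ L.gr ((e : ℤ) - e) :=
      Groth.Agent.Lib.Helper8.GrLCBij.mem_of_smul_mem hxe hbij.1 hv'
    rw [sub_self] at hv0
    obtain ⟨c, rfl⟩ := hL0 v hv0
    refine ⟨c, ?_⟩
    rw [← hv1, ← map_smul, smul_eq_mul, Algebra.smul_def, mul_comm]
  have hae' : a ^ e ∈ agr 𝒜 (e : ℤ) := by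
    have := SetLike.pow_mem_graded e ha
    rwa [nsmul_eq_mul, mul_one] at this
  obtain ⟨c, hc⟩ := hLe (ι (a ^ e)) (hS.i_gr _ _ hae')
  have hc' : a ^ e = c • x := hS.inj hc
  have hc0 : c ≠ 0 := by
    rintro rfl
    rw [zero_smul] at hc'
    exact hae hc'
  have hy : Function.Bijective (fun u : L.carrier => (a ^ e) • u) := by
    constructor
    · intro u v huv
      apply hbij.1
      change x • u = x • v
      have h1 : (a ^ e) • u = (a ^ e) • v := huv
      rw [hc', Algebra.smul_def, mul_smul, mul_smul] at h1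
      have h2 := congrArg (fun z => algebraMap k R c⁻¹ • z) h1
      simp only [← mul_smul] at h2
      rw [← mul_assoc, ← map_mul, inv_mul_cancel₀ hc0, map_one, one_mul] at h2
      exact h2
    · intro u
      obtain ⟨w, hw⟩ := hbij.2 u
      have hw1 : x • w = u := hw
      refine ⟨algebraMap k R c⁻¹ • w, ?_⟩
      change (a ^ e) • (algebraMap k R c⁻¹ • w) = u
      rw [hc', Algebra.smul_def, ← mul_smul, mul_assoc, mul_comm x, ← mul_assoc, ← map_mul,
        mul_inv_cancel₀ hc0, map_one, one_mul]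
      exact hw1
  have haL : Function.Bijective (fun u : L.carrier => a • u) := by
    obtain ⟨e', rfl⟩ : ∃ e', e = e' + 1 := ⟨e - 1, by omega⟩
    constructor
    · intro u v huv
      apply hy.1
      change a ^ (e' + 1) • u = a ^ (e' + 1) • v
      have huv' : a • u = a • v := huv
      rw [pow_succ, mul_smul, mul_smul, huv']
    · intro u
      obtain ⟨w, hw⟩ := hy.2 u
      have hw1 : a ^ (e' + 1) • w = u := hw
      refine ⟨a ^ e' • w, ?_⟩
      change a • (a ^ e' • w) = u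
      rw [← mul_smul, ← pow_succ']
      exact hw1
  have ha' : a ∈ agr 𝒜 1 := ha
  have hLn : ∀ n : ℕ, ∀ u ∈ L.gr (n : ℤ), ∃ c : k, u = ι (c • a ^ n) := by
    intro n
    induction n with
    | zero =>
      intro u hu
      rw [Nat.cast_zero] at hu
      obtain ⟨c, rfl⟩ := hL0 u hu
      exact ⟨c, by rw [pow_zero, Algebra.algebraMap_eq_smul_one]⟩
    | succ n ih =>
      intro u hu
      obtain ⟨v, hv⟩ := haL.2 u
      have hv1 : a • v = u := hv
      have hv' : a • v ∈ L.gr ((n : ℤ) + 1) := by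
        rw [hv1]
        push_cast at hu
        exact hu
      have hvn : v ∈ L.gr ((n : ℤ) + 1 - 1) :=
        Groth.Agent.Lib.Helper8.GrLCBij.mem_of_smul_mem ha' haL.1 hv'
      rw [add_sub_cancel_right] at hvn
      obtain ⟨c, rfl⟩ := ih v hvn
      refine ⟨c, ?_⟩
      rw [← hv1, ← map_smul, smul_eq_mul, mul_smul_comm, ← pow_succ']
  have hRn : ∀ n : ℕ, ∀ r ∈ 𝒜 (n : ℤ), ∃ c : k, r = c • a ^ n := by
    intro n r hr
    obtain ⟨c, hc⟩ := hLn n (ι r) (hS.i_gr _ _ hr)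
    exact ⟨c, hS.inj hc⟩
  have hane : ∀ n : ℕ, a ^ n ≠ 0 := by
    intro n hn
    have h1 : ∀ (n : ℕ) (u : L.carrier), a ^ n • u = 0 → u = 0 := by
      intro n
      induction n with
      | zero =>
        intro u hu
        simpa using hu
      | succ n ih =>
        intro u hu
        rw [pow_succ, mul_smul] at hu
        apply haL.1
        change a • u = a • 0
        rw [ih _ hu, smul_zero]
    have h2 : ι 1 = 0 := h1 n (ι 1) (by rw [← map_smul, smul_eq_mul, mul_one, hn, map_zero])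
    have h3 : (1 : R) = 0 := hS.inj (by rw [h2, map_zero])
    exact one_ne_zero h3
  exact ⟨a, ha, hane, hRn⟩

include hxe hxreg hS hbij in
theorem C_eq_bot_of_pieces [Nontrivial R] {a : R}
    (hR : ∀ n : ℕ, ∀ r ∈ 𝒜 (n : ℤ), ∃ c : k, r = c • a ^ n)
    (hpw : ∀ u : L.carrier, ∃ (t : ℕ) (r : R), ι r = x ^ t • u) (n : ℕ) :
    C.gr (n : ℤ) = ⊥ := by
  classical
  rw [eq_bot_iff]
  intro w hw
  rw [AddSubgroup.mem_bot]
  obtain ⟨u0, rfl⟩ := hS.surj w
  set u := (decompose L.gr u0 (n : ℤ) : L.carrier) with hu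
  have hun : u ∈ L.gr (n : ℤ) := (decompose L.gr u0 (n : ℤ)).2
  have hπu : π u = π u0 := by
    rw [hu, decompose_map_of_isGrHom L.gr C.gr π hS.p_gr, decompose_of_mem_same C.gr hw]
  rw [← hπu]
  obtain ⟨t, r, hr⟩ := hpw u
  have hxt : x ^ t ∈ agr 𝒜 ((t * e : ℕ) : ℤ) := by
    have := SetLike.pow_mem_graded t hxe
    rwa [nsmul_eq_mul, ← Nat.cast_mul] at this
  have hxu : x ^ t • u ∈ L.gr (((t * e : ℕ) : ℤ) + n) := by
    have := SetLike.GradedSMul.smul_mem (A := agr 𝒜) (B := L.gr) hxt hun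
    rwa [vadd_eq_add] at this
  have hrd : r ∈ agr 𝒜 ((t * e + n : ℕ) : ℤ) := by
    apply mem_piece_of_map_mem_piece (agr 𝒜) L.gr ι hS.i_gr hS.inj
    rw [hr]
    push_cast
    push_cast at hxu
    exact hxu
  obtain ⟨c, hc⟩ := hR (t * e + n) r hrd
  obtain ⟨d, hd⟩ := hR e x hxe
  have hd0 : d ≠ 0 := by
    rintro rfl
    rw [zero_smul] at hd
    have h1 : (1 : R) = 0 := hxreg (by
      change x • (1 : R) = x • (0 : R)
      rw [hd, zero_smul, zero_smul])
    exact one_ne_zero h1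
  have hdt : d ^ t ≠ 0 := pow_ne_zero t hd0
  have hxt' : x ^ t = d ^ t • a ^ (e * t) := by rw [hd, smul_pow, ← pow_mul]
  have hr2 : r = x ^ t * ((c * (d ^ t)⁻¹) • a ^ n) := by
    rw [hc, hxt', smul_mul_smul_comm, ← pow_add, mul_comm (d ^ t), mul_assoc,
      inv_mul_cancel₀ hdt, mul_one, mul_comm e t]
  have h3 : x ^ t • u = x ^ t • ι ((c * (d ^ t)⁻¹) • a ^ n) := by
    rw [← hr, ← map_smul, smul_eq_mul, ← hr2]
  have hinjt : Function.Injective (fun u : L.carrier => x ^ t • u) :=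
    (Groth.Agent.Lib.Helper8.GrSegD.pow_smul_bijective' hbij t).1
  have h4 : u = ι ((c * (d ^ t)⁻¹) • a ^ n) := hinjt h3
  rw [h4]
  exact hS.p_i _

end Trans

section Main

theorem main (k : Type u) [Field k] (R : Type u) [CommRing R] [Algebra k R]
    (𝒜 : ℤ → Submodule k R) [GradedAlgebra 𝒜] (hposR : ∀ n : ℤ, n < 0 → 𝒜 n = ⊥)
    (h0R : 𝒜 0 = Submodule.span k {(1 : R)}) [Algebra.FiniteType k R] (S : Type u) [CommRing S]
    [Algebra k S] (ℬ : ℤ → Submodule k S) [GradedAlgebra ℬ] (hposS : ∀ n : ℤ, n < 0 → ℬ n = ⊥)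
    (h0S : ℬ 0 = Submodule.span k {(1 : S)}) [Algebra.FiniteType k S] (T : Type u) [CommRing T]
    [Algebra k T] (𝒯 : ℤ → Submodule k T) [GradedAlgebra 𝒯] (ψ : T →ₐ[k] TensorProduct k R S)
    (hψ : Function.Injective ψ)
    (hdegT : ∀ n : ℤ, (𝒯 n).map ψ.toLinearMap = Submodule.span k
      {x : TensorProduct k R S | ∃ a ∈ 𝒜 n, ∃ b ∈ ℬ n, x = a ⊗ₜ[k] b})
    [LocCoh.IsCohenMacaulayRing R] [LocCoh.IsCohenMacaulayRing S]
    (hstdR : Ideal.span (⋃ n ∈ Set.Ioi (0 : ℤ), (𝒜 n : Set R)) =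
      Ideal.span ((𝒜 1 : Submodule k R) : Set R))
    (hstdS : Ideal.span (⋃ n ∈ Set.Ioi (0 : ℤ), (ℬ n : Set S)) =
      Ideal.span ((ℬ 1 : Submodule k S) : Set S))
    (hr : ringKrullDim R = 1) (hs : 2 ≤ ringKrullDim S) :
    LocCoh.IsCohenMacaulayRing T ↔ Nonempty (R ≃ₐ[k] Polynomial k) := by
  classical
  haveI : IsNoetherianRing R := Algebra.FiniteType.isNoetherianRing k R
  haveI : IsNoetherianRing S := Algebra.FiniteType.isNoetherianRing k S
  haveI : Nontrivial S := by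
    by_contra hn
    rw [not_nontrivial_iff_subsingleton] at hn
    rw [ringKrullDim_eq_bot_of_subsingleton] at hs
    simp at hs
  haveI : Nontrivial R := nontrivial_of_dim 1 (by rw [hr]; rfl)
  obtain ⟨s, hs'⟩ := Groth.Agent.Lib.Helper14.exists_natCast_eq_ringKrullDim k S
  have h2s : 2 ≤ s := by
    rw [hs'] at hs
    exact_mod_cast hs
  obtain ⟨mR, hmR⟩ := exists_irrel 𝒜
  obtain ⟨e, x, L, C, ι, π, he, hxe, hxreg, hSES, hbij, hpw, -, h2, -⟩ :=
    main_aux k R 𝒜 hposR h0R S ℬ hposS h0S T 𝒯 ψ hψ hdegT mR hmR hr s hs' (by omega)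
  have hdimR : 1 ≤ ringKrullDim R := by rw [hr]
  have hdimS : 1 ≤ ringKrullDim S := le_trans (by norm_num) hs
  rw [h2 h2s]
  constructor
  · intro h
    have hC0 : C.gr 0 = ⊥ := by
      rcases h 0 with h' | h'
      · exfalso
        apply piece_ne_bot ℬ hposS h0S hstdS hdimS 0
        rw [eq_bot_iff]
        intro b hb
        have hb' : b ∈ agr ℬ 0 := hb
        rw [h', AddSubgroup.mem_bot] at hb'
        rw [Submodule.mem_bot]
        exact hb'
      · exact h'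
    obtain ⟨a, ha, hane, hR⟩ :=
      pieces_of_C0 𝒜 hposR h0R hstdR he hxe L C ι π hSES hbij hdimR hC0
    exact poly_of_pieces 𝒜 hposR ha hane hR
  · rintro ⟨φ⟩ n
    rcases lt_or_ge n 0 with hn | hn
    · left
      exact hpos_agr ℬ hposS n hn
    · right
      obtain ⟨n', rfl⟩ : ∃ n' : ℕ, n = (n' : ℤ) := ⟨n.toNat, (Int.toNat_of_nonneg hn).symm⟩
      obtain ⟨a, -, h1⟩ := deg_one_of_poly 𝒜 hposR h0R φ
      have hR := piece_eq_of_deg_one 𝒜 hposR h0R hstdR h1
      exact C_eq_bot_of_pieces 𝒜 hxe hxreg L C ι π hSES hbij hR hpw n'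

end Main

end Groth.Agent.Lib.Helper8.GrSegL
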