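import Groth.Agent.Lib.Helper8.GrSegJ

/-!
# Segre products of modules: exchange of the factors and the one-sided long exact sequence
-/

set_option autoImplicit false
set_option linter.unusedSectionVars false
universe u

open DirectSum GrLC TensorProduct
open Groth.Agent.Lib.Helper30 Groth.Agent.Lib.Helper8.GrLCSub
open Groth.Agent.Lib.Helper8.GrLCBase
open Groth.Agent.Lib.Helper8.GrLCLES Groth.Agent.Lib.Helper8.GrLCTors
open Groth.Agent.Lib.Helper93.Segre Groth.Agent.Lib.Helper93.SegreAct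
open Groth.Agent.Lib.Helper8.GrSegA Groth.Agent.Lib.Helper8.GrSegB Groth.Agent.Lib.Helper8.GrSegC
open Groth.Agent.Lib.Helper8.GrSegD Groth.Agent.Lib.Helper8.GrSegE
open Groth.Agent.Lib.Helper8.GrSegJ

namespace Groth.Agent.Lib.Helper8.GrSegM

section SwapMod

variable {k : Type u} [Field k] {R S T : Type u} [CommRing R] [CommRing S] [CommRing T]
  [Algebra k R] [Algebra k S] [Algebra k T]
  {ψ : T →ₐ[k] R ⊗[k] S}
variable {M : Type u} [AddCommGroup M] [Module R M] [Module k M] [IsScalarTower k R M]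
  {ℳ : ℤ → AddSubgroup M}
variable {N : Type u} [AddCommGroup N] [Module S N] [Module k N] [IsScalarTower k S N]
  {𝒩 : ℤ → AddSubgroup N}
variable {P : Type u} [AddCommGroup P] [Module T P] [Module k P] [IsScalarTower k T P]
  {𝒬 : ℤ → AddSubgroup P} [DirectSum.Decomposition 𝒬]
  {φ : P →ₗ[k] M ⊗[k] N}

theorem comm_act (z : R ⊗[k] S) (w : M ⊗[k] N) :
    TensorProduct.comm k M N (GrSeg.act k R S M N z w) =
      GrSeg.act k S R N M (Algebra.TensorProduct.comm k R S z) (TensorProduct.comm k M N w) := by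
  induction z using TensorProduct.induction_on with
  | zero => simp
  | tmul r s =>
    induction w using TensorProduct.induction_on with
    | zero => simp
    | tmul x y =>
      rw [GrSeg.act_tmul, TensorProduct.comm_tmul, Algebra.TensorProduct.comm_tmul,
        TensorProduct.comm_tmul, GrSeg.act_tmul]
    | add w w' h h' => rw [map_add, map_add, h, h', map_add, map_add]
  | add z z' h h' =>
    rw [map_add, LinearMap.add_apply, map_add, h, h', map_add, map_add, LinearMap.add_apply]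

/-- Exchanging the factors of a Segre product of modules. -/
theorem isSegreMod_swap (hP : GrSeg.IsSegreMod ψ ℳ 𝒩 𝒬 φ) :
    GrSeg.IsSegreMod (swapPsi ψ) 𝒩 ℳ 𝒬 ((TensorProduct.comm k M N).toLinearMap ∘ₗ φ) where
  injective := (TensorProduct.comm k M N).injective.comp hP.injective
  image_piece n := by
    have h1 : (((TensorProduct.comm k M N).toLinearMap ∘ₗ φ) '' (𝒬 n : Set P)) =
        (TensorProduct.comm k M N) '' (φ '' (𝒬 n : Set P)) := by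
      rw [Set.image_image]
      rfl
    rw [h1, hP.image_piece n]
    have h2 : ((TensorProduct.comm k M N) '' (GrSeg.segrePiece k ℳ 𝒩 n : Set (M ⊗[k] N))) =
        ((GrSeg.segrePiece k ℳ 𝒩 n).map (TensorProduct.comm k M N).toLinearMap : Set _) := rfl
    rw [h2]
    congr 1
    unfold GrSeg.segrePiece
    rw [Submodule.map_span]
    congr 1
    ext z
    constructor
    · rintro ⟨_, ⟨a, ha, b, hb, rfl⟩, rfl⟩
      exact ⟨b, hb, a, ha, by simp⟩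
    · rintro ⟨b, hb, a, ha, rfl⟩
      exact ⟨a ⊗ₜ b, ⟨a, ha, b, hb, rfl⟩, by simp⟩
  map_smul t p := by
    change TensorProduct.comm k M N (φ (t • p)) = _
    rw [hP.map_smul, comm_act]
    rfl

end SwapMod

section Core

variable {k : Type u} [Field k] {R S T : Type u} [CommRing R] [CommRing S] [CommRing T]
  [Algebra k R] [Algebra k S] [Algebra k T] [IsNoetherianRing R] [IsNoetherianRing T]
  {𝒜 : ℤ → Submodule k R} [GradedAlgebra 𝒜] {ℬ : ℤ → Submodule k S} [GradedAlgebra ℬ]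
  {𝒯 : ℤ → Submodule k T} [GradedAlgebra 𝒯] {ψ : T →ₐ[k] R ⊗[k] S}
  (hT : GrSeg.IsSegreRing 𝒜 ℬ 𝒯 ψ)
variable {X : Type u} [AddCommGroup X] [Module R X] [Module k X] [IsScalarTower k R X]
  (𝒳 : ℤ → AddSubgroup X) [DirectSum.Decomposition 𝒳] [SetLike.GradedSMul 𝒜 𝒳]
variable {Y' : Type u} [AddCommGroup Y'] [Module S Y'] [Module k Y'] [IsScalarTower k S Y']
  (𝒴' : ℤ → AddSubgroup Y') [DirectSum.Decomposition 𝒴'] [SetLike.GradedSMul ℬ 𝒴']
variable {Y : Type u} [AddCommGroup Y] [Module S Y] [Module k Y] [IsScalarTower k S Y]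
  (𝒴 : ℤ → AddSubgroup Y) [DirectSum.Decomposition 𝒴] [SetLike.GradedSMul ℬ 𝒴]
variable {Y'' : Type u} [AddCommGroup Y''] [Module S Y''] [Module k Y''] [IsScalarTower k S Y'']
  (𝒴'' : ℤ → AddSubgroup Y'') [DirectSum.Decomposition 𝒴''] [SetLike.GradedSMul ℬ 𝒴'']
variable (mR : HomogeneousIdeal 𝒜) (mS : HomogeneousIdeal ℬ) (mT : HomogeneousIdeal 𝒯)
  (hmR : mR.toIdeal = Ideal.span (⋃ n ∈ Set.Ioi (0 : ℤ), (𝒜 n : Set R)))
  (hmS : mS.toIdeal = Ideal.span (⋃ n ∈ Set.Ioi (0 : ℤ), (ℬ n : Set S)))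
  (hmT : mT.toIdeal = Ideal.span (⋃ n ∈ Set.Ioi (0 : ℤ), (𝒯 n : Set T)))

variable {P : Type u} [AddCommGroup P] [Module T P] [Module k P] [IsScalarTower k T P]
  {𝒬 : ℤ → AddSubgroup P} [DirectSum.Decomposition 𝒬] [SetLike.GradedSMul 𝒯 𝒬]
  {φ : P →ₗ[k] X ⊗[k] Y'}

omit [IsNoetherianRing R] in
/-- The local cohomology of an abstract Segre product computed on the concrete one. -/
theorem vanM_cmp_iff (hP : GrSeg.IsSegreMod ψ 𝒳 𝒴' 𝒬 φ) (q : ℕ) (d : ℤ) :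
    VanM (idealA 𝒯 mT) (agr 𝒬) q d ↔ VanM (idealA 𝒯 mT) (seg hT 𝒳 𝒴').gr q d := by
  let e : P ≃ₗ[T] (seg hT 𝒳 𝒴').carrier :=
    LinearEquiv.ofBijective (cmp hT hP) ⟨cmp_injective hT hP, cmp_surjective hT hP⟩
  have he1 : IsGrHom (agr 𝒬) (seg hT 𝒳 𝒴').gr (e : P →ₗ[T] _) :=
    fun n p hp => (cmp_mem_iff hT hP n p).mpr hp
  have he2 : IsGrHom (seg hT 𝒳 𝒴').gr (agr 𝒬) (e.symm : _ →ₗ[T] P) := by
    intro n w hw
    have h1 : cmp hT hP (e.symm w) = w := e.apply_symm_apply w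
    rw [← h1] at hw
    exact (cmp_mem_iff hT hP n _).mp hw
  constructor
  · intro h
    exact vanM_of_retract (idealA 𝒯 mT) (e : P →ₗ[T] _) he1 (e.symm : _ →ₗ[T] P) he2
      (fun y => e.apply_symm_apply y) q d h
  · intro h
    exact vanM_of_retract (idealA 𝒯 mT) (e.symm : _ →ₗ[T] P) he2 (e : P →ₗ[T] _) he1
      (fun y => e.symm_apply_apply y) q d h

include hmR hmT in
/-- Vanishing for the Segre product with a module having a bijective element. -/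
theorem vanM_seg_of_zero' {e : ℕ} (he : 0 < e) {g : S}
    (hg : g ∈ ℬ (e : ℤ)) (hgL : Function.Bijective (fun y : Y => g • y))
    (q : ℕ) (hz : ∀ g' : ℤ, VanM (idealA 𝒜 mR) (agr 𝒳) q g') (d : ℤ) :
    VanM (idealA 𝒯 mT) (seg hT 𝒳 𝒴).gr q d := by
  letI dQ : DirectSum.Decomposition (segGr hT 𝒳 𝒴) := (seg hT 𝒳 𝒴).dec
  haveI : SetLike.GradedSMul 𝒯 (segGr hT 𝒳 𝒴) :=
    ⟨fun {i j a b} ha hb => (segGradedSMul hT 𝒳 𝒴).smul_mem ha hb⟩
  have hP := isSegreMod_seg hT 𝒳 𝒴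
  let E : StarInjRes (agr 𝒜) (agr 𝒳) := starInjRes (agr 𝒜) (agr 𝒳)
  have hsub := Groth.Agent.Lib.Helper8.GrLCWhole.subsingleton_H_of_vanM (idealA 𝒜 mR) E q hz
  have hzero : ∀ x : E.H (idealA 𝒜 mR) q, x = 0 := fun x => Subsingleton.elim _ _
  have h1 := Groth.Agent.Lib.Helper8.GrSegG.vanM_of_H_zero hT hP mR mT hmR hmT he hg hgL E q
    hzero d
  haveI : SetLike.GradedSMul (agr 𝒯) (segGr hT 𝒳 𝒴) := segGradedSMul hT 𝒳 𝒴
  have h2 : VanM (idealA 𝒯 mT) (segGr hT 𝒳 𝒴) q d :=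
    vanM_congr_gr (idealA 𝒯 mT) (agr (segGr hT 𝒳 𝒴)) (segGr hT 𝒳 𝒴)
      (fun _ _ h => h) (fun _ _ h => h) q d h1
  exact h2

include hT hmR hmS hmT in
/-- The local cohomology of `X # Y'` below the depth of `X`, when `Y'` admits a transform. -/
theorem core' (ι : Y' →ₗ[S] Y) (π : Y →ₗ[S] Y'')
    (hS : SES 𝒴' 𝒴 𝒴'' ι π) {e : ℕ} (he : 0 < e) {g : S} (hg : g ∈ ℬ (e : ℤ))
    (hgL : Function.Bijective (fun y : Y => g • y))
    (hC : gam mS.toIdeal Y'' = ⊤) (s : ℕ)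
    (hz : ∀ q : ℕ, q < s → ∀ g' : ℤ, VanM (idealA 𝒜 mR) (agr 𝒳) q g') :
    (0 < s → ∀ d : ℤ, VanM (idealA 𝒯 mT) (seg hT 𝒳 𝒴').gr 0 d) ∧
    (∀ q : ℕ, 2 ≤ q → q < s → ∀ d : ℤ, VanM (idealA 𝒯 mT) (seg hT 𝒳 𝒴').gr q d) ∧
    (2 ≤ s → ∀ d : ℤ, (VanM (idealA 𝒯 mT) (seg hT 𝒳 𝒴').gr 1 d ↔ (𝒳 d = ⊥ ∨ 𝒴'' d = ⊥))) := by
  have hSES := ses_seg_right hT (𝒳 := 𝒳) hS.i_gr hS.p_gr hS.inj hS.surj
    (fun x hx => by
      have : x ∈ LinearMap.ker π := hx
      rw [← hS.exact] at this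
      exact this)
    (fun x' => hS.p_i x')
  have hP2 : ∀ q : ℕ, q < s → ∀ d : ℤ, VanM (idealA 𝒯 mT) (seg hT 𝒳 𝒴).gr q d :=
    fun q hq d => vanM_seg_of_zero' hT 𝒳 𝒴 mR mT hmR hmT he hg hgL q (hz q hq) d
  have hP3t : gam (idealA 𝒯 mT).toIdeal (seg hT 𝒳 𝒴'').carrier = ⊤ :=
    gam_seg_eq_top_right hT 𝒳 𝒴'' mS mT hmS hmT hC
  have hP3 : ∀ (n : ℕ) (d : ℤ), VanM (idealA 𝒯 mT) (seg hT 𝒳 𝒴'').gr (n + 1) d :=
    fun n d => vanM_of_tors (idealA 𝒯 mT) hP3t n d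
  have hP3z : ∀ d : ℤ, VanM (idealA 𝒯 mT) (seg hT 𝒳 𝒴'').gr 0 d ↔
      (𝒳 d = ⊥ ∨ 𝒴'' d = ⊥) := by
    intro d
    rw [vanM_zero_iff, ← segGr_eq_bot_iff hT 𝒳 𝒴'' d]
    constructor
    · intro h w hw
      exact h w hw (by rw [hP3t]; trivial)
    · intro h w hw _
      exact h w hw
  refine ⟨fun hs d => ?_, fun q hq2 hqs d => ?_, fun hs d => ⟨fun h => ?_, fun h => ?_⟩⟩
  · exact les_left_zero (idealA 𝒯 mT) hSES d (hP2 0 hs d)
  · obtain ⟨n, rfl⟩ : ∃ n, q = n + 2 := ⟨q - 2, by omega⟩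
    exact les_left (idealA 𝒯 mT) hSES (n + 1) d (hP3 n d) (hP2 (n + 2) hqs d)
  · exact (hP3z d).mp (les_right (idealA 𝒯 mT) hSES 0 d (hP2 0 (by omega) d) h)
  · exact les_left (idealA 𝒯 mT) hSES 0 d ((hP3z d).mpr h) (hP2 1 (by omega) d)

end Core

end Groth.Agent.Lib.Helper8.GrSegM
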