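import Groth.Agent.Lib.Helper8.GrSegM
import Groth.Agent.Lib.Helper8.GrSegL
import Groth.Agent.Lib.Helper8.GrCanPolyW
import Groth.Agent.Lib.Helper56.CMRing
import Groth.Agent.Lib.Helper90.SegG
import Groth.Agent.S18664

/-!
# Segre products of shifted polynomial rings with a polynomial ring in one variable
-/

set_option autoImplicit false
set_option linter.unusedSectionVars false
universe u

attribute [local instance] MvPolynomial.weightedGradedAlgebra

open DirectSum GrLC TensorProduct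
open Groth.Agent.Lib.Helper30 Groth.Agent.Lib.Helper8.GrLCSub
open Groth.Agent.Lib.Helper8.GrLCBase Groth.Agent.Lib.Helper8.GrLCShift
open Groth.Agent.Lib.Helper8.GrLCLES Groth.Agent.Lib.Helper8.GrLCTors
open Groth.Agent.Lib.Helper93.Segre Groth.Agent.Lib.Helper93.SegreAct
open Groth.Agent.Lib.Helper8.GrSegA Groth.Agent.Lib.Helper8.GrSegB Groth.Agent.Lib.Helper8.GrSegC
open Groth.Agent.Lib.Helper8.GrSegD Groth.Agent.Lib.Helper8.GrSegE
open Groth.Agent.Lib.Helper8.GrSegJ Groth.Agent.Lib.Helper8.GrSegK Groth.Agent.Lib.Helper8.GrSegL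
open Groth.Agent.Lib.Helper8.GrSegM

namespace Groth.Agent.Lib.Helper8.GrSegN

section PolyFacts

variable (k : Type u) [Field k] (N : ℕ)

/-- The standard grading of the polynomial ring. -/
abbrev W : ℤ → Submodule k (MvPolynomial (Fin N) k) :=
  MvPolynomial.weightedHomogeneousSubmodule k (fun _ : Fin N => (1 : ℤ))

theorem hposW : ∀ n : ℤ, n < 0 → W k N n = ⊥ := by
  intro n hn
  have h := Groth.Agent.Lib.Helper8.GrCanPolyW.hpos_W k N (fun _ : Fin N => (1 : ℤ))
    (fun _ => one_pos) n hn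
  rw [eq_bot_iff]
  intro p hp
  have hp' : p ∈ agr (W k N) n := hp
  rw [h, AddSubgroup.mem_bot] at hp'
  rw [Submodule.mem_bot]
  exact hp'

theorem h0W : W k N 0 = Submodule.span k {(1 : MvPolynomial (Fin N) k)} := by
  apply le_antisymm
  · intro p hp
    have h := Groth.Agent.Lib.Helper8.GrCanPolyW.eq_C_of_mem_zero k N (fun _ : Fin N => (1 : ℤ))
      (fun _ => one_pos) hp
    rw [h, Submodule.mem_span_singleton]
    exact ⟨MvPolynomial.constantCoeff p, by
      rw [MvPolynomial.smul_eq_C_mul, mul_one]⟩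
  · rw [Submodule.span_le, Set.singleton_subset_iff]
    exact SetLike.GradedOne.one_mem

theorem hstdW : Ideal.span (⋃ n ∈ Set.Ioi (0 : ℤ), (W k N n : Set (MvPolynomial (Fin N) k))) =
    Ideal.span ((W k N 1 : Submodule k (MvPolynomial (Fin N) k)) : Set (MvPolynomial (Fin N) k)) := by
  apply le_antisymm
  · have h := Groth.Agent.Lib.Helper8.GrCanPolyW.irrel_eq_span k N (fun _ : Fin N => (1 : ℤ))
      (fun _ => one_pos)
    have h' : Ideal.span (⋃ n ∈ Set.Ioi (0 : ℤ), (W k N n : Set (MvPolynomial (Fin N) k))) =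
        Ideal.span (Set.range (fun i : Fin N => (MvPolynomial.X i : MvPolynomial (Fin N) k))) := h
    rw [h']
    apply Ideal.span_mono
    rintro _ ⟨i, rfl⟩
    exact Groth.Agent.Lib.Helper8.GrCanPolyW.X_mem k N (fun _ : Fin N => (1 : ℤ)) i
  · apply Ideal.span_mono
    intro p hp
    simp only [Set.mem_iUnion, Set.mem_Ioi, SetLike.mem_coe, exists_prop]
    exact ⟨1, one_pos, hp⟩

theorem cmW : LocCoh.IsCohenMacaulayRing (MvPolynomial (Fin N) k) :=
  Groth.Agent.Lib.Helper56.isCohenMacaulayRing_mvPolynomial (Fin N) k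
    (Groth.Agent.Lib.Helper56.isCohenMacaulayRing_of_isArtinianRing k)

theorem dimW : ringKrullDim (MvPolynomial (Fin N) k) = ((N : ℕ) : WithBot ℕ∞) :=
  Groth.Agent.Lib.Helper8.GrCanPolyW.dim_poly k N

theorem polyEquiv : Nonempty (MvPolynomial (Fin 1) k ≃ₐ[k] Polynomial k) :=
  ⟨MvPolynomial.uniqueAlgEquiv k (Fin 1)⟩

/-- A generator of the degree one piece of the polynomial ring in one variable. -/
theorem exists_gen : ∃ g ∈ W k 1 1, g ≠ 0 ∧
    ∀ n : ℕ, ∀ r ∈ W k 1 (n : ℤ), ∃ c : k, r = c • g ^ n := by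
  obtain ⟨φ⟩ := polyEquiv k
  obtain ⟨g, hg, h1⟩ := deg_one_of_poly (W k 1) (hposW k 1) (h0W k 1) φ
  have hdim : (1 : WithBot ℕ∞) ≤ ringKrullDim (MvPolynomial (Fin 1) k) := by
    rw [dimW k 1]
    rfl
  refine ⟨g, hg, ?_, piece_eq_of_deg_one (W k 1) (hposW k 1) (h0W k 1) (hstdW k 1) h1⟩
  rintro rfl
  apply piece_ne_bot (W k 1) (hposW k 1) (h0W k 1) (hstdW k 1) hdim 1
  rw [eq_bot_iff]
  intro r hr
  obtain ⟨c, hc⟩ := h1 r (by exact_mod_cast hr)
  rw [hc, smul_zero]
  exact Submodule.zero_mem _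

end PolyFacts

section NZD

variable {k : Type u} [Field k] {A B : Type u} [CommRing A] [CommRing B] [Algebra k A]
  [Algebra k B]

theorem mul_tmul_one_injective [IsDomain A] (x : A) (hx : x ≠ 0) :
    Function.Injective (fun w : A ⊗[k] B => w * (x ⊗ₜ[k] (1 : B))) := by
  let f : A →ₗ[k] A := LinearMap.mulRight k x
  have hf : Function.Injective f := fun u v huv => mul_right_cancel₀ hx huv
  have h1 : Function.Injective (f.rTensor B) :=
    Module.Flat.rTensor_preserves_injective_linearMap f hf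
  have h2 : ∀ w : A ⊗[k] B, f.rTensor B w = w * (x ⊗ₜ[k] (1 : B)) := by
    intro w
    induction w using TensorProduct.induction_on with
    | zero => simp
    | tmul u v =>
      rw [LinearMap.rTensor_tmul, Algebra.TensorProduct.tmul_mul_tmul, mul_one]
      rfl
    | add w w' h h' => rw [map_add, h, h', add_mul]
  intro w w' hww'
  apply h1
  rw [h2, h2]
  exact hww'

end NZD

end Groth.Agent.Lib.Helper8.GrSegN
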