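import Groth.Agent.Lib.Helper8.GrSegN
import Groth.Agent.Lib.Helper56.DepthAss
import Groth.Agent.Lib.Helper67.Depth

/-!
# Segre products of shifted polynomial rings, one factor in one variable: the module is an ideal
-/

set_option autoImplicit false
set_option linter.unusedSectionVars false
universe u

attribute [local instance] MvPolynomial.weightedGradedAlgebra

open DirectSum GrLC TensorProduct
open scoped Pointwise
open Groth.Agent.Lib.Helper30 Groth.Agent.Lib.Helper8.GrLCSub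
open Groth.Agent.Lib.Helper8.GrLCBase
open Groth.Agent.Lib.Helper8.GrSegJ Groth.Agent.Lib.Helper8.GrSegN

namespace Groth.Agent.Lib.Helper8.GrSegO

section General

variable {k : Type u} [Field k] {R S T : Type u} [CommRing R] [CommRing S] [CommRing T]
  [Algebra k R] [Algebra k S] [Algebra k T]
  {ψ : T →ₐ[k] R ⊗[k] S}
variable {M : Type u} [AddCommGroup M] [Module R M] [Module k M] [IsScalarTower k R M]
  {τM : Type u} [SetLike τM M] {ℳ : ℤ → τM}
variable {N : Type u} [AddCommGroup N] [Module S N] [Module k N] [IsScalarTower k S N]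
  {τN : Type u} [SetLike τN N] {𝒩 : ℤ → τN}
variable {P : Type u} [AddCommGroup P] [Module T P] [Module k P] [IsScalarTower k T P]
  {𝒬 : ℤ → AddSubgroup P} [DirectSum.Decomposition 𝒬]
  {φ : P →ₗ[k] M ⊗[k] N}

theorem exists_phi (hP : GrSeg.IsSegreMod ψ ℳ 𝒩 𝒬 φ) (n : ℤ) {x : M} (hx : x ∈ ℳ n) {y : N}
    (hy : y ∈ 𝒩 n) : ∃ p ∈ 𝒬 n, φ p = x ⊗ₜ[k] y := by
  have h : x ⊗ₜ[k] y ∈ (GrSeg.segrePiece k ℳ 𝒩 n : Set (M ⊗[k] N)) :=
    Submodule.subset_span ⟨x, hx, y, hy, rfl⟩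
  rw [← hP.image_piece n] at h
  obtain ⟨p, hp, h⟩ := h
  exact ⟨p, hp, h⟩

theorem induction_piece (C : M ⊗[k] N → Prop) (h0 : C 0)
    (hadd : ∀ w w', C w → C w' → C (w + w')) (hsmul : ∀ (c : k) w, C w → C (c • w))
    (n : ℤ) (ht : ∀ x ∈ ℳ n, ∀ y ∈ 𝒩 n, C (x ⊗ₜ[k] y)) :
    ∀ w ∈ GrSeg.segrePiece k ℳ 𝒩 n, C w := by
  intro w hw
  unfold GrSeg.segrePiece at hw
  induction hw using Submodule.span_induction with
  | mem w hw =>
    obtain ⟨x, hx, y, hy, rfl⟩ := hw
    exact ht x hx y hy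
  | zero => exact h0
  | add w w' _ _ h h' => exact hadd w w' h h'
  | smul c w _ h => exact hsmul c w h

theorem induction_phi (hP : GrSeg.IsSegreMod ψ ℳ 𝒩 𝒬 φ) (C : M ⊗[k] N → Prop) (h0 : C 0)
    (hadd : ∀ w w', C w → C w' → C (w + w')) (hsmul : ∀ (c : k) w, C w → C (c • w))
    (ht : ∀ n : ℤ, ∀ x ∈ ℳ n, ∀ y ∈ 𝒩 n, C (x ⊗ₜ[k] y)) : ∀ p, C (φ p) := by
  intro p
  induction p using DirectSum.Decomposition.inductionOn 𝒬 with
  | zero =>
    rw [map_zero]
    exact h0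
  | @homogeneous n p =>
    have h : φ p ∈ (GrSeg.segrePiece k ℳ 𝒩 n : Set (M ⊗[k] N)) := by
      rw [← hP.image_piece n]
      exact ⟨p, p.2, rfl⟩
    exact induction_piece C h0 hadd hsmul n (ht n) _ h
  | add p p' h h' =>
    rw [map_add]
    exact hadd _ _ h h'

end General

section Ring

variable {k : Type u} [Field k] {R S T : Type u} [CommRing R] [CommRing S] [CommRing T]
  [Algebra k R] [Algebra k S] [Algebra k T]
  {𝒜 : ℤ → Submodule k R} [GradedAlgebra 𝒜] {ℬ : ℤ → Submodule k S} [GradedAlgebra ℬ]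
  {𝒯 : ℤ → Submodule k T} [GradedAlgebra 𝒯] {ψ : T →ₐ[k] R ⊗[k] S}

theorem exists_psi (hT : GrSeg.IsSegreRing 𝒜 ℬ 𝒯 ψ) (n : ℤ) {x : R} (hx : x ∈ 𝒜 n) {y : S}
    (hy : y ∈ ℬ n) : ∃ t ∈ 𝒯 n, ψ t = x ⊗ₜ[k] y := by
  have h : x ⊗ₜ[k] y ∈ GrSeg.segrePiece k 𝒜 ℬ n := Submodule.subset_span ⟨x, hx, y, hy, rfl⟩
  rw [← hT.2 n] at h
  obtain ⟨t, ht, h⟩ := h
  exact ⟨t, ht, h⟩

theorem psi_mem_piece (hT : GrSeg.IsSegreRing 𝒜 ℬ 𝒯 ψ) {n : ℤ} {t : T} (ht : t ∈ 𝒯 n) :
    ψ t ∈ GrSeg.segrePiece k 𝒜 ℬ n := by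
  rw [← hT.2 n]
  exact ⟨t, ht, rfl⟩

theorem induction_psi (hT : GrSeg.IsSegreRing 𝒜 ℬ 𝒯 ψ) (C : R ⊗[k] S → Prop) (h0 : C 0)
    (hadd : ∀ w w', C w → C w' → C (w + w')) (hsmul : ∀ (c : k) w, C w → C (c • w))
    (ht : ∀ n : ℤ, ∀ x ∈ 𝒜 n, ∀ y ∈ ℬ n, C (x ⊗ₜ[k] y)) : ∀ t, C (ψ t) := by
  intro t
  induction t using DirectSum.Decomposition.inductionOn 𝒯 with
  | zero =>
    rw [map_zero]
    exact h0
  | @homogeneous n t =>
    exact induction_piece C h0 hadd hsmul n (ht n) _ (psi_mem_piece hT t.2)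
  | add p p' h h' =>
    rw [map_add]
    exact hadd _ _ h h'

theorem mul_one_tmul_injective [IsDomain S] (y : S) (hy : y ≠ 0) :
    Function.Injective (fun w : R ⊗[k] S => w * ((1 : R) ⊗ₜ[k] y)) := by
  let f : S →ₗ[k] S := LinearMap.mulRight k y
  have hf : Function.Injective f := fun u v huv => mul_right_cancel₀ hy huv
  have h1 : Function.Injective (f.lTensor R) :=
    Module.Flat.lTensor_preserves_injective_linearMap f hf
  have h2 : ∀ w : R ⊗[k] S, f.lTensor R w = w * ((1 : R) ⊗ₜ[k] y) := by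
    intro w
    induction w using TensorProduct.induction_on with
    | zero => simp
    | tmul u v =>
      rw [LinearMap.lTensor_tmul, Algebra.TensorProduct.tmul_mul_tmul, mul_one]
      rfl
    | add w w' h h' => rw [map_add, h, h', add_mul]
  intro w w' hww'
  apply h1
  rw [h2, h2]
  exact hww'

end Ring

section Specific

variable {k : Type u} [Field k] {s : ℕ} {T : Type u} [CommRing T] [Algebra k T]
  {𝒯 : ℤ → Submodule k T} [GradedAlgebra 𝒯]
  {ψ : T →ₐ[k] MvPolynomial (Fin 1) k ⊗[k] MvPolynomial (Fin s) k}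
  (hT : GrSeg.IsSegreRing (W k 1) (W k s) 𝒯 ψ)
  {a b : ℤ} {P : Type u} [AddCommGroup P] [Module T P] [Module k P] [IsScalarTower k T P]
  {𝒬 : ℤ → AddSubgroup P} [DirectSum.Decomposition 𝒬]
  {φ : P →ₗ[k] MvPolynomial (Fin 1) k ⊗[k] MvPolynomial (Fin s) k}
  (hP : GrSeg.IsSegreMod ψ (fun n : ℤ => W k 1 (n + a)) (fun n : ℤ => W k s (n + b)) 𝒬 φ)

theorem pow_mem' {N : ℕ} {g : MvPolynomial (Fin N) k} (hg : g ∈ W k N 1) (n : ℕ) :
    g ^ n ∈ W k N (n : ℤ) := by
  have h := SetLike.pow_mem_graded n hg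
  rwa [nsmul_eq_mul, mul_one] at h

theorem gen_cases {g : MvPolynomial (Fin 1) k}
    (hgen : ∀ n : ℕ, ∀ r ∈ W k 1 (n : ℤ), ∃ c : k, r = c • g ^ n) (m : ℤ)
    {x : MvPolynomial (Fin 1) k} (hx : x ∈ W k 1 m) :
    x = 0 ∨ (0 ≤ m ∧ ∃ c : k, x = c • g ^ m.toNat) := by
  by_cases hm : m < 0
  · left
    have h := hposW k 1 m hm
    rw [h] at hx
    exact (Submodule.mem_bot k).mp hx
  · right
    push Not at hm
    refine ⟨hm, ?_⟩
    apply hgen m.toNat x
    rwa [Int.toNat_of_nonneg hm]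

include hT hP in
theorem claimA {g : MvPolynomial (Fin 1) k} (hg : g ∈ W k 1 1)
    (hgen : ∀ n : ℕ, ∀ r ∈ W k 1 (n : ℤ), ∃ c : k, r = c • g ^ n) (hba : b ≤ a) :
    ∀ p : P, ∃ t : T, φ p = ψ t * ((g ^ (a - b).toNat) ⊗ₜ[k] (1 : MvPolynomial (Fin s) k)) := by
  apply induction_phi hP (fun w => ∃ t : T, w = ψ t * ((g ^ (a - b).toNat) ⊗ₜ[k] (1 : MvPolynomial (Fin s) k)))
  · exact ⟨0, by rw [map_zero, zero_mul]⟩
  · rintro w w' ⟨t, rfl⟩ ⟨t', rfl⟩
    exact ⟨t + t', by rw [map_add, add_mul]⟩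
  · rintro c w ⟨t, rfl⟩
    exact ⟨c • t, by rw [map_smul, smul_mul_assoc]⟩
  · intro n x hx y hy
    change x ∈ W k 1 (n + a) at hx
    change y ∈ W k s (n + b) at hy
    rcases gen_cases hgen (n + a) hx with rfl | ⟨hna, c, rfl⟩
    · exact ⟨0, by rw [TensorProduct.zero_tmul, map_zero, zero_mul]⟩
    · by_cases hnb : n + b < 0
      · have h := hposW k s (n + b) hnb
        rw [h] at hy
        rw [(Submodule.mem_bot k).mp hy]
        exact ⟨0, by rw [TensorProduct.tmul_zero, map_zero, zero_mul]⟩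
      · push Not at hnb
        have hx' : c • g ^ (n + b).toNat ∈ W k 1 (n + b) := by
          apply Submodule.smul_mem
          have h := pow_mem' hg (n + b).toNat
          rwa [Int.toNat_of_nonneg hnb] at h
        obtain ⟨t, -, ht⟩ := exists_psi hT (n + b) hx' hy
        refine ⟨t, ?_⟩
        rw [ht, Algebra.TensorProduct.tmul_mul_tmul, mul_one, smul_mul_assoc, ← pow_add]
        have h3 : (n + a).toNat = (n + b).toNat + (a - b).toNat := by omega
        rw [h3]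

include hT hP in
theorem claimB {g : MvPolynomial (Fin 1) k} (hg : g ∈ W k 1 1) (hba : b ≤ a) :
    ∀ t : T, ∃ p : P, φ p = ψ t * ((g ^ (a - b).toNat) ⊗ₜ[k] (1 : MvPolynomial (Fin s) k)) := by
  apply induction_psi hT (fun w => ∃ p : P, φ p = w * ((g ^ (a - b).toNat) ⊗ₜ[k] (1 : MvPolynomial (Fin s) k)))
  · exact ⟨0, by rw [map_zero, zero_mul]⟩
  · rintro w w' ⟨p, hp⟩ ⟨p', hp'⟩
    exact ⟨p + p', by rw [map_add, hp, hp', add_mul]⟩
  · rintro c w ⟨p, hp⟩
    exact ⟨c • p, by rw [map_smul, hp, smul_mul_assoc]⟩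
  · intro n x hx y hy
    have hx' : x * g ^ (a - b).toNat ∈ W k 1 (n - b + a) := by
      have h1 := pow_mem' hg (a - b).toNat
      have h2 := SetLike.GradedMul.mul_mem hx h1
      have h3 : n + ((a - b).toNat : ℤ) = n - b + a := by omega
      rw [h3] at h2
      exact h2
    have hy' : y ∈ W k s (n - b + b) := by rwa [sub_add_cancel]
    obtain ⟨p, -, hp⟩ := exists_phi hP (n - b) hx' hy'
    exact ⟨p, by rw [hp, Algebra.TensorProduct.tmul_mul_tmul, mul_one]⟩

include hT hP in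
theorem claimC {g : MvPolynomial (Fin 1) k} (hg : g ∈ W k 1 1) (hab : a < b) :
    ∀ p : P, ∃ t : T, ψ t = φ p * ((g ^ (b - a).toNat) ⊗ₜ[k] (1 : MvPolynomial (Fin s) k)) := by
  apply induction_phi hP (fun w => ∃ t : T, ψ t = w * ((g ^ (b - a).toNat) ⊗ₜ[k] (1 : MvPolynomial (Fin s) k)))
  · exact ⟨0, by rw [map_zero, zero_mul]⟩
  · rintro w w' ⟨t, ht⟩ ⟨t', ht'⟩
    exact ⟨t + t', by rw [map_add, ht, ht', add_mul]⟩
  · rintro c w ⟨t, ht⟩
    exact ⟨c • t, by rw [map_smul, ht, smul_mul_assoc]⟩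
  · intro n x hx y hy
    change x ∈ W k 1 (n + a) at hx
    change y ∈ W k s (n + b) at hy
    have hx' : x * g ^ (b - a).toNat ∈ W k 1 (n + b) := by
      have h1 := pow_mem' hg (b - a).toNat
      have h2 := SetLike.GradedMul.mul_mem hx h1
      have h3 : n + a + ((b - a).toNat : ℤ) = n + b := by omega
      rw [h3] at h2
      exact h2
    obtain ⟨t, -, ht⟩ := exists_psi hT (n + b) hx' hy
    exact ⟨t, by rw [ht, Algebra.TensorProduct.tmul_mul_tmul, mul_one]⟩

include hT hP in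
theorem exists_equiv {g : MvPolynomial (Fin 1) k} (hg : g ∈ W k 1 1) (hg0 : g ≠ 0)
    (hgen : ∀ n : ℕ, ∀ r ∈ W k 1 (n : ℤ), ∃ c : k, r = c • g ^ n) (hba : b ≤ a) :
    Nonempty (T ≃ₗ[T] P) := by
  have hzinj : Function.Injective (fun w : MvPolynomial (Fin 1) k ⊗[k] MvPolynomial (Fin s) k =>
      w * ((g ^ (a - b).toNat) ⊗ₜ[k] (1 : MvPolynomial (Fin s) k))) := mul_tmul_one_injective _ (pow_ne_zero _ hg0)
  have hA := claimA hT hP hg hgen hba
  choose F hF using claimB hT hP hg hba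
  have hadd : ∀ t t', F (t + t') = F t + F t' := by
    intro t t'
    apply hP.injective
    rw [map_add, hF, hF, hF, map_add, add_mul]
  have hsmul : ∀ (r t : T), F (r • t) = r • F t := by
    intro r t
    apply hP.injective
    rw [hP.map_smul, act_self, hF, hF, smul_eq_mul, map_mul, mul_assoc]
  let Θ : T →ₗ[T] P := { toFun := F, map_add' := hadd, map_smul' := hsmul }
  refine ⟨LinearEquiv.ofBijective Θ ⟨?_, ?_⟩⟩
  · intro t t' h
    have h1 : φ (F t) = φ (F t') := congrArg φ h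
    rw [hF, hF] at h1
    exact hT.1 (hzinj h1)
  · intro p
    obtain ⟨t, ht⟩ := hA p
    refine ⟨t, hP.injective ?_⟩
    change φ (F t) = φ p
    rw [hF, ht]

include hT hP in
theorem exists_emb {g : MvPolynomial (Fin 1) k} (hg : g ∈ W k 1 1) (hg0 : g ≠ 0) (hab : a < b) :
    ∃ θ : P →ₗ[T] T, Function.Injective θ := by
  have hzinj : Function.Injective (fun w : MvPolynomial (Fin 1) k ⊗[k] MvPolynomial (Fin s) k =>
      w * ((g ^ (b - a).toNat) ⊗ₜ[k] (1 : MvPolynomial (Fin s) k))) := mul_tmul_one_injective _ (pow_ne_zero _ hg0)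
  choose F hF using claimC hT hP hg hab
  have hadd : ∀ p p', F (p + p') = F p + F p' := by
    intro p p'
    apply hT.1
    rw [map_add, hF, hF, hF, map_add, add_mul]
  have hsmul : ∀ (r : T) p, F (r • p) = r • F p := by
    intro r p
    apply hT.1
    rw [smul_eq_mul, map_mul, hF, hF, hP.map_smul, act_self, mul_assoc]
  refine ⟨{ toFun := F, map_add' := hadd, map_smul' := hsmul }, ?_⟩
  intro p p' h
  have h1 : ψ (F p) = ψ (F p') := congrArg ψ h
  rw [hF, hF] at h1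
  exact hP.injective (hzinj h1)

include hT in
theorem cmT (h2s : 2 ≤ s) : LocCoh.IsCohenMacaulayRing T := by
  haveI := cmW k 1
  haveI := cmW k s
  refine (Groth.Agent.Lib.Helper8.GrSegL.main k (MvPolynomial (Fin 1) k) (W k 1) (hposW k 1)
    (h0W k 1) (MvPolynomial (Fin s) k) (W k s) (hposW k s) (h0W k s) T 𝒯 ψ hT.1 hT.2
    (hstdW k 1) (hstdW k s) ?_ ?_).mpr (polyEquiv k)
  · rw [dimW k 1]
    rfl
  · rw [dimW k s]
    exact_mod_cast h2s

include hT hP in
theorem cm_of_le (h2s : 2 ≤ s) (hba : b ≤ a) (q : Ideal T) [q.IsPrime] :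
    LocCoh.IsCohenMacaulayModule (Localization.AtPrime q) (LocalizedModule q.primeCompl P) := by
  obtain ⟨g, hg, hg0, hgen⟩ := exists_gen k
  obtain ⟨Θ⟩ := exists_equiv hT hP hg hg0 hgen hba
  haveI hTcm := cmT hT h2s
  have hloc := hTcm.isCohenMacaulayLocalRing_localization q
  have e1 := Groth.Agent.Lib.Helper56.locEquiv q.primeCompl Θ
  unfold LocCoh.IsCohenMacaulayModule
  rw [Module.supportDim_eq_of_equiv e1.symm, Groth.Agent.Lib.Helper56.depth_congr e1.symm,
    Groth.Agent.Lib.Helper56.supportDim_localizedModule_self,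
    Groth.Agent.Lib.Helper56.depth_localizedModule_self]
  exact hloc.supportDim_eq_depth

variable (k s) in
/-- Evaluation of the first factor at the origin. -/
noncomputable def eps : MvPolynomial (Fin 1) k ⊗[k] MvPolynomial (Fin s) k →ₐ[k]
    MvPolynomial (Fin s) k :=
  Algebra.TensorProduct.productMap
    ((Algebra.ofId k (MvPolynomial (Fin s) k)).comp
      (MvPolynomial.aeval (fun _ : Fin 1 => (0 : k))))
    (AlgHom.id k (MvPolynomial (Fin s) k))

theorem eps_tmul (x : MvPolynomial (Fin 1) k) (y : MvPolynomial (Fin s) k) :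
    eps k s (x ⊗ₜ[k] y) = MvPolynomial.C (MvPolynomial.constantCoeff x) * y := by
  unfold eps
  rw [Algebra.TensorProduct.productMap_apply_tmul]
  simp [Algebra.ofId_apply, MvPolynomial.algebraMap_eq]

theorem constantCoeff_eq_zero {N : ℕ} {n : ℤ} (hn : n ≠ 0) {x : MvPolynomial (Fin N) k}
    (hx : x ∈ W k N n) : MvPolynomial.constantCoeff x = 0 := by
  have hx' : MvPolynomial.IsWeightedHomogeneous (fun _ : Fin N => (1 : ℤ)) x n := hx
  rw [MvPolynomial.constantCoeff_eq]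
  apply hx'.coeff_eq_zero
  rw [map_zero]
  exact fun h => hn h.symm

include hT in
theorem eps_psi_eq_zero (mT : HomogeneousIdeal 𝒯)
    (hmT : mT.toIdeal = Ideal.span (⋃ n ∈ Set.Ioi (0 : ℤ), (𝒯 n : Set T))) {r : T}
    (hr : r ∈ mT.toIdeal) : eps k s (ψ r) = 0 := by
  have hle : mT.toIdeal ≤ RingHom.ker ((eps k s).toRingHom.comp ψ.toRingHom) := by
    rw [hmT, Ideal.span_le]
    intro r hr
    simp only [Set.mem_iUnion, Set.mem_Ioi, SetLike.mem_coe, exists_prop] at hr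
    obtain ⟨n, hn, hr⟩ := hr
    rw [SetLike.mem_coe, RingHom.mem_ker]
    change eps k s (ψ r) = 0
    apply induction_piece (fun w => eps k s w = 0) (map_zero _) ?_ ?_ n ?_ _ (psi_mem_piece hT hr)
    · intro w w' h h'
      rw [map_add, h, h', add_zero]
    · intro c w h
      rw [map_smul, h, smul_zero]
    · intro x hx y hy
      rw [eps_tmul, constantCoeff_eq_zero hn.ne' hx, map_zero, zero_mul]
  exact hle hr

include hT hP in
theorem depth_eq_one [IsNoetherianRing T] (h2s : 2 ≤ s) (mT : HomogeneousIdeal 𝒯)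
    (hmT : mT.toIdeal = Ideal.span (⋃ n ∈ Set.Ioi (0 : ℤ), (𝒯 n : Set T))) (hab : a < b) :
    LocCoh.idealDepth mT.toIdeal P = (1 : ℕ∞) := by
  obtain ⟨g, hg, hg0, hgen⟩ := exists_gen k
  obtain ⟨θ, hθ⟩ := exists_emb hT hP hg hg0 hab
  haveI : Module.Finite T P := Module.Finite.of_injective θ hθ
  have hs0 : 0 < s := by omega
  obtain ⟨y0, hy0m, hy00⟩ : ∃ y0 : MvPolynomial (Fin s) k, y0 ∈ W k s 1 ∧ y0 ≠ 0 :=
    ⟨MvPolynomial.X ⟨0, hs0⟩,
      Groth.Agent.Lib.Helper8.GrCanPolyW.X_mem k s (fun _ => (1 : ℤ)) ⟨0, hs0⟩,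
      MvPolynomial.X_ne_zero _⟩
  obtain ⟨j, hj⟩ : ∃ j : ℕ, (j : ℤ) + 1 = b - a := ⟨(b - a - 1).toNat, by omega⟩
  obtain ⟨t0, ht0m, ht0⟩ := exists_psi hT 1 hg hy0m
  have ht0I : t0 ∈ mT.toIdeal := by
    rw [hmT]
    apply Ideal.subset_span
    simp only [Set.mem_iUnion, Set.mem_Ioi, SetLike.mem_coe, exists_prop]
    exact ⟨1, one_pos, ht0m⟩
  have h1m : (1 : MvPolynomial (Fin 1) k) ∈ W k 1 (-a + a) := by
    rw [neg_add_cancel]
    exact SetLike.GradedOne.one_mem
  have hy0j : y0 ^ (j + 1) ∈ W k s (-a + b) := by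
    have h := pow_mem' hy0m (j + 1)
    have h3 : ((j + 1 : ℕ) : ℤ) = -a + b := by push_cast; omega
    rwa [h3] at h
  obtain ⟨p0, -, hp0⟩ := exists_phi hP (-a) h1m hy0j
  have he1 : ∀ p ∈ mT.toIdeal • (⊤ : Submodule T P), eps k s (φ p) = 0 := by
    intro p hp
    refine Submodule.smul_induction_on hp ?_ ?_
    · intro r hr p _
      rw [hP.map_smul, act_self, map_mul, eps_psi_eq_zero hT mT hmT hr, zero_mul]
    · intro p p' h h'
      rw [map_add, map_add, h, h', add_zero]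
  have he2 : eps k s (φ p0) ≠ 0 := by
    rw [hp0, eps_tmul, map_one, map_one, one_mul]
    exact pow_ne_zero _ hy00
  have hp0n : p0 ∉ mT.toIdeal • (⊤ : Submodule T P) := fun h => he2 (he1 p0 h)
  have hIM : mT.toIdeal • (⊤ : Submodule T P) ≠ ⊤ := fun h => hp0n (by
    rw [h]
    exact Submodule.mem_top)
  have hreg : IsSMulRegular P t0 := by
    intro p p' h
    have h1 : φ (t0 • p) = φ (t0 • p') := congrArg φ h
    rw [hP.map_smul, hP.map_smul, act_self, act_self, ht0] at h1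
    apply hP.injective
    have h2 : g ⊗ₜ[k] y0 = ((1 : MvPolynomial (Fin 1) k) ⊗ₜ[k] y0) *
        (g ⊗ₜ[k] (1 : MvPolynomial (Fin s) k)) := by
      rw [Algebra.TensorProduct.tmul_mul_tmul, mul_one, one_mul]
    rw [h2, mul_comm, mul_comm _ (φ p'), ← mul_assoc, ← mul_assoc] at h1
    exact mul_one_tmul_injective y0 hy00 (mul_tmul_one_injective g hg0 h1)
  have hsoc : ∀ r ∈ mT.toIdeal, r • p0 ∈ t0 • (⊤ : Submodule T P) := by
    have hle : mT.toIdeal ≤ Submodule.comap (LinearMap.toSpanSingleton T P p0)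
        (t0 • (⊤ : Submodule T P)) := by
      rw [hmT]
      apply Ideal.span_le.mpr
      intro r hr
      simp only [Set.mem_iUnion, Set.mem_Ioi, SetLike.mem_coe, exists_prop] at hr
      obtain ⟨n, hn, hr⟩ := hr
      rw [SetLike.mem_coe, Submodule.mem_comap, LinearMap.toSpanSingleton_apply]
      have h2 : ∃ p' : P, (g ⊗ₜ[k] y0) * φ p' = ψ r * ((1 : MvPolynomial (Fin 1) k) ⊗ₜ[k]
          (y0 ^ (j + 1))) := by
        apply induction_piece (fun w => ∃ p' : P, (g ⊗ₜ[k] y0) * φ p' =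
          w * ((1 : MvPolynomial (Fin 1) k) ⊗ₜ[k] (y0 ^ (j + 1)))) ?_ ?_ ?_ n ?_ _
          (psi_mem_piece hT hr)
        · exact ⟨0, by rw [map_zero, mul_zero, zero_mul]⟩
        · rintro w w' ⟨p, hp⟩ ⟨p', hp'⟩
          exact ⟨p + p', by rw [map_add, mul_add, hp, hp', add_mul]⟩
        · rintro c w ⟨p, hp⟩
          exact ⟨c • p, by rw [map_smul, mul_smul_comm, hp, smul_mul_assoc]⟩
        · intro x hx y hy
          rcases gen_cases hgen n hx with rfl | ⟨-, c, rfl⟩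
          · exact ⟨0, by rw [map_zero, mul_zero, TensorProduct.zero_tmul, zero_mul]⟩
          · obtain ⟨m, hm⟩ : ∃ m : ℕ, n.toNat = m + 1 := ⟨n.toNat - 1, by omega⟩
            have hx' : c • g ^ m ∈ W k 1 (n - 1 - a + a) := by
              apply Submodule.smul_mem
              have h := pow_mem' hg m
              have h3 : (m : ℤ) = n - 1 - a + a := by omega
              rwa [h3] at h
            have hy' : y * y0 ^ j ∈ W k s (n - 1 - a + b) := by
              have h1 := pow_mem' hy0m j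
              have h2 := SetLike.GradedMul.mul_mem hy h1
              have h3 : n + (j : ℤ) = n - 1 - a + b := by omega
              rw [h3] at h2
              exact h2
            obtain ⟨p', -, hp'⟩ := exists_phi hP (n - 1 - a) hx' hy'
            refine ⟨p', ?_⟩
            rw [hp', Algebra.TensorProduct.tmul_mul_tmul, Algebra.TensorProduct.tmul_mul_tmul,
              mul_one, mul_smul_comm, ← pow_succ', hm, pow_succ y0 j]
            congr 1
            ring
      obtain ⟨p', hp'⟩ := h2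
      rw [Submodule.mem_smul_pointwise_iff_exists]
      refine ⟨p', Submodule.mem_top, hP.injective ?_⟩
      rw [hP.map_smul, hP.map_smul, act_self, act_self, ht0, hp0, hp']
    exact fun r hr => hle hr
  rw [← Groth.Agent.Lib.Helper67.idealDepth_quotSMulTop_add_one mT.toIdeal P hIM t0 ht0I hreg]
  have hz : LocCoh.idealDepth mT.toIdeal (QuotSMulTop t0 P) = 0 := by
    rw [Groth.Agent.Lib.Helper67.idealDepth_eq_zero_iff_forall]
    refine ⟨Groth.Agent.Lib.Helper67.smul_top_quotSMulTop_ne_top ht0I hIM, fun r hr hreg' => ?_⟩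
    have h1 : r • (Submodule.Quotient.mk p0 : QuotSMulTop t0 P) = r • 0 := by
      rw [smul_zero, ← Submodule.Quotient.mk_smul, Submodule.Quotient.mk_eq_zero]
      exact hsoc r hr
    have h2 := hreg' h1
    rw [Submodule.Quotient.mk_eq_zero] at h2
    obtain ⟨p', -, hp'⟩ := (Submodule.mem_smul_pointwise_iff_exists _ _ _).mp h2
    apply hp0n
    rw [← hp']
    exact Submodule.smul_mem_smul ht0I Submodule.mem_top
  rw [hz, zero_add]

end Specific

end Groth.Agent.Lib.Helper8.GrSegO
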