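import Groth.Agent.Lib.Helper8.GrSegL

/-!
# Standard graded algebras of dimension one: pieces are not cyclic unless the ring is polynomial
-/

set_option autoImplicit false
set_option linter.unusedSectionVars false
universe u

open DirectSum GrLC TensorProduct
open Groth.Agent.Lib.Helper8.GrSegK Groth.Agent.Lib.Helper8.GrSegL

namespace Groth.Agent.Lib.Helper8.GrSegP

section Std

variable {k : Type u} [Field k] {A : Type u} [CommRing A] [Algebra k A] [IsNoetherianRing A]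
  (𝒞 : ℤ → Submodule k A) [GradedAlgebra 𝒞]
  (hpos : ∀ n : ℤ, n < 0 → 𝒞 n = ⊥) (h0 : 𝒞 0 = Submodule.span k {(1 : A)})
  (hstd : Ideal.span (⋃ n ∈ Set.Ioi (0 : ℤ), (𝒞 n : Set A)) =
    Ideal.span ((𝒞 1 : Submodule k A) : Set A))

theorem pow_mem_nat {a : A} {i : ℕ} (ha : a ∈ 𝒞 (i : ℤ)) (n : ℕ) :
    a ^ n ∈ 𝒞 ((i * n : ℕ) : ℤ) := by
  have h := SetLike.pow_mem_graded n ha
  have h3 : n • (i : ℤ) = ((i * n : ℕ) : ℤ) := by
    rw [nsmul_eq_mul]
    push_cast
    ring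
  rwa [h3] at h

include hpos h0 hstd in
/-- Pieces multiply onto pieces. -/
theorem mul_split (i j : ℕ) : ∀ a ∈ 𝒞 ((i + j : ℕ) : ℤ),
    a ∈ Submodule.span k {p : A | ∃ u ∈ 𝒞 (j : ℤ), ∃ v ∈ 𝒞 (i : ℤ), p = u * v} := by
  classical
  obtain ⟨m, x, hx⟩ := Groth.Agent.Lib.Helper90.Seg.exists_isStd 𝒞 hpos h0 hstd
  induction j with
  | zero =>
    intro a ha
    apply Submodule.subset_span
    refine ⟨1, ?_, a, ?_, (one_mul a).symm⟩
    · rw [Nat.cast_zero]
      exact SetLike.GradedOne.one_mem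
    · simpa using ha
  | succ j ih =>
    intro a ha
    have ha' : a ∈ 𝒞 (((i + j : ℕ) : ℤ) + 1) := by
      have h3 : ((i + (j + 1) : ℕ) : ℤ) = ((i + j : ℕ) : ℤ) + 1 := by push_cast; ring
      rwa [h3] at ha
    obtain ⟨g, hg, rfl⟩ := hx.succ _ (by positivity) a ha'
    apply Submodule.sum_mem
    intro l _
    have key : ∀ q ∈ Submodule.span k {p : A | ∃ u ∈ 𝒞 (j : ℤ), ∃ v ∈ 𝒞 (i : ℤ), p = u * v},
        x l * q ∈ Submodule.span k
          {p : A | ∃ u ∈ 𝒞 ((j + 1 : ℕ) : ℤ), ∃ v ∈ 𝒞 (i : ℤ), p = u * v} := by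
      intro q hq
      induction hq using Submodule.span_induction with
      | mem p hp =>
        obtain ⟨u, hu, v, hv, rfl⟩ := hp
        apply Submodule.subset_span
        refine ⟨x l * u, ?_, v, hv, (mul_assoc _ _ _).symm⟩
        have h5 := SetLike.GradedMul.mul_mem (hx.mem l) hu
        have h6 : (1 : ℤ) + (j : ℤ) = ((j + 1 : ℕ) : ℤ) := by push_cast; ring
        rwa [h6] at h5
      | zero =>
        rw [mul_zero]
        exact Submodule.zero_mem _
      | add p q _ _ hp hq =>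
        rw [mul_add]
        exact Submodule.add_mem _ hp hq
      | smul c p _ hp =>
        rw [mul_smul_comm]
        exact Submodule.smul_mem _ c hp
    exact key (g l) (ih (g l) (hg l))

include hpos h0 hstd in
/-- If a piece is spanned by `w`, the pieces in the multiples of its degree are spanned by the
powers of `w`. -/
theorem pow_cyclic {d : ℕ} {w : A} (hw : ∀ b ∈ 𝒞 (d : ℤ), ∃ c : k, b = c • w) :
    ∀ N : ℕ, ∀ b ∈ 𝒞 ((d * N : ℕ) : ℤ), ∃ c : k, b = c • w ^ N := by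
  intro N
  induction N with
  | zero =>
    intro b hb
    rw [Nat.mul_zero, Nat.cast_zero, h0] at hb
    obtain ⟨c, rfl⟩ := Submodule.mem_span_singleton.mp hb
    exact ⟨c, by rw [pow_zero]⟩
  | succ N ih =>
    intro b hb
    have hb' : b ∈ 𝒞 ((d * N + d : ℕ) : ℤ) := by
      rwa [Nat.mul_succ] at hb
    have key : ∀ q ∈ Submodule.span k
        {p : A | ∃ u ∈ 𝒞 (d : ℤ), ∃ v ∈ 𝒞 ((d * N : ℕ) : ℤ), p = u * v},
        ∃ c : k, q = c • w ^ (N + 1) := by
      intro q hq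
      induction hq using Submodule.span_induction with
      | mem p hp =>
        obtain ⟨u, hu, v, hv, rfl⟩ := hp
        obtain ⟨c, rfl⟩ := hw u hu
        obtain ⟨c', rfl⟩ := ih v hv
        exact ⟨c * c', by rw [smul_mul_smul_comm, pow_succ']⟩
      | zero => exact ⟨0, by rw [zero_smul]⟩
      | add p q _ _ hp hq =>
        obtain ⟨c, rfl⟩ := hp
        obtain ⟨c', rfl⟩ := hq
        exact ⟨c + c', by rw [add_smul]⟩
      | smul c p _ hp =>
        obtain ⟨c', rfl⟩ := hp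
        exact ⟨c * c', by rw [mul_smul]⟩
    exact key b (mul_split 𝒞 hpos h0 hstd (d * N) d b hb')

include hpos h0 hstd in
theorem piece_le_pow (m : HomogeneousIdeal 𝒞)
    (hm : m.toIdeal = Ideal.span (⋃ n ∈ Set.Ioi (0 : ℤ), (𝒞 n : Set A))) :
    ∀ n : ℕ, ∀ a ∈ 𝒞 (n : ℤ), a ∈ m.toIdeal ^ n := by
  classical
  obtain ⟨l, x, hx⟩ := Groth.Agent.Lib.Helper90.Seg.exists_isStd 𝒞 hpos h0 hstd
  have hxm : ∀ i, x i ∈ m.toIdeal := by
    intro i
    rw [hm]
    apply Ideal.subset_span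
    simp only [Set.mem_iUnion, Set.mem_Ioi, SetLike.mem_coe, exists_prop]
    exact ⟨1, one_pos, hx.mem i⟩
  intro n
  induction n with
  | zero =>
    intro a _
    rw [pow_zero, Ideal.one_eq_top]
    trivial
  | succ n ih =>
    intro a ha
    have ha' : a ∈ 𝒞 ((n : ℤ) + 1) := by
      push_cast at ha
      exact ha
    obtain ⟨g, hg, rfl⟩ := hx.succ n (by positivity) a ha'
    apply Ideal.sum_mem
    intro i _
    rw [pow_succ']
    exact Ideal.mul_mem_mul (hxm i) (ih (g i) (hg i))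

/-- A homogeneous multiple of a homogeneous element is a multiple by a homogeneous element. -/
theorem exists_homog_factor {e d : ℕ} {x : A} (hx : x ∈ 𝒞 (e : ℤ)) {r : A}
    (hr : r ∈ 𝒞 ((d + e : ℕ) : ℤ)) (hmem : r ∈ Ideal.span {x}) :
    ∃ r' ∈ 𝒞 (d : ℤ), r = x * r' := by
  classical
  obtain ⟨a, rfl⟩ := Ideal.mem_span_singleton'.mp hmem
  refine ⟨(decompose 𝒞 a (d : ℤ) : A), SetLike.coe_mem _, ?_⟩
  have h3 : ((d + e : ℕ) : ℤ) = (d : ℤ) + (e : ℤ) := by push_cast; ring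
  rw [h3] at hr
  have h4 := DirectSum.coe_decompose_mul_add_of_right_mem 𝒞 (i := (d : ℤ)) (a := a) hx
  rw [DirectSum.decompose_of_mem_same 𝒞 hr] at h4
  rw [h4, mul_comm]

include hpos h0 hstd in
/-- In large degrees every element is a multiple of a homogeneous parameter. -/
theorem eventually_mul (m : HomogeneousIdeal 𝒞)
    (hm : m.toIdeal = Ideal.span (⋃ n ∈ Set.Ioi (0 : ℤ), (𝒞 n : Set A)))
    {e : ℕ} {x : A} (hx : x ∈ 𝒞 (e : ℤ)) (hrad : m.toIdeal ≤ (Ideal.span {x}).radical) :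
    ∃ N : ℕ, ∀ d : ℕ, N ≤ d → ∀ r ∈ 𝒞 ((d + e : ℕ) : ℤ), ∃ r' ∈ 𝒞 (d : ℤ), r = x * r' := by
  obtain ⟨N, hN⟩ := Ideal.exists_pow_le_of_le_radical_of_fg hrad (IsNoetherian.noetherian _)
  refine ⟨N, fun d hd r hr => ?_⟩
  apply exists_homog_factor 𝒞 hx hr
  apply hN
  have h3 := piece_le_pow 𝒞 hpos h0 hstd m hm (d + e) r hr
  exact Ideal.pow_le_pow_right (by omega) h3

include hpos h0 hstd in
/-- In a standard graded algebra of dimension one with a homogeneous regular element of positive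
degree which is not a polynomial ring, no piece of positive degree is cyclic. -/
theorem not_cyclic [Nontrivial A] (hdim : 1 ≤ ringKrullDim A) {e : ℕ} (he : 0 < e) {x : A}
    (hx : x ∈ 𝒞 (e : ℤ)) (hxreg : IsSMulRegular A x)
    (hnp : IsEmpty (A ≃ₐ[k] Polynomial k)) (d : ℕ) (hd : 0 < d) :
    ¬ ∃ w : A, ∀ b ∈ 𝒞 (d : ℤ), ∃ c : k, b = c • w := by
  classical
  rintro ⟨w, hw⟩
  have hx0 : ∀ v : A, x * v = 0 → v = 0 := fun v hv => hxreg (by
    change x • v = x • 0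
    rw [smul_zero, smul_eq_mul, hv])
  have hpow0 : ∀ (a : A), (∀ v : A, a * v = 0 → v = 0) → ∀ n : ℕ, ∀ v : A, a ^ n * v = 0 →
      v = 0 := by
    intro a ha n
    induction n with
    | zero =>
      intro v hv
      rwa [pow_zero, one_mul] at hv
    | succ n ih =>
      intro v hv
      rw [pow_succ, mul_assoc] at hv
      exact ha v (ih _ hv)
  have hroot : ∀ (a : A) (n : ℕ), 0 < n → (∀ v : A, a ^ n * v = 0 → v = 0) →
      ∀ v : A, a * v = 0 → v = 0 := by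
    intro a n hn han v hv
    apply han
    obtain ⟨n', rfl⟩ : ∃ n', n = n' + 1 := ⟨n - 1, by omega⟩
    rw [pow_succ, mul_assoc, hv, mul_zero]
  -- `w` is regular
  have hxd : x ^ d ∈ 𝒞 ((d * e : ℕ) : ℤ) := by
    have h := pow_mem_nat 𝒞 hx d
    rwa [Nat.mul_comm] at h
  obtain ⟨c, hc⟩ := pow_cyclic 𝒞 hpos h0 hstd hw e (x ^ d) hxd
  have hw0 : ∀ v : A, w * v = 0 → v = 0 := by
    apply hroot w e he
    intro v hv
    apply hpow0 x hx0 d
    rw [hc, smul_mul_assoc, hv, smul_zero]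
  -- a regular element of degree one
  obtain ⟨a, ha, had⟩ := exists_not_nilp 𝒞 hpos h0 hstd hdim d
  have hadm : a ^ d ∈ 𝒞 (d : ℤ) := by
    have h := pow_mem_nat 𝒞 (i := 1) (by exact_mod_cast ha) d
    rwa [Nat.one_mul] at h
  obtain ⟨α, hα⟩ := hw _ hadm
  have hα0 : α ≠ 0 := by
    rintro rfl
    rw [zero_smul] at hα
    exact had hα
  have ha0 : ∀ v : A, a * v = 0 → v = 0 := by
    apply hroot a d hd
    intro v hv
    apply hw0
    have h3 : α • (w * v) = 0 := by rw [← smul_mul_assoc, ← hα, hv]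
    exact (smul_eq_zero.mp h3).resolve_left hα0
  -- degree one is cyclic
  have h1 : ∀ b ∈ 𝒞 1, ∃ c : k, b = c • a := by
    intro b hb
    obtain ⟨d', rfl⟩ : ∃ d', d = d' + 1 := ⟨d - 1, by omega⟩
    have hm : a ^ d' * b ∈ 𝒞 ((d' + 1 : ℕ) : ℤ) := by
      have h := pow_mem_nat 𝒞 (i := 1) (by exact_mod_cast ha) d'
      rw [Nat.one_mul] at h
      have h5 := SetLike.GradedMul.mul_mem h hb
      have h6 : (d' : ℤ) + 1 = ((d' + 1 : ℕ) : ℤ) := by push_cast; ring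
      rwa [h6] at h5
    obtain ⟨γ, hγ⟩ := hw _ hm
    refine ⟨γ * α⁻¹, ?_⟩
    have h3 : a ^ d' * (b - (γ * α⁻¹) • a) = 0 := by
      rw [mul_sub, mul_smul_comm, ← pow_succ, hγ, hα, smul_smul, mul_assoc,
        inv_mul_cancel₀ hα0, mul_one, sub_self]
    exact sub_eq_zero.mp (hpow0 a ha0 d' _ h3)
  have hR := piece_eq_of_deg_one 𝒞 hpos h0 hstd h1
  have hane : ∀ n : ℕ, a ^ n ≠ 0 := by
    intro n hn
    have h3 : a ^ n * 1 = 0 := by rw [mul_one, hn]
    exact one_ne_zero (hpow0 a ha0 n 1 h3)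
  obtain ⟨φ⟩ := poly_of_pieces 𝒞 hpos ha hane hR
  exact hnp.false φ

include hpos h0 hstd in
/-- Two linearly independent elements in every positive degree. -/
theorem exists_indep [Nontrivial A] (hdim : 1 ≤ ringKrullDim A) {e : ℕ} (he : 0 < e) {x : A}
    (hx : x ∈ 𝒞 (e : ℤ)) (hxreg : IsSMulRegular A x)
    (hnp : IsEmpty (A ≃ₐ[k] Polynomial k)) (d : ℕ) (hd : 0 < d) :
    ∃ s1 ∈ 𝒞 (d : ℤ), ∃ s2 ∈ 𝒞 (d : ℤ), ∀ α β : k, α • s1 + β • s2 = 0 → α = 0 ∧ β = 0 := by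
  classical
  have hnc := not_cyclic 𝒞 hpos h0 hstd hdim he hx hxreg hnp d hd
  push Not at hnc
  obtain ⟨s1, hs1, hs1'⟩ := hnc 0
  have hs10 : s1 ≠ 0 := by
    intro h
    exact hs1' 0 (by rw [h, smul_zero])
  obtain ⟨s2, hs2, hs2'⟩ := hnc s1
  refine ⟨s1, hs1, s2, hs2, fun α β h => ?_⟩
  have hβ : β = 0 := by
    by_contra hβ
    apply hs2' (-(β⁻¹ * α))
    have h3 : β • s2 = -(α • s1) := eq_neg_of_add_eq_zero_right h
    have h4 : s2 = β⁻¹ • (β • s2) := by rw [smul_smul, inv_mul_cancel₀ hβ, one_smul]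
    rw [h4, h3, smul_neg, smul_smul, neg_smul]
  refine ⟨?_, hβ⟩
  rw [hβ, zero_smul, add_zero] at h
  exact (smul_eq_zero.mp h).resolve_right hs10

end Std

end Groth.Agent.Lib.Helper8.GrSegP
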