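import Groth.Agent.Lib.Helper85.GorRing
import Groth.Agent.Lib.Helper85.GorSocle
import Groth.Agent.Lib.Helper67.Depth

/-!
# A Gorenstein ring has no two independent socle elements modulo a regular element
-/

set_option autoImplicit false
set_option linter.unusedSectionVars false
universe u

open IsLocalRing

namespace Groth.Agent.Lib.Helper8.GrSegQ

variable {k : Type u} [Field k] {T : Type u} [CommRing T] [Algebra k T]

/-- Let `T` be a Gorenstein `k`-algebra, `m` a maximal ideal with `T = k + m`, `z ∈ m` a regular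
element. Then there are no two elements `u1`, `u2` killed by `m` modulo `z` which are linearly
independent over `k` modulo `z`. -/
theorem false_of_two_socle [LocCoh.IsGorensteinRing T] (m : Ideal T) [hm : m.IsMaximal]
    (hdec : ∀ t : T, ∃ c : k, t - algebraMap k T c ∈ m)
    (z : T) (hzm : z ∈ m) (hz : IsSMulRegular T z) (u1 u2 : T)
    (h1 : ∀ t ∈ m, t * u1 ∈ Ideal.span {z}) (h2 : ∀ t ∈ m, t * u2 ∈ Ideal.span {z})
    (hind : ∀ α β : k, α • u1 + β • u2 ∈ Ideal.span {z} → α = 0 ∧ β = 0) : False := by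
  classical
  haveI : IsNoetherianRing T := inferInstance
  haveI hmp : m.IsPrime := hm.isPrime
  haveI hA : LocCoh.IsGorensteinLocalRing (Localization.AtPrime m) :=
    LocCoh.IsGorensteinRing.isGorensteinLocalRing_localization m
  set f : Localization.AtPrime m := algebraMap T (Localization.AtPrime m) z with hf_def
  have hfm : f ∈ maximalIdeal (Localization.AtPrime m) :=
    (IsLocalization.AtPrime.to_map_mem_maximal_iff (Localization.AtPrime m) m z).mpr hzm
  -- `f` is regular
  have hf0 : ∀ c : Localization.AtPrime m, f * c = 0 → c = 0 := by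
    intro c hc
    obtain ⟨t, s, rfl⟩ := IsLocalization.exists_mk'_eq m.primeCompl c
    have h3 : IsLocalization.mk' (Localization.AtPrime m) (z * t) s = 0 := by
      rw [← hc, hf_def, IsLocalization.mul_mk'_eq_mk'_of_mul]
    obtain ⟨s', hs'⟩ := (IsLocalization.mk'_eq_zero_iff (z * t) s).mp h3
    have h4 : z • ((s' : T) * t) = z • (0 : T) := by
      rw [smul_zero, smul_eq_mul, ← hs']
      ring
    have h5 : (s' : T) * t = 0 := hz h4
    exact (IsLocalization.mk'_eq_zero_iff t s).mpr ⟨s', h5⟩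
  have hf : IsSMulRegular (Localization.AtPrime m) f := by
    intro a b hab
    have h3 : f * (a - b) = 0 := by
      rw [mul_sub]
      exact sub_eq_zero.mpr hab
    exact sub_eq_zero.mp (hf0 _ h3)
  set J : Ideal (Localization.AtPrime m) := Ideal.span {f} with hJ
  haveI : IsLocalRing (Localization.AtPrime m ⧸ J) :=
    Groth.Agent.Lib.Helper85.GorFlat.isLocalRing_quot J
      ((Ideal.span_singleton_le_iff_mem _).mpr hfm)
  haveI hB : LocCoh.IsGorensteinLocalRing (Localization.AtPrime m ⧸ J) :=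
    (Groth.Agent.Lib.Helper85.GorFlat.gorenstein_quot_iff f hfm hf J hJ).mpr hA
  let κ : T →+* Localization.AtPrime m ⧸ J :=
    (Ideal.Quotient.mk J).comp (algebraMap T (Localization.AtPrime m))
  have hκz : κ z = 0 := by
    change Ideal.Quotient.mk J f = 0
    rw [Ideal.Quotient.eq_zero_iff_mem]
    exact Ideal.mem_span_singleton_self f
  have hκspan : ∀ t ∈ Ideal.span {z}, κ t = 0 := by
    intro t ht
    obtain ⟨a, rfl⟩ := Ideal.mem_span_singleton'.mp ht
    rw [map_mul, hκz, mul_zero]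
  -- kernel of `κ`
  have K1 : ∀ t : T, κ t = 0 → ∃ s : T, s ∉ m ∧ s * t ∈ Ideal.span {z} := by
    intro t ht
    have h3 : algebraMap T (Localization.AtPrime m) t ∈ J := by
      rw [← Ideal.Quotient.eq_zero_iff_mem]
      exact ht
    obtain ⟨a, ha⟩ := Ideal.mem_span_singleton'.mp h3
    obtain ⟨t', s, rfl⟩ := IsLocalization.exists_mk'_eq m.primeCompl a
    have h4 : algebraMap T (Localization.AtPrime m) (t * s) =
        algebraMap T (Localization.AtPrime m) (t' * z) := by
      rw [map_mul, ← ha, hf_def, map_mul, mul_assoc, mul_comm _ (algebraMap T _ (s : T)),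
        ← mul_assoc, IsLocalization.mk'_spec]
    obtain ⟨s', hs'⟩ := (IsLocalization.eq_iff_exists m.primeCompl _).mp h4
    refine ⟨(s' : T) * (s : T), ?_, ?_⟩
    · intro h
      rcases hmp.mem_or_mem h with h | h
      · exact s'.2 h
      · exact s.2 h
    · rw [Ideal.mem_span_singleton']
      refine ⟨(s' : T) * t', ?_⟩
      rw [mul_assoc, mul_assoc, ← hs']
      ring
  -- fractions
  have K2 : ∀ b : Localization.AtPrime m ⧸ J, ∃ t s : T, s ∉ m ∧ b * κ s = κ t := by
    intro b
    obtain ⟨a, rfl⟩ := Ideal.Quotient.mk_surjective b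
    obtain ⟨t, s, rfl⟩ := IsLocalization.exists_mk'_eq m.primeCompl a
    refine ⟨t, s, s.2, ?_⟩
    change Ideal.Quotient.mk J _ * Ideal.Quotient.mk J _ = Ideal.Quotient.mk J _
    rw [← map_mul, IsLocalization.mk'_spec]
  have hunit : ∀ s : T, s ∉ m → IsUnit (κ s) := by
    intro s hs
    exact (IsLocalization.map_units (Localization.AtPrime m) (⟨s, hs⟩ : m.primeCompl)).map
      (Ideal.Quotient.mk J)
  have K3 : ∀ b ∈ maximalIdeal (Localization.AtPrime m ⧸ J),
      ∃ t s : T, t ∈ m ∧ s ∉ m ∧ b * κ s = κ t := by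
    intro b hb
    obtain ⟨t, s, hs, hbs⟩ := K2 b
    refine ⟨t, s, ?_, hs, hbs⟩
    by_contra htm
    have h3 : IsUnit (b * κ s) := by
      rw [hbs]
      exact hunit t htm
    have h4 : IsUnit b := isUnit_of_mul_isUnit_left h3
    exact (IsLocalRing.mem_maximalIdeal b).mp hb h4
  -- socle elements
  have hsoc : ∀ u : T, (∀ t ∈ m, t * u ∈ Ideal.span {z}) →
      ∀ b ∈ maximalIdeal (Localization.AtPrime m ⧸ J), b * κ u = 0 := by
    intro u hu b hb
    obtain ⟨t, s, htm, hs, hbs⟩ := K3 b hb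
    have h3 : b * κ u * κ s = 0 := by
      rw [mul_assoc, mul_comm (κ u), ← mul_assoc, hbs, ← map_mul]
      exact hκspan _ (hu t htm)
    exact (hunit s hs).mul_left_eq_zero.mp h3
  -- constants
  have hconst : ∀ s : T, s ∉ m → ∃ c : k, c ≠ 0 ∧ s - algebraMap k T c ∈ m := by
    intro s hs
    obtain ⟨c, hc⟩ := hdec s
    refine ⟨c, ?_, hc⟩
    rintro rfl
    rw [map_zero, sub_zero] at hc
    exact hs hc
  have hκu1 : κ u1 ≠ 0 := by
    intro h
    obtain ⟨s, hs, hsu⟩ := K1 u1 h
    obtain ⟨c, hc0, hc⟩ := hconst s hs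
    have h3 : c • u1 + (0 : k) • u2 ∈ Ideal.span {z} := by
      have h4 : c • u1 + (0 : k) • u2 = s * u1 - (s - algebraMap k T c) * u1 := by
        rw [zero_smul, add_zero, Algebra.smul_def]
        ring
      rw [h4]
      exact Ideal.sub_mem _ hsu (h1 _ hc)
    exact hc0 (hind c 0 h3).1
  -- depth zero
  have hd : LocCoh.depth (Localization.AtPrime m ⧸ J) (Localization.AtPrime m ⧸ J) = 0 := by
    unfold LocCoh.depth
    rw [Groth.Agent.Lib.Helper67.idealDepth_eq_zero_iff_forall]
    refine ⟨Groth.Agent.Lib.Helper67.maximalIdeal_smul_top_ne_top _, fun r hr hreg => ?_⟩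
    have h3 : r • κ u1 = r • (0 : Localization.AtPrime m ⧸ J) := by
      rw [smul_zero, smul_eq_mul]
      exact hsoc u1 h1 r hr
    exact hκu1 (hreg h3)
  have hSS := Groth.Agent.Lib.Helper85.GorFlat.socleSimple_of_gorenstein
    (Localization.AtPrime m ⧸ J) hd
  obtain ⟨a, ha⟩ := hSS (κ u1) (κ u2)
    (fun b hb => hsoc u1 h1 b hb) (fun b hb => hsoc u2 h2 b hb) hκu1
  obtain ⟨t, s, hs, has⟩ := K2 a
  have h3 : κ (s * u2 - t * u1) = 0 := by
    rw [map_sub, map_mul, map_mul, ha, ← has]
    ring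
  obtain ⟨s', hs', hs'u⟩ := K1 _ h3
  have hσ : s' * s ∉ m := by
    intro h
    rcases hmp.mem_or_mem h with h | h
    · exact hs' h
    · exact hs h
  obtain ⟨α, hα0, hα⟩ := hconst (s' * s) hσ
  obtain ⟨β, hβ⟩ := hdec (s' * t)
  have h4 : (-β) • u1 + α • u2 ∈ Ideal.span {z} := by
    have h5 : (-β) • u1 + α • u2 = s' * (s * u2 - t * u1) -
        ((s' * s - algebraMap k T α) * u2 - (s' * t - algebraMap k T β) * u1) := by
      rw [Algebra.smul_def, Algebra.smul_def, map_neg]
      ring
    rw [h5]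
    exact Ideal.sub_mem _ hs'u (Ideal.sub_mem _ (h2 _ hα) (h1 _ hβ))
  exact hα0 (hind (-β) α h4).2

end Groth.Agent.Lib.Helper8.GrSegQ
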