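import Groth.Agent.Lib.Helper8.GrSegO
import Groth.Agent.Lib.Helper8.GrSegP
import Groth.Agent.Lib.Helper8.GrSegQ

/-!
# Gorenstein Segre products of one-dimensional standard graded rings
-/

set_option autoImplicit false
set_option linter.unusedSectionVars false
universe u

open DirectSum GrLC TensorProduct
open Groth.Agent.Lib.Helper30 Groth.Agent.Lib.Helper8.GrLCSub
open Groth.Agent.Lib.Helper8.GrLCBase
open Groth.Agent.Lib.Helper8.GrLCLES Groth.Agent.Lib.Helper8.GrLCTors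
open Groth.Agent.Lib.Helper8.GrSegJ Groth.Agent.Lib.Helper8.GrSegK Groth.Agent.Lib.Helper8.GrSegL
open Groth.Agent.Lib.Helper8.GrSegO Groth.Agent.Lib.Helper8.GrSegP

namespace Groth.Agent.Lib.Helper8.GrSegR

section Decomp

variable {k : Type u} [Field k] {A : Type u} [CommRing A] [Algebra k A]
  (𝒞 : ℤ → Submodule k A) [GradedAlgebra 𝒞]
  (hpos : ∀ n : ℤ, n < 0 → 𝒞 n = ⊥) (h0 : 𝒞 0 = Submodule.span k {(1 : A)})

include hpos h0 in
theorem decomp (m : HomogeneousIdeal 𝒞)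
    (hm : m.toIdeal = Ideal.span (⋃ n ∈ Set.Ioi (0 : ℤ), (𝒞 n : Set A))) :
    ∀ t : A, ∃ c : k, t - algebraMap k A c ∈ m.toIdeal := by
  classical
  have key : ∀ (i : ℤ) (a : A), a ∈ 𝒞 i → ∃ c : k, a - algebraMap k A c ∈ m.toIdeal := by
    intro i a ha
    rcases lt_trichotomy i 0 with hi | hi | hi
    · rw [hpos i hi, Submodule.mem_bot] at ha
      exact ⟨0, by rw [map_zero, sub_zero, ha]; exact Ideal.zero_mem _⟩
    · rw [hi, h0] at ha
      obtain ⟨c, hc⟩ := Submodule.mem_span_singleton.mp ha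
      refine ⟨c, ?_⟩
      rw [← hc, Algebra.algebraMap_eq_smul_one, sub_self]
      exact Ideal.zero_mem _
    · refine ⟨0, ?_⟩
      rw [map_zero, sub_zero, hm]
      apply Ideal.subset_span
      simp only [Set.mem_iUnion, Set.mem_Ioi, SetLike.mem_coe, exists_prop]
      exact ⟨i, hi, ha⟩
  intro t
  induction t using DirectSum.Decomposition.inductionOn 𝒞 with
  | zero => exact ⟨0, by rw [map_zero, sub_zero]; exact Ideal.zero_mem _⟩
  | @homogeneous i t => exact key i t t.2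
  | add t t' h h' =>
    obtain ⟨c, hc⟩ := h
    obtain ⟨c', hc'⟩ := h'
    refine ⟨c + c', ?_⟩
    have h3 : t + t' - algebraMap k A (c + c') =
        (t - algebraMap k A c) + (t' - algebraMap k A c') := by
      rw [map_add]
      ring
    rw [h3]
    exact Ideal.add_mem _ hc hc'

end Decomp

section NZD

variable {k : Type u} [Field k] {R S : Type u} [CommRing R] [CommRing S] [Algebra k R]
  [Algebra k S]

theorem mul_tmul_injective {x : R} (hx : IsSMulRegular R x) {y : S} (hy : IsSMulRegular S y) :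
    Function.Injective (fun w : R ⊗[k] S => (x ⊗ₜ[k] y) * w) := by
  let f : R →ₗ[k] R := LinearMap.mulLeft k x
  have hf : Function.Injective f := fun u v huv => hx huv
  let g : S →ₗ[k] S := LinearMap.mulLeft k y
  have hg : Function.Injective g := fun u v huv => hy huv
  have h1 : Function.Injective (f.rTensor S) :=
    Module.Flat.rTensor_preserves_injective_linearMap f hf
  have h2 : Function.Injective (g.lTensor R) :=
    Module.Flat.lTensor_preserves_injective_linearMap g hg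
  have h3 : ∀ w : R ⊗[k] S, f.rTensor S (g.lTensor R w) = (x ⊗ₜ[k] y) * w := by
    intro w
    induction w using TensorProduct.induction_on with
    | zero => simp
    | tmul u v =>
      rw [LinearMap.lTensor_tmul, LinearMap.rTensor_tmul, Algebra.TensorProduct.tmul_mul_tmul]
      rfl
    | add w w' h h' => rw [map_add, map_add, h, h', mul_add]
  intro w w' hww'
  apply h2
  apply h1
  rw [h3, h3]
  exact hww'

end NZD

section Core

variable {k : Type u} [Field k] {R S T : Type u} [CommRing R] [CommRing S] [CommRing T]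
  [Algebra k R] [Algebra k S] [Algebra k T]
  {𝒜 : ℤ → Submodule k R} [GradedAlgebra 𝒜] {ℬ : ℤ → Submodule k S} [GradedAlgebra ℬ]
  {𝒯 : ℤ → Submodule k T} [GradedAlgebra 𝒯] {ψ : T →ₐ[k] R ⊗[k] S}

/-- The two independent socle elements: a Gorenstein Segre product cannot have them. -/
theorem core_false (hposR : ∀ n : ℤ, n < 0 → 𝒜 n = ⊥)
    (h0R : 𝒜 0 = Submodule.span k {(1 : R)}) (h0S : ℬ 0 = Submodule.span k {(1 : S)})
    (hT : GrSeg.IsSegreRing 𝒜 ℬ 𝒯 ψ) [LocCoh.IsGorensteinRing T]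
    (mT : HomogeneousIdeal 𝒯)
    (hmT : mT.toIdeal = Ideal.span (⋃ n ∈ Set.Ioi (0 : ℤ), (𝒯 n : Set T)))
    {e c : ℕ} (he : 0 < e) {x : R} (hx : x ∈ 𝒜 (e : ℤ)) (hxreg : IsSMulRegular R x)
    {y : S} (hy : y ∈ ℬ (e : ℤ)) (hyreg : IsSMulRegular S y)
    (hRinf : ∀ d : ℕ, c < d → ∀ r ∈ 𝒜 ((d + e : ℕ) : ℤ), ∃ r' ∈ 𝒜 (d : ℤ), r = x * r')
    (hSinf : ∀ d : ℕ, c < d → ∀ s ∈ ℬ ((d + e : ℕ) : ℤ), ∃ s' ∈ ℬ (d : ℤ), s = y * s')
    {r0 : R} (hr0 : r0 ∈ 𝒜 ((c + e : ℕ) : ℤ)) (hr0x : r0 ∉ Ideal.span {x})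
    {s1 s2 : S} (hs1 : s1 ∈ ℬ ((c + e : ℕ) : ℤ)) (hs2 : s2 ∈ ℬ ((c + e : ℕ) : ℤ))
    (hind : ∀ α β : k, α • s1 + β • s2 = 0 → α = 0 ∧ β = 0) : False := by
  classical
  have hposT : ∀ n : ℤ, n < 0 → 𝒯 n = ⊥ := Groth.Agent.Lib.Helper90.Seg.segRing_neg hT hposR
  have h0T : 𝒯 0 = Submodule.span k {(1 : T)} :=
    Groth.Agent.Lib.Helper90.Seg.segRing_zero hT h0R h0S
  haveI : Nontrivial T := by
    haveI : IsNoetherianRing T := inferInstance
    by_contra hn
    rw [not_nontrivial_iff_subsingleton] at hn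
    apply hr0x
    have h3 : (1 : R) ⊗ₜ[k] (1 : S) = 0 := by
      have h4 : ψ 1 = ψ 0 := congrArg ψ (Subsingleton.elim _ _)
      rw [map_one, map_zero] at h4
      exact h4
    have h5 : r0 ⊗ₜ[k] s1 = 0 := by
      have h6 : r0 ⊗ₜ[k] s1 = (r0 ⊗ₜ[k] s1) * ((1 : R) ⊗ₜ[k] (1 : S)) := by
        rw [Algebra.TensorProduct.tmul_mul_tmul, mul_one, mul_one]
      rw [h6, h3, mul_zero]
    have h7 : (1 : R) = 0 := by
      by_contra h1R
      have h8 : (1 : S) ≠ 0 := by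
        intro h1S
        rw [h1S, TensorProduct.tmul_zero] at h3
        have := hind 1 0 (by
          have : s1 = 0 := by rw [← one_mul s1, h1S, zero_mul]
          rw [this, smul_zero, zero_smul, add_zero])
        exact one_ne_zero this.1
      exact tmul_ne_zero h1R h8 h3
    have : r0 = 0 := by rw [← one_mul r0, h7, zero_mul]
    rw [this]
    exact Ideal.zero_mem _
  have hlocT : IsStarLocal (agr 𝒯) (idealA 𝒯 mT) :=
    Groth.Agent.Lib.Helper8.GrIrrelLocal.isStarLocal (hpos_agr 𝒯 hposT) (isField_deg0 𝒯 h0T)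
      (idealA 𝒯 mT) hmT
  haveI hmax : mT.toIdeal.IsMaximal :=
    Groth.Agent.Lib.Helper8.GrLCPieces.isMaximal_of_isStarLocal (hpos_agr 𝒯 hposT)
      (idealA 𝒯 mT) hlocT
  have hdec := decomp 𝒯 hposT h0T mT hmT
  obtain ⟨z, hzm, hz⟩ := exists_psi hT (e : ℤ) hx hy
  have hzI : z ∈ mT.toIdeal := by
    rw [hmT]
    apply Ideal.subset_span
    simp only [Set.mem_iUnion, Set.mem_Ioi, SetLike.mem_coe, exists_prop]
    exact ⟨(e : ℤ), by exact_mod_cast he, hzm⟩
  have hinj := mul_tmul_injective (k := k) hxreg hyreg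
  have hzreg : IsSMulRegular T z := by
    intro a b hab
    apply hT.1
    apply hinj
    change (x ⊗ₜ[k] y) * ψ a = (x ⊗ₜ[k] y) * ψ b
    rw [← hz, ← map_mul, ← map_mul]
    exact congrArg ψ hab
  obtain ⟨u1, hu1m, hu1⟩ := exists_psi hT _ hr0 hs1
  obtain ⟨u2, hu2m, hu2⟩ := exists_psi hT _ hr0 hs2
  -- large degrees are multiples of `z`
  have hspan : ∀ d : ℕ, c < d → ∀ v ∈ 𝒯 ((d + e : ℕ) : ℤ), v ∈ Ideal.span {z} := by
    intro d hd v hv
    have h3 : ∃ t' : T, ψ v = ψ (z * t') := by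
      apply induction_piece (fun w => ∃ t' : T, w = ψ (z * t')) ?_ ?_ ?_ _ ?_ _
        (psi_mem_piece hT hv)
      · exact ⟨0, by rw [mul_zero, map_zero]⟩
      · rintro w w' ⟨t, rfl⟩ ⟨t', rfl⟩
        exact ⟨t + t', by rw [mul_add, map_add]⟩
      · rintro a w ⟨t, rfl⟩
        exact ⟨a • t, by rw [mul_smul_comm, map_smul]⟩
      · intro r hr s hs
        obtain ⟨r', hr', rfl⟩ := hRinf d hd r hr
        obtain ⟨s', hs', rfl⟩ := hSinf d hd s hs
        obtain ⟨t', -, ht'⟩ := exists_psi hT (d : ℤ) hr' hs'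
        exact ⟨t', by rw [map_mul, hz, ht', Algebra.TensorProduct.tmul_mul_tmul]⟩
    obtain ⟨t', ht'⟩ := h3
    rw [hT.1 ht', Ideal.mem_span_singleton']
    exact ⟨t', mul_comm _ _⟩
  have hsoc : ∀ u ∈ 𝒯 ((c + e : ℕ) : ℤ), ∀ t ∈ mT.toIdeal, t * u ∈ Ideal.span {z} := by
    intro u hu t ht
    rw [hmT] at ht
    induction ht using Submodule.span_induction with
    | mem t ht =>
      simp only [Set.mem_iUnion, Set.mem_Ioi, SetLike.mem_coe, exists_prop] at ht
      obtain ⟨n, hn, htn⟩ := ht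
      obtain ⟨n', rfl⟩ : ∃ n' : ℕ, n = (n' : ℤ) := ⟨n.toNat, (Int.toNat_of_nonneg hn.le).symm⟩
      have hn' : 0 < n' := by exact_mod_cast hn
      apply hspan (c + n') (by omega)
      have h3 := SetLike.GradedMul.mul_mem htn hu
      have h4 : (n' : ℤ) + ((c + e : ℕ) : ℤ) = ((c + n' + e : ℕ) : ℤ) := by push_cast; ring
      rwa [h4] at h3
    | zero =>
      rw [zero_mul]
      exact Ideal.zero_mem _
    | add a b _ _ ha hb =>
      rw [add_mul]
      exact Ideal.add_mem _ ha hb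
    | smul r a _ ha =>
      rw [smul_eq_mul, mul_assoc]
      exact Ideal.mul_mem_left _ _ ha
  -- independence modulo `z`
  have hr0x' : r0 ∉ (Ideal.span {x}).restrictScalars k := hr0x
  obtain ⟨lam, hlam1, hlam2⟩ := Submodule.exists_dual_map_eq_bot_of_notMem hr0x' inferInstance
  have hlam0 : ∀ v ∈ Ideal.span {x}, lam v = 0 := by
    intro v hv
    have h3 : lam v ∈ ((Ideal.span {x}).restrictScalars k).map lam := ⟨v, hv, rfl⟩
    rw [hlam2] at h3
    exact (Submodule.mem_bot k).mp h3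
  let Lam : R ⊗[k] S →ₗ[k] S := (TensorProduct.lid k S).toLinearMap ∘ₗ (LinearMap.rTensor S lam)
  have hLam : ∀ (r : R) (s : S), Lam (r ⊗ₜ[k] s) = lam r • s := by
    intro r s
    simp [Lam]
  have hLam0 : ∀ w : R ⊗[k] S, Lam (w * (x ⊗ₜ[k] y)) = 0 := by
    intro w
    induction w using TensorProduct.induction_on with
    | zero => rw [zero_mul, map_zero]
    | tmul r s =>
      rw [Algebra.TensorProduct.tmul_mul_tmul, hLam,
        hlam0 (r * x) (Ideal.mul_mem_left _ _ (Ideal.mem_span_singleton_self x)), zero_smul]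
    | add w w' h h' => rw [add_mul, map_add, h, h', add_zero]
  have hind' : ∀ α β : k, α • u1 + β • u2 ∈ Ideal.span {z} → α = 0 ∧ β = 0 := by
    intro α β h
    obtain ⟨t', ht'⟩ := Ideal.mem_span_singleton'.mp h
    have h3 : ψ t' * (x ⊗ₜ[k] y) = r0 ⊗ₜ[k] (α • s1 + β • s2) := by
      rw [← hz, ← map_mul, ht', map_add, map_smul, map_smul, hu1, hu2, TensorProduct.tmul_add,
        TensorProduct.tmul_smul, TensorProduct.tmul_smul]
    have h4 : Lam (r0 ⊗ₜ[k] (α • s1 + β • s2)) = 0 := by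
      rw [← h3]
      exact hLam0 _
    rw [hLam] at h4
    exact hind α β ((smul_eq_zero.mp h4).resolve_left hlam1)
  exact Groth.Agent.Lib.Helper8.GrSegQ.false_of_two_socle mT.toIdeal hdec z hzI hzreg u1 u2
    (hsoc u1 hu1m) (hsoc u2 hu2m) hind'

end Core

section Param

variable {k : Type u} [Field k] {A : Type u} [CommRing A] [Algebra k A] [IsNoetherianRing A]
  (𝒞 : ℤ → Submodule k A) [GradedAlgebra 𝒞]
  (hpos : ∀ n : ℤ, n < 0 → 𝒞 n = ⊥) (h0 : 𝒞 0 = Submodule.span k {(1 : A)})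

include hpos h0 in
theorem exists_param_std [LocCoh.IsCohenMacaulayRing A] (hdim : ringKrullDim A = 1)
    (m : HomogeneousIdeal 𝒞)
    (hm : m.toIdeal = Ideal.span (⋃ n ∈ Set.Ioi (0 : ℤ), (𝒞 n : Set A))) :
    ∃ e : ℕ, 0 < e ∧ ∃ x ∈ 𝒞 (e : ℤ), IsSMulRegular A x ∧
      m.toIdeal ≤ (Ideal.span {x}).radical := by
  have hdim' : ringKrullDim A = ((1 : ℕ) : WithBot ℕ∞) := by
    rw [hdim]
    rfl
  haveI : Nontrivial A := nontrivial_of_dim 1 hdim'
  have hloc : IsStarLocal (agr 𝒞) (idealA 𝒞 m) :=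
    Groth.Agent.Lib.Helper8.GrIrrelLocal.isStarLocal (hpos_agr 𝒞 hpos) (isField_deg0 𝒞 h0)
      (idealA 𝒞 m) hm
  have hz0 : ∀ g' : ℤ, VanM (idealA 𝒞 m) (agr 𝒞) 0 g' := fun g' =>
    Groth.Agent.Lib.Helper8.GrLCCM.vanM_of_cm (hpos_agr 𝒞 hpos) (idealA 𝒞 m) hloc 1 hdim' 0
      one_pos g'
  have hgam : gam (idealA 𝒞 m).toIdeal A = ⊥ :=
    Groth.Agent.Lib.Helper8.GrLCPolyArtMain.gam_eq_bot_of_vanM (idealA 𝒞 m) (agr 𝒞) hz0
  obtain ⟨e, he, x, hxe, hxm, hxreg, hxrad⟩ :=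
    Groth.Agent.Lib.Helper8.GrSegH.exists_param (agr 𝒞) (hpos_agr 𝒞 hpos) (idealA 𝒞 m) hloc
      (irrel_zero 𝒞 hpos m hm) hgam hdim
  exact ⟨e, he, x, hxe, hxreg, hxrad⟩

theorem radical_pow_le (m : Ideal A) {x : A} (hrad : m ≤ (Ideal.span {x}).radical) {n : ℕ}
    (hn : 0 < n) : m ≤ (Ideal.span {x ^ n}).radical := by
  rw [← Ideal.span_singleton_pow, Ideal.radical_pow _ hn.ne']
  exact hrad

end Param

section Main

/-- If the Segre product of two one-dimensional standard graded Cohen–Macaulay rings is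
Gorenstein and the first factor is not a polynomial ring, the second factor is one. -/
theorem poly_of_gor (k : Type u) [Field k] (R : Type u) [CommRing R] [Algebra k R]
    (𝒜 : ℤ → Submodule k R) [GradedAlgebra 𝒜] (hposR : ∀ n : ℤ, n < 0 → 𝒜 n = ⊥)
    (h0R : 𝒜 0 = Submodule.span k {(1 : R)}) [Algebra.FiniteType k R] (S : Type u) [CommRing S]
    [Algebra k S] (ℬ : ℤ → Submodule k S) [GradedAlgebra ℬ] (hposS : ∀ n : ℤ, n < 0 → ℬ n = ⊥)
    (h0S : ℬ 0 = Submodule.span k {(1 : S)}) [Algebra.FiniteType k S] (T : Type u) [CommRing T]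
    [Algebra k T] (𝒯 : ℤ → Submodule k T) [GradedAlgebra 𝒯] (ψ : T →ₐ[k] TensorProduct k R S)
    (hT : GrSeg.IsSegreRing 𝒜 ℬ 𝒯 ψ)
    [LocCoh.IsCohenMacaulayRing R] [LocCoh.IsCohenMacaulayRing S]
    (hstdR : Ideal.span (⋃ n ∈ Set.Ioi (0 : ℤ), (𝒜 n : Set R)) =
      Ideal.span ((𝒜 1 : Submodule k R) : Set R))
    (hstdS : Ideal.span (⋃ n ∈ Set.Ioi (0 : ℤ), (ℬ n : Set S)) =
      Ideal.span ((ℬ 1 : Submodule k S) : Set S))
    (hr : ringKrullDim R = 1) (hs : ringKrullDim S = 1)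
    (hR : IsEmpty (R ≃ₐ[k] Polynomial k)) [LocCoh.IsGorensteinRing T] :
    Nonempty (S ≃ₐ[k] Polynomial k) := by
  classical
  by_contra hSne
  rw [not_nonempty_iff] at hSne
  haveI : IsNoetherianRing R := Algebra.FiniteType.isNoetherianRing k R
  haveI : IsNoetherianRing S := Algebra.FiniteType.isNoetherianRing k S
  have hr' : ringKrullDim R = ((1 : ℕ) : WithBot ℕ∞) := by rw [hr]; rfl
  have hs' : ringKrullDim S = ((1 : ℕ) : WithBot ℕ∞) := by rw [hs]; rfl
  haveI : Nontrivial R := nontrivial_of_dim 1 hr'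
  haveI : Nontrivial S := nontrivial_of_dim 1 hs'
  obtain ⟨mR, hmR⟩ := exists_irrel 𝒜
  obtain ⟨mS, hmS⟩ := exists_irrel ℬ
  obtain ⟨mT, hmT⟩ := exists_irrel 𝒯
  obtain ⟨e1, he1, x1, hx1, hx1reg, hx1rad⟩ := exists_param_std 𝒜 hposR h0R hr mR hmR
  obtain ⟨e2, he2, y1, hy1, hy1reg, hy1rad⟩ := exists_param_std ℬ hposS h0S hs mS hmS
  -- equalise the degrees
  have hepos : 0 < e1 * e2 := Nat.mul_pos he1 he2
  have hx : x1 ^ e2 ∈ 𝒜 ((e1 * e2 : ℕ) : ℤ) := pow_mem_nat 𝒜 hx1 e2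
  have hy : y1 ^ e1 ∈ ℬ ((e1 * e2 : ℕ) : ℤ) := by
    have h := pow_mem_nat ℬ hy1 e1
    rwa [Nat.mul_comm] at h
  have hxreg : IsSMulRegular R (x1 ^ e2) := hx1reg.pow e2
  have hyreg : IsSMulRegular S (y1 ^ e1) := hy1reg.pow e1
  have hxrad := radical_pow_le mR.toIdeal hx1rad he2
  have hyrad := radical_pow_le mS.toIdeal hy1rad he1
  obtain ⟨NR, hNR⟩ := eventually_mul 𝒜 hposR h0R hstdR mR hmR hx hxrad
  obtain ⟨NS, hNS⟩ := eventually_mul ℬ hposS h0S hstdS mS hmS hy hyrad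
  generalize hxdef : x1 ^ e2 = x at hx hxreg hxrad hNR
  generalize hydef : y1 ^ e1 = y at hy hyreg hyrad hNS
  generalize hedef : e1 * e2 = e at hx hy hepos hNR hNS
  have hdimR1 : (1 : WithBot ℕ∞) ≤ ringKrullDim R := by rw [hr]
  have hdimS1 : (1 : WithBot ℕ∞) ≤ ringKrullDim S := by rw [hs]
  -- the bad degrees
  let P : ℕ → Prop := fun d =>
    (∃ r ∈ 𝒜 ((d + e : ℕ) : ℤ), ∀ r' ∈ 𝒜 (d : ℤ), r ≠ x * r') ∨
    (∃ s ∈ ℬ ((d + e : ℕ) : ℤ), ∀ s' ∈ ℬ (d : ℤ), s ≠ y * s')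
  have hP0 : P 0 := by
    left
    obtain ⟨r1, hr1, r2, hr2, hind⟩ :=
      exists_indep 𝒜 hposR h0R hstdR hdimR1 hepos hx hxreg hR (0 + e) (by omega)
    by_contra hcon
    push Not at hcon
    obtain ⟨a1, ha1, h1⟩ := hcon r1 hr1
    obtain ⟨a2, ha2, h2⟩ := hcon r2 hr2
    rw [Nat.cast_zero, h0R] at ha1 ha2
    obtain ⟨c1, rfl⟩ := Submodule.mem_span_singleton.mp ha1
    obtain ⟨c2, rfl⟩ := Submodule.mem_span_singleton.mp ha2
    have h3 : c2 • r1 + (-c1) • r2 = 0 := by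
      rw [h1, h2, mul_smul_comm, mul_smul_comm, mul_one, smul_smul, smul_smul, neg_mul,
        neg_smul, mul_comm c2 c1, add_neg_cancel]
    obtain ⟨hc2, hc1⟩ := hind _ _ h3
    rw [neg_eq_zero] at hc1
    have h4 : (1 : k) • r1 + (0 : k) • r2 = 0 := by
      rw [h1, hc1, zero_smul, mul_zero, smul_zero, zero_smul, add_zero]
    exact one_ne_zero (hind _ _ h4).1
  have hPlarge : ∀ d : ℕ, max NR NS ≤ d → ¬ P d := by
    intro d hd hPd
    rcases hPd with ⟨r, hr, hr'⟩ | ⟨s, hs, hs'⟩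
    · obtain ⟨r', hr'm, hrr'⟩ := hNR d (le_trans (le_max_left _ _) hd) r hr
      exact hr' r' hr'm hrr'
    · obtain ⟨s', hs'm, hss'⟩ := hNS d (le_trans (le_max_right _ _) hd) s hs
      exact hs' s' hs'm hss'
  set c := Nat.findGreatest P (max NR NS) with hc
  have hPc : P c := Nat.findGreatest_spec (Nat.zero_le _) hP0
  have hnP : ∀ d : ℕ, c < d → ¬ P d := by
    intro d hd
    rcases le_or_gt d (max NR NS) with h | h
    · exact Nat.findGreatest_is_greatest hd h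
    · exact hPlarge d h.le
  have hRinf : ∀ d : ℕ, c < d → ∀ r ∈ 𝒜 ((d + e : ℕ) : ℤ), ∃ r' ∈ 𝒜 (d : ℤ), r = x * r' := by
    intro d hd r hr
    by_contra hcon
    push Not at hcon
    exact hnP d hd (Or.inl ⟨r, hr, hcon⟩)
  have hSinf : ∀ d : ℕ, c < d → ∀ s ∈ ℬ ((d + e : ℕ) : ℤ), ∃ s' ∈ ℬ (d : ℤ), s = y * s' := by
    intro d hd s hs
    by_contra hcon
    push Not at hcon
    exact hnP d hd (Or.inr ⟨s, hs, hcon⟩)
  rcases hPc with ⟨r0, hr0, hr0'⟩ | ⟨s0, hs0, hs0'⟩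
  · have hr0x : r0 ∉ Ideal.span {x} := by
      intro hmem
      obtain ⟨r', hr'm, hrr'⟩ := exists_homog_factor 𝒜 hx hr0 hmem
      exact hr0' r' hr'm hrr'
    obtain ⟨s1, hs1, s2, hs2, hind⟩ :=
      exists_indep ℬ hposS h0S hstdS hdimS1 hepos hy hyreg hSne (c + e) (by omega)
    exact core_false hposR h0R h0S hT mT hmT hepos hx hxreg hy hyreg hRinf hSinf hr0 hr0x
      hs1 hs2 hind
  · have hs0y : s0 ∉ Ideal.span {y} := by
      intro hmem
      obtain ⟨s', hs'm, hss'⟩ := exists_homog_factor ℬ hy hs0 hmem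
      exact hs0' s' hs'm hss'
    obtain ⟨r1, hr1, r2, hr2, hind⟩ :=
      exists_indep 𝒜 hposR h0R hstdR hdimR1 hepos hx hxreg hR (c + e) (by omega)
    have hT' : GrSeg.IsSegreRing ℬ 𝒜 𝒯 (swapPsi ψ) := isSegreRing_swap hT
    exact core_false hposS h0S h0R hT' mT hmT hepos hy hyreg hx hxreg hSinf hRinf hs0 hs0y
      hr1 hr2 hind

end Main

section Iso

variable {k : Type u} [Field k]

/-- A graded algebra all of whose pieces are spanned by the powers of a non-nilpotent element of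
degree one is the polynomial ring on that element. -/
theorem poly_of_pieces' {R : Type u} [CommRing R] [Algebra k R]
    (𝒜 : ℤ → Submodule k R) [GradedAlgebra 𝒜] (hpos : ∀ n : ℤ, n < 0 → 𝒜 n = ⊥)
    {a : R} (ha : a ∈ 𝒜 1) (hane : ∀ n : ℕ, a ^ n ≠ 0)
    (hR : ∀ n : ℕ, ∀ r ∈ 𝒜 (n : ℤ), ∃ c : k, r = c • a ^ n) :
    ∃ φ : R ≃ₐ[k] Polynomial k, φ a = Polynomial.X := by
  classical
  have hpow : ∀ n : ℕ, a ^ n ∈ 𝒜 (n : ℤ) := by
    intro n
    have := SetLike.pow_mem_graded n ha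
    rwa [nsmul_eq_mul, mul_one] at this
  let f : Polynomial k →ₐ[k] R := Polynomial.aeval a
  have hsurj : Function.Surjective f := by
    intro r
    induction r using DirectSum.Decomposition.inductionOn 𝒜 with
    | zero => exact ⟨0, map_zero f⟩
    | add r r' hr hr' =>
      obtain ⟨p, hp⟩ := hr
      obtain ⟨p', hp'⟩ := hr'
      exact ⟨p + p', by rw [map_add, hp, hp']⟩
    | @homogeneous i r =>
      rcases lt_or_ge i 0 with hi | hi
      · have hr : (r : R) = 0 := by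
          have h1 : ∀ y : R, y ∈ 𝒜 i → y = 0 := by
            intro y hy
            rw [hpos i hi, Submodule.mem_bot] at hy
            exact hy
          exact h1 _ r.2
        exact ⟨0, by rw [map_zero, hr]⟩
      · obtain ⟨n, rfl⟩ : ∃ n : ℕ, i = (n : ℤ) := ⟨i.toNat, (Int.toNat_of_nonneg hi).symm⟩
        obtain ⟨c, hc⟩ := hR n r r.2
        refine ⟨c • Polynomial.X ^ n, ?_⟩
        rw [hc, map_smul, map_pow]
        change c • (Polynomial.aeval a Polynomial.X) ^ n = _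
        rw [Polynomial.aeval_X]
  have key : ∀ (s : Finset ℕ) (c : ℕ → k), ∑ i ∈ s, c i • a ^ i = 0 → ∀ j ∈ s, c j = 0 := by
    intro s c hsum j hj
    have h1 : ∀ i : ℕ, c i • a ^ i ∈ 𝒜 (i : ℤ) := fun i => Submodule.smul_mem _ _ (hpow i)
    have h2 : ((decompose 𝒜 (∑ i ∈ s, c i • a ^ i)) (j : ℤ) : R) = 0 := by
      rw [hsum, decompose_zero]
      rfl
    rw [decompose_sum, DFinsupp.finset_sum_apply, AddSubmonoidClass.coe_finset_sum,
      Finset.sum_eq_single j] at h2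
    · rw [decompose_of_mem_same 𝒜 (h1 j)] at h2
      exact (smul_eq_zero.mp h2).resolve_right (hane j)
    · intro i _ hij
      rw [decompose_of_mem_ne 𝒜 (h1 i) (by exact_mod_cast hij)]
    · intro hj'
      exact absurd hj hj'
  have hinj : Function.Injective f := by
    rw [injective_iff_map_eq_zero]
    intro p hp
    have hp' : ∑ i ∈ Finset.range (p.natDegree + 1), p.coeff i • a ^ i = 0 := by
      rw [← Polynomial.aeval_eq_sum_range]
      exact hp
    ext j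
    rw [Polynomial.coeff_zero]
    by_cases hj : j ∈ Finset.range (p.natDegree + 1)
    · exact key _ _ hp' j hj
    · rw [Finset.mem_range, not_lt] at hj
      exact Polynomial.coeff_eq_zero_of_natDegree_lt (by omega)
  refine ⟨(AlgEquiv.ofBijective f ⟨hinj, hsurj⟩).symm, ?_⟩
  rw [AlgEquiv.symm_apply_eq]
  change a = Polynomial.aeval a Polynomial.X
  rw [Polynomial.aeval_X]

/-- Graded additive maps commute with the decomposition. -/
theorem decompose_map {R T : Type u} [CommRing R] [CommRing T] [Algebra k R] [Algebra k T]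
    (𝒜 : ℤ → Submodule k R) [GradedAlgebra 𝒜] (𝒯 : ℤ → Submodule k T) [GradedAlgebra 𝒯]
    (f : T →+ R) (hf : ∀ n : ℤ, ∀ t ∈ 𝒯 n, f t ∈ 𝒜 n) (t : T) (n : ℤ) :
    (decompose 𝒜 (f t) n : R) = f (decompose 𝒯 t n) := by
  classical
  have key : ∀ (i : ℤ) (a : T), a ∈ 𝒯 i → (decompose 𝒜 (f a) n : R) = f (decompose 𝒯 a n) := by
    intro i a ha
    by_cases hin : i = n
    · subst hin
      rw [decompose_of_mem_same 𝒜 (hf i a ha), decompose_of_mem_same 𝒯 ha]
    · rw [decompose_of_mem_ne 𝒜 (hf i a ha) hin, decompose_of_mem_ne 𝒯 ha hin, map_zero]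
  induction t using DirectSum.Decomposition.inductionOn 𝒯 with
  | zero => simp
  | @homogeneous i t => exact key i t t.2
  | add t t' h h' =>
    rw [map_add, decompose_add, decompose_add, DirectSum.add_apply, DirectSum.add_apply,
      AddMemClass.coe_add, AddMemClass.coe_add, h, h', map_add]

/-- If the second factor is a polynomial ring in one variable, the Segre product is isomorphic to
the first factor. -/
theorem gor_of_poly (R : Type u) [CommRing R] [Algebra k R]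
    (𝒜 : ℤ → Submodule k R) [GradedAlgebra 𝒜] (hposR : ∀ n : ℤ, n < 0 → 𝒜 n = ⊥)
    (S : Type u) [CommRing S] [IsNoetherianRing S]
    [Algebra k S] (ℬ : ℤ → Submodule k S) [GradedAlgebra ℬ] (hposS : ∀ n : ℤ, n < 0 → ℬ n = ⊥)
    (h0S : ℬ 0 = Submodule.span k {(1 : S)}) (T : Type u) [CommRing T]
    [Algebra k T] (𝒯 : ℤ → Submodule k T) [GradedAlgebra 𝒯] (ψ : T →ₐ[k] TensorProduct k R S)
    (hT : GrSeg.IsSegreRing 𝒜 ℬ 𝒯 ψ)
    (hstdS : Ideal.span (⋃ n ∈ Set.Ioi (0 : ℤ), (ℬ n : Set S)) =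
      Ideal.span ((ℬ 1 : Submodule k S) : Set S))
    (hs : 1 ≤ ringKrullDim S) (hS : Nonempty (S ≃ₐ[k] Polynomial k))
    [LocCoh.IsGorensteinRing T] : LocCoh.IsGorensteinRing R := by
  classical
  obtain ⟨σ⟩ := hS
  obtain ⟨g, hg, h1⟩ := deg_one_of_poly ℬ hposS h0S σ
  have hpieces := piece_eq_of_deg_one ℬ hposS h0S hstdS h1
  have hgne : ∀ n : ℕ, g ^ n ≠ 0 := by
    intro n hn
    apply piece_ne_bot ℬ hposS h0S hstdS hs n
    rw [eq_bot_iff]
    intro r hr
    obtain ⟨c, rfl⟩ := hpieces n r hr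
    rw [hn, smul_zero]
    exact Submodule.zero_mem _
  obtain ⟨φ, hφ⟩ := poly_of_pieces' ℬ hposS hg hgne hpieces
  let ev : S →ₐ[k] k := (Polynomial.aeval (1 : k)).comp φ.toAlgHom
  have hev : ∀ n : ℕ, ev (g ^ n) = 1 := by
    intro n
    change Polynomial.aeval (1 : k) (φ (g ^ n)) = 1
    rw [map_pow, hφ, map_pow, Polynomial.aeval_X, one_pow]
  let ρ' : R ⊗[k] S →ₐ[k] R :=
    Algebra.TensorProduct.productMap (AlgHom.id k R) ((Algebra.ofId k R).comp ev)
  have hρ' : ∀ (r : R) (s : S), ρ' (r ⊗ₜ[k] s) = ev s • r := by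
    intro r s
    change r * algebraMap k R (ev s) = _
    rw [Algebra.smul_def, mul_comm]
  have hposT : ∀ n : ℤ, n < 0 → 𝒯 n = ⊥ := Groth.Agent.Lib.Helper90.Seg.segRing_neg hT hposR
  have key : ∀ n : ℕ, ∀ w ∈ GrSeg.segrePiece k 𝒜 ℬ (n : ℤ),
      ρ' w ∈ 𝒜 (n : ℤ) ∧ w = ρ' w ⊗ₜ[k] (g ^ n) := by
    intro n
    apply induction_piece (fun w => ρ' w ∈ 𝒜 (n : ℤ) ∧ w = ρ' w ⊗ₜ[k] (g ^ n))
    · exact ⟨by rw [map_zero]; exact Submodule.zero_mem _, by rw [map_zero, TensorProduct.zero_tmul]⟩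
    · rintro w w' ⟨h, h'⟩ ⟨h2, h2'⟩
      refine ⟨by rw [map_add]; exact Submodule.add_mem _ h h2, ?_⟩
      rw [map_add, TensorProduct.add_tmul, ← h', ← h2']
    · rintro c w ⟨h, h'⟩
      refine ⟨by rw [map_smul]; exact Submodule.smul_mem _ c h, ?_⟩
      rw [map_smul, ← TensorProduct.smul_tmul', ← h']
    · intro r hr s hs
      obtain ⟨c, rfl⟩ := hpieces n s hs
      rw [hρ', map_smul, hev, smul_eq_mul, mul_one]
      exact ⟨Submodule.smul_mem _ c hr, by rw [TensorProduct.tmul_smul, TensorProduct.smul_tmul']⟩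
  let ρ : T →ₐ[k] R := ρ'.comp ψ
  have hρgr : ∀ n : ℤ, ∀ t ∈ 𝒯 n, ρ t ∈ 𝒜 n := by
    intro n t ht
    rcases lt_or_ge n 0 with hn | hn
    · rw [hposT n hn, Submodule.mem_bot] at ht
      rw [ht, map_zero]
      exact Submodule.zero_mem _
    · obtain ⟨n', rfl⟩ : ∃ n' : ℕ, n = (n' : ℤ) := ⟨n.toNat, (Int.toNat_of_nonneg hn).symm⟩
      exact (key n' _ (psi_mem_piece hT ht)).1
  have hρinj : Function.Injective ρ := by
    rw [injective_iff_map_eq_zero]
    intro t ht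
    have h3 : ∀ n : ℤ, (decompose 𝒯 t n : T) = 0 := by
      intro n
      have h4 := decompose_map 𝒜 𝒯 (ρ : T →+ R) hρgr t n
      have h5 : ρ (decompose 𝒯 t n : T) = 0 := by
        have h6 : (ρ : T →+ R) t = 0 := ht
        rw [h6, decompose_zero] at h4
        exact h4.symm
      rcases lt_or_ge n 0 with hn | hn
      · have hz : ∀ y : T, y ∈ 𝒯 n → y = 0 := by
          intro y hy
          rw [hposT n hn, Submodule.mem_bot] at hy
          exact hy
        exact hz _ (SetLike.coe_mem _)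
      · obtain ⟨n', rfl⟩ : ∃ n' : ℕ, n = (n' : ℤ) := ⟨n.toNat, (Int.toNat_of_nonneg hn).symm⟩
        have h7 := (key n' _ (psi_mem_piece hT (SetLike.coe_mem (decompose 𝒯 t (n' : ℤ))))).2
        have h8 : ρ' (ψ (decompose 𝒯 t (n' : ℤ) : T)) = 0 := h5
        rw [h8, TensorProduct.zero_tmul] at h7
        exact hT.1 (by rw [h7, map_zero])
    apply (decompose 𝒯).injective
    apply DFinsupp.ext
    intro i
    apply Subtype.ext
    rw [h3 i, decompose_zero]
    rfl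
  have hρsurj : Function.Surjective ρ := by
    intro r
    induction r using DirectSum.Decomposition.inductionOn 𝒜 with
    | zero => exact ⟨0, map_zero ρ⟩
    | add r r' hr hr' =>
      obtain ⟨p, hp⟩ := hr
      obtain ⟨p', hp'⟩ := hr'
      exact ⟨p + p', by rw [map_add, hp, hp']⟩
    | @homogeneous i r =>
      rcases lt_or_ge i 0 with hi | hi
      · have hr : (r : R) = 0 := by
          have h1 : ∀ y : R, y ∈ 𝒜 i → y = 0 := by
            intro y hy
            rw [hposR i hi, Submodule.mem_bot] at hy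
            exact hy
          exact h1 _ r.2
        exact ⟨0, by rw [map_zero, hr]⟩
      · obtain ⟨n, rfl⟩ : ∃ n : ℕ, i = (n : ℤ) := ⟨i.toNat, (Int.toNat_of_nonneg hi).symm⟩
        have hgn : g ^ n ∈ ℬ (n : ℤ) := by
          have := SetLike.pow_mem_graded n hg
          rwa [nsmul_eq_mul, mul_one] at this
        obtain ⟨t, -, ht⟩ := exists_psi hT (n : ℤ) r.2 hgn
        refine ⟨t, ?_⟩
        change ρ' (ψ t) = _
        rw [ht, hρ', hev, one_smul]
  exact Groth.Agent.Lib.Helper85.GorRing.gorRing_of_ringEquiv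
    (RingEquiv.ofBijective (ρ : T →+* R) ⟨hρinj, hρsurj⟩)

end Iso

end Groth.Agent.Lib.Helper8.GrSegR
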