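import Groth.Agent.Lib.Helper8.GrSegI
import Groth.Agent.Lib.Helper8.GrStarLocal
import Groth.Agent.Lib.Helper56.SkLift
import Groth.Agent.Lib.Helper67.SuppLoc

/-!
# Homogeneous parameters and the transform of a one-dimensional graded module

Module versions of `GrSegH.exists_param` and `GrSegI.exists_transform'`.
-/

set_option autoImplicit false
set_option linter.unusedSectionVars false
universe u

open DirectSum GrLC
open Groth.Agent.Lib.Helper30
open Groth.Agent.Lib.Helper8.GrLCBase Groth.Agent.Lib.Helper8.GrLCLES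
open Groth.Agent.Lib.Helper8.GrSegD

namespace Groth.Agent.Lib.Helper8.GrSegS

section Param

variable {R : Type u} [CommRing R] [IsNoetherianRing R] (𝒜 : ℤ → AddSubgroup R) [GradedRing 𝒜]
variable {M : Type u} [AddCommGroup M] [Module R M] [Module.Finite R M]

/-- the localization at a prime of the support has nonnegative dimension -/
theorem supportDim_nonneg_of_mem (p : Ideal R) [hp : p.IsPrime]
    (hpM : (⟨p, hp⟩ : PrimeSpectrum R) ∈ Module.support R M) :
    (0 : WithBot ℕ∞) ≤ Module.supportDim (Localization.AtPrime p)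
      (LocalizedModule p.primeCompl M) := by
  have h1 := Groth.Agent.Lib.Helper56.supportDim_localization_eq_height M ⟨⟨p, hp⟩, hpM⟩
  simp only at h1
  rw [h1]
  exact WithBot.coe_le_coe.mpr bot_le

/-- In a one-dimensional finitely generated graded module without `m`-torsion over a positively
graded Noetherian *local ring there is a homogeneous regular element of positive degree
generating, together with the annihilator, an `m`-primary ideal. -/
theorem exists_param_mod (hpos : ∀ n : ℤ, n < 0 → 𝒜 n = ⊥) (m : HomogeneousIdeal 𝒜)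
    (hm : GrLC.IsStarLocal 𝒜 m)
    (hm0 : ∀ n : ℤ, n ≤ 0 → ∀ y ∈ 𝒜 n, y ∈ m.toIdeal → y = 0)
    (hann : (Module.annihilator R M).IsHomogeneous 𝒜)
    (hgam : gam m.toIdeal M = ⊥) (hdim : Module.supportDim R M = 1) :
    ∃ n : ℕ, 0 < n ∧ ∃ x ∈ 𝒜 (n : ℤ), x ∈ m.toIdeal ∧ IsSMulRegular M x ∧
      m.toIdeal ≤ (Ideal.span {x} ⊔ Module.annihilator R M).radical := by
  classical
  have hfin : (associatedPrimes R M).Finite := associatedPrimes.finite R M
  set s : Finset (Ideal R) :=
    hfin.toFinset.image (fun P => (P.homogeneousCore 𝒜).toIdeal) with hs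
  have hs1 : ∀ p ∈ s, p.IsPrime ∧ p.IsHomogeneous 𝒜 := by
    intro p hp
    obtain ⟨P, hP, rfl⟩ := Finset.mem_image.mp hp
    rw [Set.Finite.mem_toFinset] at hP
    have hPp : P.IsPrime := (AssociatedPrimes.mem_iff.mp hP).isPrime
    exact ⟨hPp.homogeneousCore, (P.homogeneousCore 𝒜).isHomogeneous⟩
  have hnot : ∀ p ∈ s, ¬ m.toIdeal ≤ p := by
    intro p hp hle
    obtain ⟨P, hP, rfl⟩ := Finset.mem_image.mp hp
    rw [Set.Finite.mem_toFinset] at hP
    have hmP : m.toIdeal ≤ P := hle.trans (Ideal.toIdeal_homogeneousCore_le 𝒜 P)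
    rw [AssociatedPrimes.mem_iff, isAssociatedPrime_iff] at hP
    obtain ⟨hprime, z, hz⟩ := hP
    have hz0 : z ≠ 0 := by
      rintro rfl
      apply hprime.ne_top
      rw [hz, eq_top_iff]
      intro r _
      rw [Submodule.mem_colon_singleton, smul_zero]
      exact Submodule.zero_mem _
    have hzg : z ∈ gam m.toIdeal M := ⟨1, fun r hr => by
      rw [pow_one] at hr
      have := hmP hr
      rw [hz, Submodule.mem_colon_singleton, Submodule.mem_bot] at this
      exact this⟩
    rw [hgam, Submodule.mem_bot] at hzg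
    exact hz0 hzg
  obtain ⟨n, hn, x, hxd, hxm, hxs⟩ :=
    Groth.Agent.Lib.Helper8.GrSegH.avoid 𝒜 s hs1 m.toIdeal m.isHomogeneous hm0 hnot
  have hxP : ∀ P ∈ associatedPrimes R M, x ∉ P := by
    intro P hP hxP
    apply hxs _ (Finset.mem_image.mpr ⟨P, (Set.Finite.mem_toFinset hfin).mpr hP, rfl⟩)
    exact Ideal.mem_homogeneousCore_of_homogeneous_of_mem ⟨_, hxd⟩ hxP
  have hzd : x ∉ {r : R | ∃ y : M, y ≠ 0 ∧ r • y = 0} := by
    rw [← biUnion_associatedPrimes_eq_zero_divisors R M]
    intro h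
    obtain ⟨p, hp, hvmem⟩ := Set.mem_iUnion₂.mp h
    exact hxP p hp hvmem
  have hreg : IsSMulRegular M x := by
    intro y y' hyy'
    by_contra hne
    apply hzd
    refine ⟨y - y', sub_ne_zero.mpr hne, ?_⟩
    rw [smul_sub]
    exact sub_eq_zero.mpr hyy'
  refine ⟨n, hn, x, hxd, hxm, hreg, ?_⟩
  have hxh : (Ideal.span {x}).IsHomogeneous 𝒜 :=
    Ideal.homogeneous_span 𝒜 {x} (by rintro y rfl; exact ⟨_, hxd⟩)
  have hJh : (Ideal.span {x} ⊔ Module.annihilator R M).IsHomogeneous 𝒜 := hxh.sup hann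
  have hmax : m.toIdeal.IsMaximal :=
    Groth.Agent.Lib.Helper8.GrLCPieces.isMaximal_of_isStarLocal hpos m hm
  rw [hJh.radical_eq]
  apply le_sInf
  rintro p ⟨hph, hJp, hpp⟩
  have hxp' : x ∈ p := hJp (Ideal.mem_sup_left (Ideal.subset_span rfl))
  have hannp : Module.annihilator R M ≤ p := le_trans le_sup_right hJp
  have hple : p ≤ m.toIdeal :=
    _root_.toIdeal_le_toIdeal_iff.mpr
      (Groth.Agent.Lib.Helper8.GrStarLocal.le_of_isStarLocal 𝒜 m hm ⟨p, hph⟩ hpp.ne_top)
  by_contra hcon
  have hlt : p < m.toIdeal := lt_of_le_of_ne hple (fun h => hcon h.ge)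
  obtain ⟨q, hq, hqp⟩ := Ideal.exists_minimalPrimes_le (I := Module.annihilator R M) (J := p) hannp
  have hqA : q ∈ associatedPrimes R M :=
    Module.associatedPrimes.minimalPrimes_annihilator_subset_associatedPrimes R M hq
  have hxq : x ∉ q := hxP q hqA
  have hqlt : q < p := lt_of_le_of_ne hqp (fun h => hxq (h ▸ hxp'))
  haveI hqprime : q.IsPrime := hq.1.1
  have hqM : (⟨q, hqprime⟩ : PrimeSpectrum R) ∈ Module.support R M := by
    rw [Module.mem_support_iff_of_finite]
    exact hq.1.2
  have hpM : (⟨p, hpp⟩ : PrimeSpectrum R) ∈ Module.support R M :=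
    Module.mem_support_mono (p := ⟨q, hqprime⟩) (q := ⟨p, hpp⟩) hqlt.le hqM
  have hmM : (⟨m.toIdeal, hmax.isPrime⟩ : PrimeSpectrum R) ∈ Module.support R M :=
    Module.mem_support_mono (p := ⟨p, hpp⟩) (q := ⟨m.toIdeal, hmax.isPrime⟩) hlt.le hpM
  haveI := hmax.isPrime
  have h1 := Groth.Agent.Lib.Helper56.supportDim_localization_add_one_le M q p hqlt hqM
  have h2 := Groth.Agent.Lib.Helper56.supportDim_localization_add_one_le M p m.toIdeal hlt hpM
  have h0 := supportDim_nonneg_of_mem (M := M) q hqM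
  have h3 := Groth.Agent.Lib.Helper67.supportDim_localization_add_ringKrullDim_quotient_le M
    ⟨m.toIdeal, hmax.isPrime⟩ hmM
  rw [hdim] at h3
  have h4 : (0 : WithBot ℕ∞) ≤ ringKrullDim (R ⧸ m.toIdeal) := by
    haveI : Nontrivial (R ⧸ m.toIdeal) := Ideal.Quotient.nontrivial_iff.mpr hmax.ne_top
    exact ringKrullDim_nonneg_of_nontrivial
  have h5 : (2 : WithBot ℕ∞) ≤ Module.supportDim (Localization.AtPrime m.toIdeal)
      (LocalizedModule m.toIdeal.primeCompl M) := by
    calc (2 : WithBot ℕ∞) = 0 + 1 + 1 := by norm_num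
      _ ≤ Module.supportDim (Localization.AtPrime q) (LocalizedModule q.primeCompl M) + 1 + 1 := by
        gcongr
      _ ≤ Module.supportDim (Localization.AtPrime p) (LocalizedModule p.primeCompl M) + 1 := by
        gcongr
      _ ≤ _ := h2
  have h6 : (2 : WithBot ℕ∞) ≤ 1 := by
    calc (2 : WithBot ℕ∞) ≤ Module.supportDim (Localization.AtPrime m.toIdeal)
          (LocalizedModule m.toIdeal.primeCompl M) + 0 := by rw [add_zero]; exact h5
      _ ≤ Module.supportDim (Localization.AtPrime m.toIdeal)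
          (LocalizedModule m.toIdeal.primeCompl M) + ringKrullDim (R ⧸ m.toIdeal) := by
        gcongr
      _ ≤ 1 := h3
  exact absurd h6 (by decide)

end Param

section Transform

variable {R : Type u} [CommRing R] [IsNoetherianRing R] (𝒜 : ℤ → AddSubgroup R) [GradedRing 𝒜]
variable {M : Type u} [AddCommGroup M] [Module R M] (ℳ : ℤ → AddSubgroup M)
  [DirectSum.Decomposition ℳ] [SetLike.GradedSMul 𝒜 ℳ]

theorem exists_transform_mod (m : HomogeneousIdeal 𝒜) {n : ℤ} {x : R} (hx : x ∈ 𝒜 n)
    (hreg : IsSMulRegular M x)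
    (hrad : m.toIdeal ≤ (Ideal.span {x} ⊔ Module.annihilator R M).radical) :
    ∃ (L : GMod.{u} 𝒜) (ι : M →ₗ[R] L.carrier), IsGrHom ℳ L.gr ι ∧ Function.Injective ι ∧
      Function.Bijective (fun u : L.carrier => x • u) ∧
      (∀ u : L.carrier, ∃ N : ℕ, ∀ a ∈ m.toIdeal ^ N, ∃ r, ι r = a • u) ∧
      ∀ u : L.carrier, ∃ (t : ℕ) (r : M), ι r = x ^ t • u := by
  classical
  set E := starInjRes 𝒜 ℳ with hE
  obtain ⟨H0, hH0, hle, hull, -⟩ := exists_isStarInjHull_of_embedding 𝒜 (E.X 0).gr ℳ
    (E.starInj 0) E.ε E.ε_grHom E.ε_injective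
  set H : GMod.{u} 𝒜 := gmodSub 𝒜 (E.X 0).gr H0 hH0 with hH
  set f : M →ₗ[R] H.carrier := E.ε.codRestrict H0 hle with hf
  have hfgr : IsGrHom ℳ H.gr f := hull.grHom
  have hfinj : Function.Injective f := hull.injective
  -- `x` is injective on `H`
  have hinjH : ∀ u : H.carrier, x • u = 0 → u = 0 := by
    intro u hu
    by_contra hne
    have hK : LinearMap.ker (x • (LinearMap.id : H.carrier →ₗ[R] H.carrier)) ≠ ⊥ := by
      intro hb
      apply hne
      have : u ∈ LinearMap.ker (x • (LinearMap.id : H.carrier →ₗ[R] H.carrier)) := by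
        rw [LinearMap.mem_ker, LinearMap.smul_apply, LinearMap.id_apply]
        exact hu
      rw [hb] at this
      exact this
    apply inf_range_ne_bot_of_isStarEss 𝒜 ℳ H.gr f hull.toIsStarEss _ hK
    rw [eq_bot_iff]
    rintro v ⟨hv1, ⟨r, rfl⟩⟩
    have h1 : x • f r = 0 := by
      have := LinearMap.mem_ker.mp hv1
      rwa [LinearMap.smul_apply, LinearMap.id_apply] at this
    rw [← map_smul] at h1
    have h2 : x • r = 0 := hfinj (by rw [h1, map_zero])
    have h3 : r = 0 := hreg (by
      change x • r = x • 0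
      rw [h2, smul_zero])
    rw [h3, map_zero]
    exact Submodule.zero_mem _
  have hpowinj : ∀ (c : ℕ) (v : H.carrier), x ^ c • v = 0 → v = 0 := by
    intro c
    induction c with
    | zero =>
      intro v hv
      simpa using hv
    | succ c ih =>
      intro v hv
      rw [pow_succ, mul_smul] at hv
      exact hinjH v (ih _ hv)
  -- `x` is surjective on `H`
  have hsurjH : ∀ u : H.carrier, ∃ u' : H.carrier, x • u' = u := by
    intro u
    have hu : u ∈ gam (⊥ : HomogeneousIdeal 𝒜).toIdeal H.carrier := by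
      rw [HomogeneousIdeal.toIdeal_bot, gam_bot]
      trivial
    obtain ⟨e', -, c, hc⟩ := Groth.Agent.Lib.Helper8.GrInjDiv.exists_div H.gr hull.starInj ⊥ hx u hu
    exact ⟨e', sub_eq_zero.mp (hpowinj c _ hc)⟩
  have hxpow : ∀ t : ℕ, x ^ t ∈ 𝒜 (t • n) := fun t => SetLike.pow_mem_graded t hx
  let L0 : Submodule R H.carrier :=
    { carrier := {u | ∃ t : ℕ, x ^ t • u ∈ LinearMap.range f}
      zero_mem' := ⟨0, by rw [smul_zero]; exact Submodule.zero_mem _⟩
      add_mem' := by
        rintro u v ⟨t, ht⟩ ⟨t', ht'⟩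
        refine ⟨t + t', ?_⟩
        rw [smul_add]
        apply Submodule.add_mem
        · rw [add_comm, pow_add, mul_smul]
          exact Submodule.smul_mem _ _ ht
        · rw [pow_add, mul_smul]
          exact Submodule.smul_mem _ _ ht'
      smul_mem' := by
        rintro c u ⟨t, ht⟩
        exact ⟨t, by rw [smul_comm]; exact Submodule.smul_mem _ _ ht⟩ }
  have hL0 : L0.IsHomogeneous H.gr := by
    intro i u hu
    obtain ⟨t, r, hr⟩ := hu
    refine ⟨t, (decompose ℳ r (t • n + i) : M), ?_⟩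
    rw [decompose_map_of_isGrHom ℳ H.gr f hfgr, hr,
      Groth.Agent.Lib.Helper30.decompose_smul_of_mem 𝒜 H.gr (hxpow t) u i]
  set L : GMod.{u} 𝒜 := gmodSub 𝒜 H.gr L0 hL0 with hL
  have hfL : ∀ r, f r ∈ L0 := fun r => ⟨0, r, by rw [pow_zero, one_smul]⟩
  -- the annihilator of `M` kills `L0`
  have hannL : ∀ c ∈ Module.annihilator R M, ∀ u ∈ L0, c • u = 0 := by
    intro c hc u hu
    obtain ⟨t, r, hr⟩ := hu
    apply hpowinj t
    rw [smul_comm, ← hr, ← map_smul, Module.mem_annihilator.mp hc r, map_zero]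
  refine ⟨L, f.codRestrict L0 hfL, ?_, ?_, ⟨?_, ?_⟩, ?_, ?_⟩
  · intro g r hr
    exact hfgr g r hr
  · intro r r' h
    apply hfinj
    exact congrArg Subtype.val h
  · intro (u : ↥L0) (v : ↥L0) huv
    have h1 : x • (u : H.carrier) = x • (v : H.carrier) := congrArg Subtype.val huv
    apply Subtype.ext
    have h2 : x • ((u : H.carrier) - (v : H.carrier)) = 0 := by rw [smul_sub, h1, sub_self]
    exact sub_eq_zero.mp (hinjH _ h2)
  · intro (u : ↥L0)
    obtain ⟨u', hu'⟩ := hsurjH (u : H.carrier)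
    obtain ⟨t, ht⟩ := u.2
    refine ⟨⟨u', t + 1, ?_⟩, Subtype.ext hu'⟩
    rw [pow_succ, mul_smul, hu']
    exact ht
  · intro (u : ↥L0)
    obtain ⟨t, r, hr⟩ := u.2
    have hrad' : m.toIdeal ≤ (Ideal.span {x ^ t} ⊔ Module.annihilator R M).radical := by
      by_cases ht : t = 0
      · subst ht
        rw [pow_zero, Ideal.span_singleton_one, top_sup_eq, Ideal.radical_top]
        exact le_top
      · refine hrad.trans ?_
        have key : ∀ t : ℕ, (Ideal.span {x} ⊔ Module.annihilator R M) ^ t ≤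
            Ideal.span {x ^ t} ⊔ Module.annihilator R M := by
          intro t
          induction t with
          | zero =>
            rw [pow_zero, pow_zero, Ideal.span_singleton_one, top_sup_eq]
            exact le_top
          | succ t ih =>
            rw [pow_succ]
            refine (Ideal.mul_mono_left ih).trans ?_
            rw [Ideal.sup_mul, Ideal.mul_sup, Ideal.mul_sup]
            refine sup_le (sup_le ?_ ?_) (sup_le ?_ ?_)
            · rw [Ideal.span_singleton_mul_span_singleton, ← pow_succ]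
              exact le_sup_left
            · first
                | exact le_trans Ideal.mul_le_left le_sup_right
                | exact le_trans Ideal.mul_le_right le_sup_right
            · first
                | exact le_trans Ideal.mul_le_left le_sup_right
                | exact le_trans Ideal.mul_le_right le_sup_right
            · first
                | exact le_trans Ideal.mul_le_left le_sup_right
                | exact le_trans Ideal.mul_le_right le_sup_right
        rw [← Ideal.radical_pow _ ht]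
        exact Ideal.radical_mono (key t)
    obtain ⟨N, hN⟩ := Ideal.exists_pow_le_of_le_radical_of_fg hrad'
      ((isNoetherianRing_iff_ideal_fg R).mp inferInstance _)
    refine ⟨N, fun a ha => ?_⟩
    obtain ⟨b', hb', c, hc, hbc⟩ := Submodule.mem_sup.mp (hN ha)
    obtain ⟨b, hb⟩ := Ideal.mem_span_singleton'.mp hb'
    refine ⟨b • r, Subtype.ext ?_⟩
    change f (b • r) = a • (u : H.carrier)
    rw [map_smul, hr, ← mul_smul, hb, ← hbc, add_smul, hannL c hc u u.2, add_zero]
  · intro (u : ↥L0)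
    obtain ⟨t, r, hr⟩ := u.2
    exact ⟨t, r, Subtype.ext hr⟩

/-- The transform together with its cokernel: a short exact sequence `0 → M → L → C → 0` of graded
modules with `x` bijective on `L`, `C` an `m`-torsion module, and `H^1_m(M)_d = 0 ↔ C_d = 0`. -/
theorem exists_transform_mod' (m : HomogeneousIdeal 𝒜) {n : ℤ} {x : R} (hx : x ∈ 𝒜 n)
    (hxm : x ∈ m.toIdeal) (hreg : IsSMulRegular M x)
    (hrad : m.toIdeal ≤ (Ideal.span {x} ⊔ Module.annihilator R M).radical) :
    ∃ (L C : GMod.{u} 𝒜) (ι : M →ₗ[R] L.carrier) (π : L.carrier →ₗ[R] C.carrier),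
      SES ℳ L.gr C.gr ι π ∧ Function.Bijective (fun u : L.carrier => x • u) ∧
      gam m.toIdeal C.carrier = ⊤ ∧ (∀ d : ℤ, (VanM m ℳ 1 d ↔ C.gr d = ⊥)) := by
  classical
  obtain ⟨L, ι, hιgr, hιinj, hbij, htors, -⟩ := exists_transform_mod 𝒜 ℳ m hx hreg hrad
  have hB : (LinearMap.range ι).IsHomogeneous L.gr := range_isHomogeneous ℳ L.gr ι hιgr
  have hCt0 : gam m.toIdeal (L.carrier ⧸ LinearMap.range ι) = ⊤ := by
    rw [eq_top_iff]
    intro c _
    obtain ⟨u, rfl⟩ := Submodule.mkQ_surjective (LinearMap.range ι) c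
    obtain ⟨N, hN⟩ := htors u
    refine ⟨N, fun a ha => ?_⟩
    obtain ⟨r, hr⟩ := hN a ha
    rw [← map_smul, ← hr]
    exact (Submodule.Quotient.mk_eq_zero _).mpr ⟨r, rfl⟩
  let C : GMod.{u} 𝒜 := gmodQuot 𝒜 L.gr (LinearMap.range ι) hB
  let π : L.carrier →ₗ[R] C.carrier := (LinearMap.range ι).mkQ
  have hS : SES ℳ L.gr C.gr ι π :=
    { i_gr := hιgr
      p_gr := isGrHom_mkQ L.gr (LinearMap.range ι)
      inj := hιinj
      surj := Submodule.mkQ_surjective _
      exact := (Submodule.ker_mkQ _).symm }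
  have hCt : gam m.toIdeal C.carrier = ⊤ := hCt0
  have hLv : ∀ q d, VanM m L.gr q d := fun q d =>
    Groth.Agent.Lib.Helper8.GrLCWhole.vanM_of_bijective m hx hxm hbij q d
  refine ⟨L, C, ι, π, hS, hbij, hCt, fun d => ⟨fun h => ?_, fun h => ?_⟩⟩
  · have h0 : VanM m C.gr 0 d := les_right m hS 0 d (hLv 0 d) h
    rw [vanM_zero_iff] at h0
    rw [eq_bot_iff]
    intro c hc
    rw [AddSubgroup.mem_bot]
    exact h0 c hc (by rw [hCt]; trivial)
  · have h0 : VanM m C.gr 0 d := by
      rw [vanM_zero_iff]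
      intro c hc _
      rw [h, AddSubgroup.mem_bot] at hc
      exact hc
    exact les_left m hS 0 d h0 (hLv 1 d)

end Transform

end Groth.Agent.Lib.Helper8.GrSegS
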