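import Groth.Agent.Lib.Helper8.GrSegS
import Groth.Agent.Lib.Helper8.GrSegM
import Groth.Agent.Lib.Helper8.GrSegK
import Groth.Agent.Lib.Helper90.SegCM5
import Groth.Agent.Lib.Helper90.SegG
import Groth.Agent.Lib.Helper77.GrCMC
import Groth.Agent.S19754
import Groth.Agent.S19747
import Groth.Agent.S18646

/-!
# Segre products of modules with a one-dimensional Cohen–Macaulay factor
-/

set_option autoImplicit false
set_option linter.unusedSectionVars false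
universe u

open DirectSum GrLC TensorProduct
open Groth.Agent.Lib.Helper30 Groth.Agent.Lib.Helper8.GrLCSub
open Groth.Agent.Lib.Helper8.GrLCBase
open Groth.Agent.Lib.Helper8.GrLCLES Groth.Agent.Lib.Helper8.GrLCTors
open Groth.Agent.Lib.Helper8.GrSegJ Groth.Agent.Lib.Helper8.GrSegK
open Groth.Agent.Lib.Helper8.GrSegC

namespace Groth.Agent.Lib.Helper8.GrSegT

theorem main (k : Type u) [Field k] (R : Type u) [CommRing R] [Algebra k R]
    (𝒜 : ℤ → Submodule k R) [GradedAlgebra 𝒜] (hposR : ∀ n : ℤ, n < 0 → 𝒜 n = ⊥)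
    (h0R : 𝒜 0 = Submodule.span k {(1 : R)}) [Algebra.FiniteType k R] (S : Type u) [CommRing S]
    [Algebra k S] (ℬ : ℤ → Submodule k S) [GradedAlgebra ℬ] (hposS : ∀ n : ℤ, n < 0 → ℬ n = ⊥)
    (h0S : ℬ 0 = Submodule.span k {(1 : S)}) [Algebra.FiniteType k S] (T : Type u) [CommRing T]
    [Algebra k T] (𝒯 : ℤ → Submodule k T) [GradedAlgebra 𝒯] (ψ : T →ₐ[k] TensorProduct k R S)
    (hT : GrSeg.IsSegreRing 𝒜 ℬ 𝒯 ψ) (mR : HomogeneousIdeal 𝒜)
    (hmR : mR.toIdeal = Ideal.span (⋃ n ∈ Set.Ioi (0 : ℤ), (𝒜 n : Set R))) (M : Type u)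
    [AddCommGroup M] [Module R M] [Module k M] [IsScalarTower k R M] (ℳ : ℤ → AddSubgroup M)
    [DirectSum.Decomposition ℳ] [SetLike.GradedSMul 𝒜 ℳ] [Module.Finite R M]
    (EM : GrLC.StarInjRes 𝒜 ℳ) (N : Type u) [AddCommGroup N] [Module S N] [Module k N]
    [IsScalarTower k S N] (𝒩 : ℤ → AddSubgroup N) [DirectSum.Decomposition 𝒩]
    [SetLike.GradedSMul ℬ 𝒩] [Module.Finite S N] (P : Type u) [AddCommGroup P] [Module T P]
    [Module k P] [IsScalarTower k T P] (𝒬 : ℤ → AddSubgroup P) [DirectSum.Decomposition 𝒬]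
    (φ : P →ₗ[k] TensorProduct k M N) (hP : GrSeg.IsSegreMod ψ ℳ 𝒩 𝒬 φ) [Nontrivial P] (s : ℕ)
    (h1s : 1 ≤ s) (hdM : Module.supportDim R M = 1) (hdN : Module.supportDim S N = s)
    (hMcm : (∀ (q : Ideal R) [q.IsPrime], Subsingleton (LocalizedModule q.primeCompl M) ∨
      LocCoh.IsCohenMacaulayModule (Localization.AtPrime q) (LocalizedModule q.primeCompl M)))
    (hNcm : (∀ (q : Ideal S) [q.IsPrime], Subsingleton (LocalizedModule q.primeCompl N) ∨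
      LocCoh.IsCohenMacaulayModule (Localization.AtPrime q) (LocalizedModule q.primeCompl N))) :
    (2 ≤ s → ((∀ (q : Ideal T) [q.IsPrime], Subsingleton (LocalizedModule q.primeCompl P) ∨
      LocCoh.IsCohenMacaulayModule (Localization.AtPrime q) (LocalizedModule q.primeCompl P)) ↔
      ∀ d : ℤ, EM.Hcomp mR 1 d = ⊥ ∨ 𝒩 d = ⊥)) ∧
    (s = 1 → (∀ (q : Ideal T) [q.IsPrime], Subsingleton (LocalizedModule q.primeCompl P) ∨
      LocCoh.IsCohenMacaulayModule (Localization.AtPrime q) (LocalizedModule q.primeCompl P))) := by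
  classical
  haveI : IsNoetherianRing R := Algebra.FiniteType.isNoetherianRing k R
  haveI : IsNoetherianRing S := Algebra.FiniteType.isNoetherianRing k S
  haveI : IsNoetherianRing T :=
    Groth.Agent.S18646.result k R 𝒜 hposR h0R S ℬ hposS h0S T 𝒯 ψ hT.1 hT.2
  haveI hfinP : Module.Finite T P :=
    Groth.Agent.S19747.result k R 𝒜 hposR h0R S ℬ hposS h0S T 𝒯 ψ hT M ℳ N 𝒩 P 𝒬 φ hP
  have hdM' : Module.supportDim R M = ((1 : ℕ) : WithBot ℕ∞) := by rw [hdM]; rfl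
  have hdimP : Module.supportDim T P = ((s : ℕ) : WithBot ℕ∞) := by
    rcases Groth.Agent.S19754.result k R 𝒜 hposR h0R S ℬ hposS h0S T 𝒯 ψ hT M ℳ N 𝒩 P 𝒬 φ hP 1 s
      le_rfl h1s hdM' hdN hMcm hNcm with h | h
    · rw [h]
      congr 1
      omega
    · exact absurd h (not_subsingleton P)
  -- nontriviality
  haveI : Nontrivial M := by
    rw [← Module.supportDim_ne_bot_iff_nontrivial R, hdM]
    exact WithBot.coe_ne_bot
  haveI : Nontrivial N := by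
    rw [← Module.supportDim_ne_bot_iff_nontrivial S, hdN]
    exact WithBot.coe_ne_bot
  haveI : Nontrivial R := Module.nontrivial R M
  haveI : Nontrivial S := Module.nontrivial S N
  haveI : Nontrivial T := Module.nontrivial T P
  have hT' : GrSeg.IsSegreRing ℬ 𝒜 𝒯 (swapPsi ψ) := isSegreRing_swap hT
  obtain ⟨mS, hmS⟩ := exists_irrel ℬ
  obtain ⟨mT, hmT⟩ := exists_irrel 𝒯
  have hposT : ∀ n : ℤ, n < 0 → 𝒯 n = ⊥ := Groth.Agent.Lib.Helper90.Seg.segRing_neg hT hposR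
  have h0T : 𝒯 0 = Submodule.span k {(1 : T)} :=
    Groth.Agent.Lib.Helper90.Seg.segRing_zero hT h0R h0S
  have hlocR : IsStarLocal (agr 𝒜) (idealA 𝒜 mR) :=
    Groth.Agent.Lib.Helper8.GrIrrelLocal.isStarLocal (hpos_agr 𝒜 hposR) (isField_deg0 𝒜 h0R)
      (idealA 𝒜 mR) hmR
  have hlocS : IsStarLocal (agr ℬ) (idealA ℬ mS) :=
    Groth.Agent.Lib.Helper8.GrIrrelLocal.isStarLocal (hpos_agr ℬ hposS) (isField_deg0 ℬ h0S)
      (idealA ℬ mS) hmS
  have hlocT : IsStarLocal (agr 𝒯) (idealA 𝒯 mT) :=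
    Groth.Agent.Lib.Helper8.GrIrrelLocal.isStarLocal (hpos_agr 𝒯 hposT) (isField_deg0 𝒯 h0T)
      (idealA 𝒯 mT) hmT
  haveI hmaxR : (idealA 𝒜 mR).toIdeal.IsMaximal :=
    Groth.Agent.Lib.Helper8.GrLCPieces.isMaximal_of_isStarLocal (hpos_agr 𝒜 hposR) _ hlocR
  haveI hmaxS : (idealA ℬ mS).toIdeal.IsMaximal :=
    Groth.Agent.Lib.Helper8.GrLCPieces.isMaximal_of_isStarLocal (hpos_agr ℬ hposS) _ hlocS
  haveI hmaxT : (idealA 𝒯 mT).toIdeal.IsMaximal :=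
    Groth.Agent.Lib.Helper8.GrLCPieces.isMaximal_of_isStarLocal (hpos_agr 𝒯 hposT) _ hlocT
  haveI hGQ : SetLike.GradedSMul 𝒯 𝒬 := Groth.Agent.Lib.Helper90.Seg.segMod_gradedSMul hT hP
  -- vanishing for `N`
  have hzN : ∀ q : ℕ, q < s → ∀ g' : ℤ, VanM (idealA ℬ mS) (agr 𝒩) q g' := fun q hq g' =>
    (Groth.Agent.Lib.Helper8.GrLCCompareRows.subsingleton_iff_vanM (ℳ := agr 𝒩)
      (idealA ℬ mS) q).mp
      (Groth.Agent.Lib.Helper90.SegCM5.H_vanish_of_cm (agr ℬ) (idealA ℬ mS) hlocS (agr 𝒩) s hdN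
        hNcm q hq) g'
  -- no torsion in `M`
  have hzM0 : ∀ g' : ℤ, VanM (idealA 𝒜 mR) (agr ℳ) 0 g' := fun g' =>
    (Groth.Agent.Lib.Helper8.GrLCCompareRows.subsingleton_iff_vanM (ℳ := agr ℳ)
      (idealA 𝒜 mR) 0).mp
      (Groth.Agent.Lib.Helper90.SegCM5.H_vanish_of_cm (agr 𝒜) (idealA 𝒜 mR) hlocR (agr ℳ) 1 hdM'
        hMcm 0 one_pos) g'
  have hgamM : gam (idealA 𝒜 mR).toIdeal M = ⊥ :=
    Groth.Agent.Lib.Helper8.GrLCPolyArtMain.gam_eq_bot_of_vanM (idealA 𝒜 mR) (agr ℳ) hzM0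
  have hannM : (Module.annihilator R M).IsHomogeneous (agr 𝒜) :=
    (idealA 𝒜 ⟨Module.annihilator R M,
      Groth.Agent.Lib.Helper90.Seg.annihilator_isHomogeneous 𝒜 ℳ⟩).isHomogeneous
  obtain ⟨e, he, x, hxe, hxm, hxreg, hxrad⟩ :=
    Groth.Agent.Lib.Helper8.GrSegS.exists_param_mod (agr 𝒜) (hpos_agr 𝒜 hposR) (idealA 𝒜 mR) hlocR
      (irrel_zero 𝒜 hposR mR hmR) hannM hgamM hdM
  obtain ⟨L, C, ι, π, hSES, hbij, hCt, hiff⟩ :=
    Groth.Agent.Lib.Helper8.GrSegS.exists_transform_mod' (agr 𝒜) (agr ℳ) (idealA 𝒜 mR) hxe hxm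
      hxreg hxrad
  -- the swapped Segre product
  haveI hGM : SetLike.GradedSMul 𝒜 (agr ℳ) :=
    ⟨fun {i j a b} ha hb => SetLike.GradedSMul.smul_mem (A := 𝒜) (B := ℳ) ha hb⟩
  have hPs := Groth.Agent.Lib.Helper8.GrSegM.isSegreMod_swap hP
  have hP' : GrSeg.IsSegreMod (swapPsi ψ) 𝒩 (agr ℳ) 𝒬
      ((TensorProduct.comm k M N).toLinearMap ∘ₗ φ) :=
    ⟨hPs.injective, hPs.image_piece, hPs.map_smul⟩
  obtain ⟨c0, c2, c1⟩ := Groth.Agent.Lib.Helper8.GrSegM.core' hT' 𝒩 (agr ℳ) L.gr C.gr mS mR mT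
    hmS hmR hmT ι π hSES he hxe hbij hCt s hzN
  have hcmp : ∀ (q : ℕ) (d : ℤ), VanM (idealA 𝒯 mT) (agr 𝒬) q d ↔
      VanM (idealA 𝒯 mT) (Groth.Agent.Lib.Helper8.GrSegA.seg hT' 𝒩 (agr ℳ)).gr q d :=
    fun q d => Groth.Agent.Lib.Helper8.GrSegM.vanM_cmp_iff hT' 𝒩 (agr ℳ) mT hP' q d
  have hCMof : (∀ i : ℕ, i < s → ∀ g : ℤ, VanM (idealA 𝒯 mT) (agr 𝒬) i g) →
      (∀ (q : Ideal T) [q.IsPrime], Subsingleton (LocalizedModule q.primeCompl P) ∨
        LocCoh.IsCohenMacaulayModule (Localization.AtPrime q)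
          (LocalizedModule q.primeCompl P)) := fun h q _ =>
    Groth.Agent.Lib.Helper77.GrCMC.cm_of_H_vanish (agr 𝒯) (idealA 𝒯 mT) hlocT (agr 𝒬) s hdimP
      (fun i hi => (Groth.Agent.Lib.Helper8.GrLCCompareRows.subsingleton_iff_vanM (ℳ := agr 𝒬)
        (idealA 𝒯 mT) i).mpr (h i hi)) q
  have hVanOf : (∀ (q : Ideal T) [q.IsPrime], Subsingleton (LocalizedModule q.primeCompl P) ∨
        LocCoh.IsCohenMacaulayModule (Localization.AtPrime q)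
          (LocalizedModule q.primeCompl P)) →
      ∀ i : ℕ, i < s → ∀ g : ℤ, VanM (idealA 𝒯 mT) (agr 𝒬) i g := fun hcm i hi g =>
    (Groth.Agent.Lib.Helper8.GrLCCompareRows.subsingleton_iff_vanM (ℳ := agr 𝒬)
      (idealA 𝒯 mT) i).mp
      (Groth.Agent.Lib.Helper90.SegCM5.H_vanish_of_cm (agr 𝒯) (idealA 𝒯 mT) hlocT (agr 𝒬) s hdimP
        hcm i hi) g
  have hconv : ∀ d : ℤ, (𝒩 d = ⊥ ∨ C.gr d = ⊥) ↔ (EM.Hcomp mR 1 d = ⊥ ∨ 𝒩 d = ⊥) := by
    intro d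
    rw [← hiff d, hcomp_eq_bot_iff_vanM 𝒜 ℳ EM mR 1 d, or_comm]
  refine ⟨fun h2s => ⟨fun hCM d => ?_, fun h => ?_⟩, fun hs1 => ?_⟩
  · have h1 := hVanOf hCM 1 (by omega) d
    exact (hconv d).mp ((c1 h2s d).mp ((hcmp 1 d).mp h1))
  · apply hCMof
    intro i hi g
    rw [hcmp]
    rcases Nat.lt_or_ge i 2 with hi2 | hi2
    · interval_cases i
      · exact c0 (by omega) g
      · exact (c1 h2s g).mpr ((hconv g).mpr (h g))
    · exact c2 i hi2 hi g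
  · apply hCMof
    intro i hi g
    have hi0 : i = 0 := by omega
    subst hi0
    rw [hcmp]
    exact c0 (by omega) g

end Groth.Agent.Lib.Helper8.GrSegT
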