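import Groth.Agent.Lib.Helper8.GrSyzCompare
import Groth.Agent.Lib.Helper8.GrSyzHilb
import Mathlib.LinearAlgebra.Matrix.Rank

set_option autoImplicit false
set_option linter.unusedSectionVars false
universe u

namespace Groth.Agent.Lib.Helper8.GrSyzBetti

open GrSyz DirectSum
open Groth.Agent.Lib.Helper8.GrSyzBasic Groth.Agent.Lib.Helper8.GrSyzStrand
open Groth.Agent.Lib.Helper8.GrSyzCompare

variable {k : Type u} [Field k] {r : ℕ}
variable {M : Type u} [AddCommGroup M] [Module k M] [Module (MvPolynomial (Fin (r + 1)) k) M]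
  [IsScalarTower k (MvPolynomial (Fin (r + 1)) k) M]
  {ℳ : ℤ → Submodule k M} [DirectSum.Decomposition ℳ]
  [SetLike.GradedSMul (stdGr k (Fin (r + 1))) ℳ]

theorem betti_le (F F' : FreeRes (stdGr k (Fin (r + 1))) ℳ)
    (hF : F.IsMinimal (irrel (stdGr k (Fin (r + 1)))).toIdeal) (i : ℕ) (j : ℤ) :
    F.betti i j ≤ F'.betti i j := by
  classical
  obtain ⟨f, hf1, hf2, hf3⟩ := exists_chainMap F F'
  obtain ⟨g, hg1, hg2, hg3⟩ := exists_chainMap F' F
  have hψ := entries_mem_of_lifts_zero F hF (fun i => g i * f i - 1)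
    (by
      intro x
      rw [Matrix.sub_mulVec, Matrix.one_mulVec, map_sub, ← Matrix.mulVec_mulVec, hg2, hf2,
        sub_self])
    (by
      intro i
      rw [Matrix.mul_sub, Matrix.sub_mul, Matrix.mul_one, Matrix.one_mul, ← Matrix.mul_assoc,
        hg3 i, Matrix.mul_assoc, hf3 i, Matrix.mul_assoc])
    i
  have hcc : ∀ b c : Fin (F.rk i), ∑ x : Fin (F'.rk i),
      MvPolynomial.constantCoeff (g i b x) * MvPolynomial.constantCoeff (f i x c) =
      if b = c then 1 else 0 := by
    intro b c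
    have h1 : MvPolynomial.constantCoeff ((g i * f i - 1 : Matrix _ _ _) b c) = 0 :=
      constantCoeff_eq_zero_of_mem_irrel (hψ b c)
    rw [Matrix.sub_apply, map_sub, Matrix.mul_apply, map_sum, Matrix.one_apply, sub_eq_zero] at h1
    simp_rw [map_mul] at h1
    rw [h1]
    split_ifs <;> simp
  have hzero : ∀ (b : Fin (F.rk i)) (x : Fin (F'.rk i)), F.deg i b = j → F'.deg i x ≠ j →
      MvPolynomial.constantCoeff (g i b x) = 0 := by
    intro b x hb hx
    refine constantCoeff_eq_zero_of_mem_stdGr ?_ (hg1 i b x)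
    rw [hb]
    exact sub_ne_zero.mpr hx
  let G : Matrix {b : Fin (F.rk i) // F.deg i b = j} {b' : Fin (F'.rk i) // F'.deg i b' = j} k :=
    fun b b' => MvPolynomial.constantCoeff (g i b.1 b'.1)
  let Φ : Matrix {b' : Fin (F'.rk i) // F'.deg i b' = j} {b : Fin (F.rk i) // F.deg i b = j} k :=
    fun b' b => MvPolynomial.constantCoeff (f i b'.1 b.1)
  have hGΦ : G * Φ = 1 := by
    ext b c
    rw [Matrix.mul_apply, Matrix.one_apply]
    have h2 := hcc b.1 c.1
    rw [← Finset.sum_subtype (Finset.univ.filter fun x => F'.deg i x = j) (by simp)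
      (fun x => MvPolynomial.constantCoeff (g i b.1 x) * MvPolynomial.constantCoeff (f i x c.1)),
      Finset.sum_filter]
    have h3 : ∀ x : Fin (F'.rk i), (if F'.deg i x = j then
        MvPolynomial.constantCoeff (g i b.1 x) * MvPolynomial.constantCoeff (f i x c.1) else 0) =
        MvPolynomial.constantCoeff (g i b.1 x) * MvPolynomial.constantCoeff (f i x c.1) := by
      intro x
      split_ifs with hx
      · rfl
      · rw [hzero b.1 x b.2 hx, zero_mul]
    simp_rw [h3]
    rw [h2]
    simp only [Subtype.ext_iff]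
  have hrank : (G * Φ).rank ≤ Fintype.card {b' : Fin (F'.rk i) // F'.deg i b' = j} :=
    (Matrix.rank_mul_le_left G Φ).trans (Matrix.rank_le_card_width G)
  rw [hGΦ, Matrix.rank_one] at hrank
  unfold FreeRes.betti
  rw [← Fintype.card_subtype, ← Fintype.card_subtype]
  exact hrank

theorem betti_eq (F F' : FreeRes (stdGr k (Fin (r + 1))) ℳ)
    (hF : F.IsMinimal (irrel (stdGr k (Fin (r + 1)))).toIdeal)
    (hF' : F'.IsMinimal (irrel (stdGr k (Fin (r + 1)))).toIdeal) (i : ℕ) (j : ℤ) :
    F.betti i j = F'.betti i j :=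
  le_antisymm (betti_le F F' hF i j) (betti_le F' F hF' i j)

end Groth.Agent.Lib.Helper8.GrSyzBetti
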