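import Groth.Agent.Lib.Helper8.GrLCReg
import Groth.Agent.Lib.Helper8.GrIrrelLocal
import Groth.Agent.Lib.Helper8.GrLCEulerMain
import Groth.Agent.Lib.Helper8.GrLCPolyChar
import Groth.Agent.Lib.Helper8.GrLCCompareRows
import Groth.Agent.Lib.Helper8.GrLCGV
import Groth.Agent.Lib.Helper77.GrABMain
import Groth.Agent.Lib.Helper92.LocCohDepth

/-!
# Hilbert function versus Hilbert polynomial for Cohen–Macaulay modules over a polynomial ring
-/

set_option autoImplicit false
set_option linter.unusedSectionVars false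
universe u

open DirectSum GrLC GrSyz
open Groth.Agent.Lib.Helper30
open Groth.Agent.Lib.Helper8.GrLCBase Groth.Agent.Lib.Helper8.GrLCLES
open Groth.Agent.Lib.Helper8.GrLCSub Groth.Agent.Lib.Helper8.GrLCSyz
open Groth.Agent.Lib.Helper8.GrLCPoly Groth.Agent.Lib.Helper8.GrLCReg

namespace Groth.Agent.Lib.Helper8.GrSyzCM

section Deg0

variable (k : Type u) [Field k] (r : ℕ)

theorem C_mem_deg0 (a : k) :
    (MvPolynomial.C a : MvPolynomial (Fin (r + 1)) k) ∈ deg0 (gS k r) := by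
  change MvPolynomial.C a ∈ stdGr k (Fin (r + 1)) 0
  rw [mem_stdGr_iff]
  exact MvPolynomial.isWeightedHomogeneous_C _ _

/-- The constants, as a ring map onto the degree-zero subring. -/
noncomputable def cHom : k →+* deg0 (gS k r) :=
  (MvPolynomial.C : k →+* MvPolynomial (Fin (r + 1)) k).codRestrict (deg0 (gS k r))
    (C_mem_deg0 k r)

theorem cHom_coe (a : k) : ((cHom k r a : deg0 (gS k r)) : MvPolynomial (Fin (r + 1)) k) =
    MvPolynomial.C a := rfl

theorem cHom_surjective : Function.Surjective (cHom k r) := by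
  rintro ⟨p, hp⟩
  refine ⟨MvPolynomial.constantCoeff p, ?_⟩
  apply Subtype.ext
  have hp' : p ∈ stdGr k (Fin (r + 1)) 0 := hp
  exact (Groth.Agent.Lib.Helper8.GrSyzBasic.eq_C_of_mem_stdGr_zero hp').symm

theorem isField_deg0 : IsField (deg0 (gS k r)) := by
  have hinj : Function.Injective (cHom k r) := (cHom k r).injective
  let e : k ≃+* deg0 (gS k r) := RingEquiv.ofBijective (cHom k r) ⟨hinj, cHom_surjective k r⟩
  exact e.symm.toMulEquiv.isField (Field.toIsField k)

theorem hpos_gS : ∀ n : ℤ, n < 0 → gS k r n = ⊥ := fun n hn => by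
  ext p
  change p ∈ stdGr k (Fin (r + 1)) n ↔ p ∈ (⊥ : AddSubgroup _)
  rw [Groth.Agent.Lib.Helper8.GrSyzCone.hneg_std n hn]
  simp

theorem mS_toIdeal_eq : (mS k r).toIdeal =
    Ideal.span (⋃ n ∈ Set.Ioi (0 : ℤ), (gS k r n : Set (MvPolynomial (Fin (r + 1)) k))) := by
  change Ideal.span {p | ∃ n : ℤ, 0 < n ∧ p ∈ stdGr k (Fin (r + 1)) n} = _
  congr 1
  ext p
  simp only [Set.mem_setOf_eq, Set.mem_iUnion, Set.mem_Ioi, SetLike.mem_coe, exists_prop]
  rfl

theorem isStarLocal_mS : IsStarLocal (gS k r) (mS k r) :=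
  Groth.Agent.Lib.Helper8.GrIrrelLocal.isStarLocal (hpos_gS k r) (isField_deg0 k r) (mS k r)
    (mS_toIdeal_eq k r)

theorem hstd_gS : Ideal.span (⋃ n ∈ Set.Ioi (0 : ℤ), (gS k r n : Set (MvPolynomial (Fin (r + 1)) k))) =
    Ideal.span ((gS k r 1 : AddSubgroup (MvPolynomial (Fin (r + 1)) k)) :
      Set (MvPolynomial (Fin (r + 1)) k)) := by
  rw [← mS_toIdeal_eq, irrel_eq_span_one]

theorem dim_poly : ringKrullDim (MvPolynomial (Fin (r + 1)) k) = ((r + 1 : ℕ) : WithBot ℕ∞) := by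
  rw [MvPolynomial.ringKrullDim_of_isNoetherianRing, ringKrullDim_eq_zero_of_field, zero_add,
    Nat.card_eq_fintype_card, Fintype.card_fin]

end Deg0

section Conv

variable (k : Type u) [Field k] (r : ℕ)
  (M : Type u) [AddCommGroup M] [Module k M] [Module (MvPolynomial (Fin (r + 1)) k) M]
  [IsScalarTower k (MvPolynomial (Fin (r + 1)) k) M]
  (ℳ : ℤ → Submodule k M) [DirectSum.Decomposition ℳ] [SetLike.GradedSMul (stdGr k (Fin (r + 1))) ℳ]

/-- The length of a piece over the degree-zero subring is its dimension over the field. -/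
theorem length_comp_eq (g : ℤ) :
    Module.length ↥(deg0 (gS k r)) ↥(comp (gS k r) (agr ℳ) g) =
      (Module.rank k ↥(ℳ g)).toENat := by
  letI : Algebra k (deg0 (gS k r)) := (cHom k r).toAlgebra
  letI : Module k (comp (gS k r) (agr ℳ) g) := Module.compHom _ (cHom k r)
  haveI : IsScalarTower k (deg0 (gS k r)) (comp (gS k r) (agr ℳ) g) := ⟨fun a b x => by
    change (cHom k r a * b) • x = cHom k r a • (b • x)
    rw [mul_smul]⟩
  have h1 : Module.length k (comp (gS k r) (agr ℳ) g) =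
      Module.length (deg0 (gS k r)) (comp (gS k r) (agr ℳ) g) :=
    Module.length_eq_of_surjective (cHom_surjective k r)
  let e : comp (gS k r) (agr ℳ) g ≃ₗ[k] ℳ g :=
    { toFun := fun x => ⟨x.1, x.2⟩
      invFun := fun x => ⟨x.1, x.2⟩
      map_add' := fun _ _ => rfl
      map_smul' := fun a x => by
        apply Subtype.ext
        change (MvPolynomial.C a : MvPolynomial (Fin (r + 1)) k) • (x : M) = a • (x : M)
        rw [← MvPolynomial.algebraMap_eq, algebraMap_smul]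
      left_inv := fun _ => rfl
      right_inv := fun _ => rfl }
  rw [← h1, e.length_eq, Module.length_eq_rank]

theorem hilb_eq_finrank (g : ℤ) :
    Groth.Agent.Lib.Helper8.GrLCEulerMain.hilb (gS k r) (agr ℳ) g =
      ((Module.finrank k ↥(ℳ g) : ℤ) : ℚ) := by
  unfold Groth.Agent.Lib.Helper8.GrLCEulerMain.hilb
  rw [length_comp_eq, Cardinal.toNat_toENat]
  rfl

end Conv

section Main

variable (k : Type u) [Field k] (n : ℕ)
  (M : Type u) [AddCommGroup M] [Module k M] [Module (MvPolynomial (Fin (n + 1)) k) M]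
  [IsScalarTower k (MvPolynomial (Fin (n + 1)) k) M] [Module.Finite (MvPolynomial (Fin (n + 1)) k) M]
  (ℳ : ℤ → Submodule k M) [DirectSum.Decomposition ℳ] [SetLike.GradedSMul (stdGr k (Fin (n + 1))) ℳ]

open Groth.Agent.Lib.Helper8.GrLCEulerMain in
/-- For a Cohen–Macaulay module the Hilbert function differs from the Hilbert polynomial in degree
`reg M + pd M - n - 1`. -/
theorem main
    (hCM : Module.supportDim (MvPolynomial (Fin (n + 1)) k) M =
      ((LocCoh.idealDepth (irrel (stdGr k (Fin (n + 1)))).toIdeal M : ℕ∞) : WithBot ℕ∞))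
    (F : FreeRes (stdGr k (Fin (n + 1))) ℳ)
    (hF : F.IsMinimal (irrel (stdGr k (Fin (n + 1)))).toIdeal)
    (ℓ : ℕ) (hℓ : F.HasLengthLE ℓ) (hℓ' : F.rk ℓ ≠ 0)
    (ρ : ℤ) (hρ : F.IsGenLE ρ) (hρ' : ∃ (i : ℕ) (b : Fin (F.rk i)), F.deg i b = ρ + i)
    (P : Polynomial ℚ)
    (hP : ∃ d₁ : ℤ, ∀ d : ℤ, d₁ ≤ d →
      ((Module.finrank k ↥(ℳ d) : ℤ) : ℚ) = P.eval (d : ℚ)) :
    ((Module.finrank k ↥(ℳ (ρ + ℓ - n - 1)) : ℤ) : ℚ) ≠
      P.eval ((ρ + ℓ - n - 1 : ℤ) : ℚ) := by
  classical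
  have hAB := Groth.Agent.Lib.Helper77.GrABMain.main k n M ℳ F hF ℓ hℓ hℓ'
  have hIM : (irrel (stdGr k (Fin (n + 1)))).toIdeal • (⊤ : Submodule (MvPolynomial (Fin (n + 1)) k) M)
      ≠ ⊤ := by
    intro h
    rw [Groth.Agent.Lib.Helper67.idealDepth_eq_top_of_smul_top_eq_top _ M h] at hAB
    rw [add_top] at hAB
    exact ENat.top_ne_coe _ hAB
  have hne : LocCoh.idealDepth (irrel (stdGr k (Fin (n + 1)))).toIdeal M ≠ ⊤ := by
    intro h
    rw [h, add_top] at hAB
    exact ENat.top_ne_coe _ hAB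
  obtain ⟨D, hD⟩ := ENat.ne_top_iff_exists.mp hne
  rw [← hD] at hAB hCM
  have hℓD : ℓ + D = n + 1 := by exact_mod_cast hAB
  -- vanishing below the depth
  have hlow : ∀ i : ℕ, i < D → ∀ g : ℤ, VanM (mS k n) (agr ℳ) i g := by
    intro i hi
    have h1 := ((Groth.Agent.Lib.Helper92.LC.idealDepth_eq_iff
      (irrel (stdGr k (Fin (n + 1)))).toIdeal M hIM D).mp hD.symm).1 i hi
    exact (Groth.Agent.Lib.Helper8.GrLCCompareRows.subsingleton_iff_vanM (mS k n) i).mp h1
  -- vanishing above the dimension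
  have hdim : ringKrullDim (MvPolynomial (Fin (n + 1)) k ⧸
      Module.annihilator (MvPolynomial (Fin (n + 1)) k) M) = ((D : ℕ∞) : WithBot ℕ∞) := by
    rw [← Module.supportDim_eq_ringKrullDim_quotient_annihilator, hCM]
  have hhigh : ∀ i : ℕ, D < i → ∀ g : ℤ, VanM (mS k n) (agr ℳ) i g := by
    intro i hi g
    have hX : Module.Finite (MvPolynomial (Fin (n + 1)) k) (XA (stdGr k (Fin (n + 1))) ℳ).carrier :=
      (inferInstance : Module.Finite (MvPolynomial (Fin (n + 1)) k) M)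
    refine Groth.Agent.Lib.Helper8.GrLCGV.grothendieck_vanishing (mS k n)
      (XA (stdGr k (Fin (n + 1))) ℳ) hX i ?_ g
    change ringKrullDim (MvPolynomial (Fin (n + 1)) k ⧸
      Module.annihilator (MvPolynomial (Fin (n + 1)) k) M) < _
    rw [hdim]
    exact_mod_cast hi
  -- non-vanishing at the corner
  have hcorner : ¬ VanM (mS k n) (agr ℳ) D (ρ - D) := by
    intro hv
    have hreg : RegH k n M ℳ (ρ - 1) := by
      intro i g hg
      rcases lt_trichotomy i D with h | h | h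
      · exact hlow i h g
      · subst h
        by_cases hgg : g = ρ - (i : ℤ)
        · rw [hgg]
          exact hv
        · exact regH_of_isGenLE k n M ℳ F hF ρ hρ i g (by omega)
      · exact hhigh i h g
    have hgen := isGenLE_of_regH k n M ℳ F hF (ρ - 1) hreg
    obtain ⟨i, b, hb⟩ := hρ'
    have := hgen i b
    omega
  -- Serre's formula
  haveI : IsArtinianRing ↥(deg0 (gS k n)) :=
    Groth.Agent.Lib.Helper8.GrLCPolyChar.isArtinianRing_deg0 (isField_deg0 k n)
  let E : StarInjRes (gS k n) (agr ℳ) := starInjRes (gS k n) (agr ℳ)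
  have hP' : ∃ N : ℤ, ∀ d : ℤ, N ≤ d → P.eval (d : ℚ) = hilb (gS k n) (agr ℳ) d := by
    obtain ⟨d₁, hd₁⟩ := hP
    refine ⟨d₁, fun d hd => ?_⟩
    rw [hilb_eq_finrank, hd₁ d hd]
  have hS := serre_formula (hpos_gS k n) (hstd_gS k n) (mS k n) (isStarLocal_mS k n) (n + 1)
    (dim_poly k n) (agr ℳ) E P hP' (ρ - D)
  have hchi : chiE (mS k n) (n + 1) E (ρ - D) =
      (-1 : ℚ) ^ D * ((Module.length ↥(deg0 (gS k n)) ↥(E.Hcomp (mS k n) D (ρ - D))).toNat : ℚ) := by
    unfold chiE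
    apply Finset.sum_eq_single D
    · intro i _ hi
      have hv : VanM (mS k n) (agr ℳ) i (ρ - D) := by
        rcases lt_or_gt_of_ne hi with h | h
        · exact hlow i h _
        · exact hhigh i h _
      rw [Groth.Agent.Lib.Helper8.GrLCEulerInv.length_eq_zero_of_vanM E (mS k n) i (ρ - D) hv]
      simp
    · intro h
      exfalso
      apply h
      rw [Finset.mem_range]
      omega
  have hlen0 : Module.length ↥(deg0 (gS k n)) ↥(E.Hcomp (mS k n) D (ρ - D)) ≠ 0 := by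
    intro h0
    rw [Module.length_eq_zero_iff] at h0
    apply hcorner
    rw [vanM_iff_hcomp (mS k n) E]
    rw [eq_bot_iff]
    intro x hx
    have := Subsingleton.elim (⟨x, hx⟩ : ↥(E.Hcomp (mS k n) D (ρ - D))) 0
    rw [Submodule.mem_bot]
    exact congrArg Subtype.val this
  have hlenT : Module.length ↥(deg0 (gS k n)) ↥(E.Hcomp (mS k n) D (ρ - D)) ≠ ⊤ :=
    fin_H (hpos_gS k n) (mS k n) (isStarLocal_mS k n) (agr ℳ) E D (ρ - D)
  have hnat : (Module.length ↥(deg0 (gS k n)) ↥(E.Hcomp (mS k n) D (ρ - D))).toNat ≠ 0 := by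
    intro h
    rcases (ENat.toNat_eq_zero.mp h) with h | h
    · exact hlen0 h
    · exact hlenT h
  have hdeg : ρ + (ℓ : ℤ) - (n : ℤ) - 1 = ρ - (D : ℤ) := by
    have : (ℓ : ℤ) + (D : ℤ) = (n : ℤ) + 1 := by exact_mod_cast hℓD
    omega
  rw [hdeg, ← hilb_eq_finrank k n M ℳ (ρ - D)]
  intro hcon
  rw [hcon, sub_self, hchi] at hS
  have h1 : ((-1 : ℚ) ^ D) ≠ 0 := pow_ne_zero _ (by norm_num)
  have h2 : (((Module.length ↥(deg0 (gS k n)) ↥(E.Hcomp (mS k n) D (ρ - D))).toNat : ℕ) : ℚ) ≠ 0 := by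
    exact_mod_cast hnat
  exact mul_ne_zero h1 h2 hS.symm

end Main

end Groth.Agent.Lib.Helper8.GrSyzCM
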