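import Groth.Agent.Lib.Helper8.GrSyzCompare
import Groth.Agent.Lib.Helper8.GrSyzHilb
import Groth.Agent.Lib.Helper8.GrSyzMin

set_option autoImplicit false
set_option linter.unusedSectionVars false
universe u

namespace Groth.Agent.Lib.Helper8.GrSyzCone

open GrSyz DirectSum
open Groth.Agent.Lib.Helper8.GrSyzBasic Groth.Agent.Lib.Helper8.GrSyzStrand
open Groth.Agent.Lib.Helper8.GrSyzCompare

variable {k R : Type u} [Field k] [CommRing R] [Algebra k R] {𝒜 : ℤ → Submodule k R}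
  [GradedAlgebra 𝒜]
variable {M : Type u} [AddCommGroup M] [Module k M] [Module R M] [IsScalarTower k R M]
  {ℳ : ℤ → Submodule k M} [DirectSum.Decomposition ℳ] [SetLike.GradedSMul 𝒜 ℳ]
variable {N : Type u} [AddCommGroup N] [Module k N] [Module R N] [IsScalarTower k R N]
  {𝒩 : ℤ → Submodule k N} [DirectSum.Decomposition 𝒩] [SetLike.GradedSMul 𝒜 𝒩]

section ChainMapOver

variable (F : FreeRes 𝒜 ℳ) (F' : FreeRes 𝒜 𝒩) (f : M →ₗ[R] N)

structure CMf (i : ℕ) : Type u where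
  φ : Matrix (Fin (F'.rk i)) (Fin (F.rk i)) R
  homog : ∀ b' b, φ b' b ∈ 𝒜 (F.deg i b - F'.deg i b')
  cyc : ∀ x, IsCycle F i x → IsCycle F' i (φ.mulVec x)

theorem exists_cmf0 (hf : ∀ g m, m ∈ ℳ g → f m ∈ 𝒩 g) : ∃ s : CMf F F' 0,
    ∀ x, Fintype.linearCombination R F'.aug (s.φ.mulVec x) =
      f (Fintype.linearCombination R F.aug x) := by
  have h : ∀ b : Fin (F.rk 0), ∃ v ∈ homVec 𝒜 (F'.deg 0) (F.deg 0 b),
      Fintype.linearCombination R F'.aug v = f (F.aug b) := by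
    intro b
    obtain ⟨v, hv⟩ := augStr_surjective F' (F.deg 0 b) ⟨f (F.aug b), hf _ _ (F.aug_mem b)⟩
    exact ⟨v.1, v.2, congrArg Subtype.val hv⟩
  choose v hv1 hv2 using h
  have hcompat : ∀ x, Fintype.linearCombination R F'.aug
      ((Matrix.of fun b' b => v b b').mulVec x) = f (Fintype.linearCombination R F.aug x) := by
    intro x
    have e : (Matrix.of fun b' b => v b b').mulVec x = ∑ b, x b • v b := by
      funext a
      simp [Matrix.mulVec, dotProduct, Finset.sum_apply, mul_comm]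
    rw [e, map_sum, Fintype.linearCombination_apply, map_sum]
    apply Finset.sum_congr rfl
    intro b _
    rw [map_smul, hv2, map_smul]
  refine ⟨⟨Matrix.of fun b' b => v b b', fun b' b => (mem_homVec 𝒜).1 (hv1 b) b', ?_⟩, hcompat⟩
  intro x hx
  change Fintype.linearCombination R F'.aug _ = 0
  rw [hcompat]
  have hx' : Fintype.linearCombination R F.aug x = 0 := hx
  rw [hx', map_zero]

theorem exists_cmf_succ (i : ℕ) (s : CMf F F' i) :
    ∃ s' : CMf F F' (i + 1), F'.d i * s'.φ = s.φ * F.d i := by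
  have hW : ∀ a c, (s.φ * F.d i) a c ∈ 𝒜 (F.deg (i + 1) c - F'.deg i a) := by
    intro a c
    rw [Matrix.mul_apply]
    refine Submodule.sum_mem _ fun b _ => ?_
    have h := SetLike.mul_mem_graded (s.homog a b) (F.d_mem i b c)
    have e : F.deg i b - F'.deg i a + (F.deg (i + 1) c - F.deg i b) =
        F.deg (i + 1) c - F'.deg i a := by ring
    rw [e] at h
    exact h
  have hc : ∀ c, IsCycle F' i ((s.φ * F.d i).col c) := by
    intro c
    have e : (s.φ * F.d i).col c = s.φ.mulVec ((F.d i).mulVec (Pi.single c 1)) := by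
      rw [Matrix.mulVec_mulVec, Matrix.mulVec_single_one]
    rw [e]
    exact s.cyc _ (isCycle_d F i _)
  obtain ⟨V, hV1, hV2⟩ := exists_matrix_lift F' i (F.deg (i + 1)) (s.φ * F.d i) hW hc
  refine ⟨⟨V, hV1, ?_⟩, hV2⟩
  intro x hx
  change (F'.d i).mulVec (V.mulVec x) = 0
  rw [Matrix.mulVec_mulVec, hV2, ← Matrix.mulVec_mulVec]
  have hx' : (F.d i).mulVec x = 0 := hx
  rw [hx', Matrix.mulVec_zero]

structure CMfNext (i : ℕ) (s : CMf F F' i) : Type u where
  s' : CMf F F' (i + 1)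
  comm : F'.d i * s'.φ = s.φ * F.d i

noncomputable def cmfNext (i : ℕ) (s : CMf F F' i) : CMfNext F F' i s :=
  Classical.choice (by
    obtain ⟨s', h⟩ := exists_cmf_succ F F' i s
    exact ⟨⟨s', h⟩⟩)

noncomputable def cmfSeq (s0 : CMf F F' 0) : (i : ℕ) → CMf F F' i
  | 0 => s0
  | i + 1 => (cmfNext F F' i (cmfSeq s0 i)).s'

theorem exists_chainMap_over (hf : ∀ g m, m ∈ ℳ g → f m ∈ 𝒩 g) :
    ∃ φ : (i : ℕ) → Matrix (Fin (F'.rk i)) (Fin (F.rk i)) R,
    (∀ i b' b, φ i b' b ∈ 𝒜 (F.deg i b - F'.deg i b')) ∧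
    (∀ x, Fintype.linearCombination R F'.aug ((φ 0).mulVec x) =
      f (Fintype.linearCombination R F.aug x)) ∧
    ∀ i, F'.d i * φ (i + 1) = φ i * F.d i := by
  obtain ⟨s0, h0⟩ := exists_cmf0 F F' f hf
  refine ⟨fun i => (cmfSeq F F' s0 i).φ, fun i => (cmfSeq F F' s0 i).homog, h0, fun i => ?_⟩
  exact (cmfNext F F' i (cmfSeq F F' s0 i)).comm

end ChainMapOver

section Cone

variable {L : Type u} [AddCommGroup L] [Module k L] [Module R L] [IsScalarTower k R L]
  {ℒ : ℤ → Submodule k L} [DirectSum.Decomposition ℒ] [SetLike.GradedSMul 𝒜 ℒ]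

theorem row_mulVec {a m n : ℕ} (A : Matrix (Fin a) (Fin m) R) (B : Matrix (Fin a) (Fin n) R)
    (y : Fin m → R) (z : Fin n → R) :
    (Matrix.of fun x => Fin.append (fun b => A x b) (fun c => B x c) :
      Matrix (Fin a) (Fin (m + n)) R).mulVec (Fin.append y z) = A.mulVec y + B.mulVec z := by
  funext x
  simp only [Matrix.mulVec, dotProduct, Fin.sum_univ_add, Matrix.of_apply, Fin.append_left,
    Fin.append_right, Pi.add_apply]

theorem block_mulVec {a1 a2 m n : ℕ} (A : Matrix (Fin a1) (Fin m) R)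
    (C : Matrix (Fin a2) (Fin m) R) (D : Matrix (Fin a2) (Fin n) R)
    (y : Fin m → R) (z : Fin n → R) :
    (Matrix.of (Fin.append (fun x1 => Fin.append (fun c1 => -A x1 c1) (fun _ => 0))
      (fun x2 => Fin.append (fun c1 => C x2 c1) (fun c2 => D x2 c2))) :
      Matrix (Fin (a1 + a2)) (Fin (m + n)) R).mulVec (Fin.append y z) =
      Fin.append (-(A.mulVec y)) (C.mulVec y + D.mulVec z) := by
  funext x
  refine Fin.addCases (fun x1 => ?_) (fun x2 => ?_) x
  · simp only [Matrix.mulVec, dotProduct, Fin.sum_univ_add, Matrix.of_apply, Fin.append_left,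
      Fin.append_right, Pi.neg_apply, zero_mul, Finset.sum_const_zero, add_zero, neg_mul,
      Finset.sum_neg_distrib]
  · simp only [Matrix.mulVec, dotProduct, Fin.sum_univ_add, Matrix.of_apply, Fin.append_left,
      Fin.append_right, Pi.add_apply]

@[reducible] def coneRk (a b : ℕ → ℕ) : ℕ → ℕ
  | 0 => b 0
  | n + 1 => a n + b (n + 1)

variable (F : FreeRes 𝒜 ℳ) (F' : FreeRes 𝒜 𝒩)

def coneDeg : (i : ℕ) → Fin (coneRk F.rk F'.rk i) → ℤ
  | 0 => F'.deg 0
  | n + 1 => Fin.append (F.deg n) (F'.deg (n + 1))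

variable (φ : (i : ℕ) → Matrix (Fin (F'.rk i)) (Fin (F.rk i)) R)

def coneD : (i : ℕ) → Matrix (Fin (coneRk F.rk F'.rk i)) (Fin (coneRk F.rk F'.rk (i + 1))) R
  | 0 => Matrix.of fun a => Fin.append (fun b => φ 0 a b) (fun c => F'.d 0 a c)
  | n + 1 => Matrix.of (Fin.append
      (fun a1 => Fin.append (fun c1 => -F.d n a1 c1) (fun _ => 0))
      (fun a2 => Fin.append (fun c1 => φ (n + 1) a2 c1) (fun c2 => F'.d (n + 1) a2 c2)))

theorem coneD_zero_mulVec (y : Fin (F.rk 0) → R) (z : Fin (F'.rk 1) → R) :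
    (coneD F F' φ 0).mulVec (Fin.append y z) = (φ 0).mulVec y + (F'.d 0).mulVec z :=
  row_mulVec (φ 0) (F'.d 0) y z

theorem coneD_succ_mulVec (n : ℕ) (y : Fin (F.rk (n + 1)) → R) (z : Fin (F'.rk (n + 2)) → R) :
    (coneD F F' φ (n + 1)).mulVec (Fin.append y z) =
      Fin.append (-(F.d n).mulVec y) ((φ (n + 1)).mulVec y + (F'.d (n + 1)).mulVec z) :=
  block_mulVec (F.d n) (φ (n + 1)) (F'.d (n + 1)) y z

theorem coneD_zero_left (a : Fin (F'.rk 0)) (b : Fin (F.rk 0)) :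
    coneD F F' φ 0 a (Fin.castAdd (F'.rk (0 + 1)) b) = φ 0 a b := by
  simp only [coneD, Matrix.of_apply, Fin.append_left]

theorem coneD_zero_right (a : Fin (F'.rk 0)) (c : Fin (F'.rk (0 + 1))) :
    coneD F F' φ 0 a (Fin.natAdd (F.rk 0) c) = F'.d 0 a c := by
  simp only [coneD, Matrix.of_apply, Fin.append_right]

theorem coneD_succ_ll (n : ℕ) (a : Fin (F.rk n)) (c : Fin (F.rk (n + 1))) :
    coneD F F' φ (n + 1) (Fin.castAdd (F'.rk (n + 1)) a) (Fin.castAdd (F'.rk (n + 1 + 1)) c) =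
      -F.d n a c := by
  simp only [coneD, Matrix.of_apply, Fin.append_left]

theorem coneD_succ_lr (n : ℕ) (a : Fin (F.rk n)) (c : Fin (F'.rk (n + 1 + 1))) :
    coneD F F' φ (n + 1) (Fin.castAdd (F'.rk (n + 1)) a) (Fin.natAdd (F.rk (n + 1)) c) = 0 := by
  simp only [coneD, Matrix.of_apply, Fin.append_left, Fin.append_right]

theorem coneD_succ_rl (n : ℕ) (a : Fin (F'.rk (n + 1))) (c : Fin (F.rk (n + 1))) :
    coneD F F' φ (n + 1) (Fin.natAdd (F.rk n) a) (Fin.castAdd (F'.rk (n + 1 + 1)) c) =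
      φ (n + 1) a c := by
  simp only [coneD, Matrix.of_apply, Fin.append_left, Fin.append_right]

theorem coneD_succ_rr (n : ℕ) (a : Fin (F'.rk (n + 1))) (c : Fin (F'.rk (n + 1 + 1))) :
    coneD F F' φ (n + 1) (Fin.natAdd (F.rk n) a) (Fin.natAdd (F.rk (n + 1)) c) =
      F'.d (n + 1) a c := by
  simp only [coneD, Matrix.of_apply, Fin.append_right]

theorem coneDeg_succ_left (n : ℕ) (b : Fin (F.rk n)) :
    coneDeg F F' (n + 1) (Fin.castAdd (F'.rk (n + 1)) b) = F.deg n b := by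
  simp only [coneDeg, Fin.append_left]

theorem coneDeg_succ_right (n : ℕ) (b : Fin (F'.rk (n + 1))) :
    coneDeg F F' (n + 1) (Fin.natAdd (F.rk n) b) = F'.deg (n + 1) b := by
  simp only [coneDeg, Fin.append_right]

theorem append_eq_iff {α : Type*} {m n : ℕ} {y y' : Fin m → α} {z z' : Fin n → α} :
    Fin.append y z = Fin.append y' z' ↔ y = y' ∧ z = z' := by
  constructor
  · intro h
    refine ⟨funext fun i => ?_, funext fun j => ?_⟩
    · have := congrFun h (Fin.castAdd n i)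
      rwa [Fin.append_left, Fin.append_left] at this
    · have := congrFun h (Fin.natAdd m j)
      rwa [Fin.append_right, Fin.append_right] at this
  · rintro ⟨rfl, rfl⟩
    rfl

theorem exists_append {α : Type*} {m n : ℕ} (v : Fin (m + n) → α) :
    ∃ (y : Fin m → α) (z : Fin n → α), v = Fin.append y z :=
  ⟨_, _, Fin.append_castAdd_natAdd.symm⟩

theorem append_eq_zero_iff {m n : ℕ} {y : Fin m → R} {z : Fin n → R} :
    Fin.append y z = 0 ↔ y = 0 ∧ z = 0 := by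
  have h0 : (0 : Fin (m + n) → R) = Fin.append (0 : Fin m → R) (0 : Fin n → R) := by
    funext x
    refine Fin.addCases (fun x1 => ?_) (fun x2 => ?_) x
    · rw [Fin.append_left]; rfl
    · rw [Fin.append_right]; rfl
  rw [h0, append_eq_iff]

variable (f : M →ₗ[R] N) (g : N →ₗ[R] L)

theorem lc_comp (x : Fin (F'.rk 0) → R) :
    Fintype.linearCombination R (fun b => g (F'.aug b)) x =
      g (Fintype.linearCombination R F'.aug x) := by
  rw [Fintype.linearCombination_apply, Fintype.linearCombination_apply, map_sum]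
  exact Finset.sum_congr rfl fun b _ => (map_smul g _ _).symm

variable {F F' φ f g}

theorem cone_d_mem (hφ : ∀ i b' b, φ i b' b ∈ 𝒜 (F.deg i b - F'.deg i b')) (i : ℕ)
    (a : Fin (coneRk F.rk F'.rk i)) (b : Fin (coneRk F.rk F'.rk (i + 1))) :
    coneD F F' φ i a b ∈ 𝒜 (coneDeg F F' (i + 1) b - coneDeg F F' i a) := by
  cases i with
  | zero =>
    revert b
    refine Fin.addCases (fun b1 => ?_) (fun b2 => ?_)
    · simp only [coneD, coneDeg, Matrix.of_apply, Fin.append_left]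
      exact hφ 0 a b1
    · simp only [coneD, coneDeg, Matrix.of_apply, Fin.append_right]
      exact F'.d_mem 0 a b2
  | succ n =>
    revert a b
    refine Fin.addCases (fun a1 => ?_) (fun a2 => ?_)
    · refine Fin.addCases (fun b1 => ?_) (fun b2 => ?_)
      · simp only [coneD, coneDeg, Matrix.of_apply, Fin.append_left]
        exact neg_mem (F.d_mem n a1 b1)
      · simp only [coneD, coneDeg, Matrix.of_apply, Fin.append_left, Fin.append_right]
        exact zero_mem _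
    · refine Fin.addCases (fun b1 => ?_) (fun b2 => ?_)
      · simp only [coneD, coneDeg, Matrix.of_apply, Fin.append_left, Fin.append_right]
        exact hφ (n + 1) a2 b1
      · simp only [coneD, coneDeg, Matrix.of_apply, Fin.append_right]
        exact F'.d_mem (n + 1) a2 b2

theorem cone_exact_zero (hgf : LinearMap.range f = LinearMap.ker g)
    (hφ0 : ∀ x, Fintype.linearCombination R F'.aug ((φ 0).mulVec x) =
      f (Fintype.linearCombination R F.aug x)) :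
    LinearMap.ker (Fintype.linearCombination R (fun b => g (F'.aug b))) =
      LinearMap.range (Matrix.mulVecLin (coneD F F' φ 0)) := by
  ext x
  rw [LinearMap.mem_ker, lc_comp, LinearMap.mem_range]
  constructor
  · intro hx
    have h1 : Fintype.linearCombination R F'.aug x ∈ LinearMap.range f := by
      rw [hgf]; exact hx
    obtain ⟨m, hm⟩ := h1
    obtain ⟨y, hy⟩ := F.aug_surjective m
    have h2 : x - (φ 0).mulVec y ∈ LinearMap.ker (Fintype.linearCombination R F'.aug) := by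
      rw [LinearMap.mem_ker, map_sub, hφ0, hy, hm, sub_self]
    rw [F'.exact_zero] at h2
    obtain ⟨z, hz⟩ := h2
    refine ⟨Fin.append y z, ?_⟩
    rw [Matrix.mulVecLin_apply, coneD_zero_mulVec]
    rw [Matrix.mulVecLin_apply] at hz
    rw [hz]; abel
  · rintro ⟨v, rfl⟩
    obtain ⟨y, z, rfl⟩ := exists_append v
    rw [Matrix.mulVecLin_apply, coneD_zero_mulVec, map_add, hφ0, aug_d, add_zero]
    have : f (Fintype.linearCombination R F.aug y) ∈ LinearMap.ker g := by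
      rw [← hgf]; exact ⟨_, rfl⟩
    exact this

theorem cone_exact_one (hf : Function.Injective f)
    (hφ0 : ∀ x, Fintype.linearCombination R F'.aug ((φ 0).mulVec x) =
      f (Fintype.linearCombination R F.aug x))
    (hφc : ∀ i, F'.d i * φ (i + 1) = φ i * F.d i) :
    LinearMap.ker (Matrix.mulVecLin (coneD F F' φ 0)) =
      LinearMap.range (Matrix.mulVecLin (coneD F F' φ (0 + 1))) := by
  ext v
  obtain ⟨y, z, rfl⟩ := exists_append v
  rw [LinearMap.mem_ker, Matrix.mulVecLin_apply, coneD_zero_mulVec, LinearMap.mem_range]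
  constructor
  · intro h
    have h1 : Fintype.linearCombination R F.aug y = 0 := by
      apply hf
      rw [map_zero, ← hφ0]
      have : (φ 0).mulVec y = -(F'.d 0).mulVec z := eq_neg_of_add_eq_zero_left h
      rw [this, map_neg, aug_d, neg_zero]
    have h2 : y ∈ LinearMap.ker (Fintype.linearCombination R F.aug) := h1
    rw [F.exact_zero] at h2
    obtain ⟨y', hy'⟩ := h2
    rw [Matrix.mulVecLin_apply] at hy'
    have h3 : (φ (0 + 1)).mulVec y' + z ∈ LinearMap.ker (Matrix.mulVecLin (F'.d 0)) := by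
      rw [LinearMap.mem_ker, Matrix.mulVecLin_apply, Matrix.mulVec_add, Matrix.mulVec_mulVec,
        hφc 0, ← Matrix.mulVec_mulVec, hy']
      exact h
    rw [F'.exact_succ 0] at h3
    obtain ⟨z', hz'⟩ := h3
    rw [Matrix.mulVecLin_apply] at hz'
    refine ⟨Fin.append (-y') z', ?_⟩
    rw [Matrix.mulVecLin_apply, coneD_succ_mulVec, append_eq_iff]
    refine ⟨?_, ?_⟩
    · rw [Matrix.mulVec_neg, neg_neg, hy']
    · rw [Matrix.mulVec_neg, hz']; abel
  · rintro ⟨w, hw⟩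
    obtain ⟨y', z', rfl⟩ := exists_append w
    rw [Matrix.mulVecLin_apply, coneD_succ_mulVec, append_eq_iff] at hw
    obtain ⟨hw1, hw2⟩ := hw
    rw [← hw1, ← hw2, Matrix.mulVec_neg, Matrix.mulVec_add, Matrix.mulVec_mulVec,
      Matrix.mulVec_mulVec, Matrix.mulVec_mulVec, ← hφc 0, d_mul_d, Matrix.zero_mulVec, add_zero,
      neg_add_cancel]

theorem cone_exact_succ (hφc : ∀ i, F'.d i * φ (i + 1) = φ i * F.d i) (n : ℕ) :
    LinearMap.ker (Matrix.mulVecLin (coneD F F' φ (n + 1))) =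
      LinearMap.range (Matrix.mulVecLin (coneD F F' φ (n + 1 + 1))) := by
  ext v
  obtain ⟨y, z, rfl⟩ := exists_append v
  rw [LinearMap.mem_ker, Matrix.mulVecLin_apply, coneD_succ_mulVec, LinearMap.mem_range,
    append_eq_zero_iff]
  constructor
  · rintro ⟨h1, h⟩
    have h2 : y ∈ LinearMap.ker (Matrix.mulVecLin (F.d n)) := by
      rw [LinearMap.mem_ker, Matrix.mulVecLin_apply]
      exact neg_eq_zero.mp h1
    rw [F.exact_succ n] at h2
    obtain ⟨y', hy'⟩ := h2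
    rw [Matrix.mulVecLin_apply] at hy'
    have h3 : (φ (n + 1 + 1)).mulVec y' + z ∈ LinearMap.ker (Matrix.mulVecLin (F'.d (n + 1))) := by
      rw [LinearMap.mem_ker, Matrix.mulVecLin_apply, Matrix.mulVec_add, Matrix.mulVec_mulVec,
        hφc (n + 1), ← Matrix.mulVec_mulVec, hy']
      exact h
    rw [F'.exact_succ (n + 1)] at h3
    obtain ⟨z', hz'⟩ := h3
    rw [Matrix.mulVecLin_apply] at hz'
    refine ⟨Fin.append (-y') z', ?_⟩
    rw [Matrix.mulVecLin_apply, coneD_succ_mulVec, append_eq_iff]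
    refine ⟨?_, ?_⟩
    · rw [Matrix.mulVec_neg, neg_neg, hy']
    · rw [Matrix.mulVec_neg, hz']; abel
  · rintro ⟨w, hw⟩
    obtain ⟨y', z', rfl⟩ := exists_append w
    rw [Matrix.mulVecLin_apply, coneD_succ_mulVec, append_eq_iff] at hw
    obtain ⟨hw1, hw2⟩ := hw
    refine ⟨?_, ?_⟩
    · rw [← hw1, Matrix.mulVec_neg, d_mulVec_d, neg_zero, neg_zero]
    · rw [← hw1, ← hw2, Matrix.mulVec_neg, Matrix.mulVec_add, Matrix.mulVec_mulVec,
        Matrix.mulVec_mulVec, Matrix.mulVec_mulVec, ← hφc (n + 1), d_mul_d, Matrix.zero_mulVec,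
        add_zero, neg_add_cancel]

variable (F F' φ f g) in
def cone (hf : Function.Injective f) (hg : Function.Surjective g)
    (hgf : LinearMap.range f = LinearMap.ker g) (hggr : ∀ d m, m ∈ 𝒩 d → g m ∈ ℒ d)
    (hφ : ∀ i b' b, φ i b' b ∈ 𝒜 (F.deg i b - F'.deg i b'))
    (hφ0 : ∀ x, Fintype.linearCombination R F'.aug ((φ 0).mulVec x) =
      f (Fintype.linearCombination R F.aug x))
    (hφc : ∀ i, F'.d i * φ (i + 1) = φ i * F.d i) : FreeRes 𝒜 ℒ where
  rk := coneRk F.rk F'.rk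
  deg := coneDeg F F'
  d := coneD F F' φ
  aug := fun b => g (F'.aug b)
  d_mem := cone_d_mem hφ
  aug_mem := fun b => hggr _ _ (F'.aug_mem b)
  aug_surjective := by
    intro l
    obtain ⟨m, rfl⟩ := hg l
    obtain ⟨x, rfl⟩ := F'.aug_surjective m
    exact ⟨x, lc_comp F' g x⟩
  exact_zero := cone_exact_zero hgf hφ0
  exact_succ := fun i => by
    cases i with
    | zero => exact cone_exact_one hf hφ0 hφc
    | succ n => exact cone_exact_succ hφc n

end Cone

section Homotopy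

variable (F : FreeRes 𝒜 ℳ)
  (ψ : (i : ℕ) → Matrix (Fin (F.rk i)) (Fin (F.rk i)) R)

theorem homotopy_zero
    (h0 : ∀ x, Fintype.linearCombination R F.aug ((ψ 0).mulVec x) = 0) :
    ∃ h : Matrix (Fin (F.rk (0 + 1))) (Fin (F.rk 0)) R, F.d 0 * h = ψ 0 := by
  have hcyc : ∀ c, IsCycle F 0 ((ψ 0).col c) := by
    intro c
    have e : (ψ 0).col c = (ψ 0).mulVec (Pi.single c 1) := by
      rw [Matrix.mulVec_single_one]
    rw [e]
    exact h0 _
  exact exists_matrix_lift_ungraded F 0 (ψ 0) hcyc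

theorem homotopy_step (hc : ∀ i, F.d i * ψ (i + 1) = ψ i * F.d i) (i : ℕ)
    (h : Matrix (Fin (F.rk (i + 1))) (Fin (F.rk i)) R)
    (hh1 : (F.d i * h - ψ i) * F.d i = 0) :
    ∃ h' : Matrix (Fin (F.rk (i + 1 + 1))) (Fin (F.rk (i + 1))) R,
      ψ (i + 1) = F.d (i + 1) * h' + h * F.d i ∧
      (F.d (i + 1) * h' - ψ (i + 1)) * F.d (i + 1) = 0 := by
  have hcyc : ∀ c, IsCycle F (i + 1) ((ψ (i + 1) - h * F.d i).col c) := by
    intro c
    have e : (ψ (i + 1) - h * F.d i).col c =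
        (ψ (i + 1) - h * F.d i).mulVec (Pi.single c 1) := by
      rw [Matrix.mulVec_single_one]
    rw [e]
    change (F.d i).mulVec _ = 0
    rw [Matrix.mulVec_mulVec, Matrix.mul_sub, hc i, ← Matrix.mul_assoc]
    have : ψ i * F.d i - F.d i * h * F.d i = -((F.d i * h - ψ i) * F.d i) := by
      rw [Matrix.sub_mul]; abel
    rw [this, hh1, neg_zero, Matrix.zero_mulVec]
  obtain ⟨h', hh'⟩ := exists_matrix_lift_ungraded F (i + 1) (ψ (i + 1) - h * F.d i) hcyc
  have hψ : ψ (i + 1) = F.d (i + 1) * h' + h * F.d i := by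
    rw [hh']; abel
  refine ⟨h', hψ, ?_⟩
  have : F.d (i + 1) * h' - ψ (i + 1) = -(h * F.d i) := by
    rw [hψ]; abel
  rw [this, Matrix.neg_mul, Matrix.mul_assoc, d_mul_d, Matrix.mul_zero, neg_zero]

theorem homotopy_exists
    (h0 : ∀ x, Fintype.linearCombination R F.aug ((ψ 0).mulVec x) = 0)
    (hc : ∀ i, F.d i * ψ (i + 1) = ψ i * F.d i) (i : ℕ) :
    ∃ h : Matrix (Fin (F.rk (i + 1))) (Fin (F.rk i)) R, (F.d i * h - ψ i) * F.d i = 0 := by
  induction i with
  | zero =>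
    obtain ⟨h, hh⟩ := homotopy_zero F ψ h0
    exact ⟨h, by rw [hh, sub_self, Matrix.zero_mul]⟩
  | succ i ih =>
    obtain ⟨h, hh⟩ := ih
    obtain ⟨h', -, hh'⟩ := homotopy_step F ψ hc i h hh
    exact ⟨h', hh'⟩

theorem homotopy_succ
    (h0 : ∀ x, Fintype.linearCombination R F.aug ((ψ 0).mulVec x) = 0)
    (hc : ∀ i, F.d i * ψ (i + 1) = ψ i * F.d i) (i : ℕ) :
    ∃ (h' : Matrix (Fin (F.rk (i + 1 + 1))) (Fin (F.rk (i + 1))) R)
      (h : Matrix (Fin (F.rk (i + 1))) (Fin (F.rk i)) R),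
      ψ (i + 1) = F.d (i + 1) * h' + h * F.d i := by
  obtain ⟨h, hh⟩ := homotopy_exists F ψ h0 hc i
  obtain ⟨h', hh', -⟩ := homotopy_step F ψ hc i h hh
  exact ⟨h', h, hh'⟩

end Homotopy

section LocalMin

variable {𝔪 : Ideal R} (hneg : ∀ n : ℤ, n < 0 → 𝒜 n = ⊥)
  (hpos : ∀ n : ℤ, 0 < n → ∀ x ∈ 𝒜 n, x ∈ 𝔪) (h1 : (1 : R) ∉ 𝔪)
  (C F : FreeRes 𝒜 ℳ)

include hneg hpos in
theorem mem_of_deg_ne {n : ℤ} (hn : n ≠ 0) {x : R} (hx : x ∈ 𝒜 n) : x ∈ 𝔪 := by
  rcases lt_or_gt_of_ne hn with h | h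
  · rw [hneg n h] at hx
    rw [(Submodule.mem_bot k).1 hx]
    exact zero_mem _
  · exact hpos n h x hx

include hneg hpos h1 in
theorem local_min_zero (e : Fin (C.rk 0)) (hdeg : ∀ b : Fin (F.rk 0), F.deg 0 b ≠ C.deg 0 e)
    (hrow : ∀ c, C.d 0 e c ∈ 𝔪) : False := by
  obtain ⟨u, hu1, hu2, hu3⟩ := exists_chainMap C F
  obtain ⟨v, hv1, hv2, hv3⟩ := exists_chainMap F C
  obtain ⟨h, hh⟩ := homotopy_zero C (fun i => v i * u i - 1)
    (by
      intro x
      rw [Matrix.sub_mulVec, Matrix.one_mulVec, map_sub, ← Matrix.mulVec_mulVec, hv2, hu2,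
        sub_self])
  have hψ : (v 0 * u 0 - 1 : Matrix _ _ R) e e ∈ 𝔪 := by
    rw [← hh, Matrix.mul_apply]
    exact Ideal.sum_mem _ fun c _ => Ideal.mul_mem_right _ _ (hrow c)
  have hvu : (v 0 * u 0) e e ∈ 𝔪 := by
    rw [Matrix.mul_apply]
    refine Ideal.sum_mem _ fun b _ => Ideal.mul_mem_left _ _ ?_
    exact mem_of_deg_ne hneg hpos (sub_ne_zero.mpr (hdeg b).symm) (hu1 0 b e)
  apply h1
  rw [Matrix.sub_apply, Matrix.one_apply_eq] at hψ
  have := 𝔪.sub_mem hvu hψ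
  rwa [sub_sub_cancel] at this

include hneg hpos h1 in
theorem local_min_succ (n : ℕ) (e : Fin (C.rk (n + 1)))
    (hdeg : ∀ b : Fin (F.rk (n + 1)), F.deg (n + 1) b ≠ C.deg (n + 1) e)
    (hrow : ∀ c, C.d (n + 1) e c ∈ 𝔪) (hcol : ∀ a, C.d n a e ∈ 𝔪) : False := by
  obtain ⟨u, hu1, hu2, hu3⟩ := exists_chainMap C F
  obtain ⟨v, hv1, hv2, hv3⟩ := exists_chainMap F C
  obtain ⟨h', h, hh⟩ := homotopy_succ C (fun i => v i * u i - 1)
    (by
      intro x
      rw [Matrix.sub_mulVec, Matrix.one_mulVec, map_sub, ← Matrix.mulVec_mulVec, hv2, hu2,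
        sub_self])
    (by
      intro i
      rw [Matrix.mul_sub, Matrix.sub_mul, Matrix.mul_one, Matrix.one_mul, ← Matrix.mul_assoc,
        hv3 i, Matrix.mul_assoc, hu3 i, Matrix.mul_assoc])
    n
  have hψ : (v (n + 1) * u (n + 1) - 1 : Matrix _ _ R) e e ∈ 𝔪 := by
    rw [hh, Matrix.add_apply, Matrix.mul_apply, Matrix.mul_apply]
    exact Ideal.add_mem _ (Ideal.sum_mem _ fun c _ => Ideal.mul_mem_right _ _ (hrow c))
      (Ideal.sum_mem _ fun a _ => Ideal.mul_mem_left _ _ (hcol a))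
  have hvu : (v (n + 1) * u (n + 1)) e e ∈ 𝔪 := by
    rw [Matrix.mul_apply]
    refine Ideal.sum_mem _ fun b _ => Ideal.mul_mem_left _ _ ?_
    exact mem_of_deg_ne hneg hpos (sub_ne_zero.mpr (hdeg b).symm) (hu1 (n + 1) b e)
  apply h1
  rw [Matrix.sub_apply, Matrix.one_apply_eq] at hψ
  have := 𝔪.sub_mem hvu hψ
  rwa [sub_sub_cancel] at this

end LocalMin

section SES

open Groth.Agent.Lib.Helper8.GrSyzHilb Groth.Agent.Lib.Helper8.GrSyzMin

variable {k : Type u} [Field k] {n : ℕ}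
variable {M₁ : Type u} [AddCommGroup M₁] [Module k M₁] [Module (MvPolynomial (Fin (n + 1)) k) M₁]
  [IsScalarTower k (MvPolynomial (Fin (n + 1)) k) M₁]
  {ℳ₁ : ℤ → Submodule k M₁} [DirectSum.Decomposition ℳ₁]
  [SetLike.GradedSMul (stdGr k (Fin (n + 1))) ℳ₁]
variable {M₂ : Type u} [AddCommGroup M₂] [Module k M₂] [Module (MvPolynomial (Fin (n + 1)) k) M₂]
  [IsScalarTower k (MvPolynomial (Fin (n + 1)) k) M₂]
  {ℳ₂ : ℤ → Submodule k M₂} [DirectSum.Decomposition ℳ₂]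
  [SetLike.GradedSMul (stdGr k (Fin (n + 1))) ℳ₂]
variable {M₃ : Type u} [AddCommGroup M₃] [Module k M₃] [Module (MvPolynomial (Fin (n + 1)) k) M₃]
  [IsScalarTower k (MvPolynomial (Fin (n + 1)) k) M₃]
  {ℳ₃ : ℤ → Submodule k M₃} [DirectSum.Decomposition ℳ₃]
  [SetLike.GradedSMul (stdGr k (Fin (n + 1))) ℳ₃]

theorem hneg_std : ∀ m : ℤ, m < 0 → stdGr k (Fin (n + 1)) m = ⊥ :=
  fun _ hm => stdGr_neg_eq_bot k hm

theorem hpos_std : ∀ m : ℤ, 0 < m → ∀ x ∈ stdGr k (Fin (n + 1)) m,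
    x ∈ (irrel (stdGr k (Fin (n + 1)))).toIdeal :=
  fun _ hm _ hx => mem_irrel_of_mem_stdGr_pos hm hx

theorem isRegLE_of_freeRes [Module.Finite (MvPolynomial (Fin (n + 1)) k) M₁]
    (C : FreeRes (stdGr k (Fin (n + 1))) ℳ₁) (r : ℤ) (hC : C.IsGenLE r) :
    IsRegLE (stdGr k (Fin (n + 1))) ℳ₁ (irrel (stdGr k (Fin (n + 1)))).toIdeal r := by
  obtain ⟨F, hF⟩ := exists_minimal (k := k) (r := n) ℳ₁
  refine ⟨F, hF, fun i b => ?_⟩
  obtain ⟨b', hb'⟩ := exists_deg_eq hneg_std one_not_mem_irrel F C hF i b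
  rw [← hb']
  exact hC i b'

variable (f : M₁ →ₗ[MvPolynomial (Fin (n + 1)) k] M₂) (g : M₂ →ₗ[MvPolynomial (Fin (n + 1)) k] M₃)
  (hf : Function.Injective f) (hg : Function.Surjective g)
  (hfg : LinearMap.range f = LinearMap.ker g)
  (hfgr : ∀ d m, m ∈ ℳ₁ d → f m ∈ ℳ₂ d) (hggr : ∀ d m, m ∈ ℳ₂ d → g m ∈ ℳ₃ d)

include hf hg hfg hfgr hggr in
theorem reg_ses_three [Module.Finite (MvPolynomial (Fin (n + 1)) k) M₃] (r : ℤ)
    (h1 : IsRegLE (stdGr k (Fin (n + 1))) ℳ₁ (irrel (stdGr k (Fin (n + 1)))).toIdeal (r + 1))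
    (h2 : IsRegLE (stdGr k (Fin (n + 1))) ℳ₂ (irrel (stdGr k (Fin (n + 1)))).toIdeal r) :
    IsRegLE (stdGr k (Fin (n + 1))) ℳ₃ (irrel (stdGr k (Fin (n + 1)))).toIdeal r := by
  obtain ⟨F₁, -, hF₁⟩ := h1
  obtain ⟨F₂, -, hF₂⟩ := h2
  obtain ⟨φ, hφ1, hφ2, hφ3⟩ := exists_chainMap_over F₁ F₂ f hfgr
  refine isRegLE_of_freeRes (cone F₁ F₂ φ f g hf hg hfg hggr hφ1 hφ2 hφ3) r ?_
  intro i
  cases i with
  | zero => exact fun b => hF₂ 0 b
  | succ m =>
    refine Fin.addCases (fun b1 => ?_) (fun b2 => ?_)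
    · change coneDeg F₁ F₂ (m + 1) (Fin.castAdd _ b1) ≤ _
      rw [coneDeg_succ_left]
      have := hF₁ m b1
      push_cast
      linarith
    · change coneDeg F₁ F₂ (m + 1) (Fin.natAdd _ b2) ≤ _
      rw [coneDeg_succ_right]
      exact hF₂ (m + 1) b2

include hf hg hfg hfgr hggr in
theorem reg_ses_two [Module.Finite (MvPolynomial (Fin (n + 1)) k) M₂] (r : ℤ)
    (h1 : IsRegLE (stdGr k (Fin (n + 1))) ℳ₁ (irrel (stdGr k (Fin (n + 1)))).toIdeal r)
    (h3 : IsRegLE (stdGr k (Fin (n + 1))) ℳ₃ (irrel (stdGr k (Fin (n + 1)))).toIdeal r) :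
    IsRegLE (stdGr k (Fin (n + 1))) ℳ₂ (irrel (stdGr k (Fin (n + 1)))).toIdeal r := by
  obtain ⟨F₁, -, hF₁⟩ := h1
  obtain ⟨F₃, -, hF₃⟩ := h3
  obtain ⟨F₂, hmin⟩ := exists_minimal (k := k) (r := n) ℳ₂
  refine ⟨F₂, hmin, ?_⟩
  obtain ⟨φ, hφ1, hφ2, hφ3⟩ := exists_chainMap_over F₁ F₂ f hfgr
  let C := cone F₁ F₂ φ f g hf hg hfg hggr hφ1 hφ2 hφ3
  intro i b
  by_contra hlt
  rw [not_le] at hlt
  cases i with
  | zero =>
    refine local_min_zero hneg_std hpos_std one_not_mem_irrel C F₃ b ?_ ?_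
    · intro b3
      have := hF₃ 0 b3
      change F₃.deg 0 b3 ≠ F₂.deg 0 b
      omega
    · refine Fin.addCases (fun c1 => ?_) (fun c2 => ?_)
      · change coneD F₁ F₂ φ 0 b (Fin.castAdd _ c1) ∈ _
        rw [coneD_zero_left]
        refine mem_of_deg_ne hneg_std hpos_std ?_ (hφ1 0 b c1)
        have := hF₁ 0 c1
        omega
      · change coneD F₁ F₂ φ 0 b (Fin.natAdd _ c2) ∈ _
        rw [coneD_zero_right]
        exact hmin 0 b c2
  | succ m =>
    refine local_min_succ hneg_std hpos_std one_not_mem_irrel C F₃ m (Fin.natAdd (F₁.rk m) b)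
      ?_ ?_ ?_
    · intro b3
      have := hF₃ (m + 1) b3
      change F₃.deg (m + 1) b3 ≠ coneDeg F₁ F₂ (m + 1) (Fin.natAdd _ b)
      rw [coneDeg_succ_right]
      omega
    · refine Fin.addCases (fun c1 => ?_) (fun c2 => ?_)
      · change coneD F₁ F₂ φ (m + 1) (Fin.natAdd _ b) (Fin.castAdd _ c1) ∈ _
        rw [coneD_succ_rl]
        refine mem_of_deg_ne hneg_std hpos_std ?_ (hφ1 (m + 1) b c1)
        have := hF₁ (m + 1) c1
        omega
      · change coneD F₁ F₂ φ (m + 1) (Fin.natAdd _ b) (Fin.natAdd _ c2) ∈ _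
        rw [coneD_succ_rr]
        exact hmin (m + 1) b c2
    · cases m with
      | zero =>
        intro (a : Fin (F₂.rk 0))
        change coneD F₁ F₂ φ 0 a (Fin.natAdd _ b) ∈ _
        rw [coneD_zero_right]
        exact hmin 0 a b
      | succ m' =>
        refine Fin.addCases (fun a1 => ?_) (fun a2 => ?_)
        · change coneD F₁ F₂ φ (m' + 1) (Fin.castAdd _ a1) (Fin.natAdd _ b) ∈ _
          rw [coneD_succ_lr]
          exact zero_mem _
        · change coneD F₁ F₂ φ (m' + 1) (Fin.natAdd _ a2) (Fin.natAdd _ b) ∈ _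
          rw [coneD_succ_rr]
          exact hmin (m' + 1) a2 b

include hf hg hfg hfgr hggr in
theorem reg_ses_one [Module.Finite (MvPolynomial (Fin (n + 1)) k) M₁] (r : ℤ)
    (h2 : IsRegLE (stdGr k (Fin (n + 1))) ℳ₂ (irrel (stdGr k (Fin (n + 1)))).toIdeal r)
    (h3 : IsRegLE (stdGr k (Fin (n + 1))) ℳ₃ (irrel (stdGr k (Fin (n + 1)))).toIdeal (r - 1)) :
    IsRegLE (stdGr k (Fin (n + 1))) ℳ₁ (irrel (stdGr k (Fin (n + 1)))).toIdeal r := by
  obtain ⟨F₂, -, hF₂⟩ := h2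
  obtain ⟨F₃, -, hF₃⟩ := h3
  obtain ⟨F₁, hmin⟩ := exists_minimal (k := k) (r := n) ℳ₁
  refine ⟨F₁, hmin, ?_⟩
  obtain ⟨φ, hφ1, hφ2, hφ3⟩ := exists_chainMap_over F₁ F₂ f hfgr
  let C := cone F₁ F₂ φ f g hf hg hfg hggr hφ1 hφ2 hφ3
  intro i b
  by_contra hlt
  rw [not_le] at hlt
  refine local_min_succ hneg_std hpos_std one_not_mem_irrel C F₃ i (Fin.castAdd (F₂.rk (i + 1)) b)
    ?_ ?_ ?_
  · intro b3
    have := hF₃ (i + 1) b3
    change F₃.deg (i + 1) b3 ≠ coneDeg F₁ F₂ (i + 1) (Fin.castAdd _ b)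
    rw [coneDeg_succ_left]
    push_cast at this
    omega
  · refine Fin.addCases (fun c1 => ?_) (fun c2 => ?_)
    · change coneD F₁ F₂ φ (i + 1) (Fin.castAdd _ b) (Fin.castAdd _ c1) ∈ _
      rw [coneD_succ_ll]
      exact neg_mem (hmin i b c1)
    · change coneD F₁ F₂ φ (i + 1) (Fin.castAdd _ b) (Fin.natAdd _ c2) ∈ _
      rw [coneD_succ_lr]
      exact zero_mem _
  · cases i with
    | zero =>
      intro (a : Fin (F₂.rk 0))
      change coneD F₁ F₂ φ 0 a (Fin.castAdd _ b) ∈ _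
      rw [coneD_zero_left]
      refine mem_of_deg_ne hneg_std hpos_std ?_ (hφ1 0 a b)
      have := hF₂ 0 a
      omega
    | succ i' =>
      refine Fin.addCases (fun a1 => ?_) (fun a2 => ?_)
      · change coneD F₁ F₂ φ (i' + 1) (Fin.castAdd _ a1) (Fin.castAdd _ b) ∈ _
        rw [coneD_succ_ll]
        exact neg_mem (hmin i' a1 b)
      · change coneD F₁ F₂ φ (i' + 1) (Fin.natAdd _ a2) (Fin.castAdd _ b) ∈ _
        rw [coneD_succ_rl]
        refine mem_of_deg_ne hneg_std hpos_std ?_ (hφ1 (i' + 1) a2 b)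
        have := hF₂ (i' + 1) a2
        omega

end SES

end Groth.Agent.Lib.Helper8.GrSyzCone
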