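import Groth.Agent.Lib.Helper8.GrSyzRegSeq
import Groth.Agent.Lib.Helper8.GrSyzHB

set_option autoImplicit false
set_option linter.unusedSectionVars false
universe u

namespace Groth.Agent.Lib.Helper8.GrSyzCyclic

open GrSyz DirectSum Pointwise
open Groth.Agent.Lib.Helper8.GrSyzBasic Groth.Agent.Lib.Helper8.GrSyzStrand
open Groth.Agent.Lib.Helper8.GrSyzHilb Groth.Agent.Lib.Helper8.GrSyzKoszul
open Groth.Agent.Lib.Helper8.GrSyzCone2 Groth.Agent.Lib.Helper8.GrSyzQuot
open Groth.Agent.Lib.Helper8.GrSyzFinLen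

variable {k : Type u} [Field k] {r : ℕ}

section Socle

variable {M : Type u} [AddCommGroup M] [Module k M] [Module (MvPolynomial (Fin (r + 1)) k) M]
  [IsScalarTower k (MvPolynomial (Fin (r + 1)) k) M]
  (ℳ : ℤ → Submodule k M) [DirectSum.Decomposition ℳ]
  [SetLike.GradedSMul (stdGr k (Fin (r + 1))) ℳ]

theorem exists_ne_bot [Nontrivial M] : ∃ t, ℳ t ≠ ⊥ := by
  classical
  by_contra hall
  push Not at hall
  obtain ⟨m, hm⟩ := exists_ne (0 : M)
  apply hm
  rw [← DirectSum.sum_support_decompose ℳ m]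
  apply Finset.sum_eq_zero
  intro t _
  have h1 : ((decompose ℳ m t : ℳ t) : M) ∈ ℳ t := (decompose ℳ m t).2
  have h2 : ∀ y : M, y ∈ ℳ t → y = 0 := by
    intro y hy
    rw [hall t] at hy
    exact (Submodule.mem_bot k).1 hy
  exact h2 _ h1

theorem exists_top [Nontrivial M] (ρ : ℤ) (hvan : ∀ t, ρ < t → ℳ t = ⊥) :
    ∃ d, d ≤ ρ ∧ ℳ d ≠ ⊥ ∧ ∀ t, ℳ t ≠ ⊥ → t ≤ d := by
  have hb : ∃ b : ℤ, ∀ z, ℳ z ≠ ⊥ → z ≤ b :=
    ⟨ρ, fun z hz => by
      by_contra h
      exact hz (hvan z (not_le.mp h))⟩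
  obtain ⟨d, hd, hdmax⟩ := Int.exists_greatest_of_bdd hb (exists_ne_bot ℳ)
  refine ⟨d, ?_, hd, hdmax⟩
  by_contra h
  exact hd (hvan d (not_le.mp h))

theorem smul_eq_constantCoeff_smul {m : M}
    (hXm : ∀ i : Fin (r + 1), (MvPolynomial.X i : MvPolynomial (Fin (r + 1)) k) • m = 0)
    (s : MvPolynomial (Fin (r + 1)) k) : s • m = MvPolynomial.constantCoeff s • m := by
  have hker : varIdeal k r (r + 1) ≤
      LinearMap.ker (LinearMap.toSpanSingleton (MvPolynomial (Fin (r + 1)) k) M m) := by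
    unfold varIdeal
    rw [Ideal.span_le]
    rintro _ ⟨i, _, rfl⟩
    exact hXm i
  have hs' : s - MvPolynomial.C (MvPolynomial.constantCoeff s) ∈ varIdeal k r (r + 1) := by
    rw [mem_varIdeal_top_iff]
    simp
  have h1 : (s - MvPolynomial.C (MvPolynomial.constantCoeff s)) • m = 0 := hker hs'
  rw [sub_smul, sub_eq_zero] at h1
  rw [h1]
  exact algebraMap_smul _ _ _

theorem X_smul_top_eq_zero {d : ℤ} (hdmax : ∀ t, ℳ t ≠ ⊥ → t ≤ d) {m : M} (hm : m ∈ ℳ d)
    (i : Fin (r + 1)) : (MvPolynomial.X i : MvPolynomial (Fin (r + 1)) k) • m = 0 := by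
  have h1 := SetLike.GradedSMul.smul_mem (A := stdGr k (Fin (r + 1))) (B := ℳ)
    (X_mem_stdGr k r i) hm
  have h2 : ℳ (1 + d) = ⊥ := by
    by_contra h
    have := hdmax _ h
    omega
  rw [vadd_eq_add, h2] at h1
  exact (Submodule.mem_bot k).1 h1

theorem finite_and_finrank_le (ν : ℕ) : ∀ (M : Type u) [AddCommGroup M] [Module k M]
    [Module (MvPolynomial (Fin (r + 1)) k) M] [IsScalarTower k (MvPolynomial (Fin (r + 1)) k) M]
    [Module.Finite (MvPolynomial (Fin (r + 1)) k) M]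
    (ℳ : ℤ → Submodule k M) [DirectSum.Decomposition ℳ]
    [SetLike.GradedSMul (stdGr k (Fin (r + 1))) ℳ],
    Module.length (MvPolynomial (Fin (r + 1)) k) M = ν →
    Module.Finite k M ∧ Module.finrank k M ≤ ν := by
  induction ν using Nat.strong_induction_on with
  | _ ν ih =>
    intro M _ _ _ _ _ ℳ _ _ hlen
    by_cases hsub : Subsingleton M
    · exact ⟨inferInstance, by rw [Module.finrank_zero_of_subsingleton]; omega⟩
    · rw [not_subsingleton_iff_nontrivial] at hsub
      have hfl : IsFiniteLength (MvPolynomial (Fin (r + 1)) k) M :=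
        Module.length_ne_top_iff.mp (by rw [hlen]; exact ENat.natCast_ne_top _)
      obtain ⟨hnoeth, hart⟩ := isFiniteLength_iff_isNoetherian_isArtinian.mp hfl
      obtain ⟨T, hT⟩ := exists_vanish (r := r) ℳ
      obtain ⟨d, -, hd, hdmax⟩ := exists_top ℳ T hT
      obtain ⟨m, hm, hm0⟩ := Submodule.exists_mem_ne_zero_of_ne_bot hd
      have hXm := X_smul_top_eq_zero (r := r) ℳ hdmax hm
      let K : Submodule (MvPolynomial (Fin (r + 1)) k) M :=
        Submodule.span (MvPolynomial (Fin (r + 1)) k) {m}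
      have hK : IsHomog ℳ K := by
        intro y hy t
        obtain ⟨s, rfl⟩ := Submodule.mem_span_singleton.mp hy
        rw [coe_decompose_smul_of_right_mem (stdGr k (Fin (r + 1))) ℳ t hm s]
        exact Submodule.smul_mem _ _ (Submodule.mem_span_singleton_self m)
      have : Fact (IsHomog ℳ K) := ⟨hK⟩
      have hmK : m ∈ K := Submodule.mem_span_singleton_self m
      have hKne : K ≠ ⊥ := by
        intro h
        rw [h] at hmK
        exact hm0 ((Submodule.mem_bot _).1 hmK)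
      have hlenQ : Module.length (MvPolynomial (Fin (r + 1)) k) (M ⧸ K) < (ν : ℕ∞) := by
        rw [← hlen]
        exact Submodule.length_quotient_lt K hKne
      obtain ⟨ν', hν'⟩ : ∃ ν' : ℕ,
          Module.length (MvPolynomial (Fin (r + 1)) k) (M ⧸ K) = ν' :=
        (ENat.ne_top_iff_exists.mp (ne_top_of_lt hlenQ)).imp fun _ h => h.symm
      have hν'lt : ν' < ν := by
        rw [hν'] at hlenQ
        exact_mod_cast hlenQ
      obtain ⟨hfinQ, hrkQ⟩ := ih ν' hν'lt (M ⧸ K) (quotGr ℳ K) hν'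
      have hadd : Module.length (MvPolynomial (Fin (r + 1)) k) M =
          Module.length (MvPolynomial (Fin (r + 1)) k) K +
            Module.length (MvPolynomial (Fin (r + 1)) k) (M ⧸ K) :=
        Module.length_eq_add_of_exact K.subtype K.mkQ (Submodule.injective_subtype _)
          (Submodule.mkQ_surjective _) (LinearMap.exact_subtype_mkQ K)
      have hKnt : Nontrivial K := ⟨⟨⟨m, hmK⟩, 0, fun h => hm0 (congrArg Subtype.val h)⟩⟩
      have hKpos : 1 ≤ Module.length (MvPolynomial (Fin (r + 1)) k) K :=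
        Order.one_le_iff_pos.mpr Module.length_pos
      have hν1 : ν' + 1 ≤ ν := by
        have h1 : (1 : ℕ∞) + (ν' : ℕ∞) ≤ (ν : ℕ∞) := by
          rw [← hlen, hadd, hν']
          exact add_le_add_left hKpos _
        have h2 : ((1 + ν' : ℕ) : ℕ∞) ≤ (ν : ℕ∞) := by exact_mod_cast h1
        have h3 := Nat.cast_le.mp h2
        omega
      have hK'le : K.restrictScalars k ≤ Submodule.span k {m} := by
        intro y hy
        obtain ⟨s, rfl⟩ := Submodule.mem_span_singleton.mp hy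
        rw [smul_eq_constantCoeff_smul hXm]
        exact Submodule.smul_mem _ _ (Submodule.mem_span_singleton_self m)
      have hfinK' : Module.Finite k (K.restrictScalars k) :=
        Submodule.finiteDimensional_of_le hK'le
      have hfinQ' : Module.Finite k (M ⧸ K.restrictScalars k) :=
        Module.Finite.equiv (Submodule.Quotient.restrictScalarsEquiv k K).symm
      have hfinM : Module.Finite k M := Module.Finite.of_submodule_quotient (K.restrictScalars k)
      refine ⟨hfinM, ?_⟩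
      have h1 := (K.restrictScalars k).finrank_quotient_add_finrank
      have h2 : Module.finrank k (M ⧸ K.restrictScalars k) = Module.finrank k (M ⧸ K) :=
        LinearEquiv.finrank_eq (Submodule.Quotient.restrictScalarsEquiv k K)
      have h3 : Module.finrank k (K.restrictScalars k) ≤ 1 := by
        refine (Submodule.finrank_mono hK'le).trans ?_
        rw [finrank_span_singleton hm0]
      omega

end Socle

section Decomp

theorem varIdeal_top_eq : (varIdeal k r (r + 1) : Ideal (MvPolynomial (Fin (r + 1)) k)) =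
    Ideal.span (Set.range (MvPolynomial.X : Fin (r + 1) → MvPolynomial (Fin (r + 1)) k)) := by
  unfold varIdeal
  have : {i : Fin (r + 1) | (i : ℕ) < r + 1} = Set.univ := by
    ext i
    simp only [Set.mem_ofPred_eq, Set.mem_univ, iff_true]
    exact i.isLt
  rw [this, Set.image_univ]

theorem exists_X_decomp {d : ℤ} (hd : d + 1 ≠ 0) {p : MvPolynomial (Fin (r + 1)) k}
    (hp : p ∈ stdGr k (Fin (r + 1)) (d + 1)) :
    ∃ q : Fin (r + 1) → MvPolynomial (Fin (r + 1)) k, (∀ i, q i ∈ stdGr k (Fin (r + 1)) d) ∧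
      p = ∑ i, MvPolynomial.X i * q i := by
  have h0 : MvPolynomial.constantCoeff p = 0 := constantCoeff_eq_zero_of_mem_stdGr hd hp
  have h1 : p ∈ varIdeal k r (r + 1) := (mem_varIdeal_top_iff k r p).mpr h0
  rw [show (p ∈ varIdeal k r (r + 1)) ↔
    p ∈ (varIdeal k r (r + 1) : Ideal (MvPolynomial (Fin (r + 1)) k)) from Iff.rfl,
    varIdeal_top_eq, Ideal.mem_span_range_iff_exists_fun] at h1
  obtain ⟨c, hc⟩ := h1
  refine ⟨fun i => (decompose (stdGr k (Fin (r + 1))) (c i) d : MvPolynomial (Fin (r + 1)) k),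
    fun i => SetLike.coe_mem _, ?_⟩
  have h2 : p = (decompose (stdGr k (Fin (r + 1))) p (d + 1) : MvPolynomial (Fin (r + 1)) k) :=
    (decompose_of_mem_same _ hp).symm
  rw [h2, ← hc, decompose_sum, DFinsupp.finsetSum_apply, AddSubmonoidClass.coe_finsetSum]
  apply Finset.sum_congr rfl
  intro i _
  rw [mul_comm (c i), coe_decompose_mul_of_left_mem (stdGr k (Fin (r + 1))) (d + 1)
    (X_mem_stdGr k r i), add_sub_cancel_right]

end Decomp

section CyclicPieces

open Groth.Agent.Lib.Helper8.GrSyzHB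

variable {N : Type u} [AddCommGroup N] [Module k N] [Module (MvPolynomial (Fin (r + 1)) k) N]
  [IsScalarTower k (MvPolynomial (Fin (r + 1)) k) N]
  {𝒩 : ℤ → Submodule k N} [DirectSum.Decomposition 𝒩]
  [SetLike.GradedSMul (stdGr k (Fin (r + 1))) 𝒩]
variable (τ : MvPolynomial (Fin (r + 1)) k →ₗ[MvPolynomial (Fin (r + 1)) k] N)
  (hτg : GrLC.IsGrHom (stdGr k (Fin (r + 1))) 𝒩 τ) (hτ : Function.Surjective τ)

include hτg hτ in
theorem piece_ne_bot_of_succ (j : ℤ) (hj : 0 ≤ j) (h : 𝒩 (j + 1) ≠ ⊥) : 𝒩 j ≠ ⊥ := by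
  intro hbot
  apply h
  rw [eq_bot_iff]
  intro u hu
  obtain ⟨p, hp, rfl⟩ := exists_preimage_mem τ hτg hτ (j + 1) u hu
  obtain ⟨q, hq, rfl⟩ := exists_X_decomp (by omega) hp
  rw [Submodule.mem_bot, map_sum]
  apply Finset.sum_eq_zero
  intro i _
  have h0 : τ (q i) = 0 := by
    have h1 := hτg j (q i) (hq i)
    rw [hbot] at h1
    exact (Submodule.mem_bot k).1 h1
  rw [← smul_eq_mul, map_smul, h0, smul_zero]

include hτg hτ in
theorem piece_ne_bot_of_le (e : ℤ) (he : 𝒩 e ≠ ⊥) : ∀ j, 0 ≤ j → j ≤ e → 𝒩 j ≠ ⊥ := by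
  intro j hj hje
  obtain ⟨i, rfl⟩ : ∃ i : ℕ, j = e - i := ⟨(e - j).toNat, by omega⟩
  induction i with
  | zero => simpa using he
  | succ i ih =>
    have h1 := ih (by push_cast at hj ⊢; omega) (by omega)
    apply piece_ne_bot_of_succ τ hτg hτ (e - ((i + 1 : ℕ) : ℤ)) hj
    have e1 : e - ((i + 1 : ℕ) : ℤ) + 1 = e - (i : ℤ) := by push_cast; ring
    rw [e1]
    exact h1

include hτg hτ in
theorem top_nonneg (e : ℤ) (he : 𝒩 e ≠ ⊥) : 0 ≤ e := by
  by_contra h
  apply he
  rw [eq_bot_iff]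
  intro u hu
  exact (Submodule.mem_bot k).2 (eq_zero_of_mem_neg τ hτg hτ e (not_le.mp h) u hu)

end CyclicPieces

section DegreeOne

open Groth.Agent.Lib.Helper8.GrSyzHB

variable {M : Type u} [AddCommGroup M] [Module k M] [Module (MvPolynomial (Fin (r + 1)) k) M]
  [IsScalarTower k (MvPolynomial (Fin (r + 1)) k) M]
  {ℳ : ℤ → Submodule k M} [DirectSum.Decomposition ℳ]
  [SetLike.GradedSMul (stdGr k (Fin (r + 1))) ℳ]
variable {N : Type u} [AddCommGroup N] [Module k N] [Module (MvPolynomial (Fin (r + 1)) k) N]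
  [IsScalarTower k (MvPolynomial (Fin (r + 1)) k) N]
  {𝒩 : ℤ → Submodule k N} [DirectSum.Decomposition 𝒩]
  [SetLike.GradedSMul (stdGr k (Fin (r + 1))) 𝒩]

theorem exists_repr (ys : List (MvPolynomial (Fin (r + 1)) k)) (x : M)
    (hx : x ∈ Ideal.ofList ys • (⊤ : Submodule (MvPolynomial (Fin (r + 1)) k) M)) :
    ∃ m : Fin ys.length → M, x = ∑ j, ys.get j • m j := by
  refine Submodule.smul_induction_on hx ?_ ?_
  · intro a ha m _
    have ha' : a ∈ Ideal.span (Set.range ys.get) := by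
      rw [Set.range_list_get]
      exact ha
    rw [Ideal.mem_span_range_iff_exists_fun] at ha'
    obtain ⟨c, rfl⟩ := ha'
    refine ⟨fun j => c j • m, ?_⟩
    rw [Finset.sum_smul]
    apply Finset.sum_congr rfl
    intro j _
    rw [smul_smul, mul_comm]
  · rintro x y ⟨m1, rfl⟩ ⟨m2, rfl⟩
    refine ⟨fun j => m1 j + m2 j, ?_⟩
    rw [← Finset.sum_add_distrib]
    apply Finset.sum_congr rfl
    intro j _
    rw [smul_add]

variable (π : MvPolynomial (Fin (r + 1)) k →ₗ[MvPolynomial (Fin (r + 1)) k] M)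
  (hπ : Function.Surjective π) (hπg : GrLC.IsGrHom (stdGr k (Fin (r + 1))) ℳ π)
  (hlin : ∀ x : MvPolynomial (Fin (r + 1)) k, x ∈ stdGr k (Fin (r + 1)) 1 → π x = 0 → x = 0)
  (ys : List (MvPolynomial (Fin (r + 1)) k)) (hys : ∀ y ∈ ys, y ∈ stdGr k (Fin (r + 1)) 1)
  (σ : M →ₗ[MvPolynomial (Fin (r + 1)) k] N)
  (hker : LinearMap.ker σ =
    Ideal.ofList ys • (⊤ : Submodule (MvPolynomial (Fin (r + 1)) k) M))

include hπ hπg hlin hys hker in
theorem mem_span_of_map_eq_zero (p : MvPolynomial (Fin (r + 1)) k)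
    (hp : p ∈ stdGr k (Fin (r + 1)) 1) (h0 : σ (π p) = 0) :
    p ∈ Submodule.span k (Set.range ys.get) := by
  have h1 : π p ∈ Ideal.ofList ys • (⊤ : Submodule (MvPolynomial (Fin (r + 1)) k) M) := by
    rw [← hker]
    exact h0
  obtain ⟨m, hm⟩ := exists_repr ys (π p) h1
  have hπp : π p ∈ ℳ 1 := hπg 1 p hp
  have hc : ∀ j, ∃ c : k, ((decompose ℳ (m j) 0 : ℳ 0) : M) = c • π 1 := by
    intro j
    obtain ⟨s, hs, hs'⟩ := exists_preimage_mem π hπg hπ 0 _ (decompose ℳ (m j) 0).2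
    obtain ⟨c, rfl⟩ : ∃ c : k, s = MvPolynomial.C c :=
      ⟨_, eq_C_of_mem_stdGr_zero hs⟩
    refine ⟨c, ?_⟩
    rw [← hs', ← mul_one (MvPolynomial.C c), ← smul_eq_mul, map_smul]
    exact algebraMap_smul _ _ _
  choose c hc using hc
  have h2 : π p = π (∑ j, c j • ys.get j) := by
    have h3 : π p = ((decompose ℳ (π p) 1 : ℳ 1) : M) := (decompose_of_mem_same ℳ hπp).symm
    rw [h3, hm, decompose_sum, DFinsupp.finsetSum_apply, AddSubmonoidClass.coe_finsetSum, map_sum]
    apply Finset.sum_congr rfl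
    intro j _
    rw [coe_decompose_smul_of_left_mem ℳ (hys _ (List.get_mem ys j)), sub_self, hc j,
      LinearMap.map_smul_of_tower, smul_comm, ← map_smul, smul_eq_mul, mul_one]
  have h4 : p - ∑ j, c j • ys.get j = 0 := by
    apply hlin
    · exact Submodule.sub_mem _ hp (Submodule.sum_mem _ fun j _ =>
        Submodule.smul_mem _ _ (hys _ (List.get_mem ys j)))
    · rw [map_sub, h2, sub_self]
  rw [sub_eq_zero] at h4
  rw [h4]
  exact Submodule.sum_mem _ fun j _ =>
    Submodule.smul_mem _ _ (Submodule.subset_span ⟨j, rfl⟩)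

variable (hσ : Function.Surjective σ) (hσg : GrLC.IsGrHom ℳ 𝒩 σ)

include hπ hπg hσ hσg in
theorem comp_surj_graded :
    Function.Surjective (σ ∘ₗ π) ∧ GrLC.IsGrHom (stdGr k (Fin (r + 1))) 𝒩 (σ ∘ₗ π) :=
  ⟨hσ.comp hπ, fun d p hp => hσg d _ (hπg d p hp)⟩

include hπ hπg hlin hys hker hσ hσg in
theorem degree_one_count :
    Module.Finite k (𝒩 1) ∧ r + 1 ≤ Module.finrank k (𝒩 1) + ys.length := by
  obtain ⟨hτ, hτg⟩ := comp_surj_graded π hπ hπg σ hσ hσg
  let φ : stdGr k (Fin (r + 1)) 1 →ₗ[k] 𝒩 1 :=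
    ((σ ∘ₗ π).restrictScalars k).restrict (p := stdGr k (Fin (r + 1)) 1) (q := 𝒩 1)
      (fun p hp => hτg 1 p hp)
  have hφ : Function.Surjective φ := by
    rintro ⟨u, hu⟩
    obtain ⟨p, hp, hpu⟩ := exists_preimage_mem (σ ∘ₗ π) hτg hτ 1 u hu
    exact ⟨⟨p, hp⟩, Subtype.ext hpu⟩
  have hfin : Module.Finite k (𝒩 1) := Module.Finite.of_surjective φ hφ
  refine ⟨hfin, ?_⟩
  have h1 := LinearMap.finrank_range_add_finrank_ker φ
  have h2 : Module.finrank k (LinearMap.range φ) = Module.finrank k (𝒩 1) := by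
    rw [LinearMap.range_eq_top.mpr hφ, finrank_top]
  have h3 : Module.finrank k (stdGr k (Fin (r + 1)) 1) = r + 1 := by
    have := finrank_stdGr_natCast k r 1
    rw [Nat.cast_one] at this
    rw [this, Nat.choose_symm_add]
    simp
  let g : LinearMap.ker φ →ₗ[k] Submodule.span k (Set.range ys.get) :=
    LinearMap.codRestrict _ ((Submodule.subtype _) ∘ₗ (Submodule.subtype _))
      (fun x => by
        have hx : φ x.1 = 0 := x.2
        have hx' : σ (π (x.1 : MvPolynomial (Fin (r + 1)) k)) = 0 := congrArg Subtype.val hx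
        exact mem_span_of_map_eq_zero π hπ hπg hlin ys hys σ hker _ x.1.2 hx')
  have hg : Function.Injective g := by
    intro x y hxy
    have := congrArg Subtype.val hxy
    exact Subtype.ext (Subtype.ext this)
  have hfs : Module.Finite k (Submodule.span k (Set.range ys.get)) :=
    FiniteDimensional.span_of_finite k (Set.finite_range ys.get)
  have h4 : Module.finrank k (LinearMap.ker φ) ≤
      Module.finrank k (Submodule.span k (Set.range ys.get)) :=
    LinearMap.finrank_le_finrank_of_injective hg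
  have h5 : Module.finrank k (Submodule.span k (Set.range ys.get)) ≤ ys.length := by
    have := finrank_range_le_card (R := k) ys.get
    rwa [Fintype.card_fin] at this
  omega

end DegreeOne

section Count

variable {N : Type u} [AddCommGroup N] [Module k N]
  (𝒩 : ℤ → Submodule k N) [DirectSum.Decomposition 𝒩]

theorem sum_finrank_le [Module.Finite k N] (s : Finset ℤ) :
    ∑ j ∈ s, Module.finrank k (𝒩 j) ≤ Module.finrank k N := by
  classical
  let ψ : N →ₗ[k] (∀ j : s, 𝒩 (j : ℤ)) :=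
    LinearMap.pi (fun j => (DirectSum.component k ℤ (fun i => 𝒩 i) j) ∘ₗ
      (decomposeLinearEquiv 𝒩).toLinearMap)
  have hψ : Function.Surjective ψ := by
    intro n
    refine ⟨∑ j : s, ((n j : 𝒩 j) : N), ?_⟩
    funext j'
    apply Subtype.ext
    change ((decompose 𝒩 (∑ j : s, ((n j : 𝒩 j) : N)) (j' : ℤ) : 𝒩 j') : N) = n j'
    rw [decompose_sum, DFinsupp.finsetSum_apply, AddSubmonoidClass.coe_finsetSum,
      Finset.sum_eq_single j']
    · exact decompose_of_mem_same 𝒩 (n j').2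
    · intro j _ hne
      exact decompose_of_mem_ne 𝒩 (n j).2 (fun h => hne (Subtype.ext h))
    · intro h
      exact absurd (Finset.mem_univ _) h
  have h1 := LinearMap.finrank_le_finrank_of_surjective hψ
  rw [Module.finrank_pi_fintype, Finset.sum_coe_sort s (fun j => Module.finrank k (𝒩 j))] at h1
  exact h1

theorem count_bound [Module.Finite k N] (e : ℤ) (he : 1 ≤ e)
    (hne : ∀ j, 0 ≤ j → j ≤ e → 𝒩 j ≠ ⊥) :
    Module.finrank k (𝒩 1) + e.toNat ≤ Module.finrank k N := by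
  classical
  refine le_trans ?_ (sum_finrank_le 𝒩 (Finset.Icc 0 e))
  have h1 : (1 : ℤ) ∈ Finset.Icc 0 e := Finset.mem_Icc.mpr ⟨by omega, he⟩
  rw [← Finset.add_sum_erase _ _ h1]
  apply Nat.add_le_add_left
  have h2 : ((Finset.Icc 0 e).erase 1).card = e.toNat := by
    rw [Finset.card_erase_of_mem h1, Int.card_Icc]
    omega
  rw [← h2]
  have h3 := Finset.card_nsmul_le_sum ((Finset.Icc 0 e).erase 1)
    (fun j => Module.finrank k (𝒩 j)) 1 (by
      intro j hj
      have hj' := Finset.mem_Icc.mp (Finset.mem_of_mem_erase hj)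
      have := hne j hj'.1 hj'.2
      rw [Nat.one_le_iff_ne_zero]
      intro h0
      exact this (Submodule.finrank_eq_zero.mp h0))
  rw [smul_eq_mul, mul_one] at h3
  exact h3

end Count

section Final

open Groth.Agent.Lib.Helper8.GrSyzRegSeq

variable {M : Type u} [AddCommGroup M] [Module k M] [Module (MvPolynomial (Fin (r + 1)) k) M]
  [IsScalarTower k (MvPolynomial (Fin (r + 1)) k) M]
  [Module.Finite (MvPolynomial (Fin (r + 1)) k) M]
  (ℳ : ℤ → Submodule k M) [DirectSum.Decomposition ℳ]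
  [SetLike.GradedSMul (stdGr k (Fin (r + 1))) ℳ]
variable {N : Type u} [AddCommGroup N] [Module k N] [Module (MvPolynomial (Fin (r + 1)) k) N]
  [IsScalarTower k (MvPolynomial (Fin (r + 1)) k) N]
  (𝒩 : ℤ → Submodule k N) [DirectSum.Decomposition 𝒩]
  [SetLike.GradedSMul (stdGr k (Fin (r + 1))) 𝒩]

theorem reg_add_le
    (π : MvPolynomial (Fin (r + 1)) k →ₗ[MvPolynomial (Fin (r + 1)) k] M)
    (hπ : Function.Surjective π) (hπg : GrLC.IsGrHom (stdGr k (Fin (r + 1))) ℳ π)
    (hlin : ∀ x : MvPolynomial (Fin (r + 1)) k, x ∈ stdGr k (Fin (r + 1)) 1 → π x = 0 → x = 0)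
    (ys : List (MvPolynomial (Fin (r + 1)) k)) (hys : ∀ y ∈ ys, y ∈ stdGr k (Fin (r + 1)) 1)
    (hreg : RingTheory.Sequence.IsWeaklyRegular M ys)
    (σ : M →ₗ[MvPolynomial (Fin (r + 1)) k] N) (hσ : Function.Surjective σ)
    (hσg : GrLC.IsGrHom ℳ 𝒩 σ)
    (hker : LinearMap.ker σ =
      Ideal.ofList ys • (⊤ : Submodule (MvPolynomial (Fin (r + 1)) k) M))
    (ℓ : ℕ) (hℓ : Module.length (MvPolynomial (Fin (r + 1)) k) N = (ℓ : ℕ∞)) :
    reg (stdGr k (Fin (r + 1))) ℳ (irrel (stdGr k (Fin (r + 1)))).toIdeal +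
      ((((r : ℤ) + 1 - (ys.length : ℤ) : ℤ) : WithTop ℤ) : WithBot (WithTop ℤ)) ≤
      (((ℓ : ℤ) : WithTop ℤ) : WithBot (WithTop ℤ)) := by
  have hfinN : Module.Finite (MvPolynomial (Fin (r + 1)) k) N := Module.Finite.of_surjective σ hσ
  have hN : IsFiniteLength (MvPolynomial (Fin (r + 1)) k) N :=
    Module.length_ne_top_iff.mp (by rw [hℓ]; exact ENat.natCast_ne_top _)
  have hreg_eq : reg (stdGr k (Fin (r + 1))) ℳ (irrel (stdGr k (Fin (r + 1)))).toIdeal =
      GrLC.endDeg (fun n => (𝒩 n).toAddSubgroup) :=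
    (reg_eq_of_weaklyRegular ℳ 𝒩 ys σ hσ hσg hker hys hreg).trans (reg_eq_endDeg 𝒩 hN)
  rw [hreg_eq]
  by_cases hsub : Subsingleton N
  · have h0 : GrLC.endDeg (fun n => (𝒩 n).toAddSubgroup) = ⊥ := by
      unfold GrLC.endDeg
      rw [eq_bot_iff]
      refine iSup₂_le fun n hn => ?_
      exfalso
      apply hn
      rw [eq_bot_iff]
      intro x _
      rw [Subsingleton.elim x 0]
      exact zero_mem _
    rw [h0, WithBot.bot_add]
    exact bot_le
  · rw [not_subsingleton_iff_nontrivial] at hsub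
    obtain ⟨hnoeth, hart⟩ := isFiniteLength_iff_isNoetherian_isArtinian.mp hN
    obtain ⟨hfink, hrk⟩ := finite_and_finrank_le ℓ N 𝒩 hℓ
    obtain ⟨T, hT⟩ := exists_vanish (r := r) 𝒩
    obtain ⟨e, -, he, hemax⟩ := exists_top 𝒩 T hT
    have hend : GrLC.endDeg (fun n => (𝒩 n).toAddSubgroup) ≤
        ((e : WithTop ℤ) : WithBot (WithTop ℤ)) := by
      rw [endDeg_le_iff]
      intro t ht
      by_contra hne
      have := hemax t hne
      omega
    refine (add_le_add_left hend _).trans ?_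
    obtain ⟨hτ, hτg⟩ := comp_surj_graded π hπ hπg σ hσ hσg
    have he0 : 0 ≤ e := top_nonneg (σ ∘ₗ π) hτg hτ e he
    have hpieces := piece_ne_bot_of_le (σ ∘ₗ π) hτg hτ e he
    obtain ⟨hfin1, hcount⟩ := degree_one_count π hπ hπg hlin ys hys σ hker hσ hσg
    have key : e + ((r : ℤ) + 1 - (ys.length : ℤ)) ≤ (ℓ : ℤ) := by
      by_cases he1 : 1 ≤ e
      · have h1 := count_bound 𝒩 e he1 hpieces
        have h2 : ((e.toNat : ℕ) : ℤ) = e := Int.toNat_of_nonneg he0
        have h3 : ((Module.finrank k (𝒩 1) + e.toNat : ℕ) : ℤ) ≤ (ℓ : ℤ) := by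
          exact_mod_cast h1.trans hrk
        push_cast at h3
        have h4 : ((r + 1 : ℕ) : ℤ) ≤ ((Module.finrank k (𝒩 1) + ys.length : ℕ) : ℤ) := by
          exact_mod_cast hcount
        push_cast at h4
        omega
      · have h1 : 𝒩 1 = ⊥ := by
          by_contra hne
          have := hemax 1 hne
          omega
        have h2 : Module.finrank k (𝒩 1) = 0 := by
          rw [h1]
          exact finrank_bot k N
        have h4 : ((r + 1 : ℕ) : ℤ) ≤ ((Module.finrank k (𝒩 1) + ys.length : ℕ) : ℤ) := by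
          exact_mod_cast hcount
        push_cast at h4
        have : (0 : ℤ) ≤ (ℓ : ℤ) := Int.natCast_nonneg _
        omega
    have key' : (((e + ((r : ℤ) + 1 - (ys.length : ℤ)) : ℤ) : WithTop ℤ) :
        WithBot (WithTop ℤ)) ≤ (((ℓ : ℤ) : WithTop ℤ) : WithBot (WithTop ℤ)) := by
      rw [WithBot.coe_le_coe, WithTop.coe_le_coe]
      exact key
    refine le_trans (le_of_eq ?_) key'
    rw [WithTop.coe_add, WithBot.coe_add]

end Final

end Groth.Agent.Lib.Helper8.GrSyzCyclic
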