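import Groth.Agent.Lib.Helper8.GrSyzCyclic
import Groth.Agent.S15432

set_option autoImplicit false
set_option linter.unusedSectionVars false
universe u

namespace Groth.Agent.Lib.Helper8.GrSyzPoints

open GrSyz DirectSum Pointwise
open Groth.Agent.Lib.Helper8.GrSyzBasic Groth.Agent.Lib.Helper8.GrSyzStrand
open Groth.Agent.Lib.Helper8.GrSyzHilb Groth.Agent.Lib.Helper8.GrSyzKoszul
open Groth.Agent.Lib.Helper8.GrSyzCone Groth.Agent.Lib.Helper8.GrSyzCone2
open Groth.Agent.Lib.Helper8.GrSyzQuot
open Groth.Agent.Lib.Helper8.GrSyzFinLen Groth.Agent.Lib.Helper8.GrSyzHB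

variable {k : Type u} [Field k] {r : ℕ}

section Start

open Groth.Agent.Lib.Helper8.GrSyzMin

variable {M : Type u} [AddCommGroup M] [Module k M] [Module (MvPolynomial (Fin (r + 1)) k) M]
  [IsScalarTower k (MvPolynomial (Fin (r + 1)) k) M]
  (ℳ : ℤ → Submodule k M) [DirectSum.Decomposition ℳ]
  [SetLike.GradedSMul (stdGr k (Fin (r + 1))) ℳ]

theorem exists_minimal_of_start (n0 : ℕ) (e0 : Fin n0 → ℤ) (aug : Fin n0 → M)
    (haug : ∀ b, aug b ∈ ℳ (e0 b))
    (hsurj : Function.Surjective (Fintype.linearCombination (MvPolynomial (Fin (r + 1)) k) aug))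
    (hker : ∀ v : Fin n0 → MvPolynomial (Fin (r + 1)) k, ∑ b, v b • aug b = 0 →
      ∀ b, v b ∈ (irrel (stdGr k (Fin (r + 1)))).toIdeal) :
    ∃ F : FreeRes (stdGr k (Fin (r + 1))) ℳ,
      F.IsMinimal (irrel (stdGr k (Fin (r + 1)))).toIdeal ∧
      ∃ h : F.rk 0 = n0, (∀ b, F.deg 0 b = e0 (Fin.cast h b)) ∧
        (∀ b, F.aug b = aug (Fin.cast h b)) := by
  let s0 : St k r :=
    { n := n0
      degs := e0
      K := LinearMap.ker (Fintype.linearCombination (MvPolynomial (Fin (r + 1)) k) aug)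
      homog := by
        intro v hv d
        rw [LinearMap.mem_ker, Fintype.linearCombination_apply] at hv ⊢
        exact H2_M (r := r) ℳ n0 e0 aug haug v hv d
      coords := by
        intro v hv b
        rw [LinearMap.mem_ker, Fintype.linearCombination_apply] at hv
        exact hker v hv b }
  let F : FreeRes (stdGr k (Fin (r + 1))) ℳ :=
    { rk := fun i => (seq s0 i).n
      deg := fun i => (seq s0 i).degs
      d := fun i => (next (seq s0 i)).D
      aug := aug
      d_mem := fun i a b => (next (seq s0 i)).hD a b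
      aug_mem := haug
      aug_surjective := hsurj
      exact_zero := (next s0).hrange.symm
      exact_succ := fun i =>
        ((next (seq s0 i)).hker.symm).trans ((next (seq s0 (i + 1))).hrange.symm) }
  refine ⟨F, ?_, rfl, fun _ => rfl, fun _ => rfl⟩
  intro i (a : Fin (seq s0 i).n) (b : Fin (next (seq s0 i)).s'.n)
  have h1 : (next (seq s0 i)).D.mulVec (Pi.single b 1) ∈ (seq s0 i).K := by
    rw [← (next (seq s0 i)).hrange]
    exact ⟨_, rfl⟩
  have h2 := (seq s0 i).coords _ h1 a
  rw [Matrix.mulVec_single_one] at h2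
  exact h2

end Start

section Vanishing

theorem homogeneousComponent_mem_stdGr (n : ℕ) (f : MvPolynomial (Fin (r + 1)) k) :
    MvPolynomial.homogeneousComponent n f ∈ stdGr k (Fin (r + 1)) (n : ℤ) :=
  (mem_stdGr_natCast_iff n _).2 (MvPolynomial.homogeneousComponent_mem n f)

theorem decompose_natCast (f : MvPolynomial (Fin (r + 1)) k) (n : ℕ) :
    (decompose (stdGr k (Fin (r + 1))) f (n : ℤ) : MvPolynomial (Fin (r + 1)) k) =
      MvPolynomial.homogeneousComponent n f := by
  classical
  conv_lhs => rw [← MvPolynomial.sum_homogeneousComponent f]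
  rw [decompose_sum, DFinsupp.finsetSum_apply, AddSubmonoidClass.coe_finsetSum]
  by_cases hn : n ∈ Finset.range (f.totalDegree + 1)
  · rw [Finset.sum_eq_single n]
    · exact decompose_of_mem_same _ (homogeneousComponent_mem_stdGr n f)
    · intro j _ hj
      exact decompose_of_mem_ne _ (homogeneousComponent_mem_stdGr j f)
        (by exact_mod_cast hj)
    · intro h
      exact absurd hn h
  · rw [Finset.sum_eq_zero]
    · rw [Finset.mem_range, not_lt] at hn
      exact (MvPolynomial.homogeneousComponent_eq_zero n f (by omega)).symm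
    · intro j hj
      refine decompose_of_mem_ne _ (homogeneousComponent_mem_stdGr j f) ?_
      intro h
      have : j = n := by exact_mod_cast h
      exact hn (this ▸ hj)

variable (Z : Finset (Fin (r + 1) → k)) (I : Ideal (MvPolynomial (Fin (r + 1)) k))
  (hI : ∀ f : MvPolynomial (Fin (r + 1)) k, f ∈ I ↔
    ∀ p ∈ Z, ∀ j : ℕ, MvPolynomial.eval p (MvPolynomial.homogeneousComponent j f) = 0)

include hI in
theorem vanishing_isHomog :
    IsHomog (stdGr k (Fin (r + 1)))
      (I : Submodule (MvPolynomial (Fin (r + 1)) k) (MvPolynomial (Fin (r + 1)) k)) := by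
  intro f hf d
  by_cases hd : 0 ≤ d
  · obtain ⟨n, rfl⟩ := Int.eq_ofNat_of_zero_le hd
    rw [decompose_natCast]
    change MvPolynomial.homogeneousComponent n f ∈ I
    rw [hI]
    intro p hp j
    rw [MvPolynomial.homogeneousComponent_of_mem (MvPolynomial.homogeneousComponent_mem n f)]
    split_ifs with h
    · exact (hI f).mp hf p hp n
    · exact map_zero _
  · have h0 : (decompose (stdGr k (Fin (r + 1))) f d : MvPolynomial (Fin (r + 1)) k) = 0 := by
      have h1 := (decompose (stdGr k (Fin (r + 1))) f d).2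
      have h2 : ∀ y : MvPolynomial (Fin (r + 1)) k, y ∈ stdGr k (Fin (r + 1)) d → y = 0 := by
        intro y hy
        rw [stdGr_neg_eq_bot k (not_le.mp hd)] at hy
        exact (Submodule.mem_bot k).1 hy
      exact h2 _ h1
    rw [h0]
    exact zero_mem _

include hI in
theorem mem_of_homogeneous {n : ℕ} {f : MvPolynomial (Fin (r + 1)) k}
    (hf : f.IsHomogeneous n) : f ∈ I ↔ ∀ p ∈ Z, MvPolynomial.eval p f = 0 := by
  rw [hI]
  constructor
  · intro h p hp
    have := h p hp n
    rwa [MvPolynomial.homogeneousComponent_of_mem hf, if_pos rfl] at this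
  · intro h p hp j
    rw [MvPolynomial.homogeneousComponent_of_mem hf]
    split_ifs
    · exact h p hp
    · exact map_zero _

end Vanishing

section Form

theorem eval_smul_of_homogeneous {n : ℕ} {f : MvPolynomial (Fin (r + 1)) k}
    (hf : f.IsHomogeneous n) (c : k) (p : Fin (r + 1) → k) :
    MvPolynomial.eval (c • p) f = c ^ n * MvPolynomial.eval p f := by
  rw [MvPolynomial.eval_eq', MvPolynomial.eval_eq', Finset.mul_sum]
  apply Finset.sum_congr rfl
  intro m hm
  have hdeg : ∑ i, m i = n := by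
    have h1 := hf (MvPolynomial.mem_support_iff.mp hm)
    rw [← Finsupp.degree_eq_sum, Finsupp.degree_eq_weight_one]
    exact h1
  simp only [Pi.smul_apply, smul_eq_mul, mul_pow, Finset.prod_mul_distrib,
    Finset.prod_pow_eq_pow_sum, hdeg]
  ring

theorem exists_sep_form {p₀ q : Fin (r + 1) → k} (hq : q ≠ 0)
    (hnp : ∀ c : k, p₀ ≠ c • q) :
    ∃ ℓ : MvPolynomial (Fin (r + 1)) k, ℓ.IsHomogeneous 1 ∧ MvPolynomial.eval q ℓ = 0 ∧
      MvPolynomial.eval p₀ ℓ ≠ 0 := by
  by_contra hcon
  push Not at hcon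
  have hall : ∀ i j, q i * p₀ j = q j * p₀ i := by
    intro i j
    have h := hcon (MvPolynomial.C (q i) * MvPolynomial.X j - MvPolynomial.C (q j) * MvPolynomial.X i)
      (by
        apply MvPolynomial.IsHomogeneous.sub
        · have := (MvPolynomial.isHomogeneous_C (Fin (r + 1)) (q i)).mul
            (MvPolynomial.isHomogeneous_X k j)
          simpa using this
        · have := (MvPolynomial.isHomogeneous_C (Fin (r + 1)) (q j)).mul
            (MvPolynomial.isHomogeneous_X k i)
          simpa using this)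
      (by simp; ring)
    simp only [map_sub, map_mul, MvPolynomial.eval_C, MvPolynomial.eval_X] at h
    exact sub_eq_zero.mp h
  obtain ⟨i, hi⟩ : ∃ i, q i ≠ 0 := by
    by_contra h
    push Not at h
    exact hq (funext h)
  apply hnp (p₀ i / q i)
  funext j
  rw [Pi.smul_apply, smul_eq_mul]
  field_simp
  rw [mul_comm, hall i j, mul_comm]

theorem exists_form (Z : Finset (Fin (r + 1) → k)) (hZ : ∀ p ∈ Z, p ≠ 0) :
    ∃ (δ : ℕ) (y : MvPolynomial (Fin (r + 1)) k), 0 < δ ∧ y.IsHomogeneous δ ∧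
      ∀ p ∈ Z, MvPolynomial.eval p y ≠ 0 := by
  classical
  induction Z using Finset.induction_on with
  | empty => exact ⟨1, MvPolynomial.X 0, one_pos, MvPolynomial.isHomogeneous_X k 0, by simp⟩
  | insert p₀ Z hp₀ ih =>
    obtain ⟨δ, y, hδ, hy, hyZ⟩ := ih (fun p hp => hZ p (Finset.mem_insert_of_mem hp))
    have hp₀0 : p₀ ≠ 0 := hZ p₀ (Finset.mem_insert_self _ _)
    by_cases h0 : MvPolynomial.eval p₀ y ≠ 0
    · refine ⟨δ, y, hδ, hy, ?_⟩
      intro p hp
      rcases Finset.mem_insert.mp hp with rfl | hp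
      · exact h0
      · exact hyZ p hp
    · rw [not_not] at h0
      by_cases hcard : Z.card = 0
      · rw [Finset.card_eq_zero] at hcard
        subst hcard
        obtain ⟨i, hi⟩ : ∃ i, p₀ i ≠ 0 := by
          by_contra h
          push Not at h
          exact hp₀0 (funext h)
        refine ⟨1, MvPolynomial.X i, one_pos, MvPolynomial.isHomogeneous_X k i, ?_⟩
        intro p hp
        rw [Finset.mem_insert] at hp
        rcases hp with rfl | hp
        · simpa using hi
        · simp at hp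
      · have hsep : ∀ q ∈ Z, ∃ ℓ : MvPolynomial (Fin (r + 1)) k, ℓ.IsHomogeneous 1 ∧
            MvPolynomial.eval q ℓ = 0 ∧ MvPolynomial.eval p₀ ℓ ≠ 0 := by
          intro q hq
          apply exists_sep_form (hZ q (Finset.mem_insert_of_mem hq))
          intro c hc
          have h1 := eval_smul_of_homogeneous hy c q
          rw [← hc, h0] at h1
          have hc0 : c ≠ 0 := by
            rintro rfl
            rw [zero_smul] at hc
            exact hp₀0 hc
          exact hyZ q hq (by
            rcases mul_eq_zero.mp h1.symm with h | h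
            · exact absurd (pow_eq_zero_iff (by omega) |>.mp h) hc0
            · exact h)
        choose ℓ hℓ1 hℓ2 hℓ3 using hsep
        let z : MvPolynomial (Fin (r + 1)) k := ∏ q ∈ Z.attach, ℓ q.1 q.2
        have hz : z.IsHomogeneous Z.card := by
          have := MvPolynomial.IsHomogeneous.prod Z.attach (fun q => ℓ q.1 q.2) (fun _ => 1)
            (fun q _ => hℓ1 q.1 q.2)
          simpa using this
        have hzZ : ∀ q ∈ Z, MvPolynomial.eval q z = 0 := by
          intro q hq
          change MvPolynomial.eval q (∏ q ∈ Z.attach, ℓ q.1 q.2) = 0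
          rw [map_prod]
          exact Finset.prod_eq_zero (Finset.mem_attach Z ⟨q, hq⟩) (hℓ2 q hq)
        have hzp : MvPolynomial.eval p₀ z ≠ 0 := by
          change MvPolynomial.eval p₀ (∏ q ∈ Z.attach, ℓ q.1 q.2) ≠ 0
          rw [map_prod]
          exact Finset.prod_ne_zero_iff.mpr fun q _ => hℓ3 q.1 q.2
        have hn : 0 < Z.card := Nat.pos_of_ne_zero hcard
        refine ⟨δ * Z.card, y ^ Z.card + z ^ δ, Nat.mul_pos hδ hn, ?_, ?_⟩
        · apply MvPolynomial.IsHomogeneous.add
          · exact hy.pow _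
          · have := hz.pow δ
            rwa [mul_comm] at this
        · intro p hp
          rcases Finset.mem_insert.mp hp with rfl | hp
          · rw [map_add, map_pow, map_pow, h0, zero_pow (by omega), zero_add]
            exact pow_ne_zero _ hzp
          · rw [map_add, map_pow, map_pow, hzZ p hp, zero_pow (by omega), add_zero]
            exact pow_ne_zero _ (hyZ p hp)

end Form

section RegularTop

variable {M : Type u} [AddCommGroup M] [Module k M] [Module (MvPolynomial (Fin (r + 1)) k) M]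
  [IsScalarTower k (MvPolynomial (Fin (r + 1)) k) M]
  (ℳ : ℤ → Submodule k M) [DirectSum.Decomposition ℳ]
  [SetLike.GradedSMul (stdGr k (Fin (r + 1))) ℳ]

theorem isHomog_smul_top' (δ : ℤ) (y : MvPolynomial (Fin (r + 1)) k)
    (hy : y ∈ stdGr k (Fin (r + 1)) δ) :
    IsHomog ℳ (y • (⊤ : Submodule (MvPolynomial (Fin (r + 1)) k) M)) := by
  intro m' hm' t
  obtain ⟨m, -, rfl⟩ := (Submodule.mem_smul_pointwise_iff_exists _ _ _).mp hm'
  rw [coe_decompose_smul_of_left_mem ℳ hy]
  exact Submodule.smul_mem_pointwise_smul _ _ _ Submodule.mem_top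

theorem rk_top_eq_zero_of_regular [Module.Finite (MvPolynomial (Fin (r + 1)) k) M]
    (F : FreeRes (stdGr k (Fin (r + 1))) ℳ)
    (hmin : F.IsMinimal (irrel (stdGr k (Fin (r + 1)))).toIdeal)
    (δ : ℤ) (hδ : 0 < δ) (y : MvPolynomial (Fin (r + 1)) k)
    (hy : y ∈ stdGr k (Fin (r + 1)) δ) (hreg : IsSMulRegular M y) :
    F.rk (r + 1) = 0 := by
  have : Fact (IsHomog ℳ (y • (⊤ : Submodule (MvPolynomial (Fin (r + 1)) k) M))) :=
    ⟨isHomog_smul_top' ℳ δ y hy⟩
  have hf : Function.Injective (LinearMap.lsmul (MvPolynomial (Fin (r + 1)) k) M y) := hreg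
  have hmk : LinearMap.range (LinearMap.lsmul (MvPolynomial (Fin (r + 1)) k) M y) =
      LinearMap.ker (y • (⊤ : Submodule (MvPolynomial (Fin (r + 1)) k) M)).mkQ := by
    rw [Submodule.ker_mkQ]
    ext m'
    rw [Submodule.mem_smul_pointwise_iff_exists, LinearMap.mem_range]
    constructor
    · rintro ⟨m, rfl⟩
      exact ⟨m, Submodule.mem_top, rfl⟩
    · rintro ⟨m, -, rfl⟩
      exact ⟨m, rfl⟩
  let φ : (i : ℕ) → Matrix (Fin (F.rk i)) (Fin (F.rk i)) (MvPolynomial (Fin (r + 1)) k) :=
    fun i => y • (1 : Matrix (Fin (F.rk i)) (Fin (F.rk i)) (MvPolynomial (Fin (r + 1)) k))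
  have hφ1 : ∀ i b' b, φ i b' b ∈ stdGr k (Fin (r + 1)) (F.deg i b + δ - F.deg i b') := by
    intro i b' b
    change (y • (1 : Matrix _ _ (MvPolynomial (Fin (r + 1)) k))) b' b ∈ _
    rw [Matrix.smul_apply, Matrix.one_apply]
    split_ifs with h
    · subst h
      rw [smul_eq_mul, mul_one, add_sub_cancel_left]
      exact hy
    · rw [smul_zero]
      exact zero_mem _
  have hφ2 : ∀ v, Fintype.linearCombination (MvPolynomial (Fin (r + 1)) k) F.aug
      ((φ 0).mulVec v) = LinearMap.lsmul (MvPolynomial (Fin (r + 1)) k) M y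
        (Fintype.linearCombination (MvPolynomial (Fin (r + 1)) k) F.aug v) := by
    intro v
    change Fintype.linearCombination _ F.aug ((y • (1 : Matrix _ _ _)).mulVec v) = _
    rw [Matrix.smul_mulVec, Matrix.one_mulVec, map_smul]
    rfl
  have hφ3 : ∀ i, F.d i * φ (i + 1) = φ i * F.d i := by
    intro i
    change F.d i * (y • (1 : Matrix _ _ _)) = (y • (1 : Matrix _ _ _)) * F.d i
    rw [Matrix.mul_smul, Matrix.mul_one, Matrix.smul_mul, Matrix.one_mul]
  have hφm : ∀ i b' b, φ i b' b ∈ (irrel (stdGr k (Fin (r + 1)))).toIdeal := by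
    intro i b' b
    change (y • (1 : Matrix _ _ (MvPolynomial (Fin (r + 1)) k))) b' b ∈ _
    rw [Matrix.smul_apply, Matrix.one_apply]
    split_ifs with h
    · rw [smul_eq_mul, mul_one]
      exact mem_irrel_of_mem_stdGr_pos hδ hy
    · rw [smul_zero]
      exact zero_mem _
  have hfgr : ∀ d m, m ∈ ℳ d →
      LinearMap.lsmul (MvPolynomial (Fin (r + 1)) k) M y m ∈ ℳ (d + δ) := by
    intro d m hm
    have := SetLike.GradedSMul.smul_mem (A := stdGr k (Fin (r + 1))) (B := ℳ) hy hm
    rw [vadd_eq_add, add_comm] at this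
    exact this
  let C : FreeRes (stdGr k (Fin (r + 1)))
      (quotGr ℳ (y • (⊤ : Submodule (MvPolynomial (Fin (r + 1)) k) M))) :=
    coneS F F δ φ _ (y • (⊤ : Submodule (MvPolynomial (Fin (r + 1)) k) M)).mkQ hf
      (Submodule.mkQ_surjective _) hmk (fun _ _ hm' => mk_mem_quotGr ℳ _ hm') hφ1 hφ2 hφ3
  have hCmin : C.IsMinimal (irrel (stdGr k (Fin (r + 1)))).toIdeal :=
    fun i x z => coneD_entries_mem hmin hmin hφm i x z
  have hlen : C.HasLengthLE (r + 1) :=
    (Groth.Agent.S15430.result k r _ _ C hCmin (r + 1)).mpr (Groth.Agent.S19471.pd_le k r _)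
  have h1 : C.rk (r + 1 + 1) = 0 := hlen _ (by omega)
  have h2 : C.rk (r + 1 + 1) = F.rk (r + 1) + F.rk (r + 1 + 1) := rfl
  omega

end RegularTop

section PointsRes

open Groth.Agent.Lib.Helper8.GrSyzPD

theorem mem_irrel_of_constantCoeff {f : MvPolynomial (Fin (r + 1)) k}
    (h : MvPolynomial.constantCoeff f = 0) : f ∈ (irrel (stdGr k (Fin (r + 1)))).toIdeal := by
  have h1 : f ∈ varIdeal k r (r + 1) := (mem_varIdeal_top_iff k r f).mpr h
  have h2 : varIdeal k r (r + 1) ≤ (irrel (stdGr k (Fin (r + 1)))).toIdeal := by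
    unfold varIdeal
    rw [Ideal.span_le]
    rintro _ ⟨i, _, rfl⟩
    exact mem_irrel_of_mem_stdGr_pos one_pos (X_mem_stdGr k r i)
  exact h2 h1

variable (Z : Finset (Fin (r + 1) → k)) (hZ : ∀ p ∈ Z, p ≠ 0)
  (I : Ideal (MvPolynomial (Fin (r + 1)) k))
  (hI : ∀ f : MvPolynomial (Fin (r + 1)) k, f ∈ I ↔
    ∀ p ∈ Z, ∀ j : ℕ, MvPolynomial.eval p (MvPolynomial.homogeneousComponent j f) = 0)

include hI in
theorem le_irrel (hZne : Z.Nonempty) : I ≤ (irrel (stdGr k (Fin (r + 1)))).toIdeal := by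
  intro f hf
  apply mem_irrel_of_constantCoeff
  obtain ⟨p, hp⟩ := hZne
  have := (hI f).mp hf p hp 0
  rw [MvPolynomial.homogeneousComponent_zero, MvPolynomial.eval_C] at this
  exact this

include hI in
theorem regular_of_eval_ne_zero (δ : ℕ) (y : MvPolynomial (Fin (r + 1)) k)
    (hy : y.IsHomogeneous δ) (hyZ : ∀ p ∈ Z, MvPolynomial.eval p y ≠ 0) :
    IsSMulRegular (MvPolynomial (Fin (r + 1)) k ⧸
      (I : Submodule (MvPolynomial (Fin (r + 1)) k) (MvPolynomial (Fin (r + 1)) k))) y := by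
  intro q q' hqq
  obtain ⟨f, rfl⟩ := Submodule.Quotient.mk_surjective _ q
  obtain ⟨g, rfl⟩ := Submodule.Quotient.mk_surjective _ q'
  have h1 : (Submodule.Quotient.mk (y * f) : MvPolynomial (Fin (r + 1)) k ⧸
      (I : Submodule (MvPolynomial (Fin (r + 1)) k) (MvPolynomial (Fin (r + 1)) k))) =
      Submodule.Quotient.mk (y * g) := hqq
  rw [Submodule.Quotient.eq, ← mul_sub] at h1
  rw [Submodule.Quotient.eq]
  have h2 : y * (f - g) ∈ I := h1
  change f - g ∈ I
  rw [hI] at h2 ⊢
  intro p hp j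
  have h3 := h2 p hp (j + δ)
  have hy' : y ∈ stdGr k (Fin (r + 1)) (δ : ℤ) := (mem_stdGr_natCast_iff δ y).2 hy
  rw [← decompose_natCast, coe_decompose_mul_of_left_mem (stdGr k (Fin (r + 1))) _ hy'] at h3
  have e : ((j + δ : ℕ) : ℤ) - (δ : ℤ) = (j : ℤ) := by push_cast; ring
  rw [e, decompose_natCast, map_mul] at h3
  rcases mul_eq_zero.mp h3 with h | h
  · exact absurd h (hyZ p hp)
  · exact h

include hZ hI in
theorem points_resolution (hZne : Z.Nonempty) :
    haveI : Fact (IsHomog (stdGr k (Fin (r + 1)))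
      (I : Submodule (MvPolynomial (Fin (r + 1)) k) (MvPolynomial (Fin (r + 1)) k))) :=
      ⟨vanishing_isHomog Z I hI⟩
    ∃ F : FreeRes (stdGr k (Fin (r + 1))) (quotGr (stdGr k (Fin (r + 1)))
      (I : Submodule (MvPolynomial (Fin (r + 1)) k) (MvPolynomial (Fin (r + 1)) k))),
      F.IsMinimal (irrel (stdGr k (Fin (r + 1)))).toIdeal ∧ F.rk (r + 1) = 0 ∧
      ∃ h : F.rk 0 = 1, (∀ b, F.deg 0 b = 0) ∧ (∀ b, F.aug b = Submodule.Quotient.mk 1) := by
  have hfact : Fact (IsHomog (stdGr k (Fin (r + 1)))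
      (I : Submodule (MvPolynomial (Fin (r + 1)) k) (MvPolynomial (Fin (r + 1)) k))) :=
    ⟨vanishing_isHomog Z I hI⟩
  obtain ⟨F, hmin, h0, hdeg, haug⟩ := exists_minimal_of_start (r := r)
    (quotGr (stdGr k (Fin (r + 1)))
      (I : Submodule (MvPolynomial (Fin (r + 1)) k) (MvPolynomial (Fin (r + 1)) k)))
    1 (fun _ => 0) (fun _ => Submodule.Quotient.mk 1)
    (fun _ => mk_mem_quotGr _ _ SetLike.GradedOne.one_mem)
    (by
      intro q
      obtain ⟨f, rfl⟩ := Submodule.Quotient.mk_surjective _ q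
      refine ⟨fun _ => f, ?_⟩
      rw [Fintype.linearCombination_apply]
      simp only [Finset.univ_unique, Finset.sum_singleton]
      rw [← Submodule.Quotient.mk_smul, smul_eq_mul, mul_one])
    (by
      intro v hv b
      simp only [Finset.univ_unique, Finset.sum_singleton] at hv
      rw [← Submodule.Quotient.mk_smul, smul_eq_mul, mul_one, Submodule.Quotient.mk_eq_zero] at hv
      rw [Subsingleton.elim b default]
      exact le_irrel Z I hI hZne hv)
  refine ⟨F, hmin, ?_, h0, hdeg, haug⟩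
  obtain ⟨δ, y, hδ, hy, hyZ⟩ := exists_form Z hZ
  exact rk_top_eq_zero_of_regular _ F hmin (δ : ℤ) (by exact_mod_cast hδ) y
    ((mem_stdGr_natCast_iff δ y).2 hy) (regular_of_eval_ne_zero Z I hI δ y hy hyZ)

end PointsRes

end Groth.Agent.Lib.Helper8.GrSyzPoints
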