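import Groth.Agent.Lib.Helper8.GrSyzPoints

set_option autoImplicit false
universe u

namespace Groth.Agent.Lib.Helper8.GrSyzPoints2

open GrSyz DirectSum Pointwise
open Groth.Agent.Lib.Helper8.GrSyzBasic Groth.Agent.Lib.Helper8.GrSyzStrand
open Groth.Agent.Lib.Helper8.GrSyzHilb Groth.Agent.Lib.Helper8.GrSyzKoszul
open Groth.Agent.Lib.Helper8.GrSyzQuot Groth.Agent.Lib.Helper8.GrSyzPD
open Groth.Agent.Lib.Helper8.GrSyzPoints

variable {k : Type u} [Field k]

theorem shape {S : Type u} [CommRing S] (I : Ideal S) (n m : ℕ) (hnm : n = m + 1)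
    (Ψ : Matrix (Fin n) (Fin m) S) (π : (Fin n → S) →ₗ[S] S)
    (h1 : LinearMap.ker Ψ.mulVecLin = ⊥) (h2 : LinearMap.ker π = LinearMap.range Ψ.mulVecLin)
    (h3 : LinearMap.range π = I) :
    ∃ (t : ℕ) (Ψ : Matrix (Fin (t + 1)) (Fin t) S) (π : (Fin (t + 1) → S) →ₗ[S] S),
      LinearMap.ker Ψ.mulVecLin = ⊥ ∧ LinearMap.ker π = LinearMap.range Ψ.mulVecLin ∧
        LinearMap.range π = I := by
  subst hnm
  exact ⟨m, Ψ, π, h1, h2, h3⟩

variable (Z : Finset (Fin 3 → k)) (hZ : ∀ p ∈ Z, p ≠ 0)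
  (I : Ideal (MvPolynomial (Fin 3) k))
  (hI : ∀ f : MvPolynomial (Fin 3) k, f ∈ I ↔
    ∀ p ∈ Z, ∀ j : ℕ, MvPolynomial.eval p (MvPolynomial.homogeneousComponent j f) = 0)

include hZ hI in
theorem points_HB (hZne : Z.Nonempty) :
    haveI : Fact (IsHomog (stdGr k (Fin 3))
      (I : Submodule (MvPolynomial (Fin 3) k) (MvPolynomial (Fin 3) k))) :=
      ⟨vanishing_isHomog Z I hI⟩
    ∃ F : FreeRes (stdGr k (Fin 3)) (quotGr (stdGr k (Fin 3))
      (I : Submodule (MvPolynomial (Fin 3) k) (MvPolynomial (Fin 3) k))),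
      F.IsMinimal (irrel (stdGr k (Fin 3))).toIdeal ∧ F.HasLengthLE 2 ∧
      F.rk 1 = F.rk 2 + 1 ∧
      ∃ h : F.rk 0 = 1, (∀ b, F.deg 0 b = 0) ∧ (∀ b, F.aug b = Submodule.Quotient.mk 1) := by
  have hfact : Fact (IsHomog (stdGr k (Fin 3))
      (I : Submodule (MvPolynomial (Fin 3) k) (MvPolynomial (Fin 3) k))) :=
    ⟨vanishing_isHomog Z I hI⟩
  obtain ⟨F, hmin, h3, h0, hdeg, haug⟩ := points_resolution (r := 2) Z hZ I hI hZne
  have hlen : F.HasLengthLE 2 := hasLengthLE_of_rk_succ_eq_zero F hmin irrel_ne_top 2 h3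
  refine ⟨F, hmin, hlen, ?_, h0, hdeg, haug⟩
  have hB := (Groth.Agent.S15432.partB Z I hI (Submodule.mkQ
    (I : Submodule (MvPolynomial (Fin 3) k) (MvPolynomial (Fin 3) k)))
    (Submodule.mkQ_surjective _) ?_ (Submodule.ker_mkQ _) F hlen).1
  · rw [h0] at hB
    omega
  · intro i x hx
    exact mk_mem_quotGr _ _ hx

include hZ hI in
theorem length_one_nonempty (hZne : Z.Nonempty) :
    ∃ (t : ℕ) (Ψ : Matrix (Fin (t + 1)) (Fin t) (MvPolynomial (Fin 3) k))
      (π : (Fin (t + 1) → MvPolynomial (Fin 3) k) →ₗ[MvPolynomial (Fin 3) k]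
        MvPolynomial (Fin 3) k),
      LinearMap.ker Ψ.mulVecLin = ⊥ ∧ LinearMap.ker π = LinearMap.range Ψ.mulVecLin ∧
        LinearMap.range π = I := by
  have hfact : Fact (IsHomog (stdGr k (Fin 3))
      (I : Submodule (MvPolynomial (Fin 3) k) (MvPolynomial (Fin 3) k))) :=
    ⟨vanishing_isHomog Z I hI⟩
  obtain ⟨F, hmin, hlen, h12, h0, -, haug⟩ := points_HB Z hZ I hI hZne
  have hb₀ : ∀ b : Fin (F.rk 0), b = Fin.cast h0.symm 0 := by
    intro b
    apply Fin.ext
    have := b.2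
    simp only [Fin.val_cast, Fin.val_zero]
    omega
  set b₀ : Fin (F.rk 0) := Fin.cast h0.symm 0 with hb₀def
  have hext : ∀ v : Fin (F.rk 0) → MvPolynomial (Fin 3) k, v = 0 ↔ v b₀ = 0 := by
    intro v
    constructor
    · intro h; rw [h]; rfl
    · intro h
      funext b
      rw [hb₀ b]
      exact h
  have haugv : ∀ v : Fin (F.rk 0) → MvPolynomial (Fin 3) k,
      F.augLin v = Submodule.Quotient.mk (v b₀) := by
    intro v
    rw [Fintype.linearCombination_apply]
    have : (Finset.univ : Finset (Fin (F.rk 0))) = {b₀} := by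
      ext b
      simp only [Finset.mem_univ, Finset.mem_singleton, true_iff]
      exact hb₀ b
    rw [this, Finset.sum_singleton, haug, ← Submodule.Quotient.mk_smul, smul_eq_mul, mul_one]
  refine shape I (F.rk 1) (F.rk 2) h12 (F.d 1)
    ((LinearMap.proj b₀) ∘ₗ (F.d 0).mulVecLin) ?_ ?_ ?_
  · have h3 : F.rk (2 + 1) = 0 := hlen 3 (by norm_num)
    have := range_eq_bot_of_rk_succ_eq_zero F 2 h3
    rw [F.exact_succ 1]
    exact this
  · rw [← F.exact_succ 0]
    ext w
    simp only [LinearMap.mem_ker, LinearMap.comp_apply, LinearMap.proj_apply]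
    exact (hext _).symm
  · ext x
    constructor
    · rintro ⟨w, rfl⟩
      have hw : (F.d 0).mulVecLin w ∈ LinearMap.ker F.augLin := by
        rw [F.exact_zero]
        exact ⟨w, rfl⟩
      rw [LinearMap.mem_ker, haugv, Submodule.Quotient.mk_eq_zero] at hw
      exact hw
    · intro hx
      have hx' : (fun _ : Fin (F.rk 0) => x) ∈ LinearMap.ker F.augLin := by
        rw [LinearMap.mem_ker, haugv, Submodule.Quotient.mk_eq_zero]
        exact hx
      rw [F.exact_zero] at hx'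
      obtain ⟨w, hw⟩ := hx'
      refine ⟨w, ?_⟩
      simp only [LinearMap.comp_apply, LinearMap.proj_apply]
      rw [hw]

include hI in
theorem eq_top_of_empty (hZe : Z = ∅) : I = ⊤ := by
  rw [Ideal.eq_top_iff_one, hI]
  intro p hp
  rw [hZe] at hp
  exact absurd hp (Finset.notMem_empty p)

include hZ hI in
theorem length_one :
    ∃ (t : ℕ) (Ψ : Matrix (Fin (t + 1)) (Fin t) (MvPolynomial (Fin 3) k))
      (π : (Fin (t + 1) → MvPolynomial (Fin 3) k) →ₗ[MvPolynomial (Fin 3) k]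
        MvPolynomial (Fin 3) k),
      LinearMap.ker Ψ.mulVecLin = ⊥ ∧ LinearMap.ker π = LinearMap.range Ψ.mulVecLin ∧
        LinearMap.range π = I := by
  rcases Z.eq_empty_or_nonempty with hZe | hZne
  · have hI' := eq_top_of_empty Z I hI hZe
    refine ⟨0, 0, LinearMap.proj 0, ?_, ?_, ?_⟩
    · rw [LinearMap.ker_eq_bot]
      intro v w _
      exact Subsingleton.elim _ _
    · ext v
      simp only [LinearMap.mem_ker, LinearMap.proj_apply, LinearMap.mem_range]
      constructor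
      · intro hv
        refine ⟨0, ?_⟩
        funext b
        have hb : b = 0 := Fin.ext (by have := b.2; simp only [Fin.val_zero]; omega)
        rw [hb, hv]
        simp
      · rintro ⟨w, rfl⟩
        simp
    · rw [hI']
      rw [LinearMap.range_eq_top]
      intro x
      exact ⟨fun _ => x, rfl⟩
  · exact length_one_nonempty Z hZ I hI hZne

end Groth.Agent.Lib.Helper8.GrSyzPoints2
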