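import Groth.Agent.Lib.Helper8.GrSyzPoints2
import Mathlib.Data.Fin.Tuple.Sort

set_option autoImplicit false
set_option linter.unusedSectionVars false
universe u

namespace Groth.Agent.Lib.Helper8.GrSyzPoints3

open GrSyz DirectSum Pointwise
open Groth.Agent.Lib.Helper8.GrSyzBasic Groth.Agent.Lib.Helper8.GrSyzStrand
open Groth.Agent.Lib.Helper8.GrSyzHilb Groth.Agent.Lib.Helper8.GrSyzKoszul
open Groth.Agent.Lib.Helper8.GrSyzQuot Groth.Agent.Lib.Helper8.GrSyzPD
open Groth.Agent.Lib.Helper8.GrSyzPoints Groth.Agent.Lib.Helper8.GrSyzPoints2 Groth.Agent.Lib.Helper8.GrSyzHB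

section Reindex

variable {k : Type u} [Field k] {r : ℕ}
  {M : Type u} [AddCommGroup M] [Module k M] [Module (MvPolynomial (Fin (r + 1)) k) M]
  {ℳ : ℤ → Submodule k M} [DirectSum.Decomposition ℳ]
  [SetLike.GradedSMul (stdGr k (Fin (r + 1))) ℳ]

theorem range_submatrix {R : Type u} [CommRing R] {n m : ℕ} (A : Matrix (Fin n) (Fin m) R)
    (σ : Equiv.Perm (Fin n)) (τ : Equiv.Perm (Fin m)) :
    LinearMap.range (A.submatrix σ τ).mulVecLin =
      (LinearMap.range A.mulVecLin).map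
        (LinearEquiv.funCongrLeft R R σ : (Fin n → R) →ₗ[R] (Fin n → R)) := by
  ext v
  simp only [LinearMap.mem_range, Submodule.mem_map, Matrix.mulVecLin_apply]
  constructor
  · rintro ⟨w, rfl⟩
    refine ⟨A.mulVec (w ∘ τ.symm), ⟨_, rfl⟩, ?_⟩
    rw [Matrix.submatrix_mulVec_equiv]
    rfl
  · rintro ⟨_, ⟨w, rfl⟩, rfl⟩
    refine ⟨w ∘ τ, ?_⟩
    rw [Matrix.submatrix_mulVec_equiv]
    have : (w ∘ τ) ∘ τ.symm = w := by
      funext x
      simp
    rw [this]
    rfl

theorem ker_submatrix {R : Type u} [CommRing R] {n m : ℕ} (A : Matrix (Fin n) (Fin m) R)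
    (σ : Equiv.Perm (Fin n)) (τ : Equiv.Perm (Fin m)) :
    LinearMap.ker (A.submatrix σ τ).mulVecLin =
      (LinearMap.ker A.mulVecLin).map
        (LinearEquiv.funCongrLeft R R τ : (Fin m → R) →ₗ[R] (Fin m → R)) := by
  ext v
  simp only [LinearMap.mem_ker, Submodule.mem_map, Matrix.mulVecLin_apply]
  constructor
  · intro hv
    refine ⟨v ∘ τ.symm, ?_, ?_⟩
    · rw [Matrix.submatrix_mulVec_equiv] at hv
      funext a
      have := congrFun hv (σ.symm a)
      simpa using this
    · funext x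
      simp [LinearEquiv.funCongrLeft_apply, LinearMap.funLeft_apply]
  · rintro ⟨w, hw, rfl⟩
    rw [Matrix.submatrix_mulVec_equiv]
    have : ((LinearEquiv.funCongrLeft R R τ : (Fin m → R) →ₗ[R] (Fin m → R)) w) ∘ τ.symm = w := by
      funext x
      simp [LinearEquiv.funCongrLeft_apply, LinearMap.funLeft_apply]
    rw [this, hw]
    rfl

def reindex (F : FreeRes (stdGr k (Fin (r + 1))) ℳ) (σ : ∀ i, Equiv.Perm (Fin (F.rk i))) :
    FreeRes (stdGr k (Fin (r + 1))) ℳ where
  rk := F.rk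
  deg i b := F.deg i (σ i b)
  d i := (F.d i).submatrix (σ i) (σ (i + 1))
  aug b := F.aug (σ 0 b)
  d_mem i a b := F.d_mem i _ _
  aug_mem b := F.aug_mem _
  aug_surjective := by
    intro x
    obtain ⟨v, rfl⟩ := F.aug_surjective x
    refine ⟨v ∘ σ 0, ?_⟩
    rw [Fintype.linearCombination_apply, Fintype.linearCombination_apply]
    exact Equiv.sum_comp (σ 0) (fun b => v b • F.aug b)
  exact_zero := by
    rw [range_submatrix, ← F.exact_zero]
    ext v
    simp only [LinearMap.mem_ker, Submodule.mem_map]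
    have key : ∀ w : Fin (F.rk 0) → MvPolynomial (Fin (r + 1)) k,
        Fintype.linearCombination (MvPolynomial (Fin (r + 1)) k) (fun b => F.aug (σ 0 b))
          (w ∘ σ 0) = Fintype.linearCombination (MvPolynomial (Fin (r + 1)) k) F.aug w := by
      intro w
      rw [Fintype.linearCombination_apply, Fintype.linearCombination_apply]
      exact Equiv.sum_comp (σ 0) (fun b => w b • F.aug b)
    constructor
    · intro hv
      refine ⟨v ∘ (σ 0).symm, ?_, ?_⟩
      · rw [← key]
        have : (v ∘ (σ 0).symm) ∘ (σ 0) = v := by funext x; simp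
        rw [this]
        exact hv
      · funext x
        simp [LinearEquiv.funCongrLeft_apply, LinearMap.funLeft_apply]
    · rintro ⟨w, hw, rfl⟩
      rw [← hw, ← key w]
      rfl
  exact_succ i := by
    rw [range_submatrix, ker_submatrix, F.exact_succ i]

end Reindex

theorem ge_of_HB (t : ℕ) (a : Fin (t + 1) → ℤ) (b : Fin t → ℤ)
    (hE : ∀ i : Fin t, 1 ≤ b i - a i.castSucc ∧ 1 ≤ b i - a i.succ)
    (hS : ∑ i, a i = ∑ j, b j) (i : Fin (t + 1)) : (t : ℤ) ≤ a i := by
  rw [Fin.sum_univ_succAbove a i] at hS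
  have h0 : a i = ∑ j, (b j - a (i.succAbove j)) := by
    rw [Finset.sum_sub_distrib]
    linarith
  have h1 : ∀ j, 1 ≤ b j - a (i.succAbove j) := by
    intro j
    rcases lt_or_ge j.castSucc i with h | h
    · rw [Fin.succAbove_of_castSucc_lt _ _ h]
      exact (hE j).1
    · rw [Fin.succAbove_of_le_castSucc _ _ h]
      exact (hE j).2
  calc (t : ℤ) = ∑ _j : Fin t, (1 : ℤ) := by simp
    _ ≤ ∑ j, (b j - a (i.succAbove j)) := Finset.sum_le_sum (fun j _ => h1 j)
    _ = a i := h0.symm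

section Sorted

variable {k : Type u} [Field k]
  {M : Type u} [AddCommGroup M] [Module k M] [Module (MvPolynomial (Fin 3) k) M]
  [IsScalarTower k (MvPolynomial (Fin 3) k) M]
  {ℳ : ℤ → Submodule k M} [DirectSum.Decomposition ℳ]
  [SetLike.GradedSMul (stdGr k (Fin 3)) ℳ]

theorem deg_one_ge (Z : Finset (Fin 3 → k)) (hZ : ∀ p ∈ Z, p ≠ 0) (hZne : Z.Nonempty)
    (I : Ideal (MvPolynomial (Fin 3) k))
    (hI : ∀ f : MvPolynomial (Fin 3) k, f ∈ I ↔
      ∀ p ∈ Z, ∀ j : ℕ, MvPolynomial.eval p (MvPolynomial.homogeneousComponent j f) = 0)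
    (π : MvPolynomial (Fin 3) k →ₗ[MvPolynomial (Fin 3) k] M) (hπ : Function.Surjective π)
    (hπg : GrLC.IsGrHom (stdGr k (Fin 3)) ℳ π) (hker : LinearMap.ker π = I)
    (F : FreeRes (stdGr k (Fin 3)) ℳ) (hF : F.IsMinimal (irrel (stdGr k (Fin 3))).toIdeal)
    (hlen : F.HasLengthLE 2) (h12 : F.rk 1 = F.rk 2 + 1) (c : Fin (F.rk 1)) :
    (F.rk 2 : ℤ) ≤ F.deg 1 c := by
  classical
  let σ : ∀ i, Equiv.Perm (Fin (F.rk i)) := fun i => Tuple.sort (fun b => - F.deg i b)
  have hσ : ∀ i (a b : Fin (F.rk i)), a ≤ b → F.deg i (σ i b) ≤ F.deg i (σ i a) := by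
    intro i a b hab
    have := Tuple.monotone_sort (fun b => - F.deg i b) hab
    simp only [Function.comp_apply] at this
    linarith
  let F' := reindex F σ
  have hF' : F'.IsMinimal (irrel (stdGr k (Fin 3))).toIdeal := fun i a b => hF i _ _
  have hlen' : F'.HasLengthLE 2 := hlen
  have h1 : F'.rk 1 = F.rk 2 + 1 := h12
  have h2 : F'.rk 2 = F.rk 2 := rfl
  obtain ⟨hE, hS⟩ := Groth.Agent.S15432.result k Z hZ hZne I hI M ℳ π hπ hπg hker F' hF' hlen'
    (F.rk 2) h1 h2
    (by
      intro i j hij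
      exact hσ 1 _ _ (Fin.le_def.mpr (by simpa using Fin.le_def.mp hij)))
    (by
      intro i j hij
      exact hσ 2 _ _ (Fin.le_def.mpr (by simpa using Fin.le_def.mp hij)))
  have key := ge_of_HB (F.rk 2) (fun i => F'.deg 1 (Fin.cast h1.symm i))
    (fun j => F'.deg 2 (Fin.cast h2.symm j)) hE hS
  have := key (Fin.cast h1 ((σ 1).symm c))
  have e : Fin.cast h1.symm (Fin.cast h1 ((σ 1).symm c)) = (σ 1).symm c := Fin.ext rfl
  simp only [e] at this
  change (F.rk 2 : ℤ) ≤ F.deg 1 (σ 1 ((σ 1).symm c)) at this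
  rwa [Equiv.apply_symm_apply] at this

end Sorted

section Final

variable {k : Type u} [Field k]
  (Z : Finset (Fin 3 → k)) (hZ : ∀ p ∈ Z, p ≠ 0)
  (I : Ideal (MvPolynomial (Fin 3) k))
  (hI : ∀ f : MvPolynomial (Fin 3) k, f ∈ I ↔
    ∀ p ∈ Z, ∀ j : ℕ, MvPolynomial.eval p (MvPolynomial.homogeneousComponent j f) = 0)

theorem eq_zero_of_mem_neg' {n : ℤ} (hn : n < 0) :
    ∀ x : MvPolynomial (Fin 3) k, x ∈ stdGr k (Fin 3) n → x = 0 := by
  intro x hx
  have := stdGr_neg_eq_bot (k := k) (σ := Fin 3) hn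
  rw [this] at hx
  exact (Submodule.mem_bot _).mp hx

include hZ hI in
theorem gens_bound_nonempty (hZne : Z.Nonempty) (d : ℕ)
    (hf : ∃ f ∈ I, MvPolynomial.IsHomogeneous f d ∧ f ≠ 0) :
    Submodule.spanFinrank I ≤ d + 1 := by
  classical
  have hfact : Fact (IsHomog (stdGr k (Fin 3))
      (I : Submodule (MvPolynomial (Fin 3) k) (MvPolynomial (Fin 3) k))) :=
    ⟨vanishing_isHomog Z I hI⟩
  obtain ⟨F, hmin, hlen, h12, h0, hdeg0, haug⟩ := points_HB Z hZ I hI hZne
  have hge : ∀ c : Fin (F.rk 1), (F.rk 2 : ℤ) ≤ F.deg 1 c := by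
    intro c
    refine deg_one_ge Z hZ hZne I hI (Submodule.mkQ
      (I : Submodule (MvPolynomial (Fin 3) k) (MvPolynomial (Fin 3) k)))
      (Submodule.mkQ_surjective _) ?_ (Submodule.ker_mkQ _) F hmin hlen h12 c
    intro i x hx
    exact mk_mem_quotGr _ _ hx
  have hb₀ : ∀ b : Fin (F.rk 0), b = Fin.cast h0.symm 0 := by
    intro b
    apply Fin.ext
    have := b.2
    simp only [Fin.val_cast, Fin.val_zero]
    omega
  set b₀ : Fin (F.rk 0) := Fin.cast h0.symm 0 with hb₀def
  have haugv : ∀ v : Fin (F.rk 0) → MvPolynomial (Fin 3) k,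
      F.augLin v = Submodule.Quotient.mk (v b₀) := by
    intro v
    rw [Fintype.linearCombination_apply]
    have : (Finset.univ : Finset (Fin (F.rk 0))) = {b₀} := by
      ext b
      simp only [Finset.mem_univ, Finset.mem_singleton, true_iff]
      exact hb₀ b
    rw [this, Finset.sum_singleton, haug, ← Submodule.Quotient.mk_smul, smul_eq_mul, mul_one]
  have hmem : ∀ x : MvPolynomial (Fin 3) k, x ∈ I ↔
      ∃ w : Fin (F.rk 1) → MvPolynomial (Fin 3) k, x = ∑ c, F.d 0 b₀ c * w c := by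
    intro x
    constructor
    · intro hx
      have hx' : (fun _ : Fin (F.rk 0) => x) ∈ LinearMap.ker F.augLin := by
        rw [LinearMap.mem_ker, haugv, Submodule.Quotient.mk_eq_zero]
        exact hx
      rw [F.exact_zero] at hx'
      obtain ⟨w, hw⟩ := hx'
      refine ⟨w, ?_⟩
      have := congrFun hw b₀
      rw [Matrix.mulVecLin_apply] at this
      exact this.symm
    · rintro ⟨w, rfl⟩
      have hw : (F.d 0).mulVecLin w ∈ LinearMap.ker F.augLin := by
        rw [F.exact_zero]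
        exact ⟨w, rfl⟩
      rw [LinearMap.mem_ker, haugv, Submodule.Quotient.mk_eq_zero] at hw
      exact hw
  have hspan : I = Ideal.span (Set.range (fun c => F.d 0 b₀ c)) := by
    apply le_antisymm
    · intro x hx
      obtain ⟨w, rfl⟩ := (hmem x).mp hx
      refine Ideal.sum_mem _ (fun c _ => ?_)
      exact Ideal.mul_mem_right _ _ (Ideal.subset_span ⟨c, rfl⟩)
    · rw [Ideal.span_le]
      rintro _ ⟨c, rfl⟩
      rw [SetLike.mem_coe, hmem]
      refine ⟨Pi.single c 1, ?_⟩
      rw [Finset.sum_eq_single c]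
      · simp
      · intro c' _ hc'
        rw [Pi.single_eq_of_ne hc', mul_zero]
      · intro h
        exact absurd (Finset.mem_univ c) h
  have hrank : Submodule.spanFinrank I ≤ F.rk 1 := by
    conv_lhs => rw [hspan]
    refine le_trans (Submodule.spanFinrank_span_le_ncard_of_finite (Set.finite_range _)) ?_
    calc (Set.range (fun c => F.d 0 b₀ c)).ncard
        ≤ Nat.card (Fin (F.rk 1)) := by
          rw [← Set.image_univ, ← Set.ncard_univ]
          exact Set.ncard_image_le Set.finite_univ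
      _ = F.rk 1 := by simp
  obtain ⟨f, hfI, hfd, hfne⟩ := hf
  obtain ⟨w, hw⟩ := (hmem f).mp hfI
  have hfd' : f ∈ stdGr k (Fin 3) (d : ℤ) := (mem_stdGr_natCast_iff d f).2 hfd
  have hex : ∃ c : Fin (F.rk 1), F.deg 1 c ≤ d := by
    by_contra hcon
    push Not at hcon
    apply hfne
    have h1 : (decompose (stdGr k (Fin 3)) f (d : ℤ) : MvPolynomial (Fin 3) k) = f :=
      decompose_of_mem_same _ hfd'
    rw [← h1, hw, decompose_sum, DFinsupp.finsetSum_apply, AddSubmonoidClass.coe_finsetSum]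
    apply Finset.sum_eq_zero
    intro c _
    have hg : F.d 0 b₀ c ∈ stdGr k (Fin 3) (F.deg 1 c) := by
      have := F.d_mem 0 b₀ c
      rw [hdeg0 b₀, sub_zero] at this
      exact this
    rw [coe_decompose_mul_of_left_mem (stdGr k (Fin 3)) _ hg]
    have : (decompose (stdGr k (Fin 3)) (w c) ((d : ℤ) - F.deg 1 c) :
        MvPolynomial (Fin 3) k) = 0 :=
      eq_zero_of_mem_neg' (by have := hcon c; omega) _ (SetLike.coe_mem _)
    rw [this, mul_zero]
  obtain ⟨c, hc⟩ := hex
  have := hge c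
  omega

include hZ hI in
theorem gens_bound (d : ℕ)
    (hf : ∃ f ∈ I, MvPolynomial.IsHomogeneous f d ∧ f ≠ 0) :
    Submodule.spanFinrank I ≤ d + 1 := by
  rcases Z.eq_empty_or_nonempty with hZe | hZne
  · have hI' := eq_top_of_empty Z I hI hZe
    rw [hI', ← Ideal.span_singleton_one]
    refine le_trans (Submodule.spanFinrank_span_le_ncard_of_finite (Set.finite_singleton _)) ?_
    rw [Set.ncard_singleton]
    omega
  · exact gens_bound_nonempty Z hZ I hI hZne d hf

end Final

end Groth.Agent.Lib.Helper8.GrSyzPoints3
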