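import Groth.Agent.Lib.Helper8.GrSyzStrand
import Mathlib.Algebra.DirectSum.Module
import Mathlib.LinearAlgebra.Quotient.Basic

set_option autoImplicit false
set_option linter.unusedSectionVars false
universe u

namespace Groth.Agent.Lib.Helper8.GrSyzQuot

open GrSyz DirectSum

variable {k R : Type u} [Field k] [CommRing R] [Algebra k R] {𝒜 : ℤ → Submodule k R}
  [GradedAlgebra 𝒜]
variable {M : Type u} [AddCommGroup M] [Module k M] [Module R M] [IsScalarTower k R M]
  (ℳ : ℤ → Submodule k M) [DirectSum.Decomposition ℳ] [SetLike.GradedSMul 𝒜 ℳ]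
variable (K : Submodule R M)

def IsHomog : Prop := ∀ m ∈ K, ∀ d, (decompose ℳ m d : M) ∈ K

variable (k) in
def mkk : M →ₗ[k] M ⧸ K := K.mkQ.restrictScalars k

theorem mkk_apply (m : M) : mkk k K m = Submodule.Quotient.mk m := rfl

def quotGr (d : ℤ) : Submodule k (M ⧸ K) := (ℳ d).map (mkk k K)

theorem mk_mem_quotGr {d : ℤ} {m : M} (hm : m ∈ ℳ d) :
    (Submodule.Quotient.mk m : M ⧸ K) ∈ quotGr ℳ K d :=
  Submodule.mem_map_of_mem hm

def restr (d : ℤ) : ℳ d →ₗ[k] quotGr ℳ K d :=
  (mkk k K).restrict (p := ℳ d) (q := quotGr ℳ K d) (fun _ hm => Submodule.mem_map_of_mem hm)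

noncomputable def decompAux : M →ₗ[k] ⨁ d, quotGr ℳ K d :=
  (DirectSum.lmap (restr ℳ K)) ∘ₗ (decomposeLinearEquiv ℳ).toLinearMap

theorem decompAux_apply (m : M) (d : ℤ) :
    ((decompAux ℳ K m) d : M ⧸ K) = Submodule.Quotient.mk (decompose ℳ m d : M) := by
  simp [decompAux, restr, mkk, DirectSum.lmap_apply]
  rfl

variable {ℳ K}

theorem decompAux_eq_zero (hK : IsHomog ℳ K) {m : M} (hm : m ∈ K) : decompAux ℳ K m = 0 := by
  ext d
  rw [decompAux_apply, DirectSum.zero_apply, ZeroMemClass.coe_zero,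
    Submodule.Quotient.mk_eq_zero]
  exact hK m hm d

noncomputable def decompQ (hK : IsHomog ℳ K) : (M ⧸ K) →ₗ[k] ⨁ d, quotGr ℳ K d :=
  LinearMap.comp
    (Submodule.liftQ (R₂ := k) (M₂ := ⨁ d, quotGr ℳ K d) (τ₁₂ := RingHom.id k)
      (K.restrictScalars k) (decompAux ℳ K)
      (fun _ hm => LinearMap.mem_ker.2 (decompAux_eq_zero hK hm)))
    (Submodule.Quotient.restrictScalarsEquiv k K).symm.toLinearMap

theorem decompQ_mk (hK : IsHomog ℳ K) (m : M) :
    decompQ hK (Submodule.Quotient.mk m) = decompAux ℳ K m := by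
  have e : (Submodule.Quotient.restrictScalarsEquiv k K).symm (Submodule.Quotient.mk m) =
      Submodule.Quotient.mk m := by
    rw [LinearEquiv.symm_apply_eq]
    rfl
  rw [decompQ, LinearMap.comp_apply, LinearEquiv.coe_coe, e, Submodule.liftQ_apply]

theorem coe_decompAux (m : M) :
    DirectSum.coeLinearMap (quotGr ℳ K) (decompAux ℳ K m) = Submodule.Quotient.mk m := by
  have h : ∀ x : ⨁ d, ℳ d, DirectSum.coeLinearMap (quotGr ℳ K) (DirectSum.lmap (restr ℳ K) x) =
      mkk k K (DirectSum.coeLinearMap ℳ x) := by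
    intro x
    induction x using DirectSum.induction_on with
    | zero => simp
    | of d y =>
      rw [← DirectSum.lof_eq_of k, DirectSum.lmap_lof, DirectSum.coeLinearMap_lof,
        DirectSum.coeLinearMap_lof]
      rfl
    | add x y hx hy => rw [map_add, map_add, hx, hy, map_add, map_add]
  change DirectSum.coeLinearMap (quotGr ℳ K) (DirectSum.lmap (restr ℳ K) (decompose ℳ m)) = _
  rw [h]
  change mkk k K ((decompose ℳ).symm (decompose ℳ m)) = _
  rw [Equiv.symm_apply_apply]
  rfl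

@[instance_reducible]
noncomputable def quotDecomposition (hK : IsHomog ℳ K) :
    DirectSum.Decomposition (quotGr ℳ K) :=
  DirectSum.Decomposition.ofLinearMap (quotGr ℳ K) (decompQ hK)
    (by
      ext q
      obtain ⟨m, rfl⟩ := Submodule.Quotient.mk_surjective K q
      rw [LinearMap.comp_apply, decompQ_mk, coe_decompAux]
      rfl)
    (by
      ext d ⟨q, hq⟩ : 2
      obtain ⟨m, hm, rfl⟩ := hq
      rw [LinearMap.comp_apply, LinearMap.comp_apply, DirectSum.coeLinearMap_lof,
        LinearMap.id_comp]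
      change decompQ hK (Submodule.Quotient.mk m) = _
      rw [decompQ_mk]
      change DirectSum.lmap (restr ℳ K) (decompose ℳ m) = _
      rw [decompose_of_mem ℳ hm, ← DirectSum.lof_eq_of k, DirectSum.lmap_lof]
      rfl)

theorem quotGradedSMul : SetLike.GradedSMul 𝒜 (quotGr ℳ K) where
  smul_mem := by
    rintro i j s q hs ⟨m, hm, rfl⟩
    change s • (Submodule.Quotient.mk m : M ⧸ K) ∈ _
    rw [← Submodule.Quotient.mk_smul]
    exact mk_mem_quotGr ℳ K (SetLike.GradedSMul.smul_mem hs hm)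

theorem mkQ_isGrHom : ∀ d m, m ∈ ℳ d → K.mkQ m ∈ quotGr ℳ K d :=
  fun _ _ hm => mk_mem_quotGr ℳ K hm

end Groth.Agent.Lib.Helper8.GrSyzQuot
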