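import Groth.Agent.Lib.Helper8.GrSyzFinLen
import Mathlib.RingTheory.Regular.RegularSequence

set_option autoImplicit false
set_option linter.unusedSectionVars false
universe u

namespace Groth.Agent.Lib.Helper8.GrSyzRegSeq

open GrSyz DirectSum Pointwise
open Groth.Agent.Lib.Helper8.GrSyzBasic Groth.Agent.Lib.Helper8.GrSyzStrand
open Groth.Agent.Lib.Helper8.GrSyzHilb Groth.Agent.Lib.Helper8.GrSyzKoszul
open Groth.Agent.Lib.Helper8.GrSyzCone2 Groth.Agent.Lib.Helper8.GrSyzQuot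
open Groth.Agent.Lib.Helper8.GrSyzFinLen

variable {k : Type u} [Field k] {r : ℕ}

section Bij

variable {M : Type u} [AddCommGroup M] [Module k M] [Module (MvPolynomial (Fin (r + 1)) k) M]
  [IsScalarTower k (MvPolynomial (Fin (r + 1)) k) M]
  {ℳ : ℤ → Submodule k M} [DirectSum.Decomposition ℳ]
  [SetLike.GradedSMul (stdGr k (Fin (r + 1))) ℳ]
variable {N : Type u} [AddCommGroup N] [Module k N] [Module (MvPolynomial (Fin (r + 1)) k) N]
  [IsScalarTower k (MvPolynomial (Fin (r + 1)) k) N]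
  {𝒩 : ℤ → Submodule k N} [DirectSum.Decomposition 𝒩]
  [SetLike.GradedSMul (stdGr k (Fin (r + 1))) 𝒩]

theorem isHomog_top : IsHomog ℳ (⊤ : Submodule (MvPolynomial (Fin (r + 1)) k) M) :=
  fun _ _ _ => Submodule.mem_top

theorem isRegLE_iff_of_bijective [Module.Finite (MvPolynomial (Fin (r + 1)) k) M]
    [Module.Finite (MvPolynomial (Fin (r + 1)) k) N]
    (π : M →ₗ[MvPolynomial (Fin (r + 1)) k] N) (hπ : Function.Bijective π)
    (hπg : ∀ d m, m ∈ ℳ d → π m ∈ 𝒩 d) (ρ : ℤ) :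
    IsRegLE (stdGr k (Fin (r + 1))) ℳ (irrel (stdGr k (Fin (r + 1)))).toIdeal ρ ↔
      IsRegLE (stdGr k (Fin (r + 1))) 𝒩 (irrel (stdGr k (Fin (r + 1)))).toIdeal ρ := by
  have : Fact (IsHomog ℳ (⊤ : Submodule (MvPolynomial (Fin (r + 1)) k) M)) := ⟨isHomog_top⟩
  have hsub : Subsingleton (M ⧸ (⊤ : Submodule (MvPolynomial (Fin (r + 1)) k) M)) :=
    Submodule.Quotient.subsingleton_iff.mpr rfl
  let f : (M ⧸ (⊤ : Submodule (MvPolynomial (Fin (r + 1)) k) M)) →ₗ[MvPolynomial (Fin (r + 1)) k]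
      M := 0
  have hf : Function.Injective f := fun a b _ => Subsingleton.elim a b
  have hfg : LinearMap.range f = LinearMap.ker π := by
    rw [LinearMap.ker_eq_bot.mpr hπ.1]
    exact LinearMap.range_zero
  have hfgr : ∀ d q, q ∈ quotGr ℳ (⊤ : Submodule (MvPolynomial (Fin (r + 1)) k) M) d →
      f q ∈ ℳ (d + 0) := fun d q _ => zero_mem _
  constructor
  · intro h
    exact reg_ses_three_shift f π 0 hf hπ.2 hfg hfgr hπg ρ (isRegLE_of_subsingleton _ _) h
  · intro h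
    exact reg_ses_two_shift f π 0 hf hπ.2 hfg hfgr hπg ρ (isRegLE_of_subsingleton _ _) h

end Bij

section Seq

theorem isHomog_smul_top {M : Type u} [AddCommGroup M] [Module k M]
    [Module (MvPolynomial (Fin (r + 1)) k) M] [IsScalarTower k (MvPolynomial (Fin (r + 1)) k) M]
    (ℳ : ℤ → Submodule k M) [DirectSum.Decomposition ℳ]
    [SetLike.GradedSMul (stdGr k (Fin (r + 1))) ℳ]
    (y : MvPolynomial (Fin (r + 1)) k) (hy : y ∈ stdGr k (Fin (r + 1)) 1) :
    IsHomog ℳ (y • (⊤ : Submodule (MvPolynomial (Fin (r + 1)) k) M)) := by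
  intro m' hm' t
  obtain ⟨m, -, rfl⟩ := (Submodule.mem_smul_pointwise_iff_exists _ _ _).mp hm'
  rw [coe_decompose_smul_of_left_mem ℳ hy]
  exact Submodule.smul_mem_pointwise_smul _ _ _ Submodule.mem_top

theorem isRegLE_iff_of_weaklyRegular (ys : List (MvPolynomial (Fin (r + 1)) k)) :
    ∀ (M : Type u) [AddCommGroup M] [Module k M] [Module (MvPolynomial (Fin (r + 1)) k) M]
      [IsScalarTower k (MvPolynomial (Fin (r + 1)) k) M]
      [Module.Finite (MvPolynomial (Fin (r + 1)) k) M]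
      (ℳ : ℤ → Submodule k M) [DirectSum.Decomposition ℳ]
      [SetLike.GradedSMul (stdGr k (Fin (r + 1))) ℳ]
      (N : Type u) [AddCommGroup N] [Module k N] [Module (MvPolynomial (Fin (r + 1)) k) N]
      [IsScalarTower k (MvPolynomial (Fin (r + 1)) k) N]
      [Module.Finite (MvPolynomial (Fin (r + 1)) k) N]
      (𝒩 : ℤ → Submodule k N) [DirectSum.Decomposition 𝒩]
      [SetLike.GradedSMul (stdGr k (Fin (r + 1))) 𝒩]
      (π : M →ₗ[MvPolynomial (Fin (r + 1)) k] N), Function.Surjective π →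
      (∀ d m, m ∈ ℳ d → π m ∈ 𝒩 d) →
      LinearMap.ker π = Ideal.ofList ys • (⊤ : Submodule (MvPolynomial (Fin (r + 1)) k) M) →
      (∀ y ∈ ys, y ∈ stdGr k (Fin (r + 1)) 1) → RingTheory.Sequence.IsWeaklyRegular M ys →
      ∀ ρ : ℤ, IsRegLE (stdGr k (Fin (r + 1))) ℳ (irrel (stdGr k (Fin (r + 1)))).toIdeal ρ ↔
        IsRegLE (stdGr k (Fin (r + 1))) 𝒩 (irrel (stdGr k (Fin (r + 1)))).toIdeal ρ := by
  induction ys with
  | nil =>
    intro M _ _ _ _ _ ℳ _ _ N _ _ _ _ _ 𝒩 _ _ π hπ hπg hker _ _ ρ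
    rw [Ideal.ofList_nil, Submodule.bot_smul] at hker
    exact isRegLE_iff_of_bijective π ⟨LinearMap.ker_eq_bot.mp hker, hπ⟩ hπg ρ
  | cons y ys ih =>
    intro M _ _ _ _ _ ℳ _ _ N _ _ _ _ _ 𝒩 _ _ π hπ hπg hker hys hreg ρ
    have hy : y ∈ stdGr k (Fin (r + 1)) 1 := hys y List.mem_cons_self
    rw [RingTheory.Sequence.isWeaklyRegular_cons_iff] at hreg
    obtain ⟨hreg1, hreg2⟩ := hreg
    have : Fact (IsHomog ℳ (y • (⊤ : Submodule (MvPolynomial (Fin (r + 1)) k) M))) :=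
      ⟨isHomog_smul_top ℳ y hy⟩
    have hKle : y • (⊤ : Submodule (MvPolynomial (Fin (r + 1)) k) M) ≤ LinearMap.ker π := by
      rw [hker, Ideal.ofList_cons_smul]
      exact le_sup_left
    have hmk : LinearMap.ker (y • (⊤ : Submodule (MvPolynomial (Fin (r + 1)) k) M)).mkQ =
        LinearMap.range (LinearMap.lsmul (MvPolynomial (Fin (r + 1)) k) M y) := by
      rw [Submodule.ker_mkQ]
      ext m'
      rw [Submodule.mem_smul_pointwise_iff_exists, LinearMap.mem_range]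
      constructor
      · rintro ⟨m, -, rfl⟩
        exact ⟨m, rfl⟩
      · rintro ⟨m, rfl⟩
        exact ⟨m, Submodule.mem_top, rfl⟩
    have step1 := isRegLE_iff_of_regular
      (𝒩 := quotGr ℳ (y • (⊤ : Submodule (MvPolynomial (Fin (r + 1)) k) M))) y hy hreg1
      (y • (⊤ : Submodule (MvPolynomial (Fin (r + 1)) k) M)).mkQ
      (Submodule.mkQ_surjective _) (fun _ _ hm' => mk_mem_quotGr ℳ _ hm') hmk ρ
    let π' : (M ⧸ y • (⊤ : Submodule (MvPolynomial (Fin (r + 1)) k) M))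
        →ₗ[MvPolynomial (Fin (r + 1)) k] N :=
      (y • (⊤ : Submodule (MvPolynomial (Fin (r + 1)) k) M)).liftQ π hKle
    have hπ' : Function.Surjective π' := by
      intro n
      obtain ⟨m, rfl⟩ := hπ n
      exact ⟨Submodule.Quotient.mk m, rfl⟩
    have hπ'g : ∀ d q, q ∈ quotGr ℳ (y • (⊤ : Submodule (MvPolynomial (Fin (r + 1)) k) M)) d →
        π' q ∈ 𝒩 d := by
      rintro d _ ⟨m, hm, rfl⟩
      exact hπg d m hm
    have hker' : LinearMap.ker π' = Ideal.ofList ys •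
        (⊤ : Submodule (MvPolynomial (Fin (r + 1)) k)
          (M ⧸ y • (⊤ : Submodule (MvPolynomial (Fin (r + 1)) k) M))) := by
      change LinearMap.ker ((y • (⊤ : Submodule (MvPolynomial (Fin (r + 1)) k) M)).liftQ π hKle) = _
      have hbot : Submodule.map (y • (⊤ : Submodule (MvPolynomial (Fin (r + 1)) k) M)).mkQ
          (y • (⊤ : Submodule (MvPolynomial (Fin (r + 1)) k) M)) = ⊥ :=
        LinearMap.le_ker_iff_map.mp (by rw [Submodule.ker_mkQ])
      rw [Submodule.ker_liftQ, hker, Ideal.ofList_cons_smul, Submodule.map_sup, hbot, bot_sup_eq,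
        Submodule.map_smul'', Submodule.map_top, Submodule.range_mkQ]
    have step2 := ih (M ⧸ y • (⊤ : Submodule (MvPolynomial (Fin (r + 1)) k) M))
      (quotGr ℳ (y • (⊤ : Submodule (MvPolynomial (Fin (r + 1)) k) M))) N 𝒩 π' hπ' hπ'g hker'
      (fun y' hy' => hys y' (List.mem_cons_of_mem _ hy')) hreg2 ρ
    exact step1.trans step2

theorem reg_eq_of_weaklyRegular {M : Type u} [AddCommGroup M] [Module k M]
    [Module (MvPolynomial (Fin (r + 1)) k) M] [IsScalarTower k (MvPolynomial (Fin (r + 1)) k) M]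
    [Module.Finite (MvPolynomial (Fin (r + 1)) k) M]
    (ℳ : ℤ → Submodule k M) [DirectSum.Decomposition ℳ]
    [SetLike.GradedSMul (stdGr k (Fin (r + 1))) ℳ]
    {N : Type u} [AddCommGroup N] [Module k N] [Module (MvPolynomial (Fin (r + 1)) k) N]
    [IsScalarTower k (MvPolynomial (Fin (r + 1)) k) N]
    [Module.Finite (MvPolynomial (Fin (r + 1)) k) N]
    (𝒩 : ℤ → Submodule k N) [DirectSum.Decomposition 𝒩]
    [SetLike.GradedSMul (stdGr k (Fin (r + 1))) 𝒩]
    (ys : List (MvPolynomial (Fin (r + 1)) k))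
    (π : M →ₗ[MvPolynomial (Fin (r + 1)) k] N) (hπ : Function.Surjective π)
    (hπg : ∀ d m, m ∈ ℳ d → π m ∈ 𝒩 d)
    (hker : LinearMap.ker π =
      Ideal.ofList ys • (⊤ : Submodule (MvPolynomial (Fin (r + 1)) k) M))
    (hys : ∀ y ∈ ys, y ∈ stdGr k (Fin (r + 1)) 1)
    (hreg : RingTheory.Sequence.IsWeaklyRegular M ys) :
    reg (stdGr k (Fin (r + 1))) ℳ (irrel (stdGr k (Fin (r + 1)))).toIdeal =
      reg (stdGr k (Fin (r + 1))) 𝒩 (irrel (stdGr k (Fin (r + 1)))).toIdeal := by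
  unfold reg
  exact iInf_congr fun ρ => iInf_congr_Prop
    (isRegLE_iff_of_weaklyRegular ys M ℳ N 𝒩 π hπ hπg hker hys hreg ρ) (fun _ => rfl)

end Seq

end Groth.Agent.Lib.Helper8.GrSyzRegSeq
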