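import Groth.Agent.Lib.Helper8.GrVer
import Groth.Agent.Lib.Helper8.GrLCSerre

/-!
# Local cohomology of Veronese modules
-/

set_option autoImplicit false
set_option linter.unusedSectionVars false
universe u

open DirectSum GrLC CategoryTheory
open Groth.Agent.Lib.Helper30
open Groth.Agent.Lib.Helper8.GrLCBase
open Groth.Agent.Lib.Helper8.GrLCLES Groth.Agent.Lib.Helper8.GrAcyc
open Groth.Agent.Lib.Helper8.GrLCSerre Groth.Agent.Lib.Helper8.GrVer

namespace Groth.Agent.Lib.Helper8.GrVerMain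

section Generic

theorem exists_addEquiv_of_surj {Z A B : Type*} [AddCommGroup Z] [AddCommGroup A]
    [AddCommGroup B] (pA : Z →+ A) (pB : Z →+ B) (hA : Function.Surjective pA)
    (hB : Function.Surjective pB) (hker : ∀ z, pA z = 0 ↔ pB z = 0) :
    ∃ j : A ≃+ B, ∀ z, j (pA z) = pB z := by
  have hk : pA.ker = pB.ker := by
    ext z
    rw [AddMonoidHom.mem_ker, AddMonoidHom.mem_ker]
    exact hker z
  let e1 := QuotientAddGroup.quotientKerEquivOfSurjective pA hA
  let e2 := QuotientAddGroup.quotientKerEquivOfSurjective pB hB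
  let e3 := QuotientAddGroup.quotientAddEquivOfEq hk
  refine ⟨e1.symm.trans (e3.trans e2), fun z => ?_⟩
  have h1 : e1.symm (pA z) = QuotientAddGroup.mk z := by
    rw [AddEquiv.symm_apply_eq]
    rfl
  rw [AddEquiv.trans_apply, h1, AddEquiv.trans_apply]
  rfl

end Generic

section Tors

variable {ι κ : Type} [AddCommGroup ι] [DecidableEq ι] [AddCommGroup κ] [DecidableEq κ]
  {e : κ →+ ι}
variable {R : Type u} [CommRing R] {𝒜 : ι → AddSubgroup R} [GradedRing 𝒜]
variable {R' : Type u} [CommRing R'] {𝒜' : κ → AddSubgroup R'} [GradedRing 𝒜'] {φ : R' →+* R}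
  (hdeg : ∀ j : κ, (𝒜' j).map (φ : R' →+ R) = 𝒜 (e j))
variable {Y : Type u} [AddCommGroup Y] [Module R Y] (𝒴 : ι → AddSubgroup Y)
  [DirectSum.Decomposition 𝒴] [SetLike.GradedSMul 𝒜 𝒴]

theorem mem_gam_ver_iff (a' : Ideal R') (a : Ideal R) (h1 : a'.map φ ≤ a) (N : ℕ)
    (h2 : a ^ N ≤ a'.map φ) (w : Ver hdeg 𝒴) :
    w ∈ gam a' (Ver hdeg 𝒴) ↔ Ver.incl hdeg 𝒴 w ∈ gam a Y := by
  constructor
  · rintro ⟨k, hk⟩
    refine ⟨N * k, fun r hr => ?_⟩
    have hr' : r ∈ (a' ^ k).map φ := by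
      rw [Ideal.map_pow]
      have : a ^ (N * k) ≤ (a'.map φ) ^ k := by
        rw [pow_mul]
        exact Ideal.pow_right_mono h2 k
      exact this hr
    have hr'' : r ∈ Submodule.span R (φ '' ((a' ^ k : Ideal R') : Set R')) := hr'
    refine Submodule.span_induction (p := fun r _ => r • Ver.incl hdeg 𝒴 w = 0) ?_ ?_ ?_ ?_ hr''
    · rintro _ ⟨s, hs, rfl⟩
      have := congrArg (Ver.incl hdeg 𝒴) (hk s hs)
      rw [Ver.incl_smul, map_zero] at this
      exact this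
    · exact zero_smul _ _
    · intro r s _ _ h1 h2
      rw [add_smul, h1, h2, add_zero]
    · intro c r _ h1
      rw [smul_eq_mul, mul_smul, h1, smul_zero]
  · rintro ⟨k, hk⟩
    refine ⟨k, fun r hr => ?_⟩
    apply Ver.ext hdeg 𝒴
    rw [Ver.incl_smul]
    have : φ r ∈ a ^ k := by
      have h3 : φ r ∈ (a' ^ k).map φ := Ideal.mem_map_of_mem _ hr
      rw [Ideal.map_pow] at h3
      exact Ideal.pow_right_mono h1 k h3
    rw [hk _ this, map_zero]

end Tors

section Main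

variable {ι κ : Type} [AddCommGroup ι] [DecidableEq ι] [AddCommGroup κ] [DecidableEq κ]
  {e : κ →+ ι} (he : Function.Injective e)
variable {R : Type u} [CommRing R] {𝒜 : ι → AddSubgroup R} [GradedRing 𝒜]
variable {R' : Type u} [CommRing R'] {𝒜' : κ → AddSubgroup R'} [GradedRing 𝒜'] {φ : R' →+* R}
  (hdeg : ∀ j : κ, (𝒜' j).map (φ : R' →+ R) = 𝒜 (e j)) (hφ : Function.Injective φ)
variable {M : Type u} [AddCommGroup M] [Module R M] {ℳ : ι → AddSubgroup M}
  [DirectSum.Decomposition ℳ] [SetLike.GradedSMul 𝒜 ℳ]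
variable {M' : Type u} [AddCommGroup M'] [Module R' M'] {ℳ' : κ → AddSubgroup M'}
  [DirectSum.Decomposition ℳ'] [SetLike.GradedSMul 𝒜' ℳ']
  (g : M' →ₛₗ[φ] M) (hg : Function.Injective g)
  (hgdeg : ∀ j : κ, (ℳ' j).map (g : M' →+ M) = ℳ (e j))
variable (m : HomogeneousIdeal 𝒜) (m' : HomogeneousIdeal 𝒜')
  (h1 : m'.toIdeal.map φ ≤ m.toIdeal) (N : ℕ) (h2 : m.toIdeal ^ N ≤ m'.toIdeal.map φ)
variable (E : StarInjRes 𝒜 ℳ)

/-- The inclusion of the terms of the Veronese resolution. -/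
def Xincl (p : ℕ) : ((verRes he hdeg g hg hgdeg E).X p).carrier →+ (E.X p).carrier :=
  Ver.incl hdeg (E.X p).gr

theorem Xincl_injective (p : ℕ) : Function.Injective (Xincl he hdeg g hg hgdeg E p) :=
  Ver.incl_injective hdeg (E.X p).gr

/-- Elements of the Veronese subgroup as elements of the terms of the Veronese resolution. -/
def Xmk (p : ℕ) (y : (E.X p).carrier) (hy : y ∈ verSub e (E.X p).gr) :
    ((verRes he hdeg g hg hgdeg E).X p).carrier :=
  Ver.mk hdeg (E.X p).gr y hy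

theorem Xincl_Xmk (p : ℕ) (y : (E.X p).carrier) (hy : y ∈ verSub e (E.X p).gr) :
    Xincl he hdeg g hg hgdeg E p (Xmk he hdeg g hg hgdeg E p y hy) = y := rfl

theorem Xincl_d (p : ℕ) (w : ((verRes he hdeg g hg hgdeg E).X p).carrier) :
    Xincl he hdeg g hg hgdeg E (p + 1) ((verRes he hdeg g hg hgdeg E).d p w) =
      E.d p (Xincl he hdeg g hg hgdeg E p w) := rfl

theorem Xincl_smul (p : ℕ) (r : R') (w : ((verRes he hdeg g hg hgdeg E).X p).carrier) :
    Xincl he hdeg g hg hgdeg E p (r • w) = φ r • Xincl he hdeg g hg hgdeg E p w := rfl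

theorem mem_gr_iff (p : ℕ) (j : κ) (w : ((verRes he hdeg g hg hgdeg E).X p).carrier) :
    w ∈ ((verRes he hdeg g hg hgdeg E).X p).gr j ↔
      Xincl he hdeg g hg hgdeg E p w ∈ (E.X p).gr (e j) := Iff.rfl

include h1 h2 in
theorem mem_gam_iff (p : ℕ) (w : ((verRes he hdeg g hg hgdeg E).X p).carrier) :
    w ∈ gam m'.toIdeal ((verRes he hdeg g hg hgdeg E).X p).carrier ↔
      Xincl he hdeg g hg hgdeg E p w ∈ gam m.toIdeal (E.X p).carrier :=
  mem_gam_ver_iff hdeg (E.X p).gr m'.toIdeal m.toIdeal h1 N h2 w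

/-- A homogeneous cocycle of degree `e j`, as an element of the Veronese module. -/
def zmk {p : ℕ} {j : κ} (z : ↥(Zc E m p (e j))) : ((verRes he hdeg g hg hgdeg E).X p).carrier :=
  Xmk he hdeg g hg hgdeg E p z.1 (mem_verSub_of_mem e (E.X p).gr z.2.2.2)

theorem incl_zmk {p : ℕ} {j : κ} (z : ↥(Zc E m p (e j))) :
    Xincl he hdeg g hg hgdeg E p (zmk he hdeg g hg hgdeg m E z) = z.1 := rfl

include h1 h2 in
theorem zmk_mem_cocyc {p : ℕ} {j : κ} (z : ↥(Zc E m p (e j))) :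
    zmk he hdeg g hg hgdeg m E z ∈ (verRes he hdeg g hg hgdeg E).cocyc m'.toIdeal p := by
  refine ⟨(mem_gam_iff he hdeg g hg hgdeg m m' h1 N h2 E p _).mpr z.2.1, ?_⟩
  change (verRes he hdeg g hg hgdeg E).d p (zmk he hdeg g hg hgdeg m E z) = 0
  apply Xincl_injective he hdeg g hg hgdeg E (p + 1)
  rw [Xincl_d, incl_zmk, map_zero]
  exact z.2.2.1

include h1 h2 in
theorem zmk_mem_cobdy_iff {p : ℕ} {j : κ} (z : ↥(Zc E m p (e j))) :
    zmk he hdeg g hg hgdeg m E z ∈ (verRes he hdeg g hg hgdeg E).cobdy m'.toIdeal p ↔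
      (z : (E.X p).carrier) ∈ E.cobdy m p := by
  cases p with
  | zero =>
    rw [GrRes.mem_cobdy_zero, GrLCBase.mem_cobdy_zero]
    constructor
    · intro h
      have := congrArg (Xincl he hdeg g hg hgdeg E 0) h
      rw [incl_zmk, map_zero] at this
      exact this
    · intro h
      apply Xincl_injective he hdeg g hg hgdeg E 0
      rw [incl_zmk, map_zero]
      exact h
  | succ n =>
    rw [GrRes.mem_cobdy_succ, GrLCBase.mem_cobdy_succ]
    constructor
    · rintro ⟨y, hy, hyz⟩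
      refine ⟨Xincl he hdeg g hg hgdeg E n y,
        (mem_gam_iff he hdeg g hg hgdeg m m' h1 N h2 E n _).mp hy, ?_⟩
      have := congrArg (Xincl he hdeg g hg hgdeg E (n + 1)) hyz
      rw [Xincl_d, incl_zmk] at this
      exact this
    · intro hz
      have hz' : (z : (E.X (n + 1)).carrier) ∈ E.cobdy m (n + 1) := by
        rw [GrLCBase.mem_cobdy_succ]
        exact hz
      obtain ⟨y, hyt, hyh, hy⟩ := cobdy_homog E m hz' z.2.2.2
      refine ⟨Xmk he hdeg g hg hgdeg E n y (mem_verSub_of_mem e _ hyh),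
        (mem_gam_iff he hdeg g hg hgdeg m m' h1 N h2 E n _).mpr hyt, ?_⟩
      apply Xincl_injective he hdeg g hg hgdeg E (n + 1)
      rw [Xincl_d, Xincl_Xmk, incl_zmk]
      exact hy

end Main

section Final

variable {ι κ : Type} [AddCommGroup ι] [DecidableEq ι] [AddCommGroup κ] [DecidableEq κ]
  [Module.Free ℤ ι] [Module.Finite ℤ ι] [Module.Free ℤ κ] [Module.Finite ℤ κ]
  {e : κ →+ ι} (he : Function.Injective e)
variable {R : Type u} [CommRing R] [IsNoetherianRing R] {𝒜 : ι → AddSubgroup R} [GradedRing 𝒜]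
variable {R' : Type u} [CommRing R'] {𝒜' : κ → AddSubgroup R'} [GradedRing 𝒜'] {φ : R' →+* R}
  (hdeg : ∀ j : κ, (𝒜' j).map (φ : R' →+ R) = 𝒜 (e j)) (hφ : Function.Injective φ)
variable {M : Type u} [AddCommGroup M] [Module R M] {ℳ : ι → AddSubgroup M}
  [DirectSum.Decomposition ℳ] [SetLike.GradedSMul 𝒜 ℳ]
variable {M' : Type u} [AddCommGroup M'] [Module R' M'] {ℳ' : κ → AddSubgroup M'}
  [DirectSum.Decomposition ℳ'] [SetLike.GradedSMul 𝒜' ℳ']
  (g : M' →ₛₗ[φ] M) (hg : Function.Injective g)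
  (hgdeg : ∀ j : κ, (ℳ' j).map (g : M' →+ M) = ℳ (e j))
variable (m : HomogeneousIdeal 𝒜) (m' : HomogeneousIdeal 𝒜')
  (h1 : m'.toIdeal.map φ ≤ m.toIdeal) (N : ℕ) (h2 : m.toIdeal ^ N ≤ m'.toIdeal.map φ)
  (hhom : (m'.toIdeal.map φ).IsHomogeneous 𝒜)
variable (E : StarInjRes 𝒜 ℳ) (F : StarInjRes 𝒜' ℳ')

include he hdeg hφ hg hgdeg h1 h2 hhom in
/-- **Local cohomology of a Veronese module**: the pieces of `H^p_{m'}(M^(q))` and of
`H^p_m(M)` in corresponding degrees have the same rank over the degree-zero subrings. -/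
theorem finrank_eq (p : ℕ) (j : κ) :
    Module.finrank (deg0 𝒜') (F.Hcomp m' p j) = Module.finrank (deg0 𝒜) (E.Hcomp m p (e j)) := by
  have hX : ∀ (n k : ℕ) (g' : κ), VanM m' ((verRes he hdeg g hg hgdeg E).X n).gr (k + 1) g' :=
    fun n k g' => vanM_ver he hdeg hφ (E.X n) (E.starInj n) m' hhom k g'
  obtain ⟨Ψ, hΨ⟩ := GrAcycMain.main' (verRes he hdeg g hg hgdeg E) F m' hX p
  -- the map from homogeneous cocycles of `E` to cocycles of the Veronese resolution
  let θ : ↥(Zc E m p (e j)) →+ ↥((verRes he hdeg g hg hgdeg E).cocyc m'.toIdeal p) :=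
    { toFun := fun z => ⟨zmk he hdeg g hg hgdeg m E z,
        zmk_mem_cocyc he hdeg g hg hgdeg m m' h1 N h2 E z⟩
      map_zero' := rfl
      map_add' := fun _ _ => rfl }
  let pA0 : ↥(Zc E m p (e j)) →+ F.H m' p :=
    (Ψ.toLinearMap.toAddMonoidHom).comp
      (((verRes he hdeg g hg hgdeg E).toH m'.toIdeal p).toAddMonoidHom.comp θ)
  have hpA0 : ∀ z, pA0 z ∈ F.Hcomp m' p j := by
    intro z
    exact (hΨ j _).mp ⟨θ z, z.2.2.2, rfl⟩
  let pA : ↥(Zc E m p (e j)) →+ ↥(F.Hcomp m' p j) := pA0.codRestrict (F.Hcomp m' p j) hpA0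
  let pB : ↥(Zc E m p (e j)) →+ ↥(E.Hcomp m p (e j)) := (pH E m p (e j)).toAddMonoidHom
  have hA : Function.Surjective pA := by
    rintro ⟨x, hx⟩
    have hx' : Ψ.symm x ∈ (verRes he hdeg g hg hgdeg E).Hgr m'.toIdeal p j := by
      rw [hΨ j, LinearEquiv.apply_symm_apply]
      exact hx
    obtain ⟨z', hz'j, hz'⟩ := hx'
    have hzc : Xincl he hdeg g hg hgdeg E p z'.1 ∈ Zc E m p (e j) := by
      refine ⟨(mem_gam_iff he hdeg g hg hgdeg m m' h1 N h2 E p _).mp z'.2.1, ?_, hz'j⟩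
      rw [← Xincl_d]
      have : (verRes he hdeg g hg hgdeg E).d p z'.1 = 0 := z'.2.2
      rw [this, map_zero]
    refine ⟨⟨_, hzc⟩, ?_⟩
    apply Subtype.ext
    change Ψ ((verRes he hdeg g hg hgdeg E).toH m'.toIdeal p (θ ⟨_, hzc⟩)) = x
    have hθ : θ ⟨_, hzc⟩ = z' := by
      apply Subtype.ext
      apply Xincl_injective he hdeg g hg hgdeg E p
      rfl
    rw [hθ, hz', LinearEquiv.apply_symm_apply]
  have hB : Function.Surjective pB := pH_surjective E m p (e j)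
  have hker : ∀ z, pA z = 0 ↔ pB z = 0 := by
    intro z
    have e1 : pA z = 0 ↔ Ψ ((verRes he hdeg g hg hgdeg E).toH m'.toIdeal p (θ z)) = 0 := by
      constructor
      · intro h
        exact congrArg Subtype.val h
      · intro h
        exact Subtype.ext h
    have e2 : pB z = 0 ↔ pH E m p (e j) z = 0 := Iff.rfl
    rw [e1, e2, pH_eq_zero_iff, LinearEquiv.map_eq_zero_iff, GrRes.toH_eq_zero_iff]
    exact zmk_mem_cobdy_iff he hdeg g hg hgdeg m m' h1 N h2 E z
  obtain ⟨J, hJ⟩ := exists_addEquiv_of_surj pA pB hA hB hker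
  -- the isomorphism of degree-zero subrings
  have hφ0 : ∀ r : deg0 𝒜', φ (r : R') ∈ deg0 𝒜 := by
    intro r
    have := φ_mem e 𝒜 𝒜' φ hdeg (show (r : R') ∈ 𝒜' 0 from r.2)
    rw [map_zero] at this
    exact this
  let φ0 : deg0 𝒜' → deg0 𝒜 := fun r => ⟨φ (r : R'), hφ0 r⟩
  have hbij : Function.Bijective φ0 := by
    constructor
    · intro r s hrs
      apply Subtype.ext
      apply hφ
      exact congrArg Subtype.val hrs
    · rintro ⟨r, hr⟩
      have hr' : r ∈ 𝒜 (e 0) := by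
        rw [map_zero]
        exact hr
      rw [← hdeg 0] at hr'
      obtain ⟨x, hx, hxr⟩ := hr'
      exact ⟨⟨x, hx⟩, Subtype.ext hxr⟩
  have hθs : ∀ (r : deg0 𝒜') (z : ↥(Zc E m p (e j))), θ (φ0 r • z) = (r : R') • θ z := by
    intro r z
    apply Subtype.ext
    apply Xincl_injective he hdeg g hg hgdeg E p
    rfl
  have hc : ∀ (r : deg0 𝒜') (a : ↥(F.Hcomp m' p j)), J (r • a) = φ0 r • J a := by
    intro r a
    obtain ⟨z, rfl⟩ := hA a
    have hs : r • pA z = pA (φ0 r • z) := by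
      apply Subtype.ext
      change (r : R') • Ψ ((verRes he hdeg g hg hgdeg E).toH m'.toIdeal p (θ z)) =
        Ψ ((verRes he hdeg g hg hgdeg E).toH m'.toIdeal p (θ (φ0 r • z)))
      rw [hθs, map_smul, map_smul]
    rw [hs, hJ, hJ]
    exact map_smul (pH E m p (e j)) (φ0 r) z
  have hrank := rank_eq_of_equiv_equiv φ0 J hbij hc
  unfold Module.finrank
  rw [hrank]

end Final

end Groth.Agent.Lib.Helper8.GrVerMain
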