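import Groth.Prelude.Def_CAlgX
import Mathlib.LinearAlgebra.Matrix.ToLin
import Mathlib.LinearAlgebra.Matrix.Adjugate
import Mathlib.LinearAlgebra.Matrix.Determinant.Basic
import Mathlib.RingTheory.Ideal.Maps
import Mathlib.RingTheory.Ideal.AssociatedPrime.Finiteness
import Mathlib.Tactic

set_option autoImplicit false
universe u

namespace Groth.Agent.Lib.Helper8.McCoy

open CAlgX Matrix

variable {R : Type u} [CommRing R] {m n : ℕ} (M : Matrix (Fin n) (Fin m) R)

theorem det_submatrix_eq_zero_of_not_injective {r : ℕ} (f : Fin r → Fin n) (g : Fin r → Fin m)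
    (hg : ¬ Function.Injective g) : (M.submatrix f g).det = 0 := by
  rw [Function.Injective] at hg
  push Not at hg
  obtain ⟨i, j, hij, hne⟩ := hg
  exact Matrix.det_zero_of_column_eq hne fun k => by simp [hij]

theorem det_submatrix_eq_zero_of_lt {r : ℕ} (hr : m < r) (f : Fin r → Fin n) (g : Fin r → Fin m) :
    (M.submatrix f g).det = 0 := by
  apply det_submatrix_eq_zero_of_not_injective
  intro hg
  have := Fintype.card_le_of_injective g hg
  simp at this
  omega

theorem minorIdeal_eq_bot_of_lt {r : ℕ} (hr : m < r) : minorIdeal M r = ⊥ := by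
  unfold minorIdeal
  rw [Ideal.span_eq_bot]
  rintro _ ⟨fg, rfl⟩
  exact det_submatrix_eq_zero_of_lt M hr _ _

theorem det_mul_eq_zero_of_mulVec_eq_zero {v : Fin m → R} (hv : M *ᵥ v = 0)
    (f : Fin m → Fin n) (g : Fin m → Fin m) (j : Fin m) :
    (M.submatrix f g).det * v j = 0 := by
  by_cases hg : Function.Injective g
  · have hbij : Function.Bijective g := Finite.injective_iff_bijective.mp hg
    let σ : Equiv.Perm (Fin m) := Equiv.ofBijective g hbij
    have h1 : M.submatrix f g = (M.submatrix f id).submatrix id σ := by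
      ext a b
      simp [σ]
    rw [h1, Matrix.det_permute']
    have h2 : (M.submatrix f id) *ᵥ v = 0 := by
      funext i
      have := congrFun hv (f i)
      simpa [Matrix.mulVec, dotProduct] using this
    have h3 : (M.submatrix f id).det • v = 0 := by
      have := congrArg (fun A => A *ᵥ v) (Matrix.adjugate_mul (M.submatrix f id))
      simp only [← Matrix.mulVec_mulVec, h2, Matrix.mulVec_zero, Matrix.smul_mulVec,
        Matrix.one_mulVec] at this
      exact this.symm
    have h4 := congrFun h3 j
    simp only [Pi.smul_apply, smul_eq_mul, Pi.zero_apply] at h4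
    rw [mul_assoc, h4, mul_zero]
  · rw [det_submatrix_eq_zero_of_not_injective M f g hg, zero_mul]

theorem eq_zero_of_mulVec_eq_zero_of_annihilator (h : (minorIdeal M m).annihilator = ⊥)
    {v : Fin m → R} (hv : M *ᵥ v = 0) : v = 0 := by
  funext j
  have : v j ∈ (minorIdeal M m).annihilator := by
    rw [Submodule.mem_annihilator]
    intro x hx
    unfold minorIdeal at hx
    refine Submodule.span_induction ?_ ?_ ?_ ?_ hx
    · rintro _ ⟨fg, rfl⟩
      rw [smul_eq_mul, mul_comm]
      exact det_mul_eq_zero_of_mulVec_eq_zero M hv fg.1 fg.2 j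
    · simp
    · intro a b _ _ ha hb
      rw [smul_add, ha, hb, add_zero]
    · intro c a _ ha
      rw [smul_eq_mul] at ha ⊢
      rw [smul_eq_mul, mul_left_comm, ha, mul_zero]
  rw [h] at this
  exact this

theorem exists_kernel_vector {r : ℕ} (hr : r < m) (a : R)
    (hann : ∀ (f : Fin (r + 1) → Fin n) (g : Fin (r + 1) → Fin m),
      a * (M.submatrix f g).det = 0)
    (f : Fin r → Fin n) (g : Fin r → Fin m) (hne : a * (M.submatrix f g).det ≠ 0) :
    ∃ v : Fin m → R, v ≠ 0 ∧ M *ᵥ v = 0 := by
  obtain ⟨c, hc⟩ : ∃ c : Fin m, c ∉ Set.range g := by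
    by_contra hcon
    push Not at hcon
    have hsurj : Function.Surjective g := fun c => hcon c
    have := Fintype.card_le_of_surjective g hsurj
    simp at this
    omega
  let g' : Fin (r + 1) → Fin m := Fin.cons c g
  let w : Fin (r + 1) → R := fun j =>
    a * ((-1) ^ (j : ℕ) * (M.submatrix f (g' ∘ j.succAbove)).det)
  let v : Fin m → R := fun c' => ∑ j, if g' j = c' then w j else 0
  refine ⟨v, ?_, ?_⟩
  · intro hv0
    have hvc : v c = w 0 := by
      change (∑ j, if g' j = c then w j else 0) = w 0
      rw [Fin.sum_univ_succ]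
      have h0 : g' 0 = c := rfl
      rw [if_pos h0]
      have : ∑ i : Fin r, (if g' i.succ = c then w i.succ else 0) = 0 := by
        apply Finset.sum_eq_zero
        intro i _
        have : g' i.succ = g i := by simp [g']
        rw [this, if_neg]
        intro h
        exact hc ⟨i, h⟩
      rw [this, add_zero]
    have hw0 : w 0 = a * (M.submatrix f g).det := by
      change a * ((-1) ^ ((0 : Fin (r + 1)) : ℕ) *
        (M.submatrix f (g' ∘ (0 : Fin (r + 1)).succAbove)).det) = _
      have : g' ∘ (0 : Fin (r + 1)).succAbove = g := by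
        funext i
        simp [g']
      rw [this]
      simp
    rw [hv0] at hvc
    exact hne (by rw [← hw0, ← hvc]; rfl)
  · funext i
    have key : (M *ᵥ v) i = a * (M.submatrix (Fin.cons i f) g').det := by
      rw [Matrix.det_succ_row_zero]
      simp only [Matrix.mulVec, dotProduct]
      have h1 : ∀ c' : Fin m, M i c' * v c' = ∑ j, if g' j = c' then M i (g' j) * w j else 0 := by
        intro c'
        change M i c' * (∑ j, if g' j = c' then w j else 0) = _
        rw [Finset.mul_sum]
        apply Finset.sum_congr rfl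
        intro j _
        split_ifs with h
        · rw [h]
        · rw [mul_zero]
      simp_rw [h1]
      rw [Finset.sum_comm]
      rw [Finset.mul_sum]
      apply Finset.sum_congr rfl
      intro j _
      rw [Finset.sum_ite_eq]
      simp only [Finset.mem_univ, if_true]
      have h2 : (M.submatrix (Fin.cons i f) g') 0 j = M i (g' j) := by
        simp [Matrix.submatrix]
      have h3 : (M.submatrix (Fin.cons i f) g').submatrix Fin.succ j.succAbove =
          M.submatrix f (g' ∘ j.succAbove) := by
        ext p q
        simp [Matrix.submatrix]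
      rw [h2, h3]
      change M i (g' j) * (a * ((-1) ^ (j : ℕ) * (M.submatrix f (g' ∘ j.succAbove)).det)) = _
      ring
    rw [key, hann]
    rfl

theorem annihilator_eq_bot_of_injective (hm : Function.Injective (Matrix.mulVecLin M)) :
    (minorIdeal M m).annihilator = ⊥ := by
  rw [eq_bot_iff]
  intro a ha
  rw [Submodule.mem_bot]
  by_contra ha0
  have hann : ∀ (f : Fin m → Fin n) (g : Fin m → Fin m), a * (M.submatrix f g).det = 0 := by
    intro f g
    have := Submodule.mem_annihilator.mp ha ((M.submatrix f g).det)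
      (Ideal.subset_span ⟨(f, g), rfl⟩)
    simpa [smul_eq_mul] using this
  have hex : ∃ s : ℕ, s < m ∧ ∀ (f : Fin (s + 1) → Fin n) (g : Fin (s + 1) → Fin m),
      a * (M.submatrix f g).det = 0 := by
    rcases Nat.eq_zero_or_pos m with h0 | hpos
    · exfalso
      subst h0
      have := hann Fin.elim0 Fin.elim0
      simp at this
      exact ha0 this
    · refine ⟨m - 1, by omega, ?_⟩
      obtain ⟨m', rfl⟩ : ∃ m', m = m' + 1 := ⟨m - 1, by omega⟩
      exact hann
  classical
  let r := Nat.find hex
  have hr : r < m ∧ ∀ (f : Fin (r + 1) → Fin n) (g : Fin (r + 1) → Fin m),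
      a * (M.submatrix f g).det = 0 := Nat.find_spec hex
  have hmin : ∃ (f : Fin r → Fin n) (g : Fin r → Fin m), a * (M.submatrix f g).det ≠ 0 := by
    rcases Nat.eq_zero_or_pos r with h0 | hpos
    · refine ⟨fun i => (Fin.elim0 (h0 ▸ i)), fun i => (Fin.elim0 (h0 ▸ i)), ?_⟩
      have : IsEmpty (Fin r) := by rw [h0]; infer_instance
      rw [Matrix.det_isEmpty, mul_one]
      exact ha0
    · obtain ⟨r', hr'⟩ : ∃ r', r = r' + 1 := ⟨r - 1, by omega⟩
      have hnot := Nat.find_min hex (m := r') (by omega)
      rw [not_and] at hnot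
      have := hnot (by omega)
      push Not at this
      obtain ⟨f, g, hfg⟩ := this
      rw [hr']
      exact ⟨f, g, hfg⟩
  obtain ⟨f, g, hfg⟩ := hmin
  obtain ⟨v, hv0, hv⟩ := exists_kernel_vector M hr.1 a hr.2 f g hfg
  apply hv0
  apply hm
  rw [Matrix.mulVecLin_apply, hv, map_zero]

theorem mccoy [Nontrivial R] :
    Function.Injective (Matrix.mulVecLin M) ↔ (minorIdeal M m).annihilator = ⊥ := by
  constructor
  · exact annihilator_eq_bot_of_injective M
  · intro h
    rw [← LinearMap.ker_eq_bot, eq_bot_iff]
    intro v hv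
    rw [LinearMap.mem_ker, Matrix.mulVecLin_apply] at hv
    rw [Submodule.mem_bot]
    exact eq_zero_of_mulVec_eq_zero_of_annihilator M h hv

theorem matrixRank_eq_of_minorIdeal_ne_bot (h : minorIdeal M m ≠ ⊥) : matrixRank M = m := by
  unfold matrixRank
  apply le_antisymm
  · apply csSup_le ⟨m, h⟩
    intro r hr
    by_contra hlt
    exact hr (minorIdeal_eq_bot_of_lt M (not_le.mp hlt))
  · apply le_csSup
    · refine ⟨m, ?_⟩
      intro r hr
      by_contra hlt
      exact hr (minorIdeal_eq_bot_of_lt M (not_le.mp hlt))
    · exact h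

theorem injective_iff [Nontrivial R] :
    Function.Injective (Matrix.mulVecLin M) ↔
      matrixRank M = m ∧ (detIdeal M).annihilator = ⊥ := by
  rw [mccoy]
  constructor
  · intro h
    have hne : minorIdeal M m ≠ ⊥ := by
      intro hbot
      rw [hbot] at h
      have : (1 : R) ∈ (⊥ : Ideal R).annihilator := by
        rw [Submodule.mem_annihilator]
        intro x hx
        rw [Submodule.mem_bot] at hx
        rw [hx, smul_zero]
      rw [h, Submodule.mem_bot] at this
      exact one_ne_zero this
    have hrk := matrixRank_eq_of_minorIdeal_ne_bot M hne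
    refine ⟨hrk, ?_⟩
    unfold detIdeal
    rw [hrk]
    exact h
  · rintro ⟨hrk, h⟩
    unfold detIdeal at h
    rw [hrk] at h
    exact h

end Groth.Agent.Lib.Helper8.McCoy
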