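import Mathlib
import Groth.Agent.Lib.Helper69.RatSec4

set_option autoImplicit false
set_option linter.style.haveILetI false
universe u
open CategoryTheory CategoryTheory.Limits AlgebraicGeometry

namespace Groth.Agent.Lib.Helper8.NeronFinOPS

open Groth.Agent.Lib.Helper69.RatSec

theorem isOpenImmersion_section {W P : Scheme.{u}} [IsLocallyNoetherian P] (hP : ∀ x : P, IsDomain (P.presheaf.stalk x)) (p : P ⟶ W) [IsSeparated p] (σ : W ⟶ P) (hσ : σ ≫ p = 𝟙 W) (V : W.Opens) (hV : Dense (V : Set W)) [IsOpenImmersion (V.ι ≫ σ)] : IsOpenImmersion σ := by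
  -- `σ` is a closed immersion
  haveI : IsClosedImmersion (σ ≫ p) := by rw [hσ]; infer_instance
  haveI : IsClosedImmersion σ := IsClosedImmersion.of_comp σ p
  -- `V.ι` is dominant
  haveI : IsDominant V.ι := ⟨by
    show Dense (Set.range V.ι)
    rw [Scheme.Opens.range_ι]; exact hV⟩
  -- `P` is reduced
  haveI : ∀ x : P, _root_.IsReduced (P.presheaf.stalk x) := fun x => by
    haveI := hP x
    infer_instance
  haveI : IsReduced P := isReduced_of_isReduced_stalk P
  have hr : Set.range σ = closure (Set.range (V.ι ≫ σ)) :=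
    range_eq_closure_range_of_dominant V.ι σ
  have hopen : IsOpen (Set.range σ) := by
    rw [hr]
    exact isOpen_closure_of_isOpen hP (V.ι ≫ σ).isOpenEmbedding.isOpen_range
  exact isOpenImmersion_of_isClosedImmersion_of_isOpen_range σ hopen

end Groth.Agent.Lib.Helper8.NeronFinOPS
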