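import Mathlib

set_option autoImplicit false
universe u
open CategoryTheory CategoryTheory.Limits AlgebraicGeometry TensorProduct

namespace Groth.Agent.Lib.Helper8.SDFISOF

theorem ISOF {X S' B Zi : Scheme.{u}} (p : X ⟶ B) (q : S' ⟶ B) (fi : Zi ⟶ X) (V : (pullback p q).Opens) (t : Γ(pullback p q, V)) (h : (pullback.map (fi ≫ p) q p q fi (𝟙 S') (𝟙 _) (Category.comp_id _) ((Category.comp_id _).trans (Category.id_comp _).symm)).app V t = 0) : (pullback.snd fi (pullback.fst p q)).app V t = 0 := by
  have key : pullback.snd fi (pullback.fst p q) =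
      (pullbackRightPullbackFstIso p q fi).hom ≫
        pullback.map (fi ≫ p) q p q fi (𝟙 S') (𝟙 _) (Category.comp_id _)
          ((Category.comp_id _).trans (Category.id_comp _).symm) := by
    apply pullback.hom_ext
    · rw [Category.assoc, pullback.lift_fst, pullbackRightPullbackFstIso_hom_fst_assoc,
        pullback.condition]
    · rw [Category.assoc, pullback.lift_snd, Category.comp_id, pullbackRightPullbackFstIso_hom_snd]
  rw [key, Scheme.Hom.comp_app]
  change ((pullbackRightPullbackFstIso p q fi).hom.app _).hom
    ((pullback.map (fi ≫ p) q p q fi (𝟙 S') (𝟙 _) (Category.comp_id _)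
          ((Category.comp_id _).trans (Category.id_comp _).symm)).app V t) = 0
  rw [h, map_zero]

end Groth.Agent.Lib.Helper8.SDFISOF
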