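import Mathlib
import Groth.Prelude.Def_CohB1
import Groth.Prelude.Def_Flat
import Groth.Agent.Lib.Helper5.WidePB

set_option autoImplicit false
set_option linter.style.haveILetI false
universe u
open CategoryTheory CategoryTheory.Limits AlgebraicGeometry

namespace Groth.Agent.Lib.Helper8.WidePBWP1

open Groth.Agent.Lib.Helper5.WidePB

/-- Mathlib's chosen wide pullback is a wide pullback in the sense of `IsWidePB`. -/
theorem isWidePB_widePullback {ι : Type} {B : Scheme.{u}} (objs : ι → Scheme.{u})
    (arrows : ∀ k, objs k ⟶ B) [HasWidePullback B objs arrows] :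
    IsWidePB arrows (WidePullback.base arrows) (WidePullback.π arrows) := by
  refine ⟨fun k => WidePullback.π_arrow arrows k, ?_, ?_⟩
  · intro Z z zk hz
    exact ⟨WidePullback.lift z zk hz, WidePullback.lift_base _ _ _ _,
      fun k => WidePullback.lift_π _ _ _ _ _⟩
  · intro Z l l' h1 h2
    exact WidePullback.hom_ext _ _ _ h2 h1

theorem isIso_base_zero {B : Scheme.{u}} (objs : Fin 0 → Scheme.{u})
    (arrows : ∀ k, objs k ⟶ B) : IsIso (WidePullback.base arrows) := by
  refine ⟨WidePullback.lift (𝟙 B) (fun k => k.elim0) (fun k => k.elim0), ?_, ?_⟩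
  · apply WidePullback.hom_ext
    · intro k
      exact k.elim0
    · rw [Category.assoc, WidePullback.lift_base, Category.comp_id, Category.id_comp]
  · rw [WidePullback.lift_base]

theorem isProper_wideBase {n : ℕ} {B : Scheme.{u}} (objs : Fin n → Scheme.{u}) (arrows : ∀ k, objs k ⟶ B) [∀ k, IsProper (arrows k)] : IsProper (WidePullback.base arrows) := by
  induction n with
  | zero =>
    haveI := isIso_base_zero objs arrows
    infer_instance
  | succ n ih =>
    haveI : IsProper (WidePullback.base (fun k : Fin n => arrows k.castSucc)) :=
      ih (fun k => objs k.castSucc) (fun k => arrows k.castSucc)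
    have h' := isWidePB_widePullback (fun k : Fin n => objs k.castSucc)
      (fun k : Fin n => arrows k.castSucc)
    have sq : IsPullback
        (pullback.fst (arrows (Fin.last n)) (WidePullback.base (fun k : Fin n => arrows k.castSucc)))
        (pullback.snd (arrows (Fin.last n)) (WidePullback.base (fun k : Fin n => arrows k.castSucc)))
        (arrows (Fin.last n)) (WidePullback.base (fun k : Fin n => arrows k.castSucc)) :=
      IsPullback.of_hasPullback _ _
    obtain ⟨e, he, -⟩ := (isWidePB_succ arrows _ _ h' _ _ sq).exists_iso
    rw [← he]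
    infer_instance

end Groth.Agent.Lib.Helper8.WidePBWP1
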